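import Mathlib

set_option autoImplicit false

namespace Cfsg.Agent.Lib.Helper44

open Module LinearMap Matrix

universe u v

/-- Darboux: a nondegenerate alternating form on a space of dimension `2N` has a symplectic family. -/
theorem darboux_family {F : Type v} [Field F] : ∀ (N : ℕ) (V : Type u) [AddCommGroup V] [Module F V]
    [FiniteDimensional F V] (ω : LinearMap.BilinForm F V), ω.IsAlt → ω.Nondegenerate →
    finrank F V = 2 * N →
    ∃ e f : Fin N → V, (∀ i k, ω (e i) (e k) = 0) ∧ (∀ i k, ω (f i) (f k) = 0) ∧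
      (∀ i k, ω (e i) (f k) = if i = k then 1 else 0) := by
  intro N
  induction N with
  | zero =>
    intro V _ _ _ ω _ _ _
    exact ⟨Fin.elim0, Fin.elim0, fun i => i.elim0, fun i => i.elim0, fun i => i.elim0⟩
  | succ N ih =>
    intro V _ _ _ ω halt hnd hfr
    have hanti : ∀ x y, ω x y = - ω y x := fun x y => by rw [halt.neg_eq]
    have hpos : 0 < finrank F V := by omega
    have : Nontrivial V := Module.finrank_pos_iff.1 hpos
    obtain ⟨e₀, he₀⟩ := exists_ne (0 : V)
    have hex : ∃ f', ω e₀ f' ≠ 0 := by
      by_contra hcon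
      push Not at hcon
      exact he₀ (hnd.1 e₀ hcon)
    obtain ⟨f', hf'⟩ := hex
    set f₀ : V := (ω e₀ f')⁻¹ • f' with hf₀
    have h01 : ω e₀ f₀ = 1 := by
      rw [hf₀, map_smul, smul_eq_mul, inv_mul_cancel₀ hf']
    have h10 : ω f₀ e₀ = -1 := by rw [hanti, h01]
    let L : V →ₗ[F] F × F := (ω e₀).prod (ω f₀)
    let U : Submodule F V := LinearMap.ker L
    have hU : ∀ u : V, u ∈ U ↔ ω e₀ u = 0 ∧ ω f₀ u = 0 := by
      intro u
      show L u = 0 ↔ _
      change ((ω e₀ u, ω f₀ u) : F × F) = 0 ↔ _
      exact Prod.mk_eq_zero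
    have hLsurj : Function.Surjective L := by
      rintro ⟨x, y⟩
      refine ⟨x • f₀ - y • e₀, ?_⟩
      change ((ω e₀ (x • f₀ - y • e₀), ω f₀ (x • f₀ - y • e₀)) : F × F) = (x, y)
      have he : ω e₀ e₀ = 0 := halt e₀
      have hf : ω f₀ f₀ = 0 := halt f₀
      simp only [map_sub, map_smul, smul_eq_mul, h01, h10, he, hf]
      ext <;> simp
    have hfrU : finrank F U = 2 * N := by
      have h1 := LinearMap.finrank_range_add_finrank_ker L
      rw [LinearMap.range_eq_top.2 hLsurj, finrank_top, Module.finrank_prod, Module.finrank_self] at h1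
      show finrank F (LinearMap.ker L) = 2 * N
      omega
    -- decomposition
    have hdec : ∀ v : V, v - (ω v f₀) • e₀ + (ω v e₀) • f₀ ∈ U := by
      intro v
      rw [hU]
      constructor
      · simp only [map_add, map_sub, map_smul, smul_eq_mul, halt e₀, h01, mul_zero, sub_zero, mul_one]
        rw [hanti v e₀]; ring
      · simp only [map_add, map_sub, map_smul, smul_eq_mul, halt f₀, h10, mul_zero, add_zero]
        rw [hanti v f₀]; ring
    have haltU : (ω.restrict U).IsAlt := fun u => halt u
    have hndU : (ω.restrict U).Nondegenerate := by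
      have hleft : (ω.restrict U).SeparatingLeft := by
        intro u hu
        apply Subtype.ext
        apply hnd.1
        intro v
        have h1 := hu ⟨_, hdec v⟩
        simp only [LinearMap.BilinForm.restrict_apply, LinearMap.domRestrict_apply] at h1
        have hu' := (hU u).1 u.2
        have e1 : ω u e₀ = 0 := by rw [hanti, hu'.1, neg_zero]
        have e2 : ω u f₀ = 0 := by rw [hanti, hu'.2, neg_zero]
        simp only [map_add, map_sub, map_smul, smul_eq_mul, e1, e2, mul_zero, sub_zero, add_zero] at h1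
        simpa using h1
      refine ⟨hleft, ?_⟩
      intro u hu
      apply hleft u
      intro w
      have := hu w
      simp only [LinearMap.BilinForm.restrict_apply, LinearMap.domRestrict_apply] at this ⊢
      rw [hanti, this, neg_zero]
    obtain ⟨e', f'', hee, hff, hef⟩ := ih U (ω.restrict U) haltU hndU hfrU
    have hee' : ∀ i k, ω (e' i : V) (e' k : V) = 0 := hee
    have hff' : ∀ i k, ω (f'' i : V) (f'' k : V) = 0 := hff
    have hef' : ∀ i k, ω (e' i : V) (f'' k : V) = if i = k then 1 else 0 := hef
    have hUe : ∀ u : U, ω e₀ u = 0 ∧ ω f₀ u = 0 := fun u => (hU u).1 u.2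
    refine ⟨Fin.cons e₀ (fun i => (e' i : V)), Fin.cons f₀ (fun i => (f'' i : V)), ?_, ?_, ?_⟩
    · intro i k
      refine Fin.cases ?_ (fun i => ?_) i <;> refine Fin.cases ?_ (fun k => ?_) k
      · simp only [Fin.cons_zero]; exact halt e₀
      · simp only [Fin.cons_zero, Fin.cons_succ]; exact (hUe _).1
      · simp only [Fin.cons_zero, Fin.cons_succ]; rw [hanti, (hUe _).1, neg_zero]
      · simp only [Fin.cons_succ]; exact hee' i k
    · intro i k
      refine Fin.cases ?_ (fun i => ?_) i <;> refine Fin.cases ?_ (fun k => ?_) k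
      · simp only [Fin.cons_zero]; exact halt f₀
      · simp only [Fin.cons_zero, Fin.cons_succ]; exact (hUe _).2
      · simp only [Fin.cons_zero, Fin.cons_succ]; rw [hanti, (hUe _).2, neg_zero]
      · simp only [Fin.cons_succ]; exact hff' i k
    · intro i k
      refine Fin.cases ?_ (fun i => ?_) i <;> refine Fin.cases ?_ (fun k => ?_) k
      · simp only [Fin.cons_zero, if_true]; exact h01
      · simp only [Fin.cons_zero, Fin.cons_succ]
        rw [if_neg (Fin.succ_ne_zero k).symm]; exact (hUe _).1
      · simp only [Fin.cons_zero, Fin.cons_succ]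
        rw [if_neg (Fin.succ_ne_zero i), hanti, (hUe _).2, neg_zero]
      · simp only [Fin.cons_succ, Fin.succ_inj]; exact hef' i k


/-- the Gram matrix of a symplectic family -/
def gramJ (N : ℕ) (F : Type*) [Field F] : Matrix (Fin N ⊕ Fin N) (Fin N ⊕ Fin N) F :=
  Matrix.fromBlocks 0 1 (-1) 0

theorem gramJ_eq (N : ℕ) (F : Type*) [Field F] : gramJ N F = - Matrix.J (Fin N) F := by
  unfold gramJ Matrix.J
  rw [Matrix.fromBlocks_neg]
  simp

/-- Darboux: existence of a symplectic basis. -/
theorem darboux_basis {F : Type v} [Field F] (N : ℕ) (V : Type u) [AddCommGroup V] [Module F V]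
    [FiniteDimensional F V] (ω : LinearMap.BilinForm F V) (halt : ω.IsAlt) (hnd : ω.Nondegenerate)
    (hfr : finrank F V = 2 * N) :
    ∃ b : Basis (Fin N ⊕ Fin N) F V, LinearMap.BilinForm.toMatrix b ω = gramJ N F := by
  classical
  obtain ⟨e, f, hee, hff, hef⟩ := darboux_family N V ω halt hnd hfr
  have hfe : ∀ i k, ω (f i) (e k) = if i = k then -1 else 0 := by
    intro i k
    rw [← halt.neg_eq, hef]
    by_cases h : i = k
    · rw [if_pos h, if_pos h.symm]
    · rw [if_neg h, if_neg (Ne.symm h), neg_zero]
  have hgram : ∀ x y, ω (Sum.elim e f x) (Sum.elim e f y) = gramJ N F x y := by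
    intro x y
    rcases x with i | i <;> rcases y with k | k
    · simp [gramJ, hee]
    · simp [gramJ, hef, Matrix.one_apply]
    · simp only [gramJ, Sum.elim_inr, Sum.elim_inl, hfe, Matrix.fromBlocks_apply₂₁, Matrix.neg_apply, Matrix.one_apply]
      split_ifs <;> simp
    · simp [gramJ, hff]
  have hli : LinearIndependent F (Sum.elim e f) := by
    rw [Fintype.linearIndependent_iff]
    intro g hg x
    have key : ∀ y, ∑ x, g x * gramJ N F x y = 0 := by
      intro y
      have := congrArg (fun v => ω v (Sum.elim e f y)) hg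
      simp only [map_sum, map_smul, LinearMap.sum_apply, LinearMap.smul_apply, smul_eq_mul, hgram,
        map_zero, LinearMap.zero_apply] at this
      exact this
    rcases x with k | k
    · have := key (Sum.inr k)
      simpa [gramJ, Fintype.sum_sum_type, Matrix.one_apply] using this
    · have := key (Sum.inl k)
      simpa [gramJ, Fintype.sum_sum_type, Matrix.one_apply] using this
  by_cases hN : N = 0
  · subst hN
    have : IsEmpty (Fin 0 ⊕ Fin 0) := inferInstance
    refine ⟨basisOfLinearIndependentOfCardEqFinrank' (Sum.elim e f) hli (by simp [hfr]), ?_⟩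
    ext x
    exact isEmptyElim x
  · have : Nonempty (Fin N ⊕ Fin N) := ⟨Sum.inl ⟨0, Nat.pos_of_ne_zero hN⟩⟩
    refine ⟨basisOfLinearIndependentOfCardEqFinrank hli (by simp [hfr]; ring), ?_⟩
    ext x y
    rw [LinearMap.BilinForm.toMatrix_apply, coe_basisOfLinearIndependentOfCardEqFinrank, hgram]

/-- A group acting faithfully and linearly on a symplectic space of dimension `2N` embeds in `Sp_2N`. -/
theorem exists_hom_to_Sp {F : Type v} [Field F] {V : Type u} [AddCommGroup V] [Module F V]
    [FiniteDimensional F V] {G : Type*} [Group G] (ω : LinearMap.BilinForm F V) (halt : ω.IsAlt)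
    (hnd : ω.Nondegenerate) (N : ℕ) (hfr : finrank F V = 2 * N) (ρ : G →* Module.End F V)
    (hρ : ∀ g u w, ω (ρ g u) (ρ g w) = ω u w) (hinj : Function.Injective ρ) :
    ∃ φ : G →* Matrix.symplecticGroup (Fin N) F, Function.Injective φ := by
  classical
  obtain ⟨b, hb⟩ := darboux_basis N V ω halt hnd hfr
  have hmem : ∀ g, LinearMap.toMatrix b b (ρ g) ∈ Matrix.symplecticGroup (Fin N) F := by
    intro g
    rw [SymplecticGroup.mem_iff']
    have hcomp : ω.comp (ρ g) (ρ g) = ω := by
      ext u w
      simp only [LinearMap.BilinForm.comp_apply]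
      exact hρ g u w
    have h1 := LinearMap.BilinForm.toMatrix_comp b b ω (ρ g) (ρ g)
    rw [hcomp, hb, gramJ_eq] at h1
    have h2 : -((LinearMap.toMatrix b b (ρ g))ᵀ * Matrix.J (Fin N) F * LinearMap.toMatrix b b (ρ g)) = - Matrix.J (Fin N) F := by
      rw [h1]; simp
    exact neg_injective h2
  refine ⟨{ toFun := fun g => ⟨LinearMap.toMatrix b b (ρ g), hmem g⟩
            map_one' := ?_
            map_mul' := ?_ }, ?_⟩
  · apply Subtype.ext
    simp [LinearMap.toMatrix_one]
  · intro g h
    apply Subtype.ext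
    simp [LinearMap.toMatrix_mul]
  · intro g h hgh
    apply hinj
    have := congrArg Subtype.val hgh
    simp only [MonoidHom.coe_mk, OneHom.coe_mk] at this
    exact (LinearMap.toMatrix b b).injective this

end Cfsg.Agent.Lib.Helper44
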