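import Mathlib
import Cfsg.Prelude.Def_Classical

/-!
# Transport: the isometry group of a coordinate form is the abstract isometry group
-/

set_option autoImplicit false

namespace Cfsg.Agent.Lib.Helper44

/-- The abstract isometry group of a function `QV : V → F`, as a subgroup of `V ≃ₗ[F] V`. -/
def absIsometryGroup (F : Type*) [Field F] {V : Type*} [AddCommGroup V] [Module F V]
    (QV : V → F) : Subgroup (V ≃ₗ[F] V) where
  carrier := {g | ∀ v, QV (g v) = QV v}
  mul_mem' := by
    intro a b ha hb v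
    rw [LinearEquiv.mul_apply, ha, hb]
  one_mem' := by
    intro v
    rfl
  inv_mem' := by
    intro a ha v
    have h := ha (a⁻¹ v)
    rw [← h]
    congr 1
    exact (LinearEquiv.apply_symm_apply a v)

theorem mem_absIsometryGroup {F : Type*} [Field F] {V : Type*} [AddCommGroup V] [Module F V]
    (QV : V → F) (g : V ≃ₗ[F] V) : g ∈ absIsometryGroup F QV ↔ ∀ v, QV (g v) = QV v := Iff.rfl

/-- The isometry group of a coordinate form `Q` on `ι → F` is isomorphic to the abstract isometry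
group of any `(V, QV)` isometric to it, compatibly with the actions. -/
theorem exists_mulEquiv_isometryGroup {F : Type*} [Field F] {V : Type*} [AddCommGroup V] [Module F V]
    {ι : Type} [Fintype ι] [DecidableEq ι] (Q : (ι → F) → F) (QV : V → F)
    (Θ : V ≃ₗ[F] (ι → F)) (hΘ : ∀ v, Q (Θ v) = QV v) :
    ∃ φ : ↥(absIsometryGroup F QV) ≃* ↥(Cfsg.isometryGroup F Q),
      ∀ (g : ↥(absIsometryGroup F QV)) (u : ι → F),
        (((φ g : Matrix.GeneralLinearGroup ι F) : Matrix ι ι F)).mulVec u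
          = Θ ((g : V ≃ₗ[F] V) (Θ.symm u)) := by
  let ψ₀ : ↥(absIsometryGroup F QV) →* Matrix ι ι F :=
    { toFun := fun g => LinearMap.toMatrix' ((Θ : V →ₗ[F] (ι → F)) ∘ₗ
        ((g : V ≃ₗ[F] V) : V →ₗ[F] V) ∘ₗ (Θ.symm : (ι → F) →ₗ[F] V))
      map_one' := by
        rw [← LinearMap.toMatrix'_id]
        congr 1
        apply LinearMap.ext
        intro x
        simp
      map_mul' := by
        intro g h
        rw [← LinearMap.toMatrix'_comp]
        congr 1
        apply LinearMap.ext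
        intro x
        simp }
  let ψ : ↥(absIsometryGroup F QV) →* (Matrix ι ι F)ˣ := ψ₀.toHomUnits
  have hψ : ∀ (g : ↥(absIsometryGroup F QV)) u,
      ((ψ g : (Matrix ι ι F)ˣ) : Matrix ι ι F).mulVec u = Θ ((g : V ≃ₗ[F] V) (Θ.symm u)) := by
    intro g u
    show (ψ₀ g).mulVec u = _
    show (LinearMap.toMatrix' ((Θ : V →ₗ[F] (ι → F)) ∘ₗ
        ((g : V ≃ₗ[F] V) : V →ₗ[F] V) ∘ₗ (Θ.symm : (ι → F) →ₗ[F] V))).mulVec u = _
    rw [LinearMap.toMatrix'_mulVec]
    rfl
  have hmem : ∀ g, ψ g ∈ Cfsg.isometryGroup F Q := by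
    intro g u w
    simp only [Units.coeHom_apply]
    rw [hψ, hΘ, g.2, ← hΘ, LinearEquiv.apply_symm_apply]
  let φ₀ : ↥(absIsometryGroup F QV) →* ↥(Cfsg.isometryGroup F Q) := ψ.codRestrict _ hmem
  have hφ₀ : ∀ g u, (((φ₀ g : Matrix.GeneralLinearGroup ι F) : Matrix ι ι F)).mulVec u
      = Θ ((g : V ≃ₗ[F] V) (Θ.symm u)) := fun g u => hψ g u
  have hinj : Function.Injective φ₀ := by
    intro g h hgh
    apply Subtype.ext
    apply LinearEquiv.ext
    intro x
    have h2 := hφ₀ g (Θ x)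
    rw [hgh, hφ₀ h (Θ x)] at h2
    simp only [LinearEquiv.symm_apply_apply] at h2
    exact (Θ.injective h2).symm
  have hsurj : Function.Surjective φ₀ := by
    intro A
    have hA : ∀ u, Q ((A : Matrix.GeneralLinearGroup ι F).val.mulVec u) = Q u := fun u => A.2 u u
    have hAinv : ∀ u, (A : Matrix.GeneralLinearGroup ι F).val.mulVec
        (((A : Matrix.GeneralLinearGroup ι F)⁻¹).val.mulVec u) = u := by
      intro u
      rw [Matrix.mulVec_mulVec, ← Units.val_mul, mul_inv_cancel, Units.val_one, Matrix.one_mulVec]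
    have hAinv' : ∀ u, ((A : Matrix.GeneralLinearGroup ι F)⁻¹).val.mulVec
        ((A : Matrix.GeneralLinearGroup ι F).val.mulVec u) = u := by
      intro u
      rw [Matrix.mulVec_mulVec, ← Units.val_mul, inv_mul_cancel, Units.val_one, Matrix.one_mulVec]
    let g : V ≃ₗ[F] V :=
      LinearEquiv.ofLinearMap
        ((Θ.symm : (ι → F) →ₗ[F] V) ∘ₗ (Matrix.toLin' (A : Matrix.GeneralLinearGroup ι F).val) ∘ₗ
          (Θ : V →ₗ[F] (ι → F)))
        ((Θ.symm : (ι → F) →ₗ[F] V) ∘ₗ
          (Matrix.toLin' ((A : Matrix.GeneralLinearGroup ι F)⁻¹).val) ∘ₗ (Θ : V →ₗ[F] (ι → F)))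
        (by
          apply LinearMap.ext
          intro v
          simp [Matrix.toLin'_apply])
        (by
          apply LinearMap.ext
          intro v
          simp [Matrix.toLin'_apply])
    have hg : ∀ v, g v = Θ.symm ((A : Matrix.GeneralLinearGroup ι F).val.mulVec (Θ v)) := by
      intro v
      simp [g, Matrix.toLin'_apply]
    have hgmem : g ∈ absIsometryGroup F QV := by
      intro v
      rw [hg, ← hΘ, LinearEquiv.apply_symm_apply, hA, hΘ]
    refine ⟨⟨g, hgmem⟩, ?_⟩
    apply Subtype.ext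
    apply Units.ext
    apply Matrix.toLin'.injective
    apply LinearMap.ext
    intro u
    rw [Matrix.toLin'_apply, Matrix.toLin'_apply, hφ₀]
    show Θ (g (Θ.symm u)) = _
    rw [hg]
    simp
  exact ⟨MulEquiv.ofBijective φ₀ ⟨hinj, hsurj⟩, fun g u => hφ₀ g u⟩

/-- The group of linear automorphisms preserving a two-argument form `fV`. -/
def absPreserving (F : Type*) [Field F] {V : Type*} [AddCommGroup V] [Module F V]
    (fV : V → V → F) : Subgroup (V ≃ₗ[F] V) where
  carrier := {g | ∀ u v, fV (g u) (g v) = fV u v}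
  mul_mem' := by
    intro a b ha hb u v
    rw [LinearEquiv.mul_apply, LinearEquiv.mul_apply, ha, hb]
  one_mem' := by
    intro u v
    rfl
  inv_mem' := by
    intro a ha u v
    have h := ha (a⁻¹ u) (a⁻¹ v)
    rw [← h]
    congr 1
    · exact (LinearEquiv.apply_symm_apply a u)
    · exact (LinearEquiv.apply_symm_apply a v)

theorem mem_absPreserving {F : Type*} [Field F] {V : Type*} [AddCommGroup V] [Module F V]
    (fV : V → V → F) (g : V ≃ₗ[F] V) : g ∈ absPreserving F fV ↔ ∀ u v, fV (g u) (g v) = fV u v := Iff.rfl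

/-- Two-argument version of `exists_mulEquiv_isometryGroup`. -/
theorem exists_mulEquiv_preserving {F : Type*} [Field F] {V : Type*} [AddCommGroup V] [Module F V]
    {ι : Type} [Fintype ι] [DecidableEq ι] (f : (ι → F) → (ι → F) → F) (fV : V → V → F)
    (Θ : V ≃ₗ[F] (ι → F)) (hΘ : ∀ u v, f (Θ u) (Θ v) = fV u v) :
    ∃ φ : ↥(absPreserving F fV) ≃* ↥(Cfsg.preserving (Units.coeHom (Matrix ι ι F)) f),
      ∀ (g : ↥(absPreserving F fV)) (u : ι → F),
        (((φ g : Matrix.GeneralLinearGroup ι F) : Matrix ι ι F)).mulVec u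
          = Θ ((g : V ≃ₗ[F] V) (Θ.symm u)) := by
  let ψ₀ : ↥(absPreserving F fV) →* Matrix ι ι F :=
    { toFun := fun g => LinearMap.toMatrix' ((Θ : V →ₗ[F] (ι → F)) ∘ₗ
        ((g : V ≃ₗ[F] V) : V →ₗ[F] V) ∘ₗ (Θ.symm : (ι → F) →ₗ[F] V))
      map_one' := by
        rw [← LinearMap.toMatrix'_id]
        congr 1
        apply LinearMap.ext
        intro x
        simp
      map_mul' := by
        intro g h
        rw [← LinearMap.toMatrix'_comp]
        congr 1
        apply LinearMap.ext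
        intro x
        simp }
  let ψ : ↥(absPreserving F fV) →* (Matrix ι ι F)ˣ := ψ₀.toHomUnits
  have hψ : ∀ (g : ↥(absPreserving F fV)) u,
      ((ψ g : (Matrix ι ι F)ˣ) : Matrix ι ι F).mulVec u = Θ ((g : V ≃ₗ[F] V) (Θ.symm u)) := by
    intro g u
    show (ψ₀ g).mulVec u = _
    show (LinearMap.toMatrix' ((Θ : V →ₗ[F] (ι → F)) ∘ₗ
        ((g : V ≃ₗ[F] V) : V →ₗ[F] V) ∘ₗ (Θ.symm : (ι → F) →ₗ[F] V))).mulVec u = _
    rw [LinearMap.toMatrix'_mulVec]
    rfl
  have hmem : ∀ g, ψ g ∈ Cfsg.preserving (Units.coeHom (Matrix ι ι F)) f := by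
    intro g u w
    simp only [Units.coeHom_apply]
    rw [hψ, hψ, hΘ, g.2, ← hΘ, LinearEquiv.apply_symm_apply, LinearEquiv.apply_symm_apply]
  let φ₀ : ↥(absPreserving F fV) →* ↥(Cfsg.preserving (Units.coeHom (Matrix ι ι F)) f) := ψ.codRestrict _ hmem
  have hφ₀ : ∀ g u, (((φ₀ g : Matrix.GeneralLinearGroup ι F) : Matrix ι ι F)).mulVec u
      = Θ ((g : V ≃ₗ[F] V) (Θ.symm u)) := fun g u => hψ g u
  have hinj : Function.Injective φ₀ := by
    intro g h hgh
    apply Subtype.ext
    apply LinearEquiv.ext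
    intro x
    have h2 := hφ₀ g (Θ x)
    rw [hgh, hφ₀ h (Θ x)] at h2
    simp only [LinearEquiv.symm_apply_apply] at h2
    exact (Θ.injective h2).symm
  have hsurj : Function.Surjective φ₀ := by
    intro A
    have hA : ∀ u w, f ((A : Matrix.GeneralLinearGroup ι F).val.mulVec u)
        ((A : Matrix.GeneralLinearGroup ι F).val.mulVec w) = f u w := fun u w => A.2 u w
    have hAinv : ∀ u, (A : Matrix.GeneralLinearGroup ι F).val.mulVec
        (((A : Matrix.GeneralLinearGroup ι F)⁻¹).val.mulVec u) = u := by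
      intro u
      rw [Matrix.mulVec_mulVec, ← Units.val_mul, mul_inv_cancel, Units.val_one, Matrix.one_mulVec]
    have hAinv' : ∀ u, ((A : Matrix.GeneralLinearGroup ι F)⁻¹).val.mulVec
        ((A : Matrix.GeneralLinearGroup ι F).val.mulVec u) = u := by
      intro u
      rw [Matrix.mulVec_mulVec, ← Units.val_mul, inv_mul_cancel, Units.val_one, Matrix.one_mulVec]
    let g : V ≃ₗ[F] V :=
      LinearEquiv.ofLinearMap
        ((Θ.symm : (ι → F) →ₗ[F] V) ∘ₗ (Matrix.toLin' (A : Matrix.GeneralLinearGroup ι F).val) ∘ₗ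
          (Θ : V →ₗ[F] (ι → F)))
        ((Θ.symm : (ι → F) →ₗ[F] V) ∘ₗ
          (Matrix.toLin' ((A : Matrix.GeneralLinearGroup ι F)⁻¹).val) ∘ₗ (Θ : V →ₗ[F] (ι → F)))
        (by
          apply LinearMap.ext
          intro v
          simp [Matrix.toLin'_apply])
        (by
          apply LinearMap.ext
          intro v
          simp [Matrix.toLin'_apply])
    have hg : ∀ v, g v = Θ.symm ((A : Matrix.GeneralLinearGroup ι F).val.mulVec (Θ v)) := by
      intro v
      simp [g, Matrix.toLin'_apply]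
    have hgmem : g ∈ absPreserving F fV := by
      intro u v
      rw [hg, hg, ← hΘ, LinearEquiv.apply_symm_apply, LinearEquiv.apply_symm_apply, hA, hΘ]
    refine ⟨⟨g, hgmem⟩, ?_⟩
    apply Subtype.ext
    apply Units.ext
    apply Matrix.toLin'.injective
    apply LinearMap.ext
    intro u
    rw [Matrix.toLin'_apply, Matrix.toLin'_apply, hφ₀]
    show Θ (g (Θ.symm u)) = _
    rw [hg]
    simp
  exact ⟨MulEquiv.ofBijective φ₀ ⟨hinj, hsurj⟩, fun g u => hφ₀ g u⟩

end Cfsg.Agent.Lib.Helper44
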