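import Mathlib
import Cfsg.Prelude.Def_Classical

set_option autoImplicit false

namespace Cfsg.Agent.Lib.Helper44

open Module QuadraticMap

universe u v

/-- A nondegenerate quadratic space of dimension `2m` containing a totally singular subspace of
dimension `m` has a hyperbolic family. -/
theorem hyperbolic_family {F : Type v} [Field F] : ∀ (m : ℕ) (V : Type u) [AddCommGroup V] [Module F V]
    [FiniteDimensional F V] (Q : QuadraticForm F V), (QuadraticMap.polarBilin Q).Nondegenerate →
    finrank F V = 2 * m → ∀ (W : Submodule F V), (∀ w ∈ W, Q w = 0) → finrank F W = m →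
    ∃ e f : Fin m → V, (∀ i, Q (e i) = 0) ∧ (∀ i, Q (f i) = 0) ∧ (∀ i k, polar Q (e i) (e k) = 0) ∧
      (∀ i k, polar Q (f i) (f k) = 0) ∧ (∀ i k, polar Q (e i) (f k) = if i = k then 1 else 0) := by
  intro m
  induction m with
  | zero =>
    intro V _ _ _ Q _ _ W _ _
    exact ⟨Fin.elim0, Fin.elim0, fun i => i.elim0, fun i => i.elim0, fun i => i.elim0,
      fun i => i.elim0, fun i => i.elim0⟩
  | succ m ih =>
    intro V _ _ _ Q hnd hfr W hW hWm
    have hsymm : ∀ x y, polar Q x y = polar Q y x := fun x y => polar_comm Q x y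
    have hself : ∀ x, Q x = 0 → polar Q x x = 0 := by
      intro x hx
      rw [polar_self, hx, smul_zero]
    have hWne : ∃ w : W, w ≠ 0 := by
      have : 0 < finrank F W := by omega
      exact Module.finrank_pos_iff_exists_ne_zero.1 this
    obtain ⟨⟨e₀, he₀W⟩, he₀'⟩ := hWne
    have he₀ : e₀ ≠ 0 := fun h => he₀' (Subtype.ext h)
    have hQe₀ : Q e₀ = 0 := hW e₀ he₀W
    have hWorth : ∀ w ∈ W, polar Q e₀ w = 0 := by
      intro w hw
      unfold polar
      rw [hW _ (W.add_mem he₀W hw), hQe₀, hW w hw]
      simp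
    have hex : ∃ f', polar Q e₀ f' ≠ 0 := by
      by_contra hcon
      push Not at hcon
      exact he₀ (hnd.1 e₀ (fun y => by rw [polarBilin_apply_apply]; exact hcon y))
    obtain ⟨f', hf'⟩ := hex
    obtain ⟨f₁, h01'⟩ : ∃ f₁, polar Q e₀ f₁ = 1 := by
      refine ⟨(polar Q e₀ f')⁻¹ • f', ?_⟩
      rw [polar_smul_right, smul_eq_mul, inv_mul_cancel₀ hf']
    obtain ⟨f₀, h01, hQf₀⟩ : ∃ f₀, polar Q e₀ f₀ = 1 ∧ Q f₀ = 0 := by
      refine ⟨f₁ + (-(Q f₁)) • e₀, ?_, ?_⟩
      · rw [polar_add_right, polar_smul_right, hself e₀ hQe₀, smul_zero, add_zero, h01']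
      · rw [QuadraticMap.map_add Q, QuadraticMap.map_smul, hQe₀, polar_smul_right, hsymm f₁ e₀, h01']
        simp
    have h10 : polar Q f₀ e₀ = 1 := by rw [hsymm, h01]
    let B := QuadraticMap.polarBilin Q
    have hB : ∀ x y, B x y = polar Q x y := fun x y => rfl
    let L : V →ₗ[F] F × F := (B e₀).prod (B f₀)
    let U : Submodule F V := LinearMap.ker L
    have hU : ∀ u : V, u ∈ U ↔ polar Q e₀ u = 0 ∧ polar Q f₀ u = 0 := by
      intro u
      show L u = 0 ↔ _
      change ((B e₀ u, B f₀ u) : F × F) = 0 ↔ _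
      exact Prod.mk_eq_zero
    have hLsurj : Function.Surjective L := by
      rintro ⟨x, y⟩
      refine ⟨x • f₀ + y • e₀, ?_⟩
      change ((B e₀ (x • f₀ + y • e₀), B f₀ (x • f₀ + y • e₀)) : F × F) = (x, y)
      refine Prod.ext ?_ ?_
      · show B e₀ (x • f₀ + y • e₀) = x
        rw [map_add, map_smul, map_smul, hB, hB, h01, hself e₀ hQe₀]
        simp
      · show B f₀ (x • f₀ + y • e₀) = y
        rw [map_add, map_smul, map_smul, hB, hB, h10, hself f₀ hQf₀]
        simp
    have hfrU : finrank F U = 2 * m := by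
      have h1 := LinearMap.finrank_range_add_finrank_ker L
      rw [LinearMap.range_eq_top.2 hLsurj, finrank_top, Module.finrank_prod, Module.finrank_self] at h1
      show finrank F (LinearMap.ker L) = 2 * m
      omega
    have hdec : ∀ v : V, v - (polar Q f₀ v) • e₀ - (polar Q e₀ v) • f₀ ∈ U := by
      intro v
      rw [hU]
      constructor
      · rw [polar_sub_right, polar_sub_right, polar_smul_right, polar_smul_right, hself e₀ hQe₀, h01]
        simp
      · rw [polar_sub_right, polar_sub_right, polar_smul_right, polar_smul_right, hself f₀ hQf₀, h10]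
        simp
    let QU : QuadraticForm F U := Q.comp U.subtype
    have hQU : ∀ u : U, QU u = Q (u : V) := fun u => rfl
    have hpolU : ∀ u u' : U, polar QU u u' = polar Q (u : V) (u' : V) := fun u u' => rfl
    have hndU : (QuadraticMap.polarBilin QU).Nondegenerate := by
      have hleft : (QuadraticMap.polarBilin QU).SeparatingLeft := by
        intro u hu
        apply Subtype.ext
        apply hnd.1
        intro v
        have h1 := hu ⟨_, hdec v⟩
        rw [polarBilin_apply_apply, hpolU] at h1
        simp only at h1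
        have hu' := (hU u).1 u.2
        have e1 : polar Q (u : V) e₀ = 0 := by rw [hsymm, hu'.1]
        have e2 : polar Q (u : V) f₀ = 0 := by rw [hsymm, hu'.2]
        rw [polar_sub_right, polar_sub_right, polar_smul_right, polar_smul_right, e1, e2] at h1
        rw [polarBilin_apply_apply]
        simpa using h1
      refine ⟨hleft, ?_⟩
      intro u hu
      apply hleft u
      intro w
      have := hu w
      rw [polarBilin_apply_apply] at this ⊢
      rw [polar_comm, this]
    -- the totally singular subspace of U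
    let ℓ : W →ₗ[F] F := (B f₀).comp W.subtype
    have hℓsurj : Function.Surjective ℓ := by
      intro y
      refine ⟨y • ⟨e₀, he₀W⟩, ?_⟩
      show B f₀ ((y • (⟨e₀, he₀W⟩ : W) : W) : V) = y
      rw [Submodule.coe_smul, map_smul, hB]
      simp [h10]
    have hker : finrank F (LinearMap.ker ℓ) = m := by
      have h1 := LinearMap.finrank_range_add_finrank_ker ℓ
      rw [LinearMap.range_eq_top.2 hℓsurj, finrank_top, Module.finrank_self, hWm] at h1
      omega
    have hιmem : ∀ w : LinearMap.ker ℓ, ((w : W) : V) ∈ U := by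
      intro w
      rw [hU]
      refine ⟨hWorth _ (w : W).2, ?_⟩
      have := w.2
      rw [LinearMap.mem_ker] at this
      exact this
    let ι : LinearMap.ker ℓ →ₗ[F] U :=
      LinearMap.codRestrict U (W.subtype.comp (LinearMap.ker ℓ).subtype) hιmem
    have hιinj : Function.Injective ι := by
      intro w w' h
      have h1 := congrArg (fun u : U => (u : V)) h
      exact Subtype.ext (Subtype.ext h1)
    let W' : Submodule F U := LinearMap.range ι
    have hW'm : finrank F W' = m := by
      rw [LinearMap.finrank_range_of_inj hιinj, hker]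
    have hW' : ∀ w ∈ W', QU w = 0 := by
      rintro w ⟨w₀, rfl⟩
      rw [hQU]
      exact hW _ (w₀ : W).2
    obtain ⟨e', f'', hQe, hQf, hee, hff, hef⟩ := ih U QU hndU hfrU W' hW' hW'm
    have hUe : ∀ u : U, polar Q e₀ u = 0 ∧ polar Q f₀ u = 0 := fun u => (hU u).1 u.2
    refine ⟨Fin.cons e₀ (fun i => (e' i : V)), Fin.cons f₀ (fun i => (f'' i : V)), ?_, ?_, ?_, ?_, ?_⟩
    · intro i
      refine Fin.cases ?_ (fun i => ?_) i
      · simpa using hQe₀
      · simp only [Fin.cons_succ]; exact hQe i
    · intro i
      refine Fin.cases ?_ (fun i => ?_) i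
      · simpa using hQf₀
      · simp only [Fin.cons_succ]; exact hQf i
    · intro i k
      refine Fin.cases ?_ (fun i => ?_) i <;> refine Fin.cases ?_ (fun k => ?_) k
      · simp only [Fin.cons_zero]; exact hself e₀ hQe₀
      · simp only [Fin.cons_zero, Fin.cons_succ]; exact (hUe _).1
      · simp only [Fin.cons_zero, Fin.cons_succ]; rw [hsymm, (hUe _).1]
      · simp only [Fin.cons_succ]; exact hee i k
    · intro i k
      refine Fin.cases ?_ (fun i => ?_) i <;> refine Fin.cases ?_ (fun k => ?_) k
      · simp only [Fin.cons_zero]; exact hself f₀ hQf₀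
      · simp only [Fin.cons_zero, Fin.cons_succ]; exact (hUe _).2
      · simp only [Fin.cons_zero, Fin.cons_succ]; rw [hsymm, (hUe _).2]
      · simp only [Fin.cons_succ]; exact hff i k
    · intro i k
      refine Fin.cases ?_ (fun i => ?_) i <;> refine Fin.cases ?_ (fun k => ?_) k
      · simp only [Fin.cons_zero, if_true]; exact h01
      · simp only [Fin.cons_zero, Fin.cons_succ]
        rw [if_neg (Fin.succ_ne_zero k).symm]; exact (hUe _).1
      · simp only [Fin.cons_zero, Fin.cons_succ]
        rw [if_neg (Fin.succ_ne_zero i), hsymm, (hUe _).2]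
      · simp only [Fin.cons_succ, Fin.succ_inj]; exact hef i k


/-- a linear combination of mutually orthogonal singular vectors is singular -/
theorem singular_sum {F : Type v} [Field F] {V : Type u} [AddCommGroup V] [Module F V]
    (Q : QuadraticForm F V) {ι : Type*} (g : ι → V) (hg : ∀ i, Q (g i) = 0)
    (hgg : ∀ i k, polar Q (g i) (g k) = 0) (s : Finset ι) (a : ι → F) :
    Q (∑ i ∈ s, a i • g i) = 0 := by
  classical
  induction s using Finset.induction_on with
  | empty => simp
  | insert k s hk ih =>
    rw [Finset.sum_insert hk, QuadraticMap.map_add Q, ih, QuadraticMap.map_smul, hg]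
    have : polar Q (a k • g k) (∑ i ∈ s, a i • g i) = 0 := by
      rw [← polarBilin_apply_apply, map_sum]
      apply Finset.sum_eq_zero
      intro i _
      rw [polarBilin_apply_apply, polar_smul_left, polar_smul_right, hgg]
      simp
    rw [this]
    simp

/-- from a hyperbolic family to coordinates in which the form is `Σ x_i y_i` -/
theorem hyperbolic_coords {F : Type v} [Field F] (m : ℕ) (V : Type u) [AddCommGroup V] [Module F V]
    [FiniteDimensional F V] (Q : QuadraticForm F V) (hfr : finrank F V = 2 * m)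
    (e f : Fin m → V) (hQe : ∀ i, Q (e i) = 0) (hQf : ∀ i, Q (f i) = 0)
    (hee : ∀ i k, polar Q (e i) (e k) = 0) (hff : ∀ i k, polar Q (f i) (f k) = 0)
    (hef : ∀ i k, polar Q (e i) (f k) = if i = k then 1 else 0) :
    ∃ Θ : V ≃ₗ[F] (Fin m ⊕ Fin m → F), ∀ v, Cfsg.quadFormPlus m F (Θ v) = Q v := by
  classical
  have hfe : ∀ i k, polar Q (f i) (e k) = if i = k then 1 else 0 := by
    intro i k
    rw [polar_comm, hef]
    by_cases h : i = k
    · rw [if_pos h, if_pos h.symm]
    · rw [if_neg h, if_neg (Ne.symm h)]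
  let G : Matrix (Fin m ⊕ Fin m) (Fin m ⊕ Fin m) F := Matrix.fromBlocks 0 1 1 0
  have hgram : ∀ x y, polar Q (Sum.elim e f x) (Sum.elim e f y) = G x y := by
    intro x y
    rcases x with i | i <;> rcases y with k | k
    · simp [G, hee]
    · simp [G, hef, Matrix.one_apply]
    · simp [G, hfe, Matrix.one_apply]
    · simp [G, hff]
  have hli : LinearIndependent F (Sum.elim e f) := by
    rw [Fintype.linearIndependent_iff]
    intro g hg x
    have key : ∀ y, ∑ x, g x * G x y = 0 := by
      intro y
      have := congrArg (fun v => QuadraticMap.polarBilin Q v (Sum.elim e f y)) hg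
      simp only [map_sum, map_smul, LinearMap.sum_apply, LinearMap.smul_apply, smul_eq_mul,
        polarBilin_apply_apply, hgram, map_zero, LinearMap.zero_apply] at this
      exact this
    rcases x with k | k
    · have := key (Sum.inr k)
      simpa [G, Fintype.sum_sum_type, Matrix.one_apply] using this
    · have := key (Sum.inl k)
      simpa [G, Fintype.sum_sum_type, Matrix.one_apply] using this
  have hexb : ∃ b : Basis (Fin m ⊕ Fin m) F V, ⇑b = Sum.elim e f := by
    by_cases hm : m = 0
    · subst hm
      exact ⟨basisOfLinearIndependentOfCardEqFinrank' (Sum.elim e f) hli (by simp [hfr]),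
        coe_basisOfLinearIndependentOfCardEqFinrank' _ _ _⟩
    · have : Nonempty (Fin m ⊕ Fin m) := ⟨Sum.inl ⟨0, Nat.pos_of_ne_zero hm⟩⟩
      exact ⟨basisOfLinearIndependentOfCardEqFinrank hli (by simp [hfr]; ring),
        coe_basisOfLinearIndependentOfCardEqFinrank _ _⟩
  obtain ⟨b, hb⟩ := hexb
  refine ⟨b.equivFun, fun v => ?_⟩
  have hv : v = ∑ i, (b.equivFun v (Sum.inl i)) • e i + ∑ i, (b.equivFun v (Sum.inr i)) • f i := by
    conv_lhs => rw [← b.sum_equivFun v]
    rw [Fintype.sum_sum_type, hb]
    simp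
  conv_rhs => rw [hv]
  rw [QuadraticMap.map_add Q, singular_sum Q e hQe hee, singular_sum Q f hQf hff, zero_add, zero_add,
    ← polarBilin_apply_apply, map_sum]
  unfold Cfsg.quadFormPlus
  apply Finset.sum_congr rfl
  intro k _
  rw [map_smul, smul_eq_mul, map_sum, LinearMap.sum_apply, Finset.sum_eq_single k]
  · rw [map_smul, LinearMap.smul_apply, polarBilin_apply_apply, hef, if_pos rfl]
    simp only [smul_eq_mul, mul_one]
    ring
  · intro i _ hi
    rw [map_smul, LinearMap.smul_apply, polarBilin_apply_apply, hef, if_neg hi]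
    simp
  · intro h; exact absurd (Finset.mem_univ k) h

/-- transport: a group acting faithfully by isometries on a quadratic space isometric to `(ι → F, Q)`
embeds in `isometryGroup F Q`. -/
theorem exists_hom_to_isometryGroup {F : Type v} [Field F] {V : Type u} [AddCommGroup V] [Module F V]
    {G : Type*} [Group G] {ι : Type} [Fintype ι] [DecidableEq ι] (Q : (ι → F) → F) (QV : V → F)
    (Θ : V ≃ₗ[F] (ι → F)) (hΘ : ∀ v, Q (Θ v) = QV v) (ρ : G →* Module.End F V)
    (hρ : ∀ g v, QV (ρ g v) = QV v) (hinj : Function.Injective ρ) :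
    ∃ φ : G →* ↥(Cfsg.isometryGroup F Q), Function.Injective φ := by
  let ψ₀ : G →* Matrix ι ι F :=
    { toFun := fun g => LinearMap.toMatrix' ((Θ : V →ₗ[F] (ι → F)) ∘ₗ (ρ g) ∘ₗ (Θ.symm : (ι → F) →ₗ[F] V))
      map_one' := by
        rw [map_one, ← LinearMap.toMatrix'_id]
        congr 1
        apply LinearMap.ext
        intro x
        simp
      map_mul' := by
        intro g h
        rw [map_mul, ← LinearMap.toMatrix'_comp]
        congr 1
        apply LinearMap.ext
        intro x
        simp }
  let ψ : G →* (Matrix ι ι F)ˣ := ψ₀.toHomUnits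
  have hψ : ∀ g u, ((ψ g : (Matrix ι ι F)ˣ) : Matrix ι ι F).mulVec u = Θ (ρ g (Θ.symm u)) := by
    intro g u
    show (ψ₀ g).mulVec u = _
    show (LinearMap.toMatrix' ((Θ : V →ₗ[F] (ι → F)) ∘ₗ (ρ g) ∘ₗ (Θ.symm : (ι → F) →ₗ[F] V))).mulVec u = _
    rw [LinearMap.toMatrix'_mulVec]
    rfl
  have hmem : ∀ g, ψ g ∈ Cfsg.isometryGroup F Q := by
    intro g u w
    simp only [Units.coeHom_apply]
    rw [hψ, hΘ, hρ, ← hΘ, LinearEquiv.apply_symm_apply]
  refine ⟨ψ.codRestrict _ hmem, ?_⟩
  intro g h hgh
  apply hinj
  have h1 : ψ g = ψ h := congrArg Subtype.val hgh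
  apply LinearMap.ext
  intro x
  have h2 := hψ g (Θ x)
  rw [h1, hψ h (Θ x)] at h2
  simp only [LinearEquiv.symm_apply_apply] at h2
  exact (Θ.injective h2).symm

end Cfsg.Agent.Lib.Helper44
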