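import Mathlib
import Cfsg.Prelude.Def_LieClassical

set_option autoImplicit false

namespace Cfsg.Agent.Lib.Helper44

open Module

theorem exists_frob {K : Type*} [Field K] [Fintype K] {q : ℕ} (hK : Fintype.card K = q ^ 2) :
    ∃ frob : K →+* K, ∀ x, frob x = x ^ q := by
  obtain ⟨p, hpK⟩ := CharP.exists K
  obtain ⟨n, hp, hn⟩ := FiniteField.card K p
  have hq : q ∣ p ^ (n : ℕ) := by
    rw [← hn, hK]; exact dvd_pow_self q (by norm_num)
  obtain ⟨k, _, rfl⟩ := (Nat.dvd_prime_pow hp).1 hq
  have := fact_iff.2 hp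
  exact ⟨iterateFrobenius K p k, fun x => iterateFrobenius_def p k x⟩

theorem pow_q_sq {K : Type*} [Field K] [Fintype K] {q : ℕ} (hK : Fintype.card K = q ^ 2) (x : K) :
    (x ^ q) ^ q = x := by
  rw [← pow_mul, ← sq, ← hK, FiniteField.pow_card]

theorem norm_eq_mul_pow {F K : Type*} [Field F] [Fintype F] [Field K] [Fintype K] [Algebra F K] {q : ℕ}
    (hF : Fintype.card F = q) (hK : Fintype.card K = q ^ 2) (x : K) :
    algebraMap F K (Algebra.norm F x) = x * x ^ q := by
  rw [FiniteField.algebraMap_norm_eq_pow, Nat.card_eq_fintype_card, Nat.card_eq_fintype_card, hF, hK]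
  have hq : 2 ≤ q := by rw [← hF]; exact Fintype.one_lt_card
  have : (q ^ 2 - 1) / (q - 1) = q + 1 := by
    have h1 : q ^ 2 - 1 = (q + 1) * (q - 1) := by
      obtain ⟨r, rfl⟩ : ∃ r, q = r + 1 := ⟨q - 1, by omega⟩
      simp only [Nat.add_sub_cancel]
      ring_nf
      omega
    rw [h1, Nat.mul_div_cancel _ (by omega)]
  rw [this, pow_succ, mul_comm]

theorem algebraMap_pow_card {F K : Type*} [Field F] [Fintype F] [Field K] [Algebra F K] {q : ℕ}
    (hF : Fintype.card F = q) (f : F) : (algebraMap F K f) ^ q = algebraMap F K f := by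
  rw [← map_pow, ← hF, FiniteField.pow_card]

/-- hermForm is additive / homogeneous as needed -/
theorem hermForm_add_left (n : ℕ) (K : Type*) [Field K] (q : ℕ) (u u' v : Fin n → K) :
    Cfsg.hermForm n K q (u + u') v = Cfsg.hermForm n K q u v + Cfsg.hermForm n K q u' v := by
  unfold Cfsg.hermForm
  rw [← Finset.sum_add_distrib]
  exact Finset.sum_congr rfl (fun i _ => by simp only [Pi.add_apply]; ring)

theorem hermForm_smul_left (n : ℕ) (K : Type*) [Field K] (q : ℕ) (k : K) (u v : Fin n → K) :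
    Cfsg.hermForm n K q (k • u) v = k * Cfsg.hermForm n K q u v := by
  unfold Cfsg.hermForm
  rw [Finset.mul_sum]
  exact Finset.sum_congr rfl (fun i _ => by simp only [Pi.smul_apply, smul_eq_mul]; ring)

theorem hermForm_add_right {K : Type*} [Field K] [Fintype K] {q : ℕ} (hK : Fintype.card K = q ^ 2)
    (n : ℕ) (u v v' : Fin n → K) :
    Cfsg.hermForm n K q u (v + v') = Cfsg.hermForm n K q u v + Cfsg.hermForm n K q u v' := by
  obtain ⟨frob, hfrob⟩ := exists_frob hK
  unfold Cfsg.hermForm
  rw [← Finset.sum_add_distrib]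
  refine Finset.sum_congr rfl (fun i _ => ?_)
  simp only [Pi.add_apply]
  rw [← hfrob, map_add, hfrob, hfrob]
  ring

theorem hermForm_smul_right (n : ℕ) (K : Type*) [Field K] (q : ℕ) (k : K) (u v : Fin n → K) :
    Cfsg.hermForm n K q u (k • v) = k ^ q * Cfsg.hermForm n K q u v := by
  unfold Cfsg.hermForm
  rw [Finset.mul_sum]
  exact Finset.sum_congr rfl (fun i _ => by simp only [Pi.smul_apply, smul_eq_mul]; ring)

theorem hermForm_nd (n : ℕ) (K : Type*) [Field K] (q : ℕ) (v : Fin n → K)
    (h : ∀ u, Cfsg.hermForm n K q u v = 0) : v = 0 := by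
  classical
  funext i
  have := h (Pi.single i 1)
  unfold Cfsg.hermForm at this
  rw [Finset.sum_eq_single i] at this
  · simp only [Pi.single_eq_same, one_mul] at this
    exact pow_eq_zero_iff (by
      rintro rfl
      simp at this) |>.1 this
  · intro b _ hb
    simp [Pi.single_apply, hb]
  · intro hi
    exact absurd (Finset.mem_univ i) hi

end Cfsg.Agent.Lib.Helper44
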