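import Mathlib
import Cfsg.Prelude.Def_LieClassical
import Cfsg.Agent.Lib.Helper44.Unitary
import Cfsg.Agent.Lib.Helper44.Hyperbolic

set_option autoImplicit false

namespace Cfsg.Agent.Lib.Helper44

open Module QuadraticMap

theorem algebraMap_trace_eq {F K : Type*} [Field F] [Fintype F] [Field K] [Fintype K] [Algebra F K] {q : ℕ}
    (hF : Fintype.card F = q) (hK : Fintype.card K = q ^ 2) (z : K) :
    algebraMap F K (Algebra.trace F K z) = z + z ^ q := by
  have hfr : finrank F K = 2 := by
    have hq : 2 ≤ q := by rw [← hF]; exact Fintype.one_lt_card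
    have h := Module.card_eq_pow_finrank (K := F) (V := K)
    rw [hK, hF] at h
    exact (Nat.pow_right_injective hq h).symm
  rw [FiniteField.algebraMap_trace_eq_sum_pow, hfr, Finset.sum_range_succ, Finset.sum_range_one,
    Nat.card_eq_fintype_card, hF]
  simp

/-- the `F`-bilinear form `Tr (c * h(u, v))` on `K^n` -/
noncomputable def trHerm {F K : Type*} [Field F] [Fintype F] [Field K] [Fintype K] [Algebra F K] {q : ℕ}
    (hF : Fintype.card F = q) (hK : Fintype.card K = q ^ 2) (n : ℕ) (c : K) :
    LinearMap.BilinForm F (Fin n → K) :=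
  LinearMap.mk₂ F (fun u v => Algebra.trace F K (c * Cfsg.hermForm n K q u v))
    (by intro u u' v; simp only [hermForm_add_left, mul_add, map_add])
    (by
      intro a u v
      rw [← map_smul]
      congr 1
      rw [← algebraMap_smul K a u, hermForm_smul_left, Algebra.smul_def]
      ring)
    (by intro u v v'; simp only [hermForm_add_right hK, mul_add, map_add])
    (by
      intro a u v
      rw [← map_smul]
      congr 1
      rw [← algebraMap_smul K a v, hermForm_smul_right, algebraMap_pow_card hF, Algebra.smul_def]
      ring)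

theorem trHerm_apply {F K : Type*} [Field F] [Fintype F] [Field K] [Fintype K] [Algebra F K] {q : ℕ}
    (hF : Fintype.card F = q) (hK : Fintype.card K = q ^ 2) (n : ℕ) (c : K) (u v : Fin n → K) :
    trHerm hF hK n c u v = Algebra.trace F K (c * Cfsg.hermForm n K q u v) := rfl

theorem hermForm_pow {K : Type*} [Field K] [Fintype K] {q : ℕ} (hK : Fintype.card K = q ^ 2) (n : ℕ)
    (u v : Fin n → K) : (Cfsg.hermForm n K q u v) ^ q = Cfsg.hermForm n K q v u := by
  obtain ⟨frob, hfrob⟩ := exists_frob hK
  unfold Cfsg.hermForm
  rw [← hfrob, map_sum]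
  refine Finset.sum_congr rfl (fun i _ => ?_)
  rw [map_mul, hfrob, hfrob, pow_q_sq hK]
  ring

/-- the norm form on `K^n` as a quadratic form over `F` -/
noncomputable def normQ {F K : Type*} [Field F] [Fintype F] [Field K] [Fintype K] [Algebra F K] {q : ℕ}
    (hF : Fintype.card F = q) (hK : Fintype.card K = q ^ 2) (n : ℕ) : QuadraticForm F (Fin n → K) where
  toFun v := ∑ i, Algebra.norm F (v i)
  toFun_smul a v := by
    have hfr : finrank F K = 2 := by
      have hq : 2 ≤ q := by rw [← hF]; exact Fintype.one_lt_card
      have h := Module.card_eq_pow_finrank (K := F) (V := K)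
      rw [hK, hF] at h
      exact (Nat.pow_right_injective hq h).symm
    rw [Finset.smul_sum]
    refine Finset.sum_congr rfl (fun i _ => ?_)
    rw [Pi.smul_apply, Algebra.smul_def, map_mul, Algebra.norm_algebraMap, hfr, smul_eq_mul]
    ring
  exists_companion' := ⟨trHerm hF hK n 1, by
    intro x y
    apply (algebraMap F K).injective
    rw [map_add, map_add, map_sum, map_sum, map_sum, trHerm_apply, algebraMap_trace_eq hF hK, one_mul,
      hermForm_pow hK]
    unfold Cfsg.hermForm
    simp only [norm_eq_mul_pow hF hK, Pi.add_apply]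
    obtain ⟨frob, hfrob⟩ := exists_frob hK
    rw [← Finset.sum_add_distrib, ← Finset.sum_add_distrib, ← Finset.sum_add_distrib]
    refine Finset.sum_congr rfl (fun i _ => ?_)
    rw [← hfrob, map_add, hfrob, hfrob]
    ring⟩

theorem normQ_apply {F K : Type*} [Field F] [Fintype F] [Field K] [Fintype K] [Algebra F K] {q : ℕ}
    (hF : Fintype.card F = q) (hK : Fintype.card K = q ^ 2) (n : ℕ) (v : Fin n → K) :
    normQ hF hK n v = ∑ i, Algebra.norm F (v i) := rfl

theorem algebraMap_normQ {F K : Type*} [Field F] [Fintype F] [Field K] [Fintype K] [Algebra F K] {q : ℕ}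
    (hF : Fintype.card F = q) (hK : Fintype.card K = q ^ 2) (n : ℕ) (v : Fin n → K) :
    algebraMap F K (normQ hF hK n v) = Cfsg.hermForm n K q v v := by
  rw [normQ_apply, map_sum]
  unfold Cfsg.hermForm
  exact Finset.sum_congr rfl (fun i _ => norm_eq_mul_pow hF hK (v i))

theorem polar_normQ {F K : Type*} [Field F] [Fintype F] [Field K] [Fintype K] [Algebra F K] {q : ℕ}
    (hF : Fintype.card F = q) (hK : Fintype.card K = q ^ 2) (n : ℕ) (u v : Fin n → K) :
    polar (normQ hF hK n) u v = trHerm hF hK n 1 u v := by
  apply (algebraMap F K).injective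
  unfold polar
  rw [map_sub, map_sub, algebraMap_normQ, algebraMap_normQ, algebraMap_normQ, trHerm_apply,
    algebraMap_trace_eq hF hK, one_mul, hermForm_pow hK, hermForm_add_left, hermForm_add_right hK,
    hermForm_add_right hK]
  ring

theorem normQ_nondegenerate {F K : Type*} [Field F] [Fintype F] [Field K] [Fintype K] [Algebra F K] {q : ℕ}
    (hF : Fintype.card F = q) (hK : Fintype.card K = q ^ 2) (n : ℕ) :
    (QuadraticMap.polarBilin (normQ hF hK n)).Nondegenerate := by
  have hfr : finrank F K = 2 := by
    have hq : 2 ≤ q := by rw [← hF]; exact Fintype.one_lt_card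
    have h := Module.card_eq_pow_finrank (K := F) (V := K)
    rw [hK, hF] at h
    exact (Nat.pow_right_injective hq h).symm
  have : FiniteDimensional F K := Module.finite_of_finrank_pos (by rw [hfr]; norm_num)
  have hright : (QuadraticMap.polarBilin (normQ hF hK n)).SeparatingRight := by
    intro v hv
    apply hermForm_nd n K q v
    intro u
    have htr := (traceForm_nondegenerate F K).2
    apply htr (Cfsg.hermForm n K q u v)
    intro k
    have := hv (k • u)
    rw [polarBilin_apply_apply, polar_normQ, trHerm_apply, one_mul, hermForm_smul_left] at this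
    rw [Algebra.traceForm_apply, this]
  refine ⟨?_, hright⟩
  intro u hu
  apply hright u
  intro v
  have := hu v
  rw [polarBilin_apply_apply] at this ⊢
  rw [polar_comm, this]


theorem finrank_pi_K {F K : Type*} [Field F] [Fintype F] [Field K] [Fintype K] [Algebra F K] {q : ℕ}
    (hF : Fintype.card F = q) (hK : Fintype.card K = q ^ 2) (n : ℕ) :
    finrank F (Fin n → K) = 2 * n := by
  have hfr : finrank F K = 2 := by
    have hq : 2 ≤ q := by rw [← hF]; exact Fintype.one_lt_card
    have h := Module.card_eq_pow_finrank (K := F) (V := K)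
    rw [hK, hF] at h
    exact (Nat.pow_right_injective hq h).symm
  have : FiniteDimensional F K := Module.finite_of_finrank_pos (by rw [hfr]; norm_num)
  rw [Module.finrank_pi_fintype]
  simp only [hfr, Finset.sum_const, Finset.card_univ, Fintype.card_fin, smul_eq_mul]
  ring

/-- for `n = h + h` the norm form on `K^n` is hyperbolic over `F` -/
theorem normQ_hyperbolic {F K : Type*} [Field F] [Fintype F] [Field K] [Fintype K] [Algebra F K] {q : ℕ}
    (hF : Fintype.card F = q) (hK : Fintype.card K = q ^ 2) (n h : ℕ) (hn : n = h + h) :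
    ∃ Θ : (Fin n → K) ≃ₗ[F] (Fin n ⊕ Fin n → F), ∀ v, Cfsg.quadFormPlus n F (Θ v) = normQ hF hK n v := by
  subst hn
  have hfr : finrank F K = 2 := by
    have hq : 2 ≤ q := by rw [← hF]; exact Fintype.one_lt_card
    have h := Module.card_eq_pow_finrank (K := F) (V := K)
    rw [hK, hF] at h
    exact (Nat.pow_right_injective hq h).symm
  have : FiniteDimensional F K := Module.finite_of_finrank_pos (by rw [hfr]; norm_num)
  obtain ⟨t, ht⟩ := FiniteField.norm_surjective F K (-1)
  let ι₁ : (Fin h → K) →ₗ[F] (Fin (h + h) → K) :=
    { toFun := fun x => Fin.append x (fun k => t * x k)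
      map_add' := by
        intro x y
        funext i
        refine Fin.addCases (fun k => ?_) (fun k => ?_) i
        · simp only [Pi.add_apply, Fin.append_left]
        · simp only [Pi.add_apply, Fin.append_right, mul_add]
      map_smul' := by
        intro a x
        funext i
        refine Fin.addCases (fun k => ?_) (fun k => ?_) i
        · simp only [Pi.smul_apply, Fin.append_left, RingHom.id_apply]
        · simp only [Pi.smul_apply, Fin.append_right, RingHom.id_apply, Algebra.smul_def]; ring }
  have hι₁ : ∀ x, ι₁ x = Fin.append x (fun k => t * x k) := fun x => rfl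
  have hinj : Function.Injective ι₁ := by
    intro x y hxy
    funext k
    have := congrFun hxy (Fin.castAdd h k)
    rw [hι₁, hι₁, Fin.append_left, Fin.append_left] at this
    exact this
  let W : Submodule F (Fin (h + h) → K) := LinearMap.range ι₁
  have hWm : finrank F W = h + h := by
    rw [LinearMap.finrank_range_of_inj hinj, finrank_pi_K hF hK]
    ring
  have hW : ∀ w ∈ W, normQ hF hK (h + h) w = 0 := by
    rintro w ⟨x, rfl⟩
    rw [normQ_apply, Fin.sum_univ_add, hι₁]
    simp only [Fin.append_left, Fin.append_right, map_mul, ht]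
    rw [← Finset.sum_add_distrib]
    apply Finset.sum_eq_zero
    intro k _
    ring
  obtain ⟨e, f, hQe, hQf, hee, hff, hef⟩ := hyperbolic_family (h + h) (Fin (h + h) → K) (normQ hF hK (h + h))
    (normQ_nondegenerate hF hK (h + h)) (finrank_pi_K hF hK (h + h)) W hW hWm
  exact hyperbolic_coords (h + h) (Fin (h + h) → K) (normQ hF hK (h + h)) (finrank_pi_K hF hK (h + h))
    e f hQe hQf hee hff hef

end Cfsg.Agent.Lib.Helper44
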