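import Mathlib

set_option autoImplicit false

namespace Cfsg.Agent.Lib.Helper44

open Matrix

theorem exists_ringHom_of_card_sq {F K : Type*} [Field F] [Fintype F] [Field K] [Fintype K] {q : ℕ}
    (hF : Fintype.card F = q) (hK : Fintype.card K = q ^ 2) : Nonempty (F →+* K) := by
  obtain ⟨p, hpF⟩ := CharP.exists F
  obtain ⟨p', hpK⟩ := CharP.exists K
  obtain ⟨n, hp, hn⟩ := FiniteField.card F p
  obtain ⟨n', hp', hn'⟩ := FiniteField.card K p'
  have hpp' : p = p' := by
    have h1 : p ∣ p' ^ (n' : ℕ) := by
      rw [← hn', hK, ← hF, hn]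
      exact dvd_pow (dvd_pow_self p n.ne_zero) (by norm_num)
    exact (Nat.prime_dvd_prime_iff_eq hp hp').1 (hp.dvd_of_dvd_pow h1)
  subst hpp'
  have := fact_iff.2 hp
  let _ : Algebra (ZMod p) F := ZMod.algebra _ _
  let _ : Algebra (ZMod p) K := ZMod.algebra _ _
  have h1 : p ^ Module.finrank (ZMod p) F = Fintype.card F := FiniteField.pow_finrank_eq_card p F
  have h2 : p ^ Module.finrank (ZMod p) K = Fintype.card K := FiniteField.pow_finrank_eq_card p K
  have h3 : Module.finrank (ZMod p) K = 2 * Module.finrank (ZMod p) F := by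
    apply Nat.pow_right_injective hp.two_le
    simp only
    rw [h2, hK, ← hF, ← h1, ← pow_mul, mul_comm]
  obtain ⟨f⟩ := FiniteField.nonempty_algHom_of_finrank_dvd (F := ZMod p) (K := F) (L := K)
    (by rw [h3]; exact dvd_mul_left _ _)
  exact ⟨f.toRingHom⟩

theorem finrank_eq_two_of_card_sq {F K : Type*} [Field F] [Fintype F] [Field K] [Fintype K] [Algebra F K]
    {q : ℕ} (hF : Fintype.card F = q) (hK : Fintype.card K = q ^ 2) : Module.finrank F K = 2 := by
  have hq : 2 ≤ q := by rw [← hF]; exact Fintype.one_lt_card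
  have h := Module.card_eq_pow_finrank (K := F) (V := K)
  rw [hK, hF] at h
  exact (Nat.pow_right_injective hq h).symm

open Polynomial in
theorem exists_two_roots {F K : Type*} [Field F] [Fintype F] [Field K] [Fintype K] {q : ℕ}
    (hF : Fintype.card F = q) (hK : Fintype.card K = q ^ 2) (j : F →+* K) (a c : F)
    (hac : ∀ z₁ z₂ : F, z₁ ^ 2 + a * z₁ * z₂ + c * z₂ ^ 2 = 0 → z₁ = 0 ∧ z₂ = 0) :
    ∃ α β : K, α ≠ β ∧ α + β = - j a ∧ α * β = j c := by
  classical
  let _ : Algebra F K := j.toAlgebra
  have hfr : Module.finrank F K = 2 := finrank_eq_two_of_card_sq hF hK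
  set f : F[X] := X ^ 2 + C a * X + C c with hf
  have hdeg : f.natDegree = 2 := by
    rw [hf]; compute_degree!
  have hmonic : f.Monic := by
    rw [hf]; monicity!
  have hroots : f.roots = 0 := by
    rw [Multiset.eq_zero_iff_forall_notMem]
    intro t ht
    rw [mem_roots hmonic.ne_zero, IsRoot.def] at ht
    simp only [hf, eval_add, eval_pow, eval_X, eval_mul, eval_C] at ht
    have := hac t 1 (by rw [← ht]; ring)
    exact one_ne_zero this.2
  have hirr : Irreducible f :=
    (hmonic.irreducible_iff_roots_eq_zero_of_degree_le_three (by omega) (by omega)).2 hroots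
  have : Fact (Irreducible f) := ⟨hirr⟩
  have hfin : Module.finrank F (AdjoinRoot f) = 2 := by
    rw [(AdjoinRoot.powerBasis hmonic.ne_zero).finrank, AdjoinRoot.powerBasis_dim, hdeg]
  obtain ⟨h⟩ := FiniteField.nonempty_algHom_of_finrank_dvd (F := F) (K := AdjoinRoot f) (L := K)
    (by rw [hfin, hfr])
  set α : K := h (AdjoinRoot.root f) with hα
  have hroot : aeval α f = 0 := by
    rw [hα, aeval_algHom_apply, AdjoinRoot.aeval_eq, AdjoinRoot.mk_self, map_zero]
  have hsep : f.Separable := PerfectField.separable_of_irreducible hirr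
  have hder := hsep.aeval_derivative_ne_zero hroot
  have hj : ∀ x : F, algebraMap F K x = j x := fun x => rfl
  simp only [hf, map_add, map_pow, aeval_X, map_mul, aeval_C, hj] at hroot
  simp only [hf, derivative_X_pow, derivative_mul, derivative_C, derivative_X, map_add,
    map_mul, aeval_X, aeval_C, hj, zero_mul, zero_add, mul_one, Nat.cast_ofNat, map_pow] at hder
  refine ⟨α, - j a - α, ?_, by ring, ?_⟩
  · intro heq
    apply hder
    have h2 : j 2 = 2 := map_ofNat j 2
    rw [h2, map_zero]
    linear_combination heq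
  · linear_combination -hroot

/-- the quadratic function of a matrix -/
def quadM {R : Type*} [CommRing R] {n : Type*} [Fintype n] (A : Matrix n n R) (v : n → R) : R :=
  v ⬝ᵥ A *ᵥ v

theorem quadM_mulVec {R : Type*} [CommRing R] {n : Type*} [Fintype n] (A g : Matrix n n R) (v : n → R) :
    quadM A (g *ᵥ v) = quadM (gᵀ * A * g) v := by
  unfold quadM
  rw [← Matrix.mulVec_mulVec, ← Matrix.mulVec_mulVec, Matrix.dotProduct_mulVec v gᵀ, Matrix.vecMul_transpose]

theorem quadM_sub {R : Type*} [CommRing R] {n : Type*} [Fintype n] (A B : Matrix n n R) (v : n → R) :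
    quadM (A - B) v = quadM A v - quadM B v := by
  unfold quadM
  rw [Matrix.sub_mulVec, dotProduct_sub]

theorem diag_of_vanish {R : Type*} [CommRing R] {n : Type*} [Fintype n] [DecidableEq n] (D : Matrix n n R)
    (h : ∀ v : n → R, quadM D v = 0) : (∀ i, D i i = 0) ∧ (∀ i j, D i j + D j i = 0) := by
  have h1 : ∀ i, D i i = 0 := by
    intro i
    have := h (Pi.single i 1)
    unfold quadM at this
    rw [Matrix.mulVec_single_one, single_one_dotProduct] at this
    simpa using this
  refine ⟨h1, fun i j => ?_⟩
  have := h (Pi.single i 1 + Pi.single j 1)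
  unfold quadM at this
  rw [Matrix.mulVec_add, Matrix.mulVec_single_one, Matrix.mulVec_single_one, add_dotProduct,
    single_one_dotProduct, single_one_dotProduct] at this
  simp only [Pi.add_apply, Matrix.col_apply, h1] at this
  linear_combination this

theorem vanish_of_diag {R : Type*} [CommRing R] {n : Type*} [Fintype n] [DecidableEq n] (D : Matrix n n R)
    (h1 : ∀ i, D i i = 0) (h2 : ∀ i j, D i j + D j i = 0) (v : n → R) : quadM D v = 0 := by
  classical
  letI : LinearOrder n := LinearOrder.lift' (Fintype.equivFin n) (Fintype.equivFin n).injective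
  let U : Matrix n n R := Matrix.of fun i j => if i < j then D i j else 0
  have hD : D = U - Uᵀ := by
    ext i j
    simp only [Matrix.sub_apply, Matrix.transpose_apply, U, Matrix.of_apply]
    rcases lt_trichotomy i j with hij | hij | hij
    · rw [if_pos hij, if_neg (not_lt.2 hij.le), sub_zero]
    · subst hij
      rw [if_neg (lt_irrefl _), sub_zero, h1]
    · rw [if_neg (not_lt.2 hij.le), if_pos hij, zero_sub]
      linear_combination h2 i j
  rw [hD, quadM_sub]
  unfold quadM
  rw [Matrix.dotProduct_mulVec v Uᵀ, Matrix.vecMul_transpose, dotProduct_comm (U *ᵥ v) v, sub_self]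

theorem quadM_base_change {F K : Type*} [CommRing F] [CommRing K] (j : F →+* K) {n : Type*} [Fintype n]
    [DecidableEq n] (A g : Matrix n n F) (h : ∀ v : n → F, quadM A (g *ᵥ v) = quadM A v) (v : n → K) :
    quadM (A.map j) (g.map j *ᵥ v) = quadM (A.map j) v := by
  have hD : ∀ v : n → F, quadM (gᵀ * A * g - A) v = 0 := by
    intro v
    rw [quadM_sub, ← quadM_mulVec, h, sub_self]
  obtain ⟨d1, d2⟩ := diag_of_vanish _ hD
  have hmap : (gᵀ * A * g - A).map j = (g.map j)ᵀ * A.map j * g.map j - A.map j := by
    rw [Matrix.map_sub (f := j) (map_sub j), Matrix.map_mul, Matrix.map_mul, Matrix.transpose_map]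
  have := vanish_of_diag ((gᵀ * A * g - A).map j)
    (fun i => by rw [Matrix.map_apply, d1, map_zero])
    (fun i k => by rw [Matrix.map_apply, Matrix.map_apply, ← map_add, d2, map_zero]) v
  rw [hmap, quadM_sub, ← quadM_mulVec] at this
  exact sub_eq_zero.1 this

/-- conjugation `M ↦ T * M * T'` as a monoid hom -/
def conjHom {R : Type*} [CommRing R] {m n : Type*} [Fintype m] [Fintype n] [DecidableEq m] [DecidableEq n]
    (T : Matrix m n R) (T' : Matrix n m R) (h : T' * T = 1) (h' : T * T' = 1) :
    Matrix n n R →* Matrix m m R where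
  toFun M := T * M * T'
  map_one' := by rw [Matrix.mul_one, h']
  map_mul' M N := by
    calc T * (M * N) * T' = T * M * (1 : Matrix n n R) * N * T' := by rw [Matrix.mul_one, Matrix.mul_assoc T M N]
      _ = T * M * (T' * T) * N * T' := by rw [h]
      _ = T * M * T' * (T * N * T') := by simp only [Matrix.mul_assoc]

theorem conjHom_injective {R : Type*} [CommRing R] {m n : Type*} [Fintype m] [Fintype n] [DecidableEq m]
    [DecidableEq n] (T : Matrix m n R) (T' : Matrix n m R) (h : T' * T = 1) (h' : T * T' = 1) :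
    Function.Injective (conjHom T T' h h') := by
  intro M N hMN
  have h1 : T' * (T * M * T') * T = T' * (T * N * T') * T := by
    show T' * (conjHom T T' h h' M) * T = T' * (conjHom T T' h h' N) * T
    rw [hMN]
  have e : ∀ X : Matrix n n R, T' * (T * X * T') * T = X := by
    intro X
    calc T' * (T * X * T') * T = (T' * T) * X * (T' * T) := by simp only [Matrix.mul_assoc]
      _ = X := by rw [h, Matrix.one_mul, Matrix.mul_one]
  rw [e, e] at h1
  exact h1

end Cfsg.Agent.Lib.Helper44
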