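import Mathlib
import Cfsg.Agent.Lib.Helper44.QuadBase
import Cfsg.Agent.Lib.Helper44.NormForm

set_option autoImplicit false

namespace Cfsg.Agent.Lib.Helper44

open Module QuadraticMap Polynomial

/-- elements fixed by the `card F`-power map lie in the image of `F` -/
theorem mem_range_of_pow_card_eq {F K : Type*} [Field F] [Fintype F] [Field K] [Algebra F K] (x : K)
    (hx : x ^ (Fintype.card F) = x) : x ∈ Set.range (algebraMap F K) := by
  classical
  by_contra hcon
  have hq : 1 < Fintype.card F := Fintype.one_lt_card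
  set P : K[X] := X ^ (Fintype.card F) - X with hP
  have hdeg : P.natDegree = Fintype.card F := FiniteField.X_pow_card_sub_X_natDegree_eq K hq
  have hP0 : P ≠ 0 := FiniteField.X_pow_card_sub_X_ne_zero K hq
  have hroot : ∀ y : K, y ^ (Fintype.card F) = y → y ∈ P.roots.toFinset := by
    intro y hy
    rw [Multiset.mem_toFinset, mem_roots hP0, IsRoot.def, hP]
    simp [hy]
  let S : Finset K := insert x (Finset.univ.image (algebraMap F K))
  have hS : S ⊆ P.roots.toFinset := by
    intro y hy
    rcases Finset.mem_insert.1 hy with rfl | hy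
    · exact hroot _ hx
    · obtain ⟨z, _, rfl⟩ := Finset.mem_image.1 hy
      apply hroot
      rw [← map_pow, FiniteField.pow_card]
  have hcardS : S.card = Fintype.card F + 1 := by
    rw [Finset.card_insert_of_notMem, Finset.card_image_of_injective _ (algebraMap F K).injective,
      Finset.card_univ]
    intro h
    obtain ⟨z, _, hz⟩ := Finset.mem_image.1 h
    exact hcon ⟨z, hz⟩
  have h1 := Finset.card_le_card hS
  have h2 := Multiset.toFinset_card_le P.roots
  have h3 := Polynomial.card_roots' P
  omega

/-- a generator of `K` over `F` adapted to the anisotropic form -/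
theorem exists_conj_root {F K : Type*} [Field F] [Fintype F] [Field K] [Fintype K] [Algebra F K] {q : ℕ}
    (hF : Fintype.card F = q) (hK : Fintype.card K = q ^ 2) (a b : F)
    (hab : ∀ z₁ z₂ : F, z₁ ^ 2 + a * z₁ * z₂ + b * z₂ ^ 2 = 0 → z₁ = 0 ∧ z₂ = 0) :
    ∃ α : K, α + α ^ q = - algebraMap F K a ∧ α * α ^ q = algebraMap F K b := by
  obtain ⟨α, β, hαβ, h1, h2⟩ := exists_two_roots hF hK (algebraMap F K) a b hab
  obtain ⟨frob, hfrob⟩ := exists_frob hK
  have hα : α ^ 2 + algebraMap F K a * α + algebraMap F K b = 0 := by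
    have : algebraMap F K a = -(α + β) := by rw [h1]; ring
    rw [this, ← h2]; ring
  have hfα : (frob α) ^ 2 + algebraMap F K a * frob α + algebraMap F K b = 0 := by
    have := congrArg frob hα
    rw [map_add, map_add, map_pow, map_mul, map_zero, hfrob (algebraMap F K a), hfrob (algebraMap F K b),
      algebraMap_pow_card hF, algebraMap_pow_card hF] at this
    exact this
  have hprod : (frob α - α) * (frob α - β) = 0 := by
    have : algebraMap F K a = -(α + β) := by rw [h1]; ring
    rw [this, ← h2] at hfα
    linear_combination hfα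
  rcases mul_eq_zero.1 hprod with h | h
  · exfalso
    have hfix : α ^ (Fintype.card F) = α := by
      rw [hF, ← hfrob]; exact sub_eq_zero.1 h
    obtain ⟨y, hy⟩ := mem_range_of_pow_card_eq α hfix
    have : y ^ 2 + a * y * 1 + b * 1 ^ 2 = 0 := by
      apply (algebraMap F K).injective
      rw [map_zero, ← hα, ← hy]
      simp only [map_add, map_mul, map_pow, map_one]
      ring
    exact one_ne_zero (hab y 1 this).2
  · have hβ : α ^ q = β := by rw [← hfrob]; exact sub_eq_zero.1 h
    exact ⟨α, by rw [hβ, h1], by rw [hβ, h2]⟩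

/-- the anisotropic binary form is the norm form in suitable coordinates -/
theorem exists_binary_coords {F K : Type*} [Field F] [Fintype F] [Field K] [Fintype K] [Algebra F K] {q : ℕ}
    (hF : Fintype.card F = q) (hK : Fintype.card K = q ^ 2) (a b : F)
    (hab : ∀ z₁ z₂ : F, z₁ ^ 2 + a * z₁ * z₂ + b * z₂ ^ 2 = 0 → z₁ = 0 ∧ z₂ = 0) :
    ∃ ψ : (Fin 2 → F) ≃ₗ[F] K, ∀ z, Algebra.norm F (ψ z) = z 0 ^ 2 + a * z 0 * z 1 + b * z 1 ^ 2 := by
  obtain ⟨α, h1, h2⟩ := exists_conj_root hF hK a b hab
  obtain ⟨frob, hfrob⟩ := exists_frob hK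
  have hfr : finrank F K = 2 := finrank_eq_two_of_card_sq hF hK
  have : FiniteDimensional F K := Module.finite_of_finrank_pos (by rw [hfr]; norm_num)
  let ψ₀ : (Fin 2 → F) →ₗ[F] K :=
    { toFun := fun z => algebraMap F K (z 0) - algebraMap F K (z 1) * α
      map_add' := by intro z w; simp only [Pi.add_apply, map_add]; ring
      map_smul' := by
        intro c z
        simp only [Pi.smul_apply, smul_eq_mul, map_mul, RingHom.id_apply, Algebra.smul_def]; ring }
  have hψ₀ : ∀ z, ψ₀ z = algebraMap F K (z 0) - algebraMap F K (z 1) * α := fun z => rfl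
  have hnorm : ∀ z, Algebra.norm F (ψ₀ z) = z 0 ^ 2 + a * z 0 * z 1 + b * z 1 ^ 2 := by
    intro z
    apply (algebraMap F K).injective
    rw [norm_eq_mul_pow hF hK, hψ₀, ← hfrob, map_sub, map_mul, hfrob, hfrob, hfrob,
      algebraMap_pow_card hF, algebraMap_pow_card hF]
    simp only [map_add, map_mul, map_pow]
    have ha : algebraMap F K a = -(α + α ^ q) := by rw [h1]; ring
    rw [ha, ← h2]
    ring
  have hinj : Function.Injective ψ₀ := by
    rw [← LinearMap.ker_eq_bot, LinearMap.ker_eq_bot']
    intro z hz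
    have := hnorm z
    rw [hz, Algebra.norm_zero] at this
    have h := hab (z 0) (z 1) this.symm
    funext i
    fin_cases i
    · exact h.1
    · exact h.2
  refine ⟨LinearMap.linearEquivOfInjective ψ₀ hinj (by rw [hfr]; simp), fun z => ?_⟩
  rw [LinearMap.linearEquivOfInjective_apply]
  exact hnorm z

end Cfsg.Agent.Lib.Helper44
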