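import Mathlib
import Cfsg.Agent.Lib.Helper44.Minus
import Cfsg.Agent.Lib.Helper44.Transport
import Cfsg.Agent.Lib.Helper61.DihedralLift

/-!
# `GO₂⁻(q)` is dihedral of order `2(q+1)`: isometries of the norm form of `F_{q²}/F_q`
-/

set_option autoImplicit false

namespace Cfsg.Agent.Lib.Helper44

section normIso

set_option linter.unusedSectionVars false

variable {F K : Type*} [Field F] [Fintype F] [Field K] [Fintype K] [Algebra F K] {q : ℕ}

/-- multiplication by a unit as an `F`-linear automorphism of `K` -/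
def mulLin (F : Type*) {K : Type*} [Field F] [Field K] [Algebra F K] (u : Kˣ) : K ≃ₗ[F] K where
  toFun y := (u : K) * y
  invFun y := ((u⁻¹ : Kˣ) : K) * y
  map_add' := mul_add _
  map_smul' c y := by simp
  left_inv y := by simp
  right_inv y := by simp

lemma mulLin_apply (u : Kˣ) (y : K) : mulLin F u y = (u : K) * y := rfl

/-- multiplication by units as a group hom -/
def mulLinHom (F : Type*) {K : Type*} [Field F] [Field K] [Algebra F K] : Kˣ →* (K ≃ₗ[F] K) where
  toFun := mulLin F
  map_one' := by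
    apply LinearEquiv.ext
    intro y
    simp [mulLin_apply]
  map_mul' u v := by
    apply LinearEquiv.ext
    intro y
    simp [mulLin_apply, mul_assoc]

lemma mulLinHom_injective : Function.Injective (mulLinHom F (K := K)) := by
  intro u v h
  have h1 := congrArg (fun g : K ≃ₗ[F] K => g 1) h
  apply Units.ext
  simpa [mulLinHom, mulLin_apply] using h1

/-- the `q`-power map as an `F`-linear automorphism of `K` -/
def frobLin (hF : Fintype.card F = q) (hK : Fintype.card K = q ^ 2) (frob : K →+* K)
    (hfrob : ∀ x, frob x = x ^ q) : K ≃ₗ[F] K where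
  toFun := frob
  invFun := frob
  map_add' := map_add frob
  map_smul' c y := by
    rw [Algebra.smul_def, map_mul, hfrob (algebraMap F K c), algebraMap_pow_card hF,
      RingHom.id_apply, Algebra.smul_def]
  left_inv y := by rw [hfrob, hfrob, pow_q_sq hK]
  right_inv y := by rw [hfrob, hfrob, pow_q_sq hK]

lemma frobLin_apply (hF : Fintype.card F = q) (hK : Fintype.card K = q ^ 2) (frob : K →+* K)
    (hfrob : ∀ x, frob x = x ^ q) (y : K) : frobLin hF hK frob hfrob y = y ^ q := hfrob y

lemma norm_eq_iff (hF : Fintype.card F = q) (hK : Fintype.card K = q ^ 2) (y z : K) :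
    Algebra.norm F y = Algebra.norm F z ↔ y * y ^ q = z * z ^ q := by
  rw [← norm_eq_mul_pow hF hK, ← norm_eq_mul_pow hF hK]
  exact ⟨fun h => by rw [h], fun h => (algebraMap F K).injective h⟩

/-- an isometry of the norm form fixing `1` maps each `y` to `y` or `y ^ q` -/
lemma isometry_fix_one_apply (hF : Fintype.card F = q) (hK : Fintype.card K = q ^ 2)
    (g : K ≃ₗ[F] K) (hg : ∀ y, Algebra.norm F (g y) = Algebra.norm F y) (h1 : g 1 = 1) (y : K) :
    g y = y ∨ g y = y ^ q := by
  obtain ⟨frob, hfrob⟩ := exists_frob hK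
  have e1 : g y * g y ^ q = y * y ^ q := (norm_eq_iff hF hK _ _).mp (hg y)
  have e2 : (g y + 1) * (g y + 1) ^ q = (y + 1) * (y + 1) ^ q := by
    have := (norm_eq_iff hF hK _ _).mp (hg (y + 1))
    rwa [map_add, h1] at this
  have e3 : ∀ z : K, (z + 1) ^ q = z ^ q + 1 := by
    intro z
    rw [← hfrob, map_add, map_one, hfrob]
  rw [e3, e3] at e2
  have e4 : g y + g y ^ q = y + y ^ q := by linear_combination e2 - e1
  have e5 : (g y - y) * (g y - y ^ q) = 0 := by
    linear_combination g y * e4 - e1
  rcases mul_eq_zero.mp e5 with h | h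
  · left
    exact sub_eq_zero.mp h
  · right
    exact sub_eq_zero.mp h

/-- an isometry of the norm form fixing `1` is the identity or the Frobenius -/
lemma isometry_fix_one (hF : Fintype.card F = q) (hK : Fintype.card K = q ^ 2) (frob : K →+* K)
    (hfrob : ∀ x, frob x = x ^ q)
    (g : K ≃ₗ[F] K) (hg : ∀ y, Algebra.norm F (g y) = Algebra.norm F y) (h1 : g 1 = 1) :
    g = 1 ∨ g = frobLin hF hK frob hfrob := by
  have key := isometry_fix_one_apply hF hK g hg h1
  by_cases hA : ∀ y, g y = y
  · left
    apply LinearEquiv.ext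
    intro y
    exact hA y
  by_cases hB : ∀ y, g y = y ^ q
  · right
    apply LinearEquiv.ext
    intro y
    rw [frobLin_apply]
    exact hB y
  exfalso
  simp only [not_forall] at hA hB
  obtain ⟨u, hu⟩ := hA
  obtain ⟨v, hv⟩ := hB
  have hu' : g u = u ^ q := (key u).resolve_left hu
  have hv' : g v = v := (key v).resolve_right hv
  have hadd : (u + v) ^ q = u ^ q + v ^ q := by
    rw [← hfrob, map_add, hfrob, hfrob]
  rcases key (u + v) with h | h
  · rw [map_add, hu', hv'] at h
    apply hu
    rw [hu']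
    exact add_right_cancel h
  · rw [map_add, hu', hv', hadd] at h
    apply hv
    rw [hv']
    exact add_left_cancel h

/-- the isometry group of the norm form of `F_{q²}/F_q` is dihedral of order `2(q+1)` -/
theorem normIsometry_equiv_dihedral (hF : Fintype.card F = q) (hK : Fintype.card K = q ^ 2) :
    Nonempty (↥(absIsometryGroup F (fun y : K => Algebra.norm F y)) ≃* DihedralGroup (q + 1)) := by
  classical
  have hq : 2 ≤ q := by
    rw [← hF]
    exact Fintype.one_lt_card
  obtain ⟨frob, hfrob⟩ := exists_frob hK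
  -- a generator of the norm-one group
  obtain ⟨γ, hγ⟩ := IsCyclic.exists_monoid_generator (α := Kˣ)
  have hγord : orderOf γ = q ^ 2 - 1 := by
    have h1 : orderOf γ = Nat.card Kˣ := by
      apply orderOf_eq_card_of_forall_mem_zpowers
      intro y
      exact Submonoid.powers_le_zpowers γ (hγ y)
    rw [h1, Nat.card_eq_fintype_card, Fintype.card_units, hK]
  have hfac : q ^ 2 - 1 = (q - 1) * (q + 1) := by
    obtain ⟨k, rfl⟩ : ∃ k, q = k + 1 := ⟨q - 1, by omega⟩
    simp only [Nat.add_sub_cancel]
    have : (k + 1) ^ 2 = k * (k + 1 + 1) + 1 := by ring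
    rw [this, Nat.add_sub_cancel]
  set ζ : Kˣ := γ ^ (q - 1) with hζ
  have hζord : orderOf ζ = q + 1 := by
    rw [hζ, orderOf_pow_of_dvd (by omega) (by rw [hγord, hfac]; exact dvd_mul_right _ _), hγord,
      hfac, Nat.mul_div_cancel_left _ (by omega : 0 < q - 1)]
  have hζgen : ∀ u : Kˣ, u ^ (q + 1) = 1 → u ∈ Subgroup.zpowers ζ := by
    intro u hu
    obtain ⟨j, rfl⟩ := hγ u
    rw [← pow_mul] at hu
    have h1 : orderOf γ ∣ j * (q + 1) := orderOf_dvd_of_pow_eq_one hu
    rw [hγord, hfac] at h1
    have h2 : q - 1 ∣ j := Nat.dvd_of_mul_dvd_mul_right (by omega : 0 < q + 1) h1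
    obtain ⟨i, rfl⟩ := h2
    refine ⟨(i : ℤ), ?_⟩
    show (γ ^ (q - 1)) ^ (i : ℤ) = γ ^ ((q - 1) * i)
    rw [zpow_natCast, ← pow_mul]
  have hζ1 : ((ζ : Kˣ) : K) ^ (q + 1) = 1 := by
    rw [← hζord, ← Units.val_pow_eq_pow_val, pow_orderOf_eq_one, Units.val_one]
  -- the group
  set N : K → F := fun y : K => Algebra.norm F y with hN
  have hxmem : mulLin F ζ ∈ absIsometryGroup F N := by
    intro y
    rw [hN]
    show Algebra.norm F ((ζ : K) * y) = Algebra.norm F y
    rw [norm_eq_iff hF hK, mul_pow]
    have : (ζ : K) * ((ζ : K) ^ q) = 1 := by rw [← pow_succ', hζ1]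
    calc (ζ : K) * y * ((ζ : K) ^ q * y ^ q) = ((ζ : K) * ((ζ : K) ^ q)) * (y * y ^ q) := by ring
      _ = y * y ^ q := by rw [this, one_mul]
  have hsmem : frobLin hF hK frob hfrob ∈ absIsometryGroup F N := by
    intro y
    rw [hN]
    show Algebra.norm F (frobLin hF hK frob hfrob y) = Algebra.norm F y
    rw [frobLin_apply, norm_eq_iff hF hK, pow_q_sq hK, mul_comm]
  let x : ↥(absIsometryGroup F N) := ⟨mulLin F ζ, hxmem⟩
  let s : ↥(absIsometryGroup F N) := ⟨frobLin hF hK frob hfrob, hsmem⟩
  have hxz : ∀ k : ℤ, ((x ^ k : ↥(absIsometryGroup F N)) : K ≃ₗ[F] K) = mulLin F (ζ ^ k) := by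
    intro k
    rw [Subgroup.coe_zpow]
    exact (map_zpow (mulLinHom F (K := K)) ζ k).symm
  have hxord : orderOf x = q + 1 := by
    rw [← hζord, ← orderOf_injective (mulLinHom F (K := K)) mulLinHom_injective ζ]
    exact (Subgroup.orderOf_coe x).symm
  have hs : s * s = 1 := by
    apply Subtype.ext
    apply LinearEquiv.ext
    intro y
    show frobLin hF hK frob hfrob (frobLin hF hK frob hfrob y) = y
    rw [frobLin_apply, frobLin_apply, pow_q_sq hK]
  have hsx : s * x * s = x⁻¹ := by
    apply eq_inv_of_mul_eq_one_left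
    apply Subtype.ext
    apply LinearEquiv.ext
    intro y
    show frobLin hF hK frob hfrob (mulLin F ζ (frobLin hF hK frob hfrob (mulLin F ζ y))) = y
    rw [frobLin_apply, mulLin_apply, frobLin_apply, mulLin_apply, mul_pow, pow_q_sq hK]
    calc (ζ : K) ^ q * ((ζ : K) * y) = ((ζ : K) ^ (q + 1)) * y := by ring
      _ = y := by rw [hζ1, one_mul]
  have hns : s ∉ Subgroup.zpowers x := by
    intro hmem
    obtain ⟨k, hk⟩ := Subgroup.mem_zpowers_iff.mp hmem
    have h1 : mulLin F (ζ ^ k) = frobLin hF hK frob hfrob := by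
      rw [← hxz k, hk]
    have h2 : ((ζ ^ k : Kˣ) : K) = 1 := by
      have := congrArg (fun g : K ≃ₗ[F] K => g 1) h1
      simpa [mulLin_apply, frobLin_apply] using this
    have h3 : ∀ y : K, y ^ q = y := by
      intro y
      have := congrArg (fun g : K ≃ₗ[F] K => g y) h1
      simp only [mulLin_apply, frobLin_apply, h2, one_mul] at this
      exact this.symm
    have h4 : Function.Surjective (algebraMap F K) := by
      intro y
      exact mem_range_of_pow_card_eq y (by rw [hF]; exact h3 y)
    have h5 := Fintype.card_le_of_surjective _ h4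
    rw [hF, hK] at h5
    nlinarith
  have hgen : Subgroup.closure ({s, x} : Set ↥(absIsometryGroup F N)) = ⊤ := by
    rw [eq_top_iff]
    intro g _
    have hsC : s ∈ Subgroup.closure ({s, x} : Set ↥(absIsometryGroup F N)) :=
      Subgroup.subset_closure (Set.mem_insert _ _)
    have hxC : x ∈ Subgroup.closure ({s, x} : Set ↥(absIsometryGroup F N)) :=
      Subgroup.subset_closure (Set.mem_insert_of_mem _ rfl)
    have hg : ∀ y, Algebra.norm F ((g : K ≃ₗ[F] K) y) = Algebra.norm F y := g.2
    set l : K := (g : K ≃ₗ[F] K) 1 with hl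
    have hl1 : l ^ (q + 1) = 1 := by
      have h1 := (norm_eq_iff hF hK _ _).mp (hg 1)
      rw [← hl, one_pow, mul_one, ← pow_succ'] at h1
      exact h1
    have hl0 : l ≠ 0 := by
      intro h0
      rw [h0, zero_pow (by omega)] at hl1
      exact zero_ne_one hl1
    obtain ⟨k, hk⟩ := hζgen (Units.mk0 l hl0) (by
      apply Units.ext
      rw [Units.val_pow_eq_pow_val, Units.val_mk0, hl1, Units.val_one])
    have hk' : ((ζ ^ k : Kˣ) : K) = l := by
      have := congrArg Units.val hk
      simpa using this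
    set g' : ↥(absIsometryGroup F N) := x ^ (-k) * g with hg'
    have hg'1 : (g' : K ≃ₗ[F] K) 1 = 1 := by
      rw [hg', Subgroup.coe_mul, hxz, LinearEquiv.mul_apply, mulLin_apply, ← hl, ← hk',
        ← Units.val_mul, ← zpow_add, neg_add_cancel, zpow_zero, Units.val_one]
    have hgg : g = x ^ k * g' := by
      rw [hg', ← mul_assoc, ← zpow_add, add_neg_cancel, zpow_zero, one_mul]
    rcases isometry_fix_one hF hK frob hfrob (g' : K ≃ₗ[F] K) g'.2 hg'1 with h | h
    · have : g' = 1 := Subtype.ext h
      rw [hgg, this, mul_one]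
      exact Subgroup.zpow_mem _ hxC k
    · have : g' = s := Subtype.ext h
      rw [hgg, this]
      exact Subgroup.mul_mem _ (Subgroup.zpow_mem _ hxC k) hsC
  have e := Cfsg.Agent.Lib.Helper61.dihedralEquiv s x hs hsx hns hgen
  rw [hxord] at e
  exact ⟨e.symm⟩

end normIso

end Cfsg.Agent.Lib.Helper44
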