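import Mathlib
import Cfsg.Prelude.Def_GeometricClasses

set_option autoImplicit false
open scoped MatrixGroups
open Matrix

/-! Definitions for S5977 / S5978 (helper44): field-extension subgroups `O_d(q²)` of `Ω^±_{2d}(q)`, `q` odd. -/

namespace Cfsg.Agent.Lib.Helper44.Oc

universe v

variable {F : Type v} [Field F] {ι : Type} [Fintype ι] [DecidableEq ι]

/-- `J` is self-adjoint for the polar form of `Q` and `J² = δ` -/
def IsJ (Q : (ι → F) → F) (δ : F) (J : Matrix ι ι F) : Prop :=
  J * J = δ • (1 : Matrix ι ι F) ∧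
    ∀ u v : ι → F, QuadraticMap.polar Q (J *ᵥ u) v = QuadraticMap.polar Q u (J *ᵥ v)

end Cfsg.Agent.Lib.Helper44.Oc
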