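import Mathlib
import Cfsg.Agent.Lib.Helper2.BGLin

/-!
# Rational bases for semisimple operators

Let `f` be an operator on a finite-dimensional `F`-space killed by a squarefree polynomial `P` all of
whose monic irreducible factors have coefficients in a subfield `F₀`.  Then there is a basis in which
the matrix of `f` has entries in `F₀` (`exists_rational_family`, `exists_rational_basis`).
-/

set_option autoImplicit false
open Polynomial Module

namespace Cfsg.Agent.Lib.Helper44.Sfr

open Cfsg.Agent.Lib.Helper2.BG

universe v w
variable {F : Type v} [Field F] {V : Type w} [AddCommGroup V] [Module F V]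

/-- a nonzero vector of an invariant subspace killed by a product has a nonzero multiple killed by one
of the factors -/
theorem exists_factor_kill (f : Module.End F V) (W : Submodule F V) (hW : Inv f W) :
    ∀ (s : Multiset F[X]) (w : V), w ∈ W → w ≠ 0 → aeval f s.prod w = 0 →
      ∃ g ∈ s, ∃ v ∈ W, v ≠ 0 ∧ aeval f g v = 0 := by
  intro s
  induction s using Multiset.induction_on with
  | empty =>
    intro w _ hw0 hw
    simp at hw
    exact absurd hw hw0
  | cons a s ih =>
    intro w hwW hw0 hw
    rw [Multiset.prod_cons, map_mul, Module.End.mul_apply] at hw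
    by_cases h0 : aeval f s.prod w = 0
    · obtain ⟨g, hg, v, hv, hv0, hgv⟩ := ih w hwW hw0 h0
      exact ⟨g, Multiset.mem_cons_of_mem hg, v, hv, hv0, hgv⟩
    · exact ⟨a, Multiset.mem_cons_self a s, _, hW.aeval _ w hwW, h0, hw⟩

/-- the iterates of a vector killed by an irreducible polynomial are linearly independent -/
theorem linearIndependent_pow_apply (f : Module.End F V) (g : F[X]) (hg : Irreducible g) (v : V)
    (hv0 : v ≠ 0) (hgv : aeval f g v = 0) :
    LinearIndependent F (fun i : Fin g.natDegree => (f ^ (i : ℕ)) v) := by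
  rw [Fintype.linearIndependent_iff]
  intro c hc
  set Q : F[X] := ∑ i : Fin g.natDegree, C (c i) * X ^ (i : ℕ) with hQ
  have hQv : aeval f Q v = 0 := by
    rw [hQ, map_sum, LinearMap.sum_apply, ← hc]
    refine Finset.sum_congr rfl fun i _ => ?_
    rw [map_mul, aeval_C, map_pow, aeval_X, Module.End.mul_apply, Module.algebraMap_end_apply]
  have hdeg : Q.degree < g.degree := by
    rw [Polynomial.degree_eq_natDegree hg.ne_zero]
    exact Polynomial.degree_sum_fin_lt c
  have hQ0 : Q = 0 := by
    by_contra hne
    have hnd : ¬ g ∣ Q := fun hd => hne (Polynomial.eq_zero_of_dvd_of_degree_lt hd hdeg)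
    obtain ⟨a, b, hab⟩ := (hg.coprime_iff_not_dvd).2 hnd
    have h1 : aeval f (a * g + b * Q) v = v := by rw [hab]; simp
    rw [map_add, map_mul, map_mul, LinearMap.add_apply, Module.End.mul_apply, Module.End.mul_apply,
      hgv, hQv, map_zero, map_zero, add_zero] at h1
    exact hv0 h1.symm
  intro j
  have hcoeff : Q.coeff (j : ℕ) = c j := by
    rw [hQ, Polynomial.finsetSum_coeff]
    rw [Finset.sum_eq_single j]
    · simp
    · intro i _ hij
      rw [Polynomial.coeff_C_mul, Polynomial.coeff_X_pow, if_neg, mul_zero]
      intro h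
      exact hij (Fin.ext h.symm)
    · intro h; exact absurd (Finset.mem_univ j) h
  rw [← hcoeff, hQ0, Polynomial.coeff_zero]

/-- the top iterate in terms of the lower ones -/
theorem pow_natDegree_apply (f : Module.End F V) (g : F[X]) (hgm : g.Monic) (v : V)
    (hgv : aeval f g v = 0) :
    (f ^ g.natDegree) v = ∑ i : Fin g.natDegree, (-(g.coeff (i : ℕ))) • (f ^ (i : ℕ)) v := by
  have h1 := hgm.as_sum
  have h2 : aeval f g v = (f ^ g.natDegree) v +
      ∑ i : Fin g.natDegree, (g.coeff (i : ℕ)) • (f ^ (i : ℕ)) v := by
    conv_lhs => rw [h1]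
    rw [map_add, map_pow, aeval_X, LinearMap.add_apply, map_sum, LinearMap.sum_apply,
      Finset.sum_range]
    congr 1
    refine Finset.sum_congr rfl fun i _ => ?_
    rw [map_mul, aeval_C, map_pow, aeval_X, Module.End.mul_apply, Module.algebraMap_end_apply]
  rw [hgv] at h2
  have h3 : (f ^ g.natDegree) v = -∑ i : Fin g.natDegree, (g.coeff (i : ℕ)) • (f ^ (i : ℕ)) v :=
    eq_neg_of_add_eq_zero_left h2.symm
  rw [h3, ← Finset.sum_neg_distrib]
  refine Finset.sum_congr rfl fun i _ => ?_
  rw [neg_smul]

variable [FiniteDimensional F V]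

/-- the inductive statement: every invariant subspace has a rational spanning family -/
theorem exists_rational_family (F₀ : Subfield F) (f : Module.End F V)
    (P : F[X]) (hP : Squarefree P) (hPf : aeval f P = 0)
    (hfac : ∀ g : F[X], Irreducible g → g.Monic → g ∣ P → ∃ g₀ : F₀[X], g₀.map F₀.subtype = g) :
    ∀ (d : ℕ) (W : Submodule F V), Module.finrank F W = d → Inv f W →
      ∃ (ι : Type) (_ : Fintype ι) (_ : DecidableEq ι) (b : ι → V), LinearIndependent F b ∧
        Submodule.span F (Set.range b) = W ∧
        ∀ j, ∃ a : ι → F₀, f (b j) = ∑ i, ((a i : F₀) : F) • b i := by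
  classical
  have hss : f.IsSemisimple := Module.End.isSemisimple_of_squarefree_aeval_eq_zero hP hPf
  have hP0 : P ≠ 0 := hP.ne_zero
  intro d
  induction d using Nat.strong_induction_on with
  | _ d ih =>
    intro W hWd hW
    by_cases hbot : W = ⊥
    · refine ⟨Empty, inferInstance, inferInstance, fun e => e.elim, linearIndependent_empty_type, ?_,
        fun j => j.elim⟩
      rw [hbot]
      simp
    · obtain ⟨w, hwW, hw0⟩ := Submodule.exists_mem_ne_zero_of_ne_bot hbot
      set s := UniqueFactorizationMonoid.normalizedFactors P with hs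
      have hsprod : Associated s.prod P := UniqueFactorizationMonoid.prod_normalizedFactors hP0
      have hkill : aeval f s.prod w = 0 := by
        obtain ⟨u, hu⟩ := hsprod.symm
        rw [← hu, map_mul, hPf, zero_mul, LinearMap.zero_apply]
      obtain ⟨g, hgs, v, hvW, hv0, hgv⟩ := exists_factor_kill f W hW s w hwW hw0 hkill
      have hgirr : Irreducible g := UniqueFactorizationMonoid.irreducible_of_normalized_factor g hgs
      have hgdvd : g ∣ P := UniqueFactorizationMonoid.dvd_of_mem_normalizedFactors hgs
      have hgm : g.Monic := by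
        have hn : normalize g = g := UniqueFactorizationMonoid.normalize_normalized_factor g hgs
        rw [← hn]
        exact Polynomial.monic_normalize hgirr.ne_zero
      obtain ⟨g₀, hg₀⟩ := hfac g hgirr hgm hgdvd
      set dg := g.natDegree with hdg
      have hdgpos : 0 < dg := Polynomial.natDegree_pos_iff_degree_pos.2
        (Polynomial.degree_pos_of_irreducible hgirr)
      set bZ : Fin dg → V := fun i => (f ^ (i : ℕ)) v with hbZ
      have hliZ : LinearIndependent F bZ := linearIndependent_pow_apply f g hgirr v hv0 hgv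
      -- the matrix of `f` on the family `bZ`
      have hfZ : ∀ j : Fin dg, ∃ a : Fin dg → F₀, f (bZ j) = ∑ i, ((a i : F₀) : F) • bZ i := by
        intro j
        by_cases hj : (j : ℕ) + 1 < dg
        · refine ⟨fun i => if i = ⟨(j : ℕ) + 1, hj⟩ then 1 else 0, ?_⟩
          rw [Finset.sum_eq_single (⟨(j : ℕ) + 1, hj⟩ : Fin dg)]
          · simp only [if_true, OneMemClass.coe_one, one_smul, hbZ]
            rw [pow_succ', Module.End.mul_apply]
          · intro i _ hi
            simp only [if_neg hi, ZeroMemClass.coe_zero, zero_smul]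
          · intro h; exact absurd (Finset.mem_univ _) h
        · have hjd : (j : ℕ) + 1 = dg := by have := j.2; omega
          refine ⟨fun i => -(g₀.coeff (i : ℕ)), ?_⟩
          have h1 : f (bZ j) = (f ^ dg) v := by
            simp only [hbZ]
            have h2 : (f ^ dg) v = (f ^ ((j : ℕ) + 1)) v := by rw [hjd]
            rw [h2, pow_succ', Module.End.mul_apply]
          rw [h1, pow_natDegree_apply f g hgm v hgv]
          refine Finset.sum_congr rfl fun i _ => ?_
          congr 1
          have h3 : g.coeff (i : ℕ) = ((g₀.coeff (i : ℕ) : F₀) : F) := by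
            have := Polynomial.coeff_map (F₀.subtype : F₀ →+* F) (p := g₀) (i : ℕ)
            rw [hg₀] at this
            simpa using this
          rw [h3]
          simp
      set Z : Submodule F V := Submodule.span F (Set.range bZ) with hZ
      have hZinv : Inv f Z := by
        intro z hz
        rw [hZ] at hz
        refine Submodule.span_induction ?_ ?_ ?_ ?_ hz
        · rintro _ ⟨j, rfl⟩
          obtain ⟨a, ha⟩ := hfZ j
          rw [ha]
          exact Submodule.sum_mem _ fun i _ => Submodule.smul_mem _ _
            (Submodule.subset_span ⟨i, rfl⟩)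
        · simp
        · intro x y _ _ hx hy
          rw [map_add]; exact Submodule.add_mem _ hx hy
        · intro c x _ hx
          rw [map_smul]; exact Submodule.smul_mem _ _ hx
      have hZW : Z ≤ W := by
        rw [hZ, Submodule.span_le]
        rintro _ ⟨j, rfl⟩
        exact hW.pow _ v hvW
      obtain ⟨T', hT'inv, hT'W, hdisj, hsup, hfr⟩ := exists_inv_compl_in hss hZinv hW hZW
      have hZfr : Module.finrank F Z = dg := by
        rw [hZ, finrank_span_eq_card hliZ, Fintype.card_fin]
      have hlt : Module.finrank F T' < d := by omega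
      obtain ⟨ι', _, _, b', hli', hspan', hf'⟩ := ih _ hlt T' rfl hT'inv
      refine ⟨Fin dg ⊕ ι', inferInstance, inferInstance, Sum.elim bZ b', ?_, ?_, ?_⟩
      · apply LinearIndependent.sum_type hliZ hli'
        rw [hspan']
        exact hdisj
      · rw [Set.Sum.elim_range, Submodule.span_union, hspan', ← hZ, hsup]
      · rintro (j | j)
        · obtain ⟨a, ha⟩ := hfZ j
          refine ⟨Sum.elim a 0, ?_⟩
          rw [Fintype.sum_sum_type]
          simp only [Sum.elim_inl, Sum.elim_inr, Pi.zero_apply, ZeroMemClass.coe_zero, zero_smul,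
            Finset.sum_const_zero, add_zero]
          exact ha
        · obtain ⟨a, ha⟩ := hf' j
          refine ⟨Sum.elim 0 a, ?_⟩
          rw [Fintype.sum_sum_type]
          simp only [Sum.elim_inl, Sum.elim_inr, Pi.zero_apply, ZeroMemClass.coe_zero, zero_smul,
            Finset.sum_const_zero, zero_add]
          exact ha

/-- E-b: the matrix version -/
theorem exists_rational_basis (F₀ : Subfield F) {n : ℕ} (y : Matrix (Fin n) (Fin n) F)
    (P : F[X]) (hP : Squarefree P) (hPy : aeval y P = 0)
    (hfac : ∀ g : F[X], Irreducible g → g.Monic → g ∣ P → ∃ g₀ : F₀[X], g₀.map F₀.subtype = g) :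
    ∃ (ι : Type) (_ : Fintype ι) (_ : DecidableEq ι) (b : Module.Basis ι F (Fin n → F)),
      ∀ i j, ∃ m : F₀, b.repr (Matrix.mulVec y (b j)) i = (m : F) := by
  classical
  set f : Module.End F (Fin n → F) := Matrix.toLin' y with hf
  have hPf : aeval f P = 0 := by
    have h1 : f = Matrix.toLinAlgEquiv' y := rfl
    rw [h1, Polynomial.aeval_algEquiv, AlgHom.coe_comp, Function.comp_apply,
      hPy]
    simp
  obtain ⟨ι, hι, hdec, b, hli, hspan, hfb⟩ := exists_rational_family F₀ f P hP hPf hfac _ ⊤ rfl
    (inv_top f)
  refine ⟨ι, hι, hdec, Module.Basis.mk hli (by rw [hspan]), ?_⟩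
  intro i j
  obtain ⟨a, ha⟩ := hfb j
  refine ⟨a i, ?_⟩
  have h1 : Matrix.mulVec y ((Module.Basis.mk hli (by rw [hspan]) : Module.Basis ι F (Fin n → F)) j) =
      ∑ i, ((a i : F₀) : F) • (Module.Basis.mk hli (by rw [hspan]) : Module.Basis ι F (Fin n → F)) i := by
    simp only [Module.Basis.mk_apply]
    rw [← ha, hf, Matrix.toLin'_apply]
  rw [h1, Module.Basis.repr_sum_self]

end Cfsg.Agent.Lib.Helper44.Sfr
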