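import Mathlib
import Cfsg.Prelude.Def_GeometricClasses

set_option autoImplicit false
open scoped MatrixGroups
open Matrix

/-! Definitions for S5982 (helper44): subgroups of unitary type of `SL_n(q)`, `q = q₀²`. -/

namespace Cfsg.Agent.Lib.Helper44.Uf

universe v

variable {F : Type v} [Field F]

/-- the similarity group of the standard hermitian form `Σ uᵢ vᵢ^q₀` -/
abbrev HS (n : ℕ) (F : Type v) [Field F] (q₀ : ℕ) : Subgroup (GL (Fin n) F) :=
  Cfsg.Geo.similarityGroup (Cfsg.hermForm n F q₀)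

/-- spectral symmetry of a matrix: for some `c` fixed by `t ↦ t ^ q₀`, the eigenvalue multiplicities
are invariant under `μ ↦ c / μ ^ q₀` -/
def SpecSym (q₀ : ℕ) {n : ℕ} (A : Matrix (Fin n) (Fin n) F) : Prop :=
  ∃ c : F, c ≠ 0 ∧ c ^ q₀ = c ∧ ∀ μ : F, μ ≠ 0 →
    (A - μ • (1 : Matrix (Fin n) (Fin n) F)).rank
      = (A - (c / μ ^ q₀) • (1 : Matrix (Fin n) (Fin n) F)).rank

/-- the permutation-hermitian form attached to a basis and a map `ι` of the index set:
`PH(u, v) = Σᵢ uᵢ · (v_{ι i})^q₀` in coordinates -/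
noncomputable def PH (q₀ : ℕ) {I : Type} [Fintype I] {V : Type*} [AddCommGroup V] [Module F V]
    (b : Module.Basis I F V) (ι : I → I) (u v : V) : F :=
  ∑ i, b.repr u i * (b.repr v (ι i)) ^ q₀

end Cfsg.Agent.Lib.Helper44.Uf
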