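import Mathlib
import Cfsg.Agent.Lib.Helper44.Darboux

set_option autoImplicit false

/-!
Nondegenerate symmetric bilinear forms over a finite field of characteristic two: a form that is
not alternating has an orthonormal family of full size. Expansion of a vector along a family with
a dual family.
-/

namespace Cfsg.Agent.Lib.Helper44

open Module

universe u v

section chartwo

variable {F : Type v} [Field F]

/-- every element of a finite field of characteristic two is a square -/
theorem exists_sq_char_two [Fintype F] [CharP F 2] (a : F) : ∃ c : F, c * c = a := by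
  have hinj : Function.Injective (frobenius F 2) := frobenius_inj F 2
  have hsurj := Finite.injective_iff_surjective.mp hinj
  obtain ⟨c, hc⟩ := hsurj a
  exact ⟨c, by rw [← hc, frobenius_def, pow_two]⟩

theorem two_eq_zero_of_charP [CharP F 2] : (2 : F) = 0 := by
  have := CharP.cast_eq_zero F 2
  exact_mod_cast this

theorem add_self_char_two [CharP F 2] (a : F) : a + a = 0 := by
  have h2 : (2 : F) = 0 := two_eq_zero_of_charP
  linear_combination a * h2

/-- the orthogonal complement of a vector of norm one for a nondegenerate symmetric form -/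
theorem perp_norm_one {V : Type u} [AddCommGroup V] [Module F V] [FiniteDimensional F V]
    (β : LinearMap.BilinForm F V) (hs : β.IsSymm) (hnd : β.Nondegenerate) (w : V)
    (hw : β w w = 1) :
    finrank F (LinearMap.ker (β w)) + 1 = finrank F V ∧
      (β.restrict (LinearMap.ker (β w))).Nondegenerate := by
  have hU : ∀ u, u ∈ LinearMap.ker (β w) ↔ β w u = 0 := fun u => LinearMap.mem_ker
  have hsurj : LinearMap.range (β w) = ⊤ := by
    apply LinearMap.range_eq_top.mpr
    intro c
    exact ⟨c • w, by rw [map_smul, hw, smul_eq_mul, mul_one]⟩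
  constructor
  · have h1 := LinearMap.finrank_range_add_finrank_ker (β w)
    rw [hsurj, finrank_top, finrank_self] at h1
    omega
  · have hleft : (β.restrict (LinearMap.ker (β w))).SeparatingLeft := by
      intro b hb
      apply Subtype.ext
      apply hnd.1
      intro u
      have hu1 : u - β w u • w ∈ LinearMap.ker (β w) := by
        rw [hU, map_sub, map_smul, hw, smul_eq_mul, mul_one, sub_self]
      have h2 := hb ⟨u - β w u • w, hu1⟩
      simp only [LinearMap.BilinForm.restrict_apply, LinearMap.domRestrict_apply] at h2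
      have h3 : β (b : V) w = 0 := by rw [hs.eq, (hU b).mp b.2]
      rw [map_sub, map_smul, h3, smul_zero, sub_zero] at h2
      exact h2
    refine ⟨hleft, ?_⟩
    intro b hb
    apply hleft b
    intro a
    have := hb a
    simp only [LinearMap.BilinForm.restrict_apply, LinearMap.domRestrict_apply] at this ⊢
    rw [hs.eq, this]

/-- a good first vector: of norm one, with non-alternating orthogonal complement (unless the
complement is zero) -/
theorem exists_good_norm_one [Fintype F] [CharP F 2] {V : Type u} [AddCommGroup V] [Module F V]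
    [FiniteDimensional F V] (β : LinearMap.BilinForm F V) (hs : β.IsSymm) (hnd : β.Nondegenerate)
    (hna : ∃ v, β v v ≠ 0) (n : ℕ) (hfr : finrank F V = n + 1) :
    ∃ w, β w w = 1 ∧ (0 < n → ∃ u ∈ LinearMap.ker (β w), β u u ≠ 0) := by
  obtain ⟨v, hv⟩ := hna
  obtain ⟨c, hc⟩ := exists_sq_char_two (β v v)
  have hc0 : c ≠ 0 := by
    rintro rfl
    rw [mul_zero] at hc
    exact hv hc.symm
  set w₁ : V := c⁻¹ • v with hw₁
  have h11 : β w₁ w₁ = 1 := by
    simp only [hw₁, map_smul, LinearMap.smul_apply, smul_eq_mul, ← hc]
    field_simp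
  by_cases hex : ∃ u ∈ LinearMap.ker (β w₁), β u u ≠ 0
  · exact ⟨w₁, h11, fun _ => hex⟩
  · push Not at hex
    by_cases hn : 0 < n
    · obtain ⟨hfrU, hndU⟩ := perp_norm_one β hs hnd w₁ h11
      have hU : ∀ u, u ∈ LinearMap.ker (β w₁) ↔ β w₁ u = 0 := fun u => LinearMap.mem_ker
      have : Nontrivial (LinearMap.ker (β w₁)) :=
        Module.nontrivial_of_finrank_pos (R := F) (by omega)
      obtain ⟨e₀, he₀⟩ := exists_ne (0 : LinearMap.ker (β w₁))
      have hexf : ∃ f' : LinearMap.ker (β w₁), β (e₀ : V) (f' : V) ≠ 0 := by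
        by_contra hcon
        push Not at hcon
        exact he₀ (hndU.1 e₀ hcon)
      obtain ⟨f', hf'⟩ := hexf
      set f₀ : V := (β (e₀ : V) (f' : V))⁻¹ • (f' : V) with hf₀
      have hf₀U : f₀ ∈ LinearMap.ker (β w₁) := Submodule.smul_mem _ _ f'.2
      have h01 : β (e₀ : V) f₀ = 1 := by
        rw [hf₀, map_smul, smul_eq_mul, inv_mul_cancel₀ hf']
      have hwe : β w₁ (e₀ : V) = 0 := (hU _).mp e₀.2
      have hew : β (e₀ : V) w₁ = 0 := by rw [hs.eq, hwe]
      have hwf : β w₁ f₀ = 0 := (hU _).mp hf₀U
      have hfw : β f₀ w₁ = 0 := by rw [hs.eq, hwf]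
      have hee : β (e₀ : V) (e₀ : V) = 0 := hex _ e₀.2
      have hff : β f₀ f₀ = 0 := hex _ hf₀U
      refine ⟨w₁ + (e₀ : V), ?_, fun _ => ⟨w₁ + f₀, ?_, ?_⟩⟩
      · simp only [map_add, LinearMap.add_apply, h11, hwe, hew, hee]
        ring
      · rw [LinearMap.mem_ker]
        simp only [map_add, LinearMap.add_apply, h11, hwf, hew, h01, add_zero, zero_add]
        exact add_self_char_two 1
      · simp only [map_add, LinearMap.add_apply, h11, hwf, hfw, hff, add_zero]
        exact one_ne_zero
    · exact ⟨w₁, h11, fun h => absurd h hn⟩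

/-- a nondegenerate symmetric bilinear form that is not alternating, over a finite field of
characteristic two, has an orthonormal family of full size -/
theorem orthonormal_family_char_two [Fintype F] [CharP F 2] : ∀ (n : ℕ) (V : Type u)
    [AddCommGroup V] [Module F V] [FiniteDimensional F V] (β : LinearMap.BilinForm F V),
    β.IsSymm → β.Nondegenerate → (0 < n → ∃ v, β v v ≠ 0) → finrank F V = n →
    ∃ e : Fin n → V, ∀ i j, β (e i) (e j) = if i = j then 1 else 0 := by
  intro n
  induction n with
  | zero =>
    intro V _ _ _ β _ _ _ _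
    exact ⟨Fin.elim0, fun i => i.elim0⟩
  | succ n ih =>
    intro V _ _ _ β hs hnd hna hfr
    obtain ⟨w, hw, hgood⟩ := exists_good_norm_one β hs hnd (hna (Nat.succ_pos n)) n hfr
    obtain ⟨hfrU, hndU⟩ := perp_norm_one β hs hnd w hw
    have hU : ∀ u, u ∈ LinearMap.ker (β w) ↔ β w u = 0 := fun u => LinearMap.mem_ker
    have hnaU : 0 < n → ∃ v : LinearMap.ker (β w), (β.restrict (LinearMap.ker (β w))) v v ≠ 0 := by
      intro hn
      obtain ⟨u, hu, huu⟩ := hgood hn
      exact ⟨⟨u, hu⟩, huu⟩
    obtain ⟨e', he'⟩ := ih (LinearMap.ker (β w)) (β.restrict (LinearMap.ker (β w)))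
      (hs.restrict _) hndU hnaU (by omega)
    have he'' : ∀ i j, β (e' i : V) (e' j : V) = if i = j then 1 else 0 := he'
    refine ⟨Fin.cons w (fun i => (e' i : V)), ?_⟩
    intro i j
    refine Fin.cases ?_ (fun i' => ?_) i <;> refine Fin.cases ?_ (fun j' => ?_) j
    · simp [hw]
    · have h3 : β w (e' j') = 0 := (hU _).mp (e' j').2
      simpa [Fin.cons_succ, Fin.cons_zero, (Fin.succ_ne_zero j').symm] using h3
    · have h3 : β (e' i' : V) w = 0 := by rw [hs.eq]; exact (hU _).mp (e' i').2
      simpa [Fin.cons_succ, Fin.cons_zero, Fin.succ_ne_zero i'] using h3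
    · have h3 := he'' i' j'
      simpa [Fin.cons_succ, Fin.succ_inj] using h3

/-- expansion along a family with a dual family, in a space of the right dimension -/
theorem dual_family_expansion {V : Type u} [AddCommGroup V] [Module F V] [FiniteDimensional F V]
    (β : LinearMap.BilinForm F V) {κ : Type*} [Fintype κ] [DecidableEq κ]
    (hfr : finrank F V = Fintype.card κ) (c d : κ → V)
    (hcd : ∀ k l, β (c k) (d l) = if k = l then 1 else 0) :
    LinearIndependent F c ∧ ∀ v, v = ∑ k, β v (d k) • c k := by
  classical
  let L : V →ₗ[F] (κ → F) := LinearMap.pi (fun k => β.flip (d k))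
  have hL : ∀ u k, L u k = β u (d k) := fun u k => rfl
  have hLsum : ∀ w : κ → F, L (∑ k, w k • c k) = w := by
    intro w
    funext l
    rw [hL, map_sum, LinearMap.sum_apply]
    simp only [map_smul, LinearMap.smul_apply, hcd, smul_eq_mul, mul_ite, mul_one, mul_zero]
    simp
  have hsurj : Function.Surjective L := fun w => ⟨_, hLsum w⟩
  have hinj : Function.Injective L :=
    (LinearMap.injective_iff_surjective_of_finrank_eq_finrank
      (by rw [hfr, Module.finrank_fintype_fun_eq_card])).mpr hsurj
  constructor
  · rw [Fintype.linearIndependent_iff]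
    intro g hg k
    have := congrArg (fun v => L v k) hg
    simp only [hLsum, map_zero, Pi.zero_apply] at this
    exact this
  · intro v
    apply hinj
    rw [hLsum]
    rfl

/-- a space with a nondegenerate alternating form has even dimension -/
theorem alt_finrank_even : ∀ (n : ℕ) (V : Type u) [AddCommGroup V] [Module F V]
    [FiniteDimensional F V] (ω : LinearMap.BilinForm F V), ω.IsAlt → ω.Nondegenerate →
    finrank F V = n → ∃ N, n = 2 * N := by
  intro n
  induction n using Nat.strong_induction_on with
  | _ n ih =>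
    intro V _ _ _ ω halt hnd hfr
    rcases Nat.eq_zero_or_pos n with h0 | hpos
    · exact ⟨0, h0⟩
    have hanti : ∀ x y, ω x y = - ω y x := fun x y => by rw [halt.neg_eq]
    have hposV : 0 < finrank F V := by omega
    have : Nontrivial V := Module.finrank_pos_iff.1 hposV
    obtain ⟨e₀, he₀⟩ := exists_ne (0 : V)
    have hex : ∃ f', ω e₀ f' ≠ 0 := by
      by_contra hcon
      push Not at hcon
      exact he₀ (hnd.1 e₀ hcon)
    obtain ⟨f', hf'⟩ := hex
    set f₀ : V := (ω e₀ f')⁻¹ • f' with hf₀
    have h01 : ω e₀ f₀ = 1 := by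
      rw [hf₀, map_smul, smul_eq_mul, inv_mul_cancel₀ hf']
    have h10 : ω f₀ e₀ = -1 := by rw [hanti, h01]
    let L : V →ₗ[F] F × F := (ω e₀).prod (ω f₀)
    let U : Submodule F V := LinearMap.ker L
    have hU : ∀ u : V, u ∈ U ↔ ω e₀ u = 0 ∧ ω f₀ u = 0 := by
      intro u
      show L u = 0 ↔ _
      change ((ω e₀ u, ω f₀ u) : F × F) = 0 ↔ _
      exact Prod.mk_eq_zero
    have hLsurj : Function.Surjective L := by
      rintro ⟨x, y⟩
      refine ⟨x • f₀ - y • e₀, ?_⟩
      change ((ω e₀ (x • f₀ - y • e₀), ω f₀ (x • f₀ - y • e₀)) : F × F) = (x, y)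
      have he : ω e₀ e₀ = 0 := halt e₀
      have hf : ω f₀ f₀ = 0 := halt f₀
      simp only [map_sub, map_smul, smul_eq_mul, h01, h10, he, hf]
      ext <;> simp
    have hfrU : finrank F U + 2 = n := by
      have h1 := LinearMap.finrank_range_add_finrank_ker L
      rw [LinearMap.range_eq_top.2 hLsurj, finrank_top, Module.finrank_prod, Module.finrank_self,
        hfr] at h1
      show finrank F (LinearMap.ker L) + 2 = n
      omega
    have hdec : ∀ v : V, v - (ω v f₀) • e₀ + (ω v e₀) • f₀ ∈ U := by
      intro v
      rw [hU]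
      constructor
      · simp only [map_add, map_sub, map_smul, smul_eq_mul, halt e₀, h01, mul_zero, sub_zero,
          mul_one]
        rw [hanti v e₀]; ring
      · simp only [map_add, map_sub, map_smul, smul_eq_mul, halt f₀, h10, mul_zero, add_zero]
        rw [hanti v f₀]; ring
    have haltU : (ω.restrict U).IsAlt := fun u => halt u
    have hndU : (ω.restrict U).Nondegenerate := by
      have hleft : (ω.restrict U).SeparatingLeft := by
        intro u hu
        apply Subtype.ext
        apply hnd.1
        intro v
        have h1 := hu ⟨_, hdec v⟩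
        simp only [LinearMap.BilinForm.restrict_apply, LinearMap.domRestrict_apply] at h1
        have hu' := (hU u).1 u.2
        have e1 : ω u e₀ = 0 := by rw [hanti, hu'.1, neg_zero]
        have e2 : ω u f₀ = 0 := by rw [hanti, hu'.2, neg_zero]
        simp only [map_add, map_sub, map_smul, smul_eq_mul, e1, e2, mul_zero, sub_zero,
          add_zero] at h1
        simpa using h1
      refine ⟨hleft, ?_⟩
      intro u hu
      apply hleft u
      intro w
      have := hu w
      simp only [LinearMap.BilinForm.restrict_apply, LinearMap.domRestrict_apply] at this ⊢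
      rw [hanti, this, neg_zero]
    obtain ⟨N, hN⟩ := ih (finrank F U) (by omega) U (ω.restrict U) haltU hndU rfl
    exact ⟨N + 1, by omega⟩

/-- a nondegenerate alternating form has a symplectic family of full size -/
theorem darboux_family_exists (V : Type u) [AddCommGroup V] [Module F V]
    [FiniteDimensional F V] (ω : LinearMap.BilinForm F V) (halt : ω.IsAlt)
    (hnd : ω.Nondegenerate) :
    ∃ N, finrank F V = 2 * N ∧ ∃ e f : Fin N → V, (∀ i k, ω (e i) (e k) = 0) ∧
      (∀ i k, ω (f i) (f k) = 0) ∧ (∀ i k, ω (e i) (f k) = if i = k then 1 else 0) := by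
  obtain ⟨N, hN⟩ := alt_finrank_even (finrank F V) V ω halt hnd rfl
  exact ⟨N, hN, darboux_family N V ω halt hnd hN⟩

end chartwo

end Cfsg.Agent.Lib.Helper44
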