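import Mathlib
import Cfsg.Prelude.Def_GeometricClasses

set_option autoImplicit false
open scoped MatrixGroups Kronecker
open Matrix Polynomial

/-! Definitions for S5979 (helper44): tensor decomposition subgroups of `SL_n(q)`. -/

namespace Cfsg.Agent.Lib.Helper44.Tns

universe v

variable {F : Type v} [Field F]

/-- `x` is similar to a Kronecker product `A ⊗ B` of invertible matrices of sizes `a`, `b`
(after reindexing along `e`) -/
def IsKronSimilar (a b : ℕ) {n : ℕ} (e : Fin n ≃ Fin a × Fin b) (x : Matrix (Fin n) (Fin n) F) : Prop :=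
  ∃ (A : Matrix (Fin a) (Fin a) F) (B : Matrix (Fin b) (Fin b) F)
    (V V' : Matrix (Fin a × Fin b) (Fin a × Fin b) F),
    IsUnit A.det ∧ IsUnit B.det ∧ V * V' = 1 ∧ Matrix.reindex e e x = V * (A ⊗ₖ B) * V'

end Cfsg.Agent.Lib.Helper44.Tns
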