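import Mathlib
import Cfsg.Prelude.Def_GeometricClasses

/-!
# Centralizers of matrices with scalar square, and a reflection-type non-similarity

* `exists_commute_det`: a nonscalar matrix `x` over a finite field with `x * x = z` (`z ≠ 0`)
  commutes with matrices of every determinant.
* `not_similarity_of_reflection`: the map `u ↦ a u - 2 a φ(u) w` (`φ w = 1`) is not a similarity
  of a symplectic form in odd characteristic (dimension at least three).
-/

set_option autoImplicit false

namespace Cfsg.Agent.Lib.Helper44.SLInv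

open Module LinearMap Matrix Polynomial

universe v

section norm

variable {F : Type v} [Field F] [Fintype F]

/-- the form `α² - z β²` represents every element of a finite field -/
theorem exists_norm_eq (z δ : F) (hz : z ≠ 0) : ∃ α β : F, α ^ 2 - z * β ^ 2 = δ := by
  by_cases h : ringChar F = 2
  · obtain ⟨r, hr⟩ := FiniteField.isSquare_of_char_two h δ
    exact ⟨r, 0, by rw [hr]; ring⟩
  · have hK := FiniteField.odd_card_of_char_ne_two h
    obtain ⟨α, β, hab⟩ := FiniteField.exists_root_sum_quadratic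
      (f := (X : F[X]) ^ 2 - C δ) (g := C (-z) * X ^ 2)
      (degree_X_pow_sub_C (by decide) _) (degree_C_mul_X_pow 2 (neg_ne_zero.2 hz)) hK
    refine ⟨α, β, ?_⟩
    simp only [eval_sub, eval_pow, eval_X, eval_C, eval_mul] at hab
    linear_combination hab

end norm

section cent

variable {F : Type v} [Field F] [Fintype F]

/-- a nonscalar matrix with nonzero scalar square commutes with matrices of every determinant -/
theorem exists_commute_det {n : ℕ} (x : Matrix (Fin n) (Fin n) F) (z : F) (hz : z ≠ 0)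
    (hx : x * x = z • (1 : Matrix (Fin n) (Fin n) F))
    (hns : ∀ c : F, x ≠ c • (1 : Matrix (Fin n) (Fin n) F)) (δ : F) :
    ∃ C : Matrix (Fin n) (Fin n) F, C * x = x * C ∧ C.det = δ := by
  obtain ⟨α, β, hαβ⟩ := exists_norm_eq z δ hz
  have hv : ∃ v : Fin n → F, LinearIndependent F ![v, x *ᵥ v] := by
    by_contra hcon
    have hcon' : ∀ v, ¬ LinearIndependent F ![v, (Matrix.toLin' x) v] := by
      intro v hv
      apply hcon
      refine ⟨v, ?_⟩
      rwa [Matrix.toLin'_apply] at hv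
    obtain ⟨a, ha⟩ := LinearMap.exists_eq_smul_id_of_forall_notLinearIndependent hcon'
    apply hns a
    have h := congrArg LinearMap.toMatrix' ha
    rw [LinearMap.toMatrix'_toLin'] at h
    rw [h]
    simp
  obtain ⟨v, hv⟩ := hv
  have hXv : x *ᵥ v ∉ Submodule.span F {v} := by
    intro hmem
    obtain ⟨c, hc⟩ := Submodule.mem_span_singleton.1 hmem
    have h := (LinearIndependent.pair_iff.1 hv) c (-1)
      (by rw [hc, neg_one_smul, add_neg_cancel])
    exact one_ne_zero (neg_eq_zero.1 h.2)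
  obtain ⟨f0, hf0, hker⟩ := Submodule.exists_le_ker_of_notMem hXv
  have hxx : ∀ u : Fin n → F, x *ᵥ (x *ᵥ u) = z • u := by
    intro u
    rw [Matrix.mulVec_mulVec, hx, Matrix.smul_mulVec, Matrix.one_mulVec]
  let r : Fin n → F := fun i => (f0 (x *ᵥ v))⁻¹ * f0 (fun j => if i = j then 1 else 0)
  have hr : ∀ u : Fin n → F, r ⬝ᵥ u = (f0 (x *ᵥ v))⁻¹ * f0 u := by
    intro u
    rw [LinearMap.pi_apply_eq_sum_univ f0 u, Finset.mul_sum]
    show ∑ i, r i * u i = _
    refine Finset.sum_congr rfl (fun i _ => ?_)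
    simp only [r, smul_eq_mul]
    ring
  have hrv : r ⬝ᵥ v = 0 := by
    have h : v ∈ LinearMap.ker f0 := hker (Submodule.mem_span_singleton_self v)
    rw [hr, LinearMap.mem_ker.1 h, mul_zero]
  have hrxv : r ⬝ᵥ (x *ᵥ v) = 1 := by
    rw [hr, inv_mul_cancel₀ hf0]
  let s : Fin n → F := r ᵥ* x
  have hs : ∀ u : Fin n → F, s ⬝ᵥ u = r ⬝ᵥ (x *ᵥ u) := fun u =>
    (Matrix.dotProduct_mulVec r x u).symm
  have hsx : s ᵥ* x = z • r := by
    show (r ᵥ* x) ᵥ* x = z • r
    rw [Matrix.vecMul_vecMul, hx, Matrix.vecMul_smul, Matrix.vecMul_one]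
  let A : Matrix (Fin n) (Fin 2) F := Matrix.of (fun i k => if k = 0 then v i else (x *ᵥ v) i)
  let B : Matrix (Fin 2) (Fin n) F := Matrix.of (fun k j => if k = 0 then s j else r j)
  let M : Matrix (Fin 2) (Fin 2) F := !![0, z; 1, 0]
  let D : Matrix (Fin 2) (Fin 2) F := !![α - 1, β * z; β, α - 1]
  have hBA : B * A = 1 := by
    ext k l
    have hkl : (B * A) k l = (fun j => B k j) ⬝ᵥ (fun j => A j l) := rfl
    rw [hkl]
    fin_cases k <;> fin_cases l
    · show s ⬝ᵥ v = _
      rw [hs, hrxv]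
      rfl
    · show s ⬝ᵥ (x *ᵥ v) = _
      rw [hs, hxx, dotProduct_smul, hrv, smul_zero]
      rfl
    · show r ⬝ᵥ v = _
      rw [hrv]
      rfl
    · show r ⬝ᵥ (x *ᵥ v) = _
      rw [hrxv]
      rfl
  have hxA : x * A = A * M := by
    ext i l
    have hil : (x * A) i l = x i ⬝ᵥ (fun j => A j l) := rfl
    rw [hil, Matrix.mul_apply, Fin.sum_univ_two]
    fin_cases l
    · show x i ⬝ᵥ v = v i * (0 : F) + (x *ᵥ v) i * 1
      rw [mul_zero, zero_add, mul_one]
      rfl
    · show x i ⬝ᵥ (x *ᵥ v) = v i * z + (x *ᵥ v) i * 0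
      rw [mul_zero, add_zero]
      have h := congrFun (hxx v) i
      rw [Pi.smul_apply, smul_eq_mul] at h
      rw [mul_comm, ← h]
      rfl
  have hBx : B * x = M * B := by
    ext k j
    have hkj : (B * x) k j = ((fun i => B k i) ᵥ* x) j := rfl
    rw [hkj, Matrix.mul_apply, Fin.sum_univ_two]
    fin_cases k
    · show (s ᵥ* x) j = (0 : F) * s j + z * r j
      rw [hsx, zero_mul, zero_add]
      rfl
    · show (r ᵥ* x) j = (1 : F) * s j + 0 * r j
      rw [one_mul, zero_mul, add_zero]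
  have hDM : D * M = M * D := by
    ext k l
    fin_cases k <;> fin_cases l <;> simp [D, M, Matrix.mul_apply, Fin.sum_univ_two] <;> ring
  refine ⟨1 + A * D * B, ?_, ?_⟩
  · calc (1 + A * D * B) * x = x + A * D * (B * x) := by rw [add_mul, one_mul, Matrix.mul_assoc]
      _ = x + A * D * (M * B) := by rw [hBx]
      _ = x + A * (D * M) * B := by simp only [Matrix.mul_assoc]
      _ = x + A * (M * D) * B := by rw [hDM]
      _ = x + (A * M) * D * B := by simp only [Matrix.mul_assoc]
      _ = x + (x * A) * D * B := by rw [hxA]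
      _ = x * (1 + A * D * B) := by rw [mul_add, mul_one]; simp only [Matrix.mul_assoc]
  · rw [Matrix.mul_assoc, Matrix.det_one_add_mul_comm, Matrix.mul_assoc, hBA, Matrix.mul_one,
      Matrix.det_fin_two]
    simp only [D, Matrix.add_apply, Matrix.one_apply_eq, Matrix.of_apply, Matrix.cons_val',
      Matrix.cons_val_zero, Matrix.cons_val_one]
    simp
    linear_combination hαβ

end cent

section refl

variable {F : Type v} [Field F]

/-- In odd characteristic and dimension at least three (two independent vectors in the kernel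
of `φ`), the map `u ↦ a u - 2 a φ(u) w` with `φ w = 1` is not a similarity of a symplectic form. -/
theorem not_similarity_of_reflection {n : ℕ} (f : (Fin n → F) → (Fin n → F) → F)
    (hf : Cfsg.Geo.IsSymplecticForm f) (h2 : (2 : F) ≠ 0) (a : F) (ha : a ≠ 0)
    (w : Fin n → F) (φ : (Fin n → F) →ₗ[F] F) (hφw : φ w = 1)
    (Y : (Fin n → F) → (Fin n → F)) (hY : ∀ u, Y u = a • u - (2 * a * φ u) • w)
    (u₁ u₂ : Fin n → F) (h₁ : φ u₁ = 0) (h₂ : φ u₂ = 0)
    (hind : ∀ c₁ c₂ : F, c₁ • u₁ + c₂ • u₂ = 0 → c₁ = 0 ∧ c₂ = 0)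
    (μ : F) (hμ : ∀ u v, f (Y u) (Y v) = μ * f u v) : False := by
  let ω : LinearMap.BilinForm F (Fin n → F) :=
    LinearMap.mk₂ F f hf.bilinear.add_left (fun c x y => by rw [hf.bilinear.smul_left]; rfl)
      hf.bilinear.add_right (fun c x y => by rw [hf.bilinear.smul_right]; rfl)
  have hω : ∀ x y, f x y = ω x y := fun _ _ => rfl
  have hww : ω w w = 0 := hf.alternating w
  have hw0 : w ≠ 0 := by
    intro h
    rw [h, map_zero] at hφw
    exact zero_ne_one hφw
  have hYw : Y w = (-a) • w := by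
    rw [hY, hφw]
    module
  -- the multiplier is `-a²`
  have hμ1 : ∀ u, μ * ω u w = - (a * a) * ω u w := by
    intro u
    have h := hμ u w
    rw [hω, hω, hYw, hY] at h
    rw [← h]
    simp only [map_sub, map_smul, LinearMap.sub_apply, LinearMap.smul_apply, smul_eq_mul, hww]
    ring
  obtain ⟨u₀, hu₀⟩ := (hf.nondegenerate w hw0).1
  rw [hω] at hu₀
  have hμe : μ = - (a * a) := mul_right_cancel₀ hu₀ (hμ1 u₀)
  -- the kernel of `φ` is totally isotropic
  have hker : ∀ u v, φ u = 0 → φ v = 0 → ω u v = 0 := by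
    intro u v hu hv
    have h := hμ u v
    rw [hω, hω, hY, hY, hu, hv, hμe] at h
    simp only [mul_zero, zero_smul, sub_zero, map_smul, LinearMap.smul_apply, smul_eq_mul] at h
    have h' : (2 * (a * a)) * ω u v = 0 := by linear_combination h
    rcases mul_eq_zero.1 h' with h'' | h''
    · exact absurd h'' (mul_ne_zero h2 (mul_ne_zero ha ha))
    · exact h''
  -- a nonzero vector of the kernel orthogonal to `w`
  obtain ⟨c₁, c₂, hc, hcw⟩ : ∃ c₁ c₂ : F, (c₁ ≠ 0 ∨ c₂ ≠ 0) ∧ ω (c₁ • u₁ + c₂ • u₂) w = 0 := by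
    by_cases h : ω u₂ w = 0
    · exact ⟨0, 1, Or.inr one_ne_zero, by simp [h]⟩
    · refine ⟨ω u₂ w, - ω u₁ w, Or.inl h, ?_⟩
      simp only [map_add, map_smul, LinearMap.add_apply, LinearMap.smul_apply, smul_eq_mul]
      ring
  set u : Fin n → F := c₁ • u₁ + c₂ • u₂ with hu
  have hu0 : u ≠ 0 := by
    intro h
    have := hind c₁ c₂ h
    rcases hc with hc | hc
    · exact hc this.1
    · exact hc this.2
  have hφu : φ u = 0 := by
    rw [hu, map_add, map_smul, map_smul, h₁, h₂]
    simp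
  obtain ⟨y, hy⟩ := (hf.nondegenerate u hu0).2
  apply hy
  rw [hω]
  have hdec : y = (y - φ y • w) + φ y • w := by module
  rw [hdec, map_add, map_smul, hcw, smul_zero, add_zero]
  apply hker u _ hφu
  rw [map_sub, map_smul, hφw, smul_eq_mul, mul_one, sub_self]

end refl

section arith

variable {F : Type v} [Field F] [Fintype F]

theorem padicValNat_two_pow_mul_odd (k s : ℕ) (hs : Odd s) : padicValNat 2 (2 ^ k * s) = k := by
  have : Fact (Nat.Prime 2) := ⟨Nat.prime_two⟩
  rw [padicValNat.mul (pow_ne_zero _ two_ne_zero) (Odd.pos hs).ne', padicValNat.prime_pow,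
    padicValNat.eq_zero_of_not_dvd hs.not_two_dvd_nat, add_zero]

/-- if `v₂(q-1) ≤ v₂(n)` then `-1` is not an `n`-th power in a finite field of odd
characteristic -/
theorem pow_ne_neg_one (h2 : (2 : F) ≠ 0) {n : ℕ} (hn : n ≠ 0)
    (hle : padicValNat 2 (Fintype.card F - 1) ≤ padicValNat 2 n) (a : F) (ha : a ≠ 0) :
    a ^ n ≠ -1 := by
  have : Fact (Nat.Prime 2) := ⟨Nat.prime_two⟩
  have hq1 : Fintype.card F - 1 ≠ 0 := by
    have := Fintype.one_lt_card (α := F)
    omega
  obtain ⟨k, s, hs, hks⟩ := Nat.exists_eq_two_pow_mul_odd hq1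
  have hval : padicValNat 2 (Fintype.card F - 1) = k := by
    rw [hks, padicValNat_two_pow_mul_odd k s hs]
  have hdvd : 2 ^ k ∣ n := (padicValNat_dvd_iff_le hn).2 (hval ▸ hle)
  obtain ⟨n₁, hn₁⟩ := hdvd
  intro h
  have h1 : (a ^ n) ^ s = 1 := by
    rw [← pow_mul, hn₁, show 2 ^ k * n₁ * s = (2 ^ k * s) * n₁ by ring, pow_mul, ← hks,
      FiniteField.pow_card_sub_one_eq_one a ha, one_pow]
  rw [h, Odd.neg_one_pow hs] at h1
  apply h2
  linear_combination (-1 : F) * h1

/-- if `v₂(n) < v₂(q-1)` then `-1` is an `n`-th power -/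
theorem exists_pow_eq_neg_one {n : ℕ} (hn : n ≠ 0)
    (hlt : padicValNat 2 n < padicValNat 2 (Fintype.card F - 1)) :
    ∃ a : F, a ≠ 0 ∧ a ^ n = -1 := by
  classical
  have : Fact (Nat.Prime 2) := ⟨Nat.prime_two⟩
  obtain ⟨k, n₁, hn₁, hkn⟩ := Nat.exists_eq_two_pow_mul_odd hn
  have hvaln : padicValNat 2 n = k := by
    rw [hkn, padicValNat_two_pow_mul_odd k n₁ hn₁]
  have hq1 : Fintype.card F - 1 ≠ 0 := by
    have := Fintype.one_lt_card (α := F)
    omega
  have hdvd : 2 ^ (k + 1) ∣ Fintype.card F - 1 := (padicValNat_dvd_iff_le hq1).2 (by omega)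
  obtain ⟨g, hg⟩ := IsCyclic.exists_generator (α := Fˣ)
  have hord : orderOf g = Fintype.card F - 1 := by
    rw [orderOf_eq_card_of_forall_mem_zpowers hg, Nat.card_eq_fintype_card, Fintype.card_units]
  obtain ⟨m, hm⟩ := hdvd
  have hm0 : m ≠ 0 := by
    rintro rfl
    rw [mul_zero] at hm
    exact hq1 hm
  set t : ℕ := 2 ^ k with ht
  have htpos : 0 < t := by positivity
  have hpow : 2 ^ (k + 1) = t * 2 := by rw [pow_succ]
  set b : Fˣ := g ^ m with hb
  have hbord : orderOf b = t * 2 := by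
    rw [hb, orderOf_pow_of_dvd hm0 (by rw [hord, hm]; exact dvd_mul_left _ _), hord, hm, hpow,
      Nat.mul_div_cancel _ (Nat.pos_of_ne_zero hm0)]
  set c : Fˣ := b ^ t with hc
  have hc2 : c * c = 1 := by
    rw [hc, ← pow_add, ← two_mul, mul_comm, ← hbord, pow_orderOf_eq_one]
  have hc1 : c ≠ 1 := by
    intro h
    have hd := orderOf_dvd_of_pow_eq_one h
    rw [hbord] at hd
    have := Nat.le_of_dvd htpos hd
    omega
  have hcF : (c : F) = -1 := by
    have h : (c : F) * (c : F) = 1 := by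
      rw [← Units.val_mul, hc2, Units.val_one]
    rcases mul_self_eq_one_iff.1 h with h' | h'
    · exact absurd (Units.ext h') hc1
    · exact h'
  refine ⟨(b : F), Units.ne_zero b, ?_⟩
  rw [hkn, pow_mul, ← Units.val_pow_eq_pow_val, ← hc, hcF, Odd.neg_one_pow hn₁]

end arith

end Cfsg.Agent.Lib.Helper44.SLInv
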