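import Mathlib
import Cfsg.Prelude.Def_GeometricClasses
import Cfsg.Agent.Lib.Helper44.SLInvCent

/-!
# Field subalgebras of degree two of a matrix algebra and their normalisers

Generators of a field subalgebra `K` of degree two, criteria for membership in the normaliser of
`K`, the fact that a scalar plus a rank one matrix never normalises `K` (dimension at least three),
and the passage from `GL`-conjugacy to `SL`-conjugacy for matrices with scalar square.
-/

set_option autoImplicit false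

namespace Cfsg.Agent.Lib.Helper44.SLInv

open Module LinearMap Matrix

universe v

section gl

variable {F : Type v} [Field F]

/-- the invertible matrix of a linear automorphism of `F^n` -/
noncomputable def glOfEquiv {n : ℕ} (T : (Fin n → F) ≃ₗ[F] (Fin n → F)) : GL (Fin n) F :=
  ⟨LinearMap.toMatrix' T.toLinearMap, LinearMap.toMatrix' T.symm.toLinearMap, by
    rw [← LinearMap.toMatrix'_comp]
    have : T.toLinearMap ∘ₗ T.symm.toLinearMap = LinearMap.id := by
      ext x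
      simp
    rw [this, LinearMap.toMatrix'_id], by
    rw [← LinearMap.toMatrix'_comp]
    have : T.symm.toLinearMap ∘ₗ T.toLinearMap = LinearMap.id := by
      ext x
      simp
    rw [this, LinearMap.toMatrix'_id]⟩

theorem glOfEquiv_mulVec {n : ℕ} (T : (Fin n → F) ≃ₗ[F] (Fin n → F)) (u : Fin n → F) :
    ((glOfEquiv T : GL (Fin n) F) : Matrix (Fin n) (Fin n) F) *ᵥ u = T u :=
  LinearMap.toMatrix'_mulVec _ _

theorem glOfEquiv_inv_mulVec {n : ℕ} (T : (Fin n → F) ≃ₗ[F] (Fin n → F)) (u : Fin n → F) :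
    (((glOfEquiv T)⁻¹ : GL (Fin n) F) : Matrix (Fin n) (Fin n) F) *ᵥ u = T.symm u :=
  LinearMap.toMatrix'_mulVec _ _

theorem glOfEquiv_conj {n : ℕ} (T : (Fin n → F) ≃ₗ[F] (Fin n → F))
    (A A' : Matrix (Fin n) (Fin n) F) (h : ∀ w, T (A *ᵥ w) = A' *ᵥ (T w)) :
    ((glOfEquiv T : GL (Fin n) F) : Matrix (Fin n) (Fin n) F) * A *
      (((glOfEquiv T)⁻¹ : GL (Fin n) F) : Matrix (Fin n) (Fin n) F) = A' := by
  apply Matrix.toLin'.injective
  apply LinearMap.ext
  intro w
  rw [Matrix.toLin'_apply, Matrix.toLin'_apply, ← Matrix.mulVec_mulVec, ← Matrix.mulVec_mulVec,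
    glOfEquiv_inv_mulVec, glOfEquiv_mulVec, h, T.apply_symm_apply]

/-- for matrices with nonzero scalar square over a finite field, conjugacy into a subgroup under
`GL` can be achieved inside `SL` -/
theorem exists_SL_conj_of_GL_conj [Fintype F] {n : ℕ} (H : Subgroup (GL (Fin n) F))
    (x : Matrix.SpecialLinearGroup (Fin n) F) (z : F) (hz0 : z ≠ 0)
    (hxx : (x : Matrix (Fin n) (Fin n) F) * (x : Matrix (Fin n) (Fin n) F)
      = z • (1 : Matrix (Fin n) (Fin n) F))
    (hxns : ∀ c : F, (x : Matrix (Fin n) (Fin n) F) ≠ c • (1 : Matrix (Fin n) (Fin n) F))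
    (R : GL (Fin n) F) (hR : R * Matrix.SpecialLinearGroup.toGL x * R⁻¹ ∈ H) :
    ∃ P : Matrix.SpecialLinearGroup (Fin n) F, P⁻¹ * x * P ∈
      H.comap (Matrix.SpecialLinearGroup.toGL :
        Matrix.SpecialLinearGroup (Fin n) F →* GL (Fin n) F) := by
  set xm : Matrix (Fin n) (Fin n) F := (x : Matrix (Fin n) (Fin n) F) with hxm
  have hRdet : (R : Matrix (Fin n) (Fin n) F).det ≠ 0 :=
    ((Matrix.isUnit_iff_isUnit_det _).1 ((Units.isUnit R))).ne_zero
  obtain ⟨C, hCx, hCdet⟩ := exists_commute_det xm z hz0 hxx hxns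
    ((R : Matrix (Fin n) (Fin n) F).det)⁻¹
  let Qm : Matrix (Fin n) (Fin n) F := (R : Matrix (Fin n) (Fin n) F) * C
  have hQdet : Qm.det = 1 := by
    rw [Matrix.det_mul, hCdet, mul_inv_cancel₀ hRdet]
  let Q : Matrix.SpecialLinearGroup (Fin n) F := ⟨Qm, hQdet⟩
  refine ⟨Q⁻¹, ?_⟩
  rw [Subgroup.mem_comap, inv_inv]
  have hQQ : Qm * ((Q⁻¹ : Matrix.SpecialLinearGroup (Fin n) F) : Matrix (Fin n) (Fin n) F) = 1 := by
    have h : ((Q * Q⁻¹ : Matrix.SpecialLinearGroup (Fin n) F) : Matrix (Fin n) (Fin n) F) = 1 := by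
      rw [mul_inv_cancel]
      rfl
    rwa [Matrix.SpecialLinearGroup.coe_mul] at h
  have hRR : (R : Matrix (Fin n) (Fin n) F) * ((R⁻¹ : GL (Fin n) F) : Matrix (Fin n) (Fin n) F) = 1 := by
    rw [← Units.val_mul, mul_inv_cancel, Units.val_one]
  have hRR' : ((R⁻¹ : GL (Fin n) F) : Matrix (Fin n) (Fin n) F) * (R : Matrix (Fin n) (Fin n) F) = 1 := by
    rw [← Units.val_mul, inv_mul_cancel, Units.val_one]
  have heq : Matrix.SpecialLinearGroup.toGL (Q * x * Q⁻¹) =
      R * Matrix.SpecialLinearGroup.toGL x * R⁻¹ := by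
    apply Units.ext
    rw [Matrix.SpecialLinearGroup.coe_GL_coe_matrix, Matrix.SpecialLinearGroup.coe_mul,
      Matrix.SpecialLinearGroup.coe_mul, Units.val_mul, Units.val_mul,
      Matrix.SpecialLinearGroup.coe_GL_coe_matrix]
    set Qi : Matrix (Fin n) (Fin n) F :=
      ((Q⁻¹ : Matrix.SpecialLinearGroup (Fin n) F) : Matrix (Fin n) (Fin n) F) with hQi
    set Ri : Matrix (Fin n) (Fin n) F := ((R⁻¹ : GL (Fin n) F) : Matrix (Fin n) (Fin n) F) with hRi
    show Qm * xm * Qi = (R : Matrix (Fin n) (Fin n) F) * xm * Ri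
    have h1 : (R : Matrix (Fin n) (Fin n) F) * xm * Ri * Qm = Qm * xm := by
      show (R : Matrix (Fin n) (Fin n) F) * xm * Ri * ((R : Matrix (Fin n) (Fin n) F) * C) =
        (R : Matrix (Fin n) (Fin n) F) * C * xm
      rw [Matrix.mul_assoc _ Ri, ← Matrix.mul_assoc Ri, hRR', Matrix.one_mul, Matrix.mul_assoc,
        Matrix.mul_assoc, hCx]
    calc Qm * xm * Qi = (R : Matrix (Fin n) (Fin n) F) * xm * Ri * Qm * Qi := by rw [h1]
      _ = (R : Matrix (Fin n) (Fin n) F) * xm * Ri * (Qm * Qi) := by rw [Matrix.mul_assoc]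
      _ = (R : Matrix (Fin n) (Fin n) F) * xm * Ri := by rw [hQQ, Matrix.mul_one]
  rw [heq]
  exact hR

end gl

section fieldsub

variable {F : Type v} [Field F] {n : ℕ}

/-- nonzero elements of a field subalgebra are two-sided invertible -/
theorem exists_inv_of_mem (K : Subalgebra F (Matrix (Fin n) (Fin n) F)) {r : ℕ}
    (hK : Cfsg.Geo.IsFieldSubalgebra r K) (k : Matrix (Fin n) (Fin n) F) (hk : k ∈ K)
    (hk0 : k ≠ 0) : ∃ y ∈ K, k * y = 1 ∧ y * k = 1 := by
  obtain ⟨y, hy, hky⟩ := hK.inv k hk hk0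
  exact ⟨y, hy, hky, by rw [← hK.comm k hk y hy]; exact hky⟩

theorem mulVec_eq_zero_of_mem (K : Subalgebra F (Matrix (Fin n) (Fin n) F)) {r : ℕ}
    (hK : Cfsg.Geo.IsFieldSubalgebra r K) (k : Matrix (Fin n) (Fin n) F) (hk : k ∈ K)
    (hk0 : k ≠ 0) (u : Fin n → F) (hu : k *ᵥ u = 0) : u = 0 := by
  obtain ⟨y, _, _, hyk⟩ := exists_inv_of_mem K hK k hk hk0
  have h : (y * k) *ᵥ u = 0 := by rw [← Matrix.mulVec_mulVec, hu, Matrix.mulVec_zero]
  rwa [hyk, Matrix.one_mulVec] at h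

/-- a field subalgebra of degree two is spanned by `1` and a nonscalar element -/
theorem exists_gen_of_fieldSubalgebra (K : Subalgebra F (Matrix (Fin n) (Fin n) F))
    (hK : Cfsg.Geo.IsFieldSubalgebra 2 K) :
    ∃ κ ∈ K, (∀ c : F, κ ≠ c • (1 : Matrix (Fin n) (Fin n) F)) ∧
      ∀ k ∈ K, ∃ α β : F, k = α • (1 : Matrix (Fin n) (Fin n) F) + β • κ := by
  have hfr : finrank F (Subalgebra.toSubmodule K) = 2 := by
    rw [Subalgebra.finrank_toSubmodule]
    exact hK.finrank_eq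
  have hex : ∃ κ ∈ K, κ ∉ Submodule.span F {(1 : Matrix (Fin n) (Fin n) F)} := by
    by_contra hcon
    push Not at hcon
    have hle : Subalgebra.toSubmodule K ≤ Submodule.span F {(1 : Matrix (Fin n) (Fin n) F)} :=
      fun k hk => hcon k hk
    have h1 := Submodule.finrank_mono hle
    have h2 : finrank F (Submodule.span F {(1 : Matrix (Fin n) (Fin n) F)}) ≤ 1 := by
      have h3 := finrank_span_le_card (R := F) ({(1 : Matrix (Fin n) (Fin n) F)} : Set _)
      simpa using h3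
    omega
  obtain ⟨κ, hκK, hκ⟩ := hex
  have hκns : ∀ c : F, κ ≠ c • (1 : Matrix (Fin n) (Fin n) F) := by
    intro c hc
    exact hκ (Submodule.mem_span_singleton.2 ⟨c, hc.symm⟩)
  have h10 : (1 : Matrix (Fin n) (Fin n) F) ≠ 0 := by
    intro h
    apply hκns 0
    rw [zero_smul, ← Matrix.mul_one κ, h, Matrix.mul_zero]
  have hind : LinearIndependent F ![(1 : Matrix (Fin n) (Fin n) F), κ] := by
    rw [LinearIndependent.pair_iff]
    intro s t hst
    have ht : t = 0 := by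
      by_contra ht
      apply hκns (-(s / t))
      have h3 : t • κ = -(s • (1 : Matrix (Fin n) (Fin n) F)) := by
        rw [eq_neg_iff_add_eq_zero, add_comm]
        exact hst
      have h4 : κ = t⁻¹ • (t • κ) := by rw [smul_smul, inv_mul_cancel₀ ht, one_smul]
      rw [h4, h3, smul_neg, smul_smul, neg_smul, div_eq_inv_mul, mul_comm]
    refine ⟨?_, ht⟩
    rw [ht, zero_smul, add_zero] at hst
    exact (smul_eq_zero.1 hst).resolve_right h10
  have hspan : Submodule.span F (Set.range ![(1 : Matrix (Fin n) (Fin n) F), κ]) =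
      Subalgebra.toSubmodule K := by
    apply Submodule.eq_of_le_of_finrank_eq
    · rw [Submodule.span_le]
      rintro _ ⟨i, rfl⟩
      fin_cases i
      · exact K.one_mem
      · exact hκK
    · rw [finrank_span_eq_card hind, hfr, Fintype.card_fin]
  refine ⟨κ, hκK, hκns, fun k hk => ?_⟩
  have hk' : k ∈ Submodule.span F (Set.range ![(1 : Matrix (Fin n) (Fin n) F), κ]) := by
    rw [hspan]
    exact hk
  obtain ⟨c, hc⟩ := (Submodule.mem_span_range_iff_exists_fun F).1 hk'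
  rw [Fin.sum_univ_two] at hc
  exact ⟨c 0, c 1, hc.symm⟩

/-- in odd characteristic, a field subalgebra of degree two is generated by a square root of a
nonsquare scalar -/
theorem exists_sqrt_gen (K : Subalgebra F (Matrix (Fin n) (Fin n) F))
    (hK : Cfsg.Geo.IsFieldSubalgebra 2 K) (h2 : (2 : F) ≠ 0) :
    ∃ κ₁ ∈ K, ∃ Δ : F, ¬ IsSquare Δ ∧ κ₁ * κ₁ = Δ • (1 : Matrix (Fin n) (Fin n) F) ∧
      ∀ k ∈ K, ∃ α β : F, k = α • (1 : Matrix (Fin n) (Fin n) F) + β • κ₁ := by
  obtain ⟨κ, hκK, hκns, hgen⟩ := exists_gen_of_fieldSubalgebra K hK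
  obtain ⟨t₀, t₁, hκκ⟩ := hgen (κ * κ) (K.mul_mem hκK hκK)
  set c : F := t₁ / 2 with hc
  have hc2 : t₁ = 2 * c := by
    rw [hc]
    field_simp
  have hκ₁K : κ - c • (1 : Matrix (Fin n) (Fin n) F) ∈ K :=
    K.sub_mem hκK (K.smul_mem K.one_mem c)
  have hsq : (κ - c • (1 : Matrix (Fin n) (Fin n) F)) * (κ - c • 1) = (t₀ + c * c) • 1 := by
    have e1 : (κ - c • (1 : Matrix (Fin n) (Fin n) F)) * (κ - c • 1) =
        κ * κ - c • κ - c • κ + (c * c) • 1 := by
      simp only [sub_mul, mul_sub, Matrix.smul_mul, Matrix.mul_smul, Matrix.mul_one,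
        Matrix.one_mul, smul_smul]
      abel
    rw [e1, hκκ, hc2]
    module
  have hκ₁ns : ∀ d : F, κ - c • (1 : Matrix (Fin n) (Fin n) F) ≠ d • 1 := by
    intro d hd
    apply hκns (d + c)
    rw [add_smul, ← hd]
    abel
  refine ⟨κ - c • 1, hκ₁K, t₀ + c * c, ?_, hsq, fun k hk => ?_⟩
  · rintro ⟨δ, hδ⟩
    have hprod : (κ - c • (1 : Matrix (Fin n) (Fin n) F) - δ • 1) * (κ - c • 1 + δ • 1) = 0 := by
      have e2 : ∀ A : Matrix (Fin n) (Fin n) F,
          (A - δ • (1 : Matrix (Fin n) (Fin n) F)) * (A + δ • 1) = A * A - (δ * δ) • 1 := by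
        intro A
        simp only [sub_mul, mul_add, Matrix.smul_mul, Matrix.mul_smul,
          Matrix.mul_one, Matrix.one_mul, smul_smul]
        abel
      rw [e2, hsq, hδ, sub_self]
    have hmem : κ - c • (1 : Matrix (Fin n) (Fin n) F) - δ • 1 ∈ K :=
      K.sub_mem hκ₁K (K.smul_mem K.one_mem δ)
    have hne : κ - c • (1 : Matrix (Fin n) (Fin n) F) - δ • 1 ≠ 0 := by
      intro h
      exact hκ₁ns δ (sub_eq_zero.1 h)
    obtain ⟨y, _, _, hyk⟩ := exists_inv_of_mem K hK _ hmem hne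
    have h3 : κ - c • (1 : Matrix (Fin n) (Fin n) F) + δ • 1 = 0 := by
      have h4 := congrArg (fun M => y * M) hprod
      simp only [Matrix.mul_zero] at h4
      rwa [← Matrix.mul_assoc, hyk, Matrix.one_mul] at h4
    apply hκ₁ns (-δ)
    rw [neg_smul]
    exact eq_neg_of_add_eq_zero_left h3
  · obtain ⟨α, β, hk'⟩ := hgen k hk
    refine ⟨α + β * c, β, ?_⟩
    rw [hk']
    module

/-- membership in the normaliser of a subalgebra spanned by `1` and `κ` -/
theorem mem_normalizer_of_gen (K : Subalgebra F (Matrix (Fin n) (Fin n) F))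
    (κ : Matrix (Fin n) (Fin n) F)
    (hgen : ∀ k ∈ K, ∃ α β : F, k = α • (1 : Matrix (Fin n) (Fin n) F) + β • κ)
    (y : GL (Fin n) F)
    (h1 : (y : Matrix (Fin n) (Fin n) F) * κ * ((y⁻¹ : GL (Fin n) F) : Matrix (Fin n) (Fin n) F) ∈ K)
    (h2 : ((y⁻¹ : GL (Fin n) F) : Matrix (Fin n) (Fin n) F) * κ * (y : Matrix (Fin n) (Fin n) F) ∈ K) :
    y ∈ Cfsg.Geo.subalgebraNormalizer K := by
  have hyy : (y : Matrix (Fin n) (Fin n) F) * ((y⁻¹ : GL (Fin n) F) : Matrix (Fin n) (Fin n) F) = 1 := by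
    rw [← Units.val_mul, mul_inv_cancel, Units.val_one]
  have hyy' : ((y⁻¹ : GL (Fin n) F) : Matrix (Fin n) (Fin n) F) * (y : Matrix (Fin n) (Fin n) F) = 1 := by
    rw [← Units.val_mul, inv_mul_cancel, Units.val_one]
  intro k
  constructor
  · intro hk
    obtain ⟨α, β, rfl⟩ := hgen k hk
    have e : (y : Matrix (Fin n) (Fin n) F) * (α • (1 : Matrix (Fin n) (Fin n) F) + β • κ) *
        ((y⁻¹ : GL (Fin n) F) : Matrix (Fin n) (Fin n) F) =
        α • 1 + β • ((y : Matrix (Fin n) (Fin n) F) * κ *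
          ((y⁻¹ : GL (Fin n) F) : Matrix (Fin n) (Fin n) F)) := by
      rw [Matrix.mul_add, Matrix.add_mul, Matrix.mul_smul, Matrix.mul_smul, Matrix.smul_mul,
        Matrix.smul_mul, Matrix.mul_one, hyy]
    rw [e]
    exact K.add_mem (K.smul_mem K.one_mem α) (K.smul_mem h1 β)
  · intro hk
    obtain ⟨α, β, hαβ⟩ := hgen _ hk
    have e : k = ((y⁻¹ : GL (Fin n) F) : Matrix (Fin n) (Fin n) F) *
        ((y : Matrix (Fin n) (Fin n) F) * k *
          ((y⁻¹ : GL (Fin n) F) : Matrix (Fin n) (Fin n) F)) * (y : Matrix (Fin n) (Fin n) F) := by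
      rw [Matrix.mul_assoc, Matrix.mul_assoc, hyy', Matrix.mul_one, ← Matrix.mul_assoc, hyy',
        Matrix.one_mul]
    rw [e, hαβ, Matrix.mul_add, Matrix.add_mul, Matrix.mul_smul, Matrix.mul_smul, Matrix.smul_mul,
      Matrix.smul_mul, Matrix.mul_one, hyy']
    exact K.add_mem (K.smul_mem K.one_mem α) (K.smul_mem h2 β)

/-- if `y κ = ε κ y` with `ε * ε = 1`, then `y` normalises the subalgebra spanned by `1, κ` -/
theorem mem_normalizer_of_semicommute (K : Subalgebra F (Matrix (Fin n) (Fin n) F))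
    (κ : Matrix (Fin n) (Fin n) F) (hκ : κ ∈ K)
    (hgen : ∀ k ∈ K, ∃ α β : F, k = α • (1 : Matrix (Fin n) (Fin n) F) + β • κ)
    (y : GL (Fin n) F) (ε : F) (hε : ε * ε = 1)
    (h : (y : Matrix (Fin n) (Fin n) F) * κ = ε • (κ * (y : Matrix (Fin n) (Fin n) F))) :
    y ∈ Cfsg.Geo.subalgebraNormalizer K := by
  have hyy : (y : Matrix (Fin n) (Fin n) F) * ((y⁻¹ : GL (Fin n) F) : Matrix (Fin n) (Fin n) F) = 1 := by
    rw [← Units.val_mul, mul_inv_cancel, Units.val_one]
  have hyy' : ((y⁻¹ : GL (Fin n) F) : Matrix (Fin n) (Fin n) F) * (y : Matrix (Fin n) (Fin n) F) = 1 := by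
    rw [← Units.val_mul, inv_mul_cancel, Units.val_one]
  apply mem_normalizer_of_gen K κ hgen y
  · rw [h, Matrix.smul_mul, Matrix.mul_assoc, hyy, Matrix.mul_one]
    exact K.smul_mem hκ ε
  · have h' : ((y⁻¹ : GL (Fin n) F) : Matrix (Fin n) (Fin n) F) * κ * (y : Matrix (Fin n) (Fin n) F)
        = ε • κ := by
      have e1 : κ * (y : Matrix (Fin n) (Fin n) F) = ε • ((y : Matrix (Fin n) (Fin n) F) * κ) := by
        rw [h, smul_smul, hε, one_smul]
      rw [Matrix.mul_assoc, e1, Matrix.mul_smul, ← Matrix.mul_assoc, hyy', Matrix.one_mul]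
    rw [h']
    exact K.smul_mem hκ ε

end fieldsub

end Cfsg.Agent.Lib.Helper44.SLInv
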