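import Mathlib
import Cfsg.Agent.Lib.Helper2.BGPoly
import Cfsg.Agent.Lib.Helper2.BGConstr
import Cfsg.Agent.Lib.Helper2.BGDer
import Cfsg.Agent.Lib.Helper44.SfrRat

/-!
# Determinants of the centraliser of a semisimple element

`exists_commute_det`: over a finite field `F` with `r ≠ p`, an element `y` with `y^r = 1` commutes
with matrices of every nonzero determinant.
-/

set_option autoImplicit false
open Polynomial Module

namespace Cfsg.Agent.Lib.Helper44.Sfr

open Cfsg.Agent.Lib.Helper2.BG

universe v w
variable {F : Type v} [Field F] {V : Type w} [AddCommGroup V] [Module F V]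

/-- On a cyclic subspace generated by a vector killed by an irreducible polynomial `g` the operator
commutes with an operator of determinant `Algebra.norm F κ`, for every `κ` of `F[X]/(g)`. -/
theorem exists_commute_on_cyclic [FiniteDimensional F V] (f : Module.End F V) (g : F[X])
    [hg : Fact (Irreducible g)] (hgm : g.Monic) (v : V) (hv0 : v ≠ 0) (hgv : aeval f g v = 0)
    (Z : Submodule F V)
    (hZ : Z = Submodule.span F (Set.range (fun i : Fin g.natDegree => (f ^ (i : ℕ)) v)))
    (hZinv : ∀ z ∈ Z, f z ∈ Z) (κ : AdjoinRoot g) :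
    ∃ A : Module.End F Z, A ∘ₗ f.restrict hZinv = f.restrict hZinv ∘ₗ A ∧
      LinearMap.det A = Algebra.norm F κ := by
  classical
  subst hZ
  have hg0 : g ≠ 0 := hg.out.ne_zero
  set pb := AdjoinRoot.powerBasis hg0 with hpb
  have hdim : pb.dim = g.natDegree := AdjoinRoot.powerBasis_dim hg0
  have hli : LinearIndependent F (fun i : Fin g.natDegree => (f ^ (i : ℕ)) v) :=
    linearIndependent_pow_apply f g hg.out v hv0 hgv
  set bZ := Module.Basis.span hli with hbZ
  set ψ : AdjoinRoot g ≃ₗ[F] ↥(Submodule.span F (Set.range (fun i : Fin g.natDegree => (f ^ (i : ℕ)) v))) :=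
    pb.basis.equiv bZ (finCongr hdim) with hψ
  have hψb : ∀ i : Fin pb.dim, ((ψ (pb.basis i) : ↥(Submodule.span F (Set.range
      (fun i : Fin g.natDegree => (f ^ (i : ℕ)) v)))) : V) = (f ^ (i : ℕ)) v := by
    intro i
    rw [hψ, Module.Basis.equiv_apply, hbZ, Module.Basis.span_apply]
    simp
  -- multiplication by the root corresponds to `f`
  have hroot : ∀ κ' : AdjoinRoot g, ((ψ (AdjoinRoot.root g * κ') : ↥(Submodule.span F (Set.range
      (fun i : Fin g.natDegree => (f ^ (i : ℕ)) v)))) : V) = f (ψ κ' : V) := by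
    have hlin : (Submodule.subtype _ ∘ₗ ψ.toLinearMap ∘ₗ
        (LinearMap.mulLeft F (AdjoinRoot.root g))) =
        f ∘ₗ Submodule.subtype _ ∘ₗ ψ.toLinearMap := by
      apply pb.basis.ext
      intro i
      simp only [LinearMap.coe_comp, Function.comp_apply, LinearMap.mulLeft_apply,
        Submodule.coe_subtype, LinearEquiv.coe_coe]
      rw [hψb i]
      by_cases hi : (i : ℕ) + 1 < pb.dim
      · have h1 : AdjoinRoot.root g * pb.basis i = pb.basis ⟨(i : ℕ) + 1, hi⟩ := by
          rw [pb.basis_eq_pow, pb.basis_eq_pow]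
          simp only [hpb, AdjoinRoot.powerBasis_gen]
          rw [pow_succ']
        rw [h1, hψb]
        simp only
        rw [pow_succ', Module.End.mul_apply]
      · have hid : (i : ℕ) + 1 = g.natDegree := by have := i.2; omega
        have h1 : AdjoinRoot.root g * pb.basis i =
            ∑ j : Fin pb.dim, (-(g.coeff (j : ℕ))) • pb.basis j := by
          rw [pb.basis_eq_pow]
          simp only [hpb, AdjoinRoot.powerBasis_gen]
          rw [← pow_succ', hid]
          have h2 : aeval (AdjoinRoot.root g) g = 0 := AdjoinRoot.aeval_eq g ▸ AdjoinRoot.mk_self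
          have h4 : aeval (AdjoinRoot.root g) g = AdjoinRoot.root g ^ g.natDegree +
              ∑ j ∈ Finset.range g.natDegree, (g.coeff j) • AdjoinRoot.root g ^ j := by
            rw [Polynomial.aeval_eq_sum_range, Finset.sum_range_succ, hgm.coeff_natDegree, one_smul,
              add_comm]
          rw [h2] at h4
          have h5 : AdjoinRoot.root g ^ g.natDegree =
              -∑ j ∈ Finset.range g.natDegree, (g.coeff j) • AdjoinRoot.root g ^ j :=
            eq_neg_of_add_eq_zero_left h4.symm
          rw [h5, ← Finset.sum_neg_distrib, Finset.sum_range]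
          rw [← (finCongr hdim).sum_comp]
          refine Finset.sum_congr rfl fun j _ => ?_
          rw [neg_smul, pb.basis_eq_pow]
          simp [hpb]
        rw [h1, map_sum, Submodule.coe_sum]
        have h6 : f ((f ^ (i : ℕ)) v) = (f ^ g.natDegree) v := by
          have : (f ^ g.natDegree) v = (f ^ ((i : ℕ) + 1)) v := by rw [hid]
          rw [this, pow_succ', Module.End.mul_apply]
        rw [h6, pow_natDegree_apply f g hgm v hgv, ← (finCongr hdim).sum_comp]
        refine Finset.sum_congr rfl fun j _ => ?_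
        rw [map_smul, Submodule.coe_smul, hψb]
        simp
    intro κ'
    have := LinearMap.congr_fun hlin κ'
    simpa using this
  -- the operator
  refine ⟨ψ.conj (LinearMap.mulLeft F κ), ?_, ?_⟩
  · have hfZ : f.restrict hZinv = ψ.conj (LinearMap.mulLeft F (AdjoinRoot.root g)) := by
      apply LinearMap.ext
      intro z
      apply Subtype.ext
      rw [LinearEquiv.conj_apply]
      simp only [LinearMap.coe_comp, LinearEquiv.coe_coe, Function.comp_apply,
        LinearMap.mulLeft_apply, LinearMap.coe_restrict_apply]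
      rw [hroot, LinearEquiv.apply_symm_apply]
    rw [hfZ, ← LinearEquiv.conj_comp, ← LinearEquiv.conj_comp]
    congr 1
    apply LinearMap.ext
    intro t
    simp only [LinearMap.coe_comp, Function.comp_apply, LinearMap.mulLeft_apply]
    ring
  · rw [LinearEquiv.conj_apply, LinearMap.comp_assoc, LinearMap.det_conj, Algebra.norm_apply]
    rfl

/-- the span of the iterates is invariant -/
theorem inv_span_pow (f : Module.End F V) (g : F[X]) (hgm : g.Monic) (v : V)
    (hgv : aeval f g v = 0) :
    ∀ z ∈ Submodule.span F (Set.range (fun i : Fin g.natDegree => (f ^ (i : ℕ)) v)),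
      f z ∈ Submodule.span F (Set.range (fun i : Fin g.natDegree => (f ^ (i : ℕ)) v)) := by
  intro z hz
  refine Submodule.span_induction ?_ ?_ ?_ ?_ hz
  · rintro _ ⟨j, rfl⟩
    by_cases hj : (j : ℕ) + 1 < g.natDegree
    · apply Submodule.subset_span
      refine ⟨⟨(j : ℕ) + 1, hj⟩, ?_⟩
      simp only
      rw [pow_succ', Module.End.mul_apply]
    · have hjd : (j : ℕ) + 1 = g.natDegree := by have := j.2; omega
      have h1 : f ((fun i : Fin g.natDegree => (f ^ (i : ℕ)) v) j) = (f ^ g.natDegree) v := by
        have : (f ^ g.natDegree) v = (f ^ ((j : ℕ) + 1)) v := by rw [hjd]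
        rw [this, pow_succ', Module.End.mul_apply]
      rw [h1, pow_natDegree_apply f g hgm v hgv]
      exact Submodule.sum_mem _ fun i _ => Submodule.smul_mem _ _
        (Submodule.subset_span ⟨i, rfl⟩)
  · simp
  · intro x y _ _ hx hy
    rw [map_add]; exact Submodule.add_mem _ hx hy
  · intro c x _ hx
    rw [map_smul]; exact Submodule.smul_mem _ _ hx

variable [Fintype F]

/-- E-d -/
theorem exists_commute_det {p : ℕ} [Fact p.Prime] [CharP F p] {n : ℕ} (hn : 0 < n) (r : ℕ)
    [hr : Fact r.Prime] (hrp : r ≠ p) (y : Matrix (Fin n) (Fin n) F) (hy : y ^ r = 1) (δ : F)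
    (hδ : δ ≠ 0) : ∃ C : Matrix (Fin n) (Fin n) F, C * y = y * C ∧ C.det = δ := by
  classical
  set f : Module.End F (Fin n → F) := Matrix.toLin' y with hf
  have hfr : f ^ r = 1 := by
    have h1 : f = Matrix.toLinAlgEquiv' y := rfl
    rw [h1, ← map_pow, hy, map_one]
  have hrF : (r : F) ≠ 0 := natCast_ne_zero_of_ne (p := p) hrp
  have hPf : aeval f (X ^ r - 1 : F[X]) = 0 := by
    rw [map_sub, map_pow, aeval_X, map_one, hfr, sub_self]
  have hsq := squarefree_X_pow_sub_one (F := F) hrF
  have hss : f.IsSemisimple := Module.End.isSemisimple_of_squarefree_aeval_eq_zero hsq hPf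
  have hP0 : (X ^ r - 1 : F[X]) ≠ 0 := hsq.ne_zero
  -- a nonzero vector
  set w : Fin n → F := Pi.single ⟨0, hn⟩ 1 with hw
  have hw0 : w ≠ 0 := by
    intro h
    have := congrFun h ⟨0, hn⟩
    simp [hw] at this
  set s := UniqueFactorizationMonoid.normalizedFactors (X ^ r - 1 : F[X]) with hs
  have hsprod : Associated s.prod (X ^ r - 1 : F[X]) :=
    UniqueFactorizationMonoid.prod_normalizedFactors hP0
  have hkill : aeval f s.prod w = 0 := by
    obtain ⟨u, hu⟩ := hsprod.symm
    rw [← hu, map_mul, hPf, zero_mul, LinearMap.zero_apply]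
  obtain ⟨g, hgs, v, -, hv0, hgv⟩ := exists_factor_kill f ⊤ (inv_top f) s w trivial hw0 hkill
  have hgirr : Irreducible g := UniqueFactorizationMonoid.irreducible_of_normalized_factor g hgs
  have hgm : g.Monic := by
    have hn' : normalize g = g := UniqueFactorizationMonoid.normalize_normalized_factor g hgs
    rw [← hn']
    exact Polynomial.monic_normalize hgirr.ne_zero
  have : Fact (Irreducible g) := ⟨hgirr⟩
  set Z : Submodule F (Fin n → F) :=
    Submodule.span F (Set.range (fun i : Fin g.natDegree => (f ^ (i : ℕ)) v)) with hZ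
  have hZinv : ∀ z ∈ Z, f z ∈ Z := inv_span_pow f g hgm v hgv
  obtain ⟨T', hT'inv, -, hdisj, hsup, -⟩ := exists_inv_compl_in hss (Y := Z) (T := ⊤) hZinv
    (inv_top f) le_top
  have hc : IsCompl Z T' := ⟨hdisj, codisjoint_iff.2 hsup⟩
  have : Module.Finite F (AdjoinRoot g) := finite_adjoinRoot g
  have : Finite (AdjoinRoot g) := Module.finite_of_finite F
  obtain ⟨κ, hκ⟩ := FiniteField.norm_surjective F (AdjoinRoot g) δ
  obtain ⟨A, hAf, hAdet⟩ := exists_commute_on_cyclic f g hgm v hv0 hgv Z rfl hZinv κ
  set e := Submodule.prodEquivOfIsCompl Z T' hc with he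
  set Cl : Module.End F (Fin n → F) := e.conj (LinearMap.prodMap A LinearMap.id) with hCl
  have hCdet : LinearMap.det Cl = δ := by
    rw [hCl, LinearEquiv.conj_apply, LinearMap.comp_assoc, LinearMap.det_conj,
      LinearMap.det_prodMap, hAdet, hκ, LinearMap.det_id, mul_one]
  have hfe : ∀ (z : Z) (t : T'), f (e (z, t)) = e (f.restrict hZinv z, f.restrict hT'inv t) := by
    intro z t
    rw [he, Submodule.coe_prodEquivOfIsCompl', Submodule.coe_prodEquivOfIsCompl', map_add]
    rfl
  have hCe : ∀ (z : Z) (t : T'), Cl (e (z, t)) = e (A z, t) := by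
    intro z t
    rw [hCl, LinearEquiv.conj_apply]
    simp
  have hCf : Cl ∘ₗ f = f ∘ₗ Cl := by
    apply LinearMap.ext
    intro x
    obtain ⟨⟨z, t⟩, rfl⟩ := e.surjective x
    simp only [LinearMap.coe_comp, Function.comp_apply]
    rw [hfe, hCe, hCe, hfe]
    congr 2
    exact LinearMap.congr_fun hAf z
  refine ⟨LinearMap.toMatrix' Cl, ?_, ?_⟩
  · have hy' : y = LinearMap.toMatrix' f := by rw [hf, LinearMap.toMatrix'_toLin']
    rw [hy', ← LinearMap.toMatrix'_comp, ← LinearMap.toMatrix'_comp, hCf]
  · rw [LinearMap.det_toMatrix', hCdet]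

end Cfsg.Agent.Lib.Helper44.Sfr
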