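import Mathlib
import Cfsg.Prelude.Def_LieClassical
import Cfsg.Agent.Lib.Helper44.Unitary
import Cfsg.Agent.Lib.Helper44.HermSpace
import Cfsg.Agent.Lib.Helper13.GU
import Cfsg.Agent.Lib.Helper5.UnitaryCard

/-!
# Elements of `GU_n(q)` which a field automorphism of odd prime order maps to a scalar multiple

Matrix criterion for membership in `GU`, the fixed field of a field automorphism, and the count
of the unitary matrices `g` with `σ(g) = c • g`.
-/

set_option autoImplicit false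

namespace Cfsg.Agent.Lib.Helper44.GUFA

open Matrix Module

section crit

variable {F : Type*} [Field F] {q n : ℕ}

/-- the matrix criterion `Aᵀ * A^(q) = 1` -/
def Crit (q : ℕ) {n : ℕ} (A : Matrix (Fin n) (Fin n) F) : Prop :=
  Aᵀ * A.map (fun x => x ^ q) = 1

theorem hermForm_eq_dot (u v : Fin n → F) :
    Cfsg.hermForm n F q u v = u ⬝ᵥ (fun i => v i ^ q) := rfl

variable [Fintype F]

theorem isHermIso_iff_crit (hF : Fintype.card F = q ^ 2) (A : Matrix (Fin n) (Fin n) F) :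
    Helper5.IsHermIso n F q A ↔ Crit q A := by
  have hq : q ≠ 0 := by
    have := two_le_q_of_card hF
    omega
  constructor
  · intro h
    unfold Crit
    ext j k
    have := h (Pi.single j 1) (Pi.single k 1)
    rw [Helper13.hermForm_single_single n q hq] at this
    rw [Matrix.one_apply, ← this, Matrix.mul_apply]
    unfold Cfsg.hermForm
    refine Finset.sum_congr rfl fun i _ => ?_
    simp
  · intro h u v
    unfold Crit at h
    rw [hermForm_eq_dot, hermForm_eq_dot]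
    have h1 : (fun i => (A *ᵥ v) i ^ q) = (A.map (fun x => x ^ q)) *ᵥ (fun i => v i ^ q) := by
      ext i
      simp only [Matrix.mulVec, dotProduct, Matrix.map_apply]
      rw [frobK_sum hF]
      refine Finset.sum_congr rfl fun j _ => ?_
      rw [mul_pow]
    have h2 : (A.map (fun x => x ^ q))ᵀ * A = 1 := by
      have := congrArg Matrix.transpose h
      rwa [Matrix.transpose_mul, Matrix.transpose_transpose, Matrix.transpose_one] at this
    rw [h1, Matrix.dotProduct_mulVec, ← Matrix.mulVec_transpose, Matrix.mulVec_mulVec, h2,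
      Matrix.one_mulVec]

/-- `GU` as a set of matrices -/
noncomputable def guEquiv (hF : Fintype.card F = q ^ 2) (n : ℕ) :
    ↥(Cfsg.GU n F q) ≃ {A : Matrix (Fin n) (Fin n) F // Crit q A} where
  toFun g := ⟨((g : GL (Fin n) F) : Matrix (Fin n) (Fin n) F),
    (isHermIso_iff_crit hF _).1 ((Helper5.mem_GU_iff _).1 g.2)⟩
  invFun A := Helper5.mkGU hF A.1 ((isHermIso_iff_crit hF _).2 A.2)
  left_inv g := Helper5.GU_ext (Helper5.mkGU_val hF _ _)
  right_inv A := Subtype.ext (Helper5.mkGU_val hF A.1 ((isHermIso_iff_crit hF _).2 A.2))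

theorem guEquiv_apply (hF : Fintype.card F = q ^ 2) (n : ℕ) (g : ↥(Cfsg.GU n F q)) :
    ((guEquiv hF n g : {A : Matrix (Fin n) (Fin n) F // Crit q A}) : Matrix (Fin n) (Fin n) F) =
      ((g : GL (Fin n) F) : Matrix (Fin n) (Fin n) F) := rfl

omit [Fintype F] in
theorem crit_smul {A : Matrix (Fin n) (Fin n) F} (hA : Crit q A) (c : F) :
    (c • A)ᵀ * (c • A).map (fun x => x ^ q) = c ^ (q + 1) • (1 : Matrix (Fin n) (Fin n) F) := by
  unfold Crit at hA
  have h1 : (c • A).map (fun x => x ^ q) = c ^ q • A.map (fun x => x ^ q) := by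
    ext i j
    simp [mul_pow]
  rw [h1, Matrix.transpose_smul, Matrix.smul_mul, Matrix.mul_smul, hA, smul_smul, pow_succ']

omit [Fintype F] in
theorem Crit.smul {A : Matrix (Fin n) (Fin n) F} (hA : Crit q A) {c : F} (hc : c ^ (q + 1) = 1) :
    Crit q (c • A) := by
  unfold Crit
  rw [crit_smul hA, hc, one_smul]

omit [Fintype F] in
theorem Crit.pow_eq_one (hn : 1 ≤ n) {A : Matrix (Fin n) (Fin n) F} (hA : Crit q A) {c : F}
    (hcA : Crit q (c • A)) : c ^ (q + 1) = 1 := by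
  unfold Crit at hcA
  rw [crit_smul hA] at hcA
  have := congrFun (congrFun hcA ⟨0, hn⟩) ⟨0, hn⟩
  simpa using this

omit [Fintype F] in
theorem Crit.ne_zero (hn : 1 ≤ n) {A : Matrix (Fin n) (Fin n) F} (hA : Crit q A) : A ≠ 0 := by
  rintro rfl
  unfold Crit at hA
  have := congrFun (congrFun hA ⟨0, hn⟩) ⟨0, hn⟩
  simp at this

omit [Fintype F] in
theorem Crit.smul_cancel (hn : 1 ≤ n) {A : Matrix (Fin n) (Fin n) F} (hA : Crit q A) {a b : F}
    (h : a • A = b • A) : a = b := by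
  by_contra hab
  have h1 : (a - b) • A = 0 := by rw [sub_smul, h, sub_self]
  rcases smul_eq_zero.1 h1 with h2 | h2
  · exact hab (sub_eq_zero.1 h2)
  · exact hA.ne_zero hn h2

omit [Fintype F] in
theorem Crit.map_ringEquiv {A : Matrix (Fin n) (Fin n) F} (hA : Crit q A) (σ : F ≃+* F) :
    Crit q (A.map σ) := by
  unfold Crit at hA ⊢
  have h1 : (A.map σ).map (fun x => x ^ q) = (A.map (fun x => x ^ q)).map σ := by
    ext i j
    simp
  have h2 : (A.map σ)ᵀ * (A.map (fun x => x ^ q)).map σ =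
      (Aᵀ * A.map (fun x => x ^ q)).map (σ : F →+* F) := by
    rw [Matrix.map_mul]
    rfl
  rw [h1, h2, hA]
  ext i j
  simp [Matrix.one_apply, apply_ite]

end crit

section sub

variable {K₀ : Type*} {K : Type*} [Field K₀] [Fintype K₀] [Field K] [Fintype K]
variable {q₀ q r n : ℕ}

theorem pow_pow_odd (hK₀ : Fintype.card K₀ = q₀ ^ 2) (hr : Odd r) (y : K₀) :
    y ^ (q₀ ^ r) = y ^ q₀ := by
  obtain ⟨k, rfl⟩ := hr
  induction k with
  | zero => simp
  | succ k ih =>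
    have : q₀ ^ (2 * (k + 1) + 1) = q₀ ^ (2 * k + 1) * q₀ ^ 2 := by ring
    rw [this, pow_mul, ih, ← hK₀, FiniteField.pow_card]

omit [Fintype K] in
theorem map_pow_q (ι : K₀ →+* K) (hK₀ : Fintype.card K₀ = q₀ ^ 2) (hr : Odd r) (hq : q = q₀ ^ r)
    (y : K₀) : ι y ^ q = ι (y ^ q₀) := by
  rw [hq, ← map_pow, pow_pow_odd hK₀ hr]

theorem crit_map_iff (ι : K₀ →+* K) (hK₀ : Fintype.card K₀ = q₀ ^ 2) (hr : Odd r)
    (hq : q = q₀ ^ r) (A₀ : Matrix (Fin n) (Fin n) K₀) :
    Crit q (A₀.map ι) ↔ Crit q₀ A₀ := by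
  unfold Crit
  have h1 : (A₀.map ι).map (fun x => x ^ q) = (A₀.map (fun x => x ^ q₀)).map ι := by
    ext i j
    simp [map_pow_q ι hK₀ hr hq]
  have h2 : (A₀.map ι)ᵀ * (A₀.map (fun x => x ^ q₀)).map ι =
      (A₀ᵀ * A₀.map (fun x => x ^ q₀)).map ι := by
    rw [Matrix.map_mul]
    rfl
  rw [h1, h2]
  constructor
  · intro h
    apply Matrix.map_injective ι.injective
    show (A₀ᵀ * A₀.map fun x => x ^ q₀).map ι = (1 : Matrix (Fin n) (Fin n) K₀).map ι
    rw [h]
    ext i j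
    simp [Matrix.one_apply, apply_ite]
  · intro h
    rw [h]
    ext i j
    simp [Matrix.one_apply, apply_ite]

/-- the `σ`-fixed unitary matrices are the unitary matrices over the fixed field -/
theorem card_fixed (ι : K₀ →+* K) (σ : K ≃+* K) (hfix : ∀ x : K, σ x = x ↔ ∃ y, ι y = x)
    (hK₀ : Fintype.card K₀ = q₀ ^ 2) (hr : Odd r) (hq : q = q₀ ^ r) (n : ℕ) :
    Nat.card {A : Matrix (Fin n) (Fin n) K // Crit q A ∧ A.map σ = A} =
      Nat.card {A₀ : Matrix (Fin n) (Fin n) K₀ // Crit q₀ A₀} := by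
  symm
  refine Nat.card_congr (Equiv.ofBijective
    (fun A₀ => ⟨A₀.1.map ι, (crit_map_iff ι hK₀ hr hq A₀.1).2 A₀.2, ?_⟩) ⟨?_, ?_⟩)
  · ext i j
    simp only [Matrix.map_apply]
    exact (hfix _).2 ⟨_, rfl⟩
  · intro A₀ B₀ h
    apply Subtype.ext
    apply Matrix.map_injective ι.injective
    exact congrArg Subtype.val h
  · rintro ⟨B, hB, hσ⟩
    have h1 : ∀ i j, ∃ y, ι y = B i j := fun i j => (hfix _).1 (by
      have := congrFun (congrFun hσ i) j
      simpa using this)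
    choose f hf using h1
    have h2 : (Matrix.of f).map ι = B := by
      ext i j
      simp [hf]
    refine ⟨⟨Matrix.of f, ?_⟩, ?_⟩
    · rw [← crit_map_iff ι hK₀ hr hq, h2]
      exact hB
    · exact Subtype.ext h2

theorem card_normOne_subtype (hK : Fintype.card K = q ^ 2) :
    Nat.card {d : K // d ^ (q + 1) = 1} = q + 1 := by
  have h0 : ∀ d : K, d ^ (q + 1) = 1 → d ≠ 0 := by
    rintro d hd rfl
    rw [zero_pow (by omega)] at hd
    exact zero_ne_one hd
  have h1 : ∀ d : {d : K // d ^ (q + 1) = 1}, Units.mk0 d.1 (h0 d.1 d.2) ∈ Helper13.normOne K q := by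
    intro d
    rw [Helper13.mem_normOne]
    apply Units.ext
    simp [d.2]
  have h2 : ∀ x : ↥(Helper13.normOne K q), ((x.1 : Kˣ) : K) ^ (q + 1) = 1 := by
    intro x
    have := (Helper13.mem_normOne q x.1).1 x.2
    have := congrArg Units.val this
    simpa using this
  refine (Nat.card_congr (β := ↥(Helper13.normOne K q))
    { toFun := fun d => ⟨Units.mk0 d.1 (h0 d.1 d.2), h1 d⟩
      invFun := fun x => ⟨((x.1 : Kˣ) : K), h2 x⟩
      left_inv := fun d => rfl
      right_inv := fun x => Subtype.ext (Units.ext rfl) }).trans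
    (Helper13.card_normOne hK)

omit [Fintype K] in
theorem card_normOne_fixed (ι : K₀ →+* K) (σ : K ≃+* K) (hfix : ∀ x : K, σ x = x ↔ ∃ y, ι y = x)
    (hK₀ : Fintype.card K₀ = q₀ ^ 2) (hr : Odd r) (hq : q = q₀ ^ r) :
    Nat.card {z : K // z ^ (q + 1) = 1 ∧ σ z = z} = q₀ + 1 := by
  refine Eq.trans ?_ (card_normOne_subtype hK₀)
  symm
  have key : ∀ y : K₀, ι y ^ (q + 1) = ι (y ^ (q₀ + 1)) := by
    intro y
    rw [pow_succ, map_pow_q ι hK₀ hr hq, pow_succ, map_mul]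
  refine Nat.card_congr (Equiv.ofBijective
    (fun y => ⟨ι y.1, ?_, (hfix _).2 ⟨_, rfl⟩⟩) ⟨?_, ?_⟩)
  · rw [key, y.2, map_one]
  · intro y y' h
    apply Subtype.ext
    apply ι.injective
    exact congrArg Subtype.val h
  · rintro ⟨z, hz, hσ⟩
    obtain ⟨y, rfl⟩ := (hfix _).1 hσ
    refine ⟨⟨y, ?_⟩, rfl⟩
    apply ι.injective
    rw [← key, hz, map_one]

theorem map_smul_ringEquiv (σ : K ≃+* K) (c : K) (A : Matrix (Fin n) (Fin n) K) :
    (c • A).map σ = σ c • A.map σ := by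
  ext i j
  simp

/-- the cohomological step: a unitary matrix which `σ` maps to a scalar multiple of itself is
a norm-one scalar multiple of a `σ`-fixed unitary matrix -/
theorem exists_twist (ι : K₀ →+* K) (σ : K ≃+* K) (hfix : ∀ x : K, σ x = x ↔ ∃ y, ι y = x)
    (hK : Fintype.card K = q ^ 2) (hK₀ : Fintype.card K₀ = q₀ ^ 2) (hr : Odd r) (hq : q = q₀ ^ r)
    (hn : 1 ≤ n) {A : Matrix (Fin n) (Fin n) K} (hA : Crit q A) {c : K} (hc : c ≠ 0)
    (hcA : A.map σ = c • A) :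
    ∃ d : K, d ^ (q + 1) = 1 ∧ (d⁻¹ • A).map σ = d⁻¹ • A := by
  have hc1 : c ^ (q + 1) = 1 := by
    apply hA.pow_eq_one hn
    rw [← hcA]
    exact hA.map_ringEquiv σ
  obtain ⟨i, j, hij⟩ : ∃ i j, A i j ≠ 0 := by
    by_contra hcon
    push_neg at hcon
    apply hA.ne_zero hn
    ext i j
    exact hcon i j
  set d₁ := A i j with hd₁
  have hσd₁ : σ d₁ = c * d₁ := by
    have := congrFun (congrFun hcA i) j
    simpa using this
  set a := d₁ ^ (q + 1) with ha
  have ha0 : a ≠ 0 := pow_ne_zero _ hij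
  have hσa : σ a = a := by
    rw [ha, map_pow, hσd₁, mul_pow, hc1, one_mul]
  have haq : a ^ q = a := by
    rw [ha, ← pow_mul, add_mul, one_mul, pow_add, ← sq, ← hK, FiniteField.pow_card, mul_comm,
      ← pow_succ]
  obtain ⟨a₀, ha₀⟩ := (hfix a).1 hσa
  have ha₀0 : a₀ ≠ 0 := by
    rintro rfl
    rw [map_zero] at ha₀
    exact ha0 ha₀.symm
  have ha₀q : a₀ ^ q₀ = a₀ := by
    apply ι.injective
    rw [← map_pow_q ι hK₀ hr hq, ha₀, haq]
  obtain ⟨e₀, he₀⟩ := exists_norm_eq hK₀ a₀ ha₀0 ha₀q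
  have he : ι e₀ ^ (q + 1) = a := by
    rw [pow_succ, map_pow_q ι hK₀ hr hq, ← map_mul, ← pow_succ, he₀, ha₀]
  have he0 : ι e₀ ≠ 0 := by
    intro h0
    rw [h0, zero_pow (by omega)] at he
    exact ha0 he.symm
  have hσe : σ (ι e₀) = ι e₀ := (hfix _).2 ⟨_, rfl⟩
  refine ⟨d₁ / ι e₀, ?_, ?_⟩
  · rw [div_pow, he, ← ha, div_self ha0]
  · rw [map_smul_ringEquiv, hcA, map_inv₀, map_div₀, hσd₁, hσe, smul_smul]
    congr 1
    field_simp

/-- the main counting identity -/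
theorem card_twisted_mul (ι : K₀ →+* K) (σ : K ≃+* K) (hfix : ∀ x : K, σ x = x ↔ ∃ y, ι y = x)
    (hK : Fintype.card K = q ^ 2) (hK₀ : Fintype.card K₀ = q₀ ^ 2) (hr : Odd r) (hq : q = q₀ ^ r)
    (hn : 1 ≤ n) :
    Nat.card {A : Matrix (Fin n) (Fin n) K // Crit q A ∧ ∃ c : K, c ≠ 0 ∧ A.map σ = c • A} *
        Nat.card {z : K // z ^ (q + 1) = 1 ∧ σ z = z} =
      Nat.card {d : K // d ^ (q + 1) = 1} *
        Nat.card {A : Matrix (Fin n) (Fin n) K // Crit q A ∧ A.map σ = A} := by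
  classical
  rw [← Nat.card_prod, ← Nat.card_prod]
  have hex : ∀ A : {A : Matrix (Fin n) (Fin n) K // Crit q A ∧ ∃ c : K, c ≠ 0 ∧ A.map σ = c • A},
      ∃ d : K, d ^ (q + 1) = 1 ∧ (d⁻¹ • A.1).map σ = d⁻¹ • A.1 := by
    rintro ⟨A, hA, c, hc, hcA⟩
    exact exists_twist ι σ hfix hK hK₀ hr hq hn hA hc hcA
  choose ds hds1 hds2 using hex
  have hne : ∀ d : K, d ^ (q + 1) = 1 → d ≠ 0 := by
    rintro d hd rfl
    rw [zero_pow (by omega)] at hd
    exact zero_ne_one hd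
  have hinv : ∀ d : K, d ^ (q + 1) = 1 → d⁻¹ ^ (q + 1) = 1 := by
    intro d hd
    rw [inv_pow, hd, inv_one]
  -- the inverse map, first component
  have hback : ∀ p : {d : K // d ^ (q + 1) = 1} ×
      {A : Matrix (Fin n) (Fin n) K // Crit q A ∧ A.map σ = A},
      Crit q (p.1.1 • p.2.1) ∧ ∃ c : K, c ≠ 0 ∧ (p.1.1 • p.2.1).map σ = c • (p.1.1 • p.2.1) := by
    rintro ⟨⟨d, hd⟩, ⟨B, hB, hσB⟩⟩
    show Crit q (d • B) ∧ ∃ c : K, c ≠ 0 ∧ (d • B).map σ = c • (d • B)
    refine ⟨hB.smul hd, σ d / d, ?_, ?_⟩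
    · exact div_ne_zero ((map_ne_zero σ).2 (hne d hd)) (hne d hd)
    · rw [map_smul_ringEquiv, hσB, smul_smul, div_mul_cancel₀ _ (hne d hd)]
  refine Nat.card_congr
    { toFun := fun p => (⟨ds p.1 * p.2.1, ?_⟩, ⟨(ds p.1 * p.2.1)⁻¹ • p.1.1, ?_, ?_⟩)
      invFun := fun p => (⟨p.1.1 • p.2.1, hback p⟩, ⟨p.1.1 / ds ⟨p.1.1 • p.2.1, hback p⟩, ?_, ?_⟩)
      left_inv := ?_
      right_inv := ?_ }
  · rw [mul_pow, hds1, p.2.2.1, one_mul]
  · apply p.1.2.1.smul
    rw [inv_pow, mul_pow, hds1, p.2.2.1, one_mul, inv_one]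
  · rw [mul_inv, mul_comm, ← smul_smul, map_smul_ringEquiv, hds2, map_inv₀, p.2.2.2]
  · rw [div_pow, hds1, p.1.2, div_one]
  · -- `σ`-fixed
    have h1 := hds2 ⟨p.1.1 • p.2.1, hback p⟩
    simp only at h1
    rw [smul_smul, map_smul_ringEquiv, p.2.2.2] at h1
    have h2 := p.2.2.1.smul_cancel hn h1
    rw [div_eq_mul_inv, mul_comm]
    exact h2
  · rintro ⟨A, z⟩
    have hA' : (⟨(ds A * z.1) • ((ds A * z.1)⁻¹ • A.1), hback (⟨ds A * z.1, by
        rw [mul_pow, hds1, z.2.1, one_mul]⟩, ⟨(ds A * z.1)⁻¹ • A.1, by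
        apply A.2.1.smul
        rw [inv_pow, mul_pow, hds1, z.2.1, one_mul, inv_one], by
        rw [mul_inv, mul_comm, ← smul_smul, map_smul_ringEquiv, hds2, map_inv₀, z.2.2]⟩)⟩ :
        {A : Matrix (Fin n) (Fin n) K // Crit q A ∧ ∃ c : K, c ≠ 0 ∧ A.map σ = c • A}) = A := by
      apply Subtype.ext
      have : ds A * z.1 ≠ 0 := mul_ne_zero (hne _ (hds1 A)) (hne _ z.2.1)
      simp only
      rw [smul_smul, mul_inv_cancel₀ this, one_smul]
    refine Prod.ext hA' ?_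
    apply Subtype.ext
    simp only
    rw [hA']
    have : ds A ≠ 0 := hne _ (hds1 A)
    field_simp
  · rintro ⟨d, B⟩
    have hd0 : d.1 ≠ 0 := hne _ d.2
    have hds0 : ds ⟨d.1 • B.1, hback (d, B)⟩ ≠ 0 := hne _ (hds1 _)
    refine Prod.ext ?_ ?_
    · apply Subtype.ext
      simp only
      field_simp
    · apply Subtype.ext
      simp only
      rw [smul_smul]
      have : (ds ⟨d.1 • B.1, hback (d, B)⟩ * (d.1 / ds ⟨d.1 • B.1, hback (d, B)⟩))⁻¹ * d.1 = 1 := by
        field_simp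
      rw [this, one_smul]

theorem card_twisted (ι : K₀ →+* K) (σ : K ≃+* K) (hfix : ∀ x : K, σ x = x ↔ ∃ y, ι y = x)
    (hK : Fintype.card K = q ^ 2) (hK₀ : Fintype.card K₀ = q₀ ^ 2) (hr : Odd r) (hq : q = q₀ ^ r)
    (hn : 1 ≤ n) :
    Nat.card {g : ↥(Cfsg.GU n K q) // ∃ c : K, c ≠ 0 ∧
        ((g : GL (Fin n) K) : Matrix (Fin n) (Fin n) K).map σ =
          c • ((g : GL (Fin n) K) : Matrix (Fin n) (Fin n) K)} * (q₀ + 1) =
      (q + 1) * Nat.card ↥(Cfsg.GU n K₀ q₀) := by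
  have h1 : Nat.card {g : ↥(Cfsg.GU n K q) // ∃ c : K, c ≠ 0 ∧
        ((g : GL (Fin n) K) : Matrix (Fin n) (Fin n) K).map σ =
          c • ((g : GL (Fin n) K) : Matrix (Fin n) (Fin n) K)} =
      Nat.card {A : Matrix (Fin n) (Fin n) K // Crit q A ∧ ∃ c : K, c ≠ 0 ∧ A.map σ = c • A} :=
    Nat.card_congr ((Equiv.subtypeEquiv (guEquiv hK n)
      (q := fun A : {A : Matrix (Fin n) (Fin n) K // Crit q A} =>
        ∃ c : K, c ≠ 0 ∧ A.1.map σ = c • A.1) (fun g => Iff.rfl)).trans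
      (Equiv.subtypeSubtypeEquivSubtypeInter (fun A : Matrix (Fin n) (Fin n) K => Crit q A)
        (fun A => ∃ c : K, c ≠ 0 ∧ A.map σ = c • A)))
  have h2 : Nat.card ↥(Cfsg.GU n K₀ q₀) =
      Nat.card {A₀ : Matrix (Fin n) (Fin n) K₀ // Crit q₀ A₀} := Nat.card_congr (guEquiv hK₀ n)
  rw [h1, h2, ← card_fixed ι σ hfix hK₀ hr hq n, ← card_normOne_fixed ι σ hfix hK₀ hr hq,
    card_twisted_mul ι σ hfix hK hK₀ hr hq hn, card_normOne_subtype hK]

end sub

section fixed

variable {K : Type*} [Field K] [Fintype K]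

omit [Fintype K] in
theorem mem_fixed_iff (σ : K ≃+* K) (x : K) :
    x ∈ FixedPoints.subfield (Subgroup.zpowers σ) K ↔ σ x = x := by
  constructor
  · intro h
    exact h ⟨σ, Subgroup.mem_zpowers σ⟩
  · intro h
    rintro ⟨τ, hτ⟩
    obtain ⟨k, rfl⟩ := hτ
    show (σ ^ k) x = x
    have h1 : ∀ m : ℕ, (σ ^ m) x = x := by
      intro m
      induction m with
      | zero => simp
      | succ m ih => rw [pow_succ, RingAut.mul_apply, h, ih]
    have h2 : ∀ m : ℕ, (σ ^ m)⁻¹ x = x := by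
      intro m
      have := h1 m
      conv_lhs => rw [← this]
      exact (σ ^ m).symm_apply_apply x
    cases k with
    | ofNat m => simpa using h1 m
    | negSucc m => simpa using h2 (m + 1)

theorem finrank_fixed (σ : K ≃+* K) :
    finrank (FixedPoints.subfield (Subgroup.zpowers σ) K) K = orderOf σ := by
  classical
  haveI : Finite (K ≃+* K) := Finite.of_injective (fun e => (e : K → K)) DFunLike.coe_injective
  haveI : Fintype (Subgroup.zpowers σ) := Fintype.ofFinite _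
  rw [FixedPoints.finrank_eq_card, Fintype.card_eq_nat_card, Nat.card_zpowers]

theorem card_fixed_field (σ : K ≃+* K) {q₀ q r : ℕ} (hr : r ≠ 0) (hσ : orderOf σ = r)
    (hq : q = q₀ ^ r) (hK : Fintype.card K = q ^ 2) :
    Nat.card (FixedPoints.subfield (Subgroup.zpowers σ) K) = q₀ ^ 2 := by
  classical
  haveI : Fintype (FixedPoints.subfield (Subgroup.zpowers σ) K) := Fintype.ofFinite _
  have h1 := Module.card_eq_pow_finrank (K := FixedPoints.subfield (Subgroup.zpowers σ) K) (V := K)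
  rw [finrank_fixed, hσ, hK, hq, ← pow_mul, mul_comm, pow_mul] at h1
  rw [Nat.card_eq_fintype_card]
  exact (Nat.pow_left_injective hr h1).symm

/-- the count of unitary matrices which the field automorphism `σ` of odd order `r` maps to a
scalar multiple of themselves -/
theorem card_twisted_fixed (σ : K ≃+* K) {q₀ q r n : ℕ} (hr : Odd r) (hσ : orderOf σ = r)
    (hn : 1 ≤ n) (hq : q = q₀ ^ r) (hK : Fintype.card K = q ^ 2) :
    Nat.card {g : ↥(Cfsg.GU n K q) // ∃ c : K, c ≠ 0 ∧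
        ((g : GL (Fin n) K) : Matrix (Fin n) (Fin n) K).map σ =
          c • ((g : GL (Fin n) K) : Matrix (Fin n) (Fin n) K)} * (q₀ + 1) =
      (q + 1) * (q₀ ^ (n * (n - 1) / 2) *
        ∏ i ∈ Finset.range n, (if Even i then q₀ ^ (i + 1) + 1 else q₀ ^ (i + 1) - 1)) := by
  classical
  haveI : Fintype (FixedPoints.subfield (Subgroup.zpowers σ) K) := Fintype.ofFinite _
  have hr0 : r ≠ 0 := by
    rintro rfl
    simp at hr
  have hK₀ : Fintype.card (FixedPoints.subfield (Subgroup.zpowers σ) K) = q₀ ^ 2 := by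
    rw [← Nat.card_eq_fintype_card]
    exact card_fixed_field σ hr0 hσ hq hK
  have hfix : ∀ x : K, σ x = x ↔
      ∃ y, (FixedPoints.subfield (Subgroup.zpowers σ) K).subtype y = x := by
    intro x
    rw [← mem_fixed_iff]
    constructor
    · intro h
      exact ⟨⟨x, h⟩, rfl⟩
    · rintro ⟨y, rfl⟩
      exact y.2
  rw [card_twisted (FixedPoints.subfield (Subgroup.zpowers σ) K).subtype σ hfix hK hK₀ hr hq hn,
    Helper5.card_GU hK₀]

end fixed

end Cfsg.Agent.Lib.Helper44.GUFA
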