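import Mathlib

/-!
# Unipotent self-adjoint elements are norms

In a ring with involution having a central element `lam` with `lam + star lam = 1`, every
self-adjoint element `H` with `H - 1` nilpotent is of the form `star c * c` for a unit `c`
which commutes with everything commuting with `H`.
-/

set_option autoImplicit false

namespace Cfsg.Agent.Lib.Helper44

theorem exists_star_mul_self_of_nilpotent {R : Type*} [Ring R] [StarRing R] (lam : R)
    (hlam : ∀ x : R, lam * x = x * lam) (hl : lam + star lam = 1) :
    ∀ (k : ℕ) (H : R), star H = H → (H - 1) ^ k = 0 →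
      ∃ c : Rˣ, star (c : R) * c = H ∧ ∀ X : R, X * H = H * X → X * c = c * X := by
  have hslam : ∀ x : R, star lam * x = x * star lam := by
    intro x
    have := congrArg star (hlam (star x))
    rw [star_mul, star_mul, star_star] at this
    exact this.symm
  intro k
  induction k using Nat.strong_induction_on with
  | _ k ih =>
    intro H hH hk
    rcases Nat.lt_or_ge k 2 with hk2 | hk2
    · -- `H = 1`
      have hH1 : H = 1 := by
        interval_cases k
        · rw [pow_zero] at hk
          have : Subsingleton R := subsingleton_of_zero_eq_one hk.symm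
          exact Subsingleton.elim _ _
        · rw [pow_one] at hk
          exact sub_eq_zero.1 hk
      refine ⟨1, ?_, ?_⟩
      · rw [hH1]; simp
      · intro X _; simp
    · set h := H - 1 with hh
      have hsh : star h = h := by rw [hh, star_sub, hH, star_one]
      have hHh : H = 1 + h := by rw [hh]; abel
      -- the first approximation
      have hnil : IsNilpotent (lam * h) := by
        refine ⟨k, ?_⟩
        have hc : Commute lam h := hlam h
        rw [hc.mul_pow, hk, mul_zero]
      obtain ⟨u₁, hu₁⟩ := hnil.isUnit_one_add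
      have hsu₁ : star (u₁ : R) = 1 + star lam * h := by
        rw [hu₁, star_add, star_one, star_mul, hsh, ← hslam]
      have hmul : star (u₁ : R) * u₁ = H + star lam * lam * (h * h) := by
        rw [hsu₁, hu₁, hHh]
        have e1 : (1 + star lam * h) * (1 + lam * h) =
            1 + (lam + star lam) * h + star lam * (h * lam) * h := by
          noncomm_ring
        rw [e1, hl, ← hlam h]
        noncomm_ring
      -- commutation facts
      have hcu : ∀ X : R, X * h = h * X → X * u₁ = u₁ * X := by
        intro X hX
        rw [hu₁, mul_add, add_mul, mul_one, one_mul, ← mul_assoc, ← hlam X, mul_assoc, hX,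
          mul_assoc]
      have hcsu : ∀ X : R, X * h = h * X → X * star (u₁ : R) = star (u₁ : R) * X := by
        intro X hX
        rw [hsu₁, mul_add, add_mul, mul_one, one_mul, ← mul_assoc, ← hslam X, mul_assoc, hX,
          mul_assoc]
      have hcui : ∀ X : R, X * h = h * X → X * (u₁⁻¹ : Rˣ) = (u₁⁻¹ : Rˣ) * X := by
        intro X hX
        have : Commute X (u₁ : R) := hcu X hX
        exact this.units_inv_right
      have hsui : star ((u₁⁻¹ : Rˣ) : R) * star (u₁ : R) = 1 := by
        rw [← star_mul, Units.mul_inv, star_one]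
      have hsui' : star (u₁ : R) * star ((u₁⁻¹ : Rˣ) : R) = 1 := by
        rw [← star_mul, Units.inv_mul, star_one]
      have hcsui : ∀ X : R, X * h = h * X →
          X * star ((u₁⁻¹ : Rˣ) : R) = star ((u₁⁻¹ : Rˣ) : R) * X := by
        intro X hX
        have h1 := hcsu X hX
        calc X * star ((u₁⁻¹ : Rˣ) : R)
            = star ((u₁⁻¹ : Rˣ) : R) * star (u₁ : R) * (X * star ((u₁⁻¹ : Rˣ) : R)) := by
              rw [hsui, one_mul]
          _ = star ((u₁⁻¹ : Rˣ) : R) * (star (u₁ : R) * X) * star ((u₁⁻¹ : Rˣ) : R) := by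
              noncomm_ring
          _ = star ((u₁⁻¹ : Rˣ) : R) * (X * star (u₁ : R)) * star ((u₁⁻¹ : Rˣ) : R) := by
              rw [h1]
          _ = star ((u₁⁻¹ : Rˣ) : R) * X * (star (u₁ : R) * star ((u₁⁻¹ : Rˣ) : R)) := by
              noncomm_ring
          _ = star ((u₁⁻¹ : Rˣ) : R) * X := by rw [hsui', mul_one]
      -- the corrected element
      set H' := star ((u₁⁻¹ : Rˣ) : R) * H * (u₁⁻¹ : Rˣ) with hH'
      have hsH' : star H' = H' := by
        rw [hH', star_mul, star_mul, star_star, hH, mul_assoc]
      have hH'1 : H' - 1 = -(star lam * lam) * (star ((u₁⁻¹ : Rˣ) : R) * (h * h) * (u₁⁻¹ : Rˣ)) := by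
        have e1 : (1 : R) = star ((u₁⁻¹ : Rˣ) : R) * (star (u₁ : R) * u₁) * (u₁⁻¹ : Rˣ) := by
          rw [← mul_assoc, hsui, one_mul, Units.mul_inv]
        have e2 : H' - 1 = star ((u₁⁻¹ : Rˣ) : R) * (H - star (u₁ : R) * u₁) * (u₁⁻¹ : Rˣ) := by
          rw [mul_sub, sub_mul, ← e1]
        rw [e2, hmul]
        have e3 : H - (H + star lam * lam * (h * h)) = -(star lam * lam) * (h * h) := by
          noncomm_ring
        rw [e3]
        have hc : ∀ x : R, star lam * lam * x = x * (star lam * lam) := by
          intro x
          rw [mul_assoc, hlam x, ← mul_assoc, hslam x, mul_assoc]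
        rw [neg_mul, neg_mul, mul_neg, neg_mul, neg_inj]
        calc star ((u₁⁻¹ : Rˣ) : R) * (star lam * lam * (h * h)) * (u₁⁻¹ : Rˣ)
            = (star ((u₁⁻¹ : Rˣ) : R) * (star lam * lam)) * (h * h) * (u₁⁻¹ : Rˣ) := by
              noncomm_ring
          _ = (star lam * lam * star ((u₁⁻¹ : Rˣ) : R)) * (h * h) * (u₁⁻¹ : Rˣ) := by rw [hc]
          _ = star lam * lam * (star ((u₁⁻¹ : Rˣ) : R) * (h * h) * (u₁⁻¹ : Rˣ)) := by
              noncomm_ring
      have hhh : h * h = h * h := rfl
      have hk' : (H' - 1) ^ ((k + 1) / 2) = 0 := by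
        set a := star ((u₁⁻¹ : Rˣ) : R) with ha
        set b := ((u₁⁻¹ : Rˣ) : R) with hb
        have hah : Commute a h := (hcsui h rfl).symm
        have hbh : Commute b h := (hcui h rfl).symm
        have hab : Commute a b := by
          have : a * h = h * a := hah
          exact (hcui a this)
        have hmu : Commute (-(star lam * lam)) (a * (h * h) * b) := by
          show -(star lam * lam) * _ = _ * -(star lam * lam)
          rw [neg_mul, mul_neg, mul_assoc (star lam), hlam, ← mul_assoc, hslam, mul_assoc]
        rw [hH'1, hmu.mul_pow]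
        have h1 : Commute (a * (h * h)) b := by
          apply Commute.mul_left hab
          exact (hbh.mul_right hbh).symm
        have h2 : Commute a (h * h) := hah.mul_right hah
        rw [h1.mul_pow, h2.mul_pow, ← pow_two, ← pow_mul]
        have h3 : h ^ (2 * ((k + 1) / 2)) = 0 := by
          have : k ≤ 2 * ((k + 1) / 2) := by omega
          exact pow_eq_zero_of_le this hk
        rw [h3, mul_zero, zero_mul, mul_zero]
      obtain ⟨u₂, hu₂, hcu₂⟩ := ih ((k + 1) / 2) (by omega) H' hsH' hk'
      refine ⟨u₂ * u₁, ?_, ?_⟩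
      · rw [Units.val_mul, star_mul, mul_assoc, ← mul_assoc (star (u₂ : R)), hu₂, hH']
        calc star (u₁ : R) * (star ((u₁⁻¹ : Rˣ) : R) * H * (u₁⁻¹ : Rˣ) * u₁)
            = (star (u₁ : R) * star ((u₁⁻¹ : Rˣ) : R)) * H * ((u₁⁻¹ : Rˣ) * u₁) := by
              noncomm_ring
          _ = H := by rw [hsui', Units.inv_mul, one_mul, mul_one]
      · intro X hX
        have hXh : X * h = h * X := by
          rw [hh, mul_sub, sub_mul, hX, mul_one, one_mul]
        have hXH' : X * H' = H' * X := by
          rw [hH', ← mul_assoc, ← mul_assoc, hcsui X hXh, mul_assoc _ X, hX, mul_assoc, mul_assoc,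
            hcui X hXh]
          noncomm_ring
        rw [Units.val_mul, ← mul_assoc, hcu₂ X hXH', mul_assoc, hcu X hXh, mul_assoc]

end Cfsg.Agent.Lib.Helper44
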