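import Mathlib
import Cfsg.Prelude.Def_LieClassical
import Cfsg.Agent.Lib.Helper44.HermSqrt
import Cfsg.Agent.Lib.Helper44.GUFieldAut
import Cfsg.Agent.Lib.Helper43.RegCentMatrix
import Cfsg.Agent.Lib.Helper43.SpRegClasses
import Cfsg.Agent.Lib.Helper43.RegConj

/-!
# Regular unipotent elements of the unitary groups

All regular unipotent elements of `GU_n(q)` are conjugate, the determinants of the centralizer of
one of them are the `n`-th powers of the norm-one scalars, and a regular unipotent element exists.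
-/

set_option autoImplicit false

namespace Cfsg.Agent.Lib.Helper44.SUReg

open Matrix Module Cfsg.Agent.Lib.Helper43 Cfsg.Agent.Lib.Helper44.GUFA

section dag

variable {K : Type*} [Field K] {q n : ℕ}

/-- the conjugate transpose with respect to `x ↦ x ^ q` -/
def dag (q : ℕ) {n : ℕ} (A : Matrix (Fin n) (Fin n) K) : Matrix (Fin n) (Fin n) K :=
  (A.map (fun x => x ^ q))ᵀ

theorem dag_apply (A : Matrix (Fin n) (Fin n) K) (i j : Fin n) : dag q A i j = A j i ^ q := rfl

theorem dag_smul (c : K) (A : Matrix (Fin n) (Fin n) K) : dag q (c • A) = c ^ q • dag q A := by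
  ext i j
  simp [dag_apply, mul_pow]

theorem dag_one (hq : q ≠ 0) : dag q (1 : Matrix (Fin n) (Fin n) K) = 1 := by
  ext i j
  rw [dag_apply, Matrix.one_apply, Matrix.one_apply]
  by_cases h : i = j
  · subst h; simp
  · rw [if_neg h, if_neg (Ne.symm h), zero_pow hq]

theorem dag_zero (hq : q ≠ 0) : dag q (0 : Matrix (Fin n) (Fin n) K) = 0 := by
  ext i j
  simp [dag_apply, zero_pow hq]

variable [Fintype K]

theorem dag_mul (hK : Fintype.card K = q ^ 2) (A B : Matrix (Fin n) (Fin n) K) :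
    dag q (A * B) = dag q B * dag q A := by
  ext i j
  rw [dag_apply, Matrix.mul_apply, Matrix.mul_apply, frobK_sum hK]
  refine Finset.sum_congr rfl fun k _ => ?_
  rw [dag_apply, dag_apply, mul_pow, mul_comm]

theorem dag_add (hK : Fintype.card K = q ^ 2) (A B : Matrix (Fin n) (Fin n) K) :
    dag q (A + B) = dag q A + dag q B := by
  ext i j
  simp only [dag_apply, Matrix.add_apply]
  exact frobK_add hK _ _

theorem dag_dag (hK : Fintype.card K = q ^ 2) (A : Matrix (Fin n) (Fin n) K) :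
    dag q (dag q A) = A := by
  ext i j
  simp only [dag_apply]
  exact frobK_frobK hK _

/-- the star ring structure given by `dag` -/
@[reducible] def dagStarRing (hK : Fintype.card K = q ^ 2) (n : ℕ) :
    StarRing (Matrix (Fin n) (Fin n) K) where
  star := dag q
  star_involutive := dag_dag hK
  star_mul := dag_mul hK
  star_add := dag_add hK

theorem q_ne_zero (hK : Fintype.card K = q ^ 2) : q ≠ 0 := by
  have := two_le_q_of_card hK
  omega

theorem dag_sub (hK : Fintype.card K = q ^ 2) (A B : Matrix (Fin n) (Fin n) K) :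
    dag q (A - B) = dag q A - dag q B := by
  letI := dagStarRing hK n
  exact star_sub A B

theorem dag_pow (hK : Fintype.card K = q ^ 2) (A : Matrix (Fin n) (Fin n) K) (k : ℕ) :
    dag q (A ^ k) = dag q A ^ k := by
  letI := dagStarRing hK n
  exact star_pow A k

omit [Fintype K] in
theorem crit_iff_dag (A : Matrix (Fin n) (Fin n) K) : Crit q A ↔ dag q A * A = 1 := by
  unfold Crit dag
  constructor
  · intro h
    have := congrArg Matrix.transpose h
    rwa [Matrix.transpose_mul, Matrix.transpose_transpose, Matrix.transpose_one] at this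
  · intro h
    have := congrArg Matrix.transpose h
    rwa [Matrix.transpose_mul, Matrix.transpose_transpose, Matrix.transpose_one] at this

/-- there is a scalar with trace one -/
theorem exists_trace_one (hK : Fintype.card K = q ^ 2) : ∃ l : K, l + l ^ q = 1 := by
  obtain ⟨t, ht⟩ := exists_trace_ne_zero hK
  refine ⟨t / (t + t ^ q), ?_⟩
  have h1 : (t + t ^ q) ^ q = t + t ^ q := by
    rw [frobK_add hK, frobK_frobK hK, add_comm]
  rw [div_pow, h1, ← add_div, div_self ht]

/-- unipotent hermitian matrices are norms -/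
theorem herm_sqrt (hK : Fintype.card K = q ^ 2) (H : Matrix (Fin n) (Fin n) K)
    (hH : dag q H = H) (k : ℕ) (hk : (H - 1) ^ k = 0) :
    ∃ c : (Matrix (Fin n) (Fin n) K)ˣ, dag q (c : Matrix (Fin n) (Fin n) K) * c = H ∧
      ∀ X : Matrix (Fin n) (Fin n) K, X * H = H * X → X * c = c * X := by
  letI := dagStarRing hK n
  obtain ⟨l, hl⟩ := exists_trace_one hK
  refine exists_star_mul_self_of_nilpotent (l • (1 : Matrix (Fin n) (Fin n) K)) ?_ ?_ k H hH hk
  · intro x
    rw [Matrix.smul_mul, Matrix.mul_smul, one_mul, mul_one]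
  · show l • (1 : Matrix (Fin n) (Fin n) K) + dag q (l • (1 : Matrix (Fin n) (Fin n) K)) = 1
    rw [dag_smul, dag_one (q_ne_zero hK), ← add_smul, hl, one_smul]

omit [Fintype K] in
theorem scalar_nilpotent (hn : 1 ≤ n) (c : K)
    (h : IsNilpotent (c • (1 : Matrix (Fin n) (Fin n) K))) : c = 0 := by
  obtain ⟨k, hk⟩ := h
  rw [smul_pow, one_pow] at hk
  have := congrFun (congrFun hk ⟨0, hn⟩) ⟨0, hn⟩
  simp only [Matrix.smul_apply, Matrix.one_apply_eq, smul_eq_mul, mul_one, Matrix.zero_apply] at this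
  exact pow_eq_zero_iff (n := k) (by
    rintro rfl
    simp at this) |>.1 this

/-- two regular unipotent unitary matrices are conjugate under a unitary matrix -/
theorem regular_conj (hK : Fintype.card K = q ^ 2) (A B : Matrix (Fin n) (Fin n) K)
    (hA : dag q A * A = 1) (hB : dag q B * B = 1)
    (hrA : IsRegNilp (A - 1) n) (hrB : IsRegNilp (B - 1) n) :
    ∃ g : Matrix (Fin n) (Fin n) K, dag q g * g = 1 ∧ g * A = B * g := by
  have hq := q_ne_zero hK
  have hn : 1 ≤ n := hrA.pos
  obtain ⟨P, P', hPP', hP'P, hPN⟩ := hrA.exists_conj hrB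
  have hPA : P * A = B * P := by
    have h := hPN
    rw [mul_sub, sub_mul, mul_one, one_mul] at h
    exact sub_left_inj.1 h
  have hA' : A * dag q A = 1 := mul_eq_one_comm.mp hA
  set H := dag q P * P with hHdef
  have hHH : dag q H = H := by rw [hHdef, dag_mul hK, dag_dag hK]
  have hdag : dag q P * B = A * dag q P := by
    have h1 : dag q A * dag q P = dag q P * dag q B := by
      rw [← dag_mul hK, ← dag_mul hK, hPA]
    calc dag q P * B = (A * dag q A) * dag q P * B := by rw [hA', one_mul]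
      _ = A * (dag q A * dag q P) * B := by noncomm_ring
      _ = A * (dag q P * dag q B) * B := by rw [h1]
      _ = A * dag q P * (dag q B * B) := by noncomm_ring
      _ = A * dag q P := by rw [hB, mul_one]
  have hHA : H * A = A * H := by
    rw [hHdef, mul_assoc, hPA, ← mul_assoc, hdag, mul_assoc]
  have hHN : H * (A - 1) = (A - 1) * H := by
    rw [mul_sub, sub_mul, hHA, mul_one, one_mul]
  obtain ⟨h₀, k, hk⟩ := hrA.exists_scalar hHN
  have hHunit : IsUnit H := by
    have h1 : H * (P' * dag q P') = 1 := by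
      calc H * (P' * dag q P') = dag q P * (P * P') * dag q P' := by rw [hHdef]; noncomm_ring
        _ = 1 := by rw [hPP', mul_one, ← dag_mul hK, hP'P, dag_one hq]
    exact ⟨⟨H, P' * dag q P', h1, mul_eq_one_comm.mp h1⟩, rfl⟩
  haveI : Nonempty (Fin n) := ⟨⟨0, hn⟩⟩
  have hh₀ : h₀ ≠ 0 := by
    rintro rfl
    rw [zero_smul, sub_zero] at hk
    have := hHunit.pow k
    rw [hk, isUnit_zero_iff] at this
    exact zero_ne_one this
  have hh₀q : h₀ ^ q = h₀ := by
    have h1 : (dag q (H - h₀ • 1)) ^ k = 0 := by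
      rw [← dag_pow hK, hk, dag_zero hq]
    rw [dag_sub hK, hHH, dag_smul, dag_one hq] at h1
    have hcomm : Commute (H - h₀ • (1 : Matrix (Fin n) (Fin n) K)) (H - h₀ ^ q • 1) := by
      show _ * _ = _ * _
      simp only [mul_sub, sub_mul, Matrix.smul_mul, Matrix.mul_smul, one_mul, mul_one]
      rw [smul_comm]
      abel
    have h2 := hcomm.isNilpotent_sub ⟨k, hk⟩ ⟨k, h1⟩
    have h3 : (H - h₀ • (1 : Matrix (Fin n) (Fin n) K)) - (H - h₀ ^ q • 1) =
        (h₀ ^ q - h₀) • (1 : Matrix (Fin n) (Fin n) K) := by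
      rw [sub_smul]; abel
    rw [h3] at h2
    exact sub_eq_zero.1 (scalar_nilpotent hn _ h2)
  obtain ⟨c₀, hc₀⟩ := exists_norm_eq hK h₀ hh₀ hh₀q
  have hc₀0 : c₀ ≠ 0 := by
    rintro rfl
    rw [zero_pow (by omega)] at hc₀
    exact hh₀ hc₀.symm
  set P₁ := c₀⁻¹ • P with hP₁
  have hH₁ : dag q P₁ * P₁ = h₀⁻¹ • H := by
    rw [hP₁, dag_smul, Matrix.smul_mul, Matrix.mul_smul, smul_smul, ← hc₀, hHdef]
    congr 1
    rw [inv_pow, ← mul_inv, ← pow_succ]
  have hH₁H : dag q (h₀⁻¹ • H) = h₀⁻¹ • H := by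
    rw [← hH₁, dag_mul hK, dag_dag hK]
  have hk₁ : (h₀⁻¹ • H - 1) ^ k = 0 := by
    have : h₀⁻¹ • H - 1 = h₀⁻¹ • (H - h₀ • 1) := by
      rw [smul_sub, smul_smul, inv_mul_cancel₀ hh₀, one_smul]
    rw [this, smul_pow, hk, smul_zero]
  obtain ⟨c, hc, hcomm⟩ := herm_sqrt hK (h₀⁻¹ • H) hH₁H k hk₁
  have hAc : Commute A (c : Matrix (Fin n) (Fin n) K) := by
    apply hcomm
    rw [Matrix.mul_smul, Matrix.smul_mul, hHA]
  have hAci : Commute A ((c⁻¹ : (Matrix (Fin n) (Fin n) K)ˣ) : Matrix (Fin n) (Fin n) K) :=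
    hAc.units_inv_right
  refine ⟨P₁ * (c⁻¹ : (Matrix (Fin n) (Fin n) K)ˣ), ?_, ?_⟩
  · rw [dag_mul hK, mul_assoc, ← mul_assoc (dag q P₁), hH₁, ← hc]
    calc dag q ((c⁻¹ : (Matrix (Fin n) (Fin n) K)ˣ) : Matrix (Fin n) (Fin n) K) *
          (dag q (c : Matrix (Fin n) (Fin n) K) * c * (c⁻¹ : (Matrix (Fin n) (Fin n) K)ˣ))
        = (dag q ((c⁻¹ : (Matrix (Fin n) (Fin n) K)ˣ) : Matrix (Fin n) (Fin n) K) *
            dag q (c : Matrix (Fin n) (Fin n) K)) *
            ((c : Matrix (Fin n) (Fin n) K) * (c⁻¹ : (Matrix (Fin n) (Fin n) K)ˣ)) := by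
          noncomm_ring
      _ = 1 := by rw [← dag_mul hK, Units.mul_inv, dag_one hq, one_mul]
  · rw [mul_assoc, ← hAci.eq, ← mul_assoc, hP₁, Matrix.smul_mul, hPA, ← Matrix.mul_smul, mul_assoc]

/-- the determinant of a unitary matrix commuting with a regular unipotent matrix is the
`n`-th power of a norm-one scalar -/
theorem det_centralizer (hK : Fintype.card K = q ^ 2) (A g : Matrix (Fin n) (Fin n) K)
    (hrA : IsRegNilp (A - 1) n) (hg : dag q g * g = 1) (hgA : g * A = A * g) :
    ∃ c : K, c ^ (q + 1) = 1 ∧ g.det = c ^ n := by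
  have hq := q_ne_zero hK
  have hn : 1 ≤ n := hrA.pos
  have hgN : g * (A - 1) = (A - 1) * g := by
    rw [mul_sub, sub_mul, hgA, mul_one, one_mul]
  obtain ⟨c, k, hk⟩ := hrA.exists_scalar hgN
  refine ⟨c, ?_, ?_⟩
  · set M := g - c • (1 : Matrix (Fin n) (Fin n) K) with hM
    set M' := dag q g - c ^ q • (1 : Matrix (Fin n) (Fin n) K) with hM'
    have hg' : g * dag q g = 1 := mul_eq_one_comm.mp hg
    have hdN : dag q g * (A - 1) = (A - 1) * dag q g := by
      calc dag q g * (A - 1) = dag q g * (A - 1) * (g * dag q g) := by rw [hg', mul_one]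
        _ = dag q g * ((A - 1) * g) * dag q g := by noncomm_ring
        _ = dag q g * (g * (A - 1)) * dag q g := by rw [hgN]
        _ = (dag q g * g) * (A - 1) * dag q g := by noncomm_ring
        _ = (A - 1) * dag q g := by rw [hg, one_mul]
    have hMN : M * (A - 1) = (A - 1) * M := by
      rw [hM, sub_mul, mul_sub (A - 1), hgN, Matrix.smul_mul, Matrix.mul_smul, one_mul, mul_one]
    have hM'N : M' * (A - 1) = (A - 1) * M' := by
      rw [hM', sub_mul, mul_sub (A - 1), hdN, Matrix.smul_mul, Matrix.mul_smul, one_mul, mul_one]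
    have hMM' : Commute M M' := hrA.comm hMN hM'N
    have hM'eq : M' = dag q M := by
      rw [hM, hM', dag_sub hK, dag_smul, dag_one hq]
    have hMnil : IsNilpotent M := ⟨k, hk⟩
    have hM'nil : IsNilpotent M' := by
      refine ⟨k, ?_⟩
      rw [hM'eq, ← dag_pow hK, hk, dag_zero hq]
    have e : (1 - c ^ (q + 1)) • (1 : Matrix (Fin n) (Fin n) K) =
        c ^ q • M + c • M' + M' * M := by
      have h1 : g = c • (1 : Matrix (Fin n) (Fin n) K) + M := by rw [hM]; abel
      have h2 : dag q g = c ^ q • (1 : Matrix (Fin n) (Fin n) K) + M' := by rw [hM']; abel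
      have h3 := hg
      rw [h2, h1] at h3
      simp only [add_mul, mul_add, Matrix.smul_mul, Matrix.mul_smul, one_mul, mul_one,
        smul_smul] at h3
      rw [sub_smul, one_smul, pow_succ, mul_comm (c ^ q) c]
      nth_rewrite 1 [← h3]
      abel
    have hnil : IsNilpotent (c ^ q • M + c • M' + M' * M) := by
      have h1 : IsNilpotent (c ^ q • M) := hMnil.smul _
      have h2 : IsNilpotent (c • M') := hM'nil.smul _
      have h3 : IsNilpotent (M' * M) := hMM'.symm.isNilpotent_mul_right hM'nil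
      have c12 : Commute (c ^ q • M) (c • M') := (hMM'.smul_left _).smul_right _
      have h12 := c12.isNilpotent_add h1 h2
      have c123 : Commute (c ^ q • M + c • M') (M' * M) := by
        apply Commute.add_left
        · apply Commute.smul_left
          exact (hMM'.mul_right (Commute.refl M))
        · apply Commute.smul_left
          exact ((Commute.refl M').mul_right hMM'.symm)
      exact c123.isNilpotent_add h12 h3
    rw [← e] at hnil
    have := scalar_nilpotent hn _ hnil
    exact (sub_eq_zero.1 this).symm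
  · have h1 : Matrix.toLin' g = c • (1 : (Fin n → K) →ₗ[K] (Fin n → K)) +
        Matrix.toLin' (g - c • (1 : Matrix (Fin n) (Fin n) K)) := by
      rw [map_sub, map_smul, Matrix.toLin'_one]
      show _ = c • LinearMap.id + _
      abel
    have h2 : IsNilpotent (Matrix.toLin' (g - c • (1 : Matrix (Fin n) (Fin n) K))) := by
      refine ⟨k, ?_⟩
      rw [← Matrix.toLin'_pow, hk, map_zero]
    rw [← LinearMap.det_toLin', h1, det_smul_one_add_nilpotent n hrA.finrank_fun c _ h2]

end dag

section exist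

variable {K : Type*} [Field K] [Fintype K] {q n : ℕ}

open Polynomial in
/-- there is an element not fixed by `x ↦ x ^ q` -/
theorem exists_pow_ne (hK : Fintype.card K = q ^ 2) : ∃ t : K, t ^ q ≠ t := by
  classical
  have hq := two_le_q_of_card hK
  by_contra hcon
  simp only [not_exists, not_not] at hcon
  set P : K[X] := X ^ q - X with hP
  have hdeg : P.natDegree = q := by
    rw [hP]
    rw [natDegree_sub_eq_left_of_natDegree_lt] <;> simp <;> omega
  have hP0 : P ≠ 0 := by
    intro h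
    rw [h, natDegree_zero] at hdeg
    omega
  have h1 : Fintype.card K ≤ P.roots.toFinset.card := by
    rw [← Finset.card_univ]
    apply Finset.card_le_card
    intro t _
    rw [Multiset.mem_toFinset, mem_roots hP0]
    simp [hP, hcon t]
  have h2 : P.roots.toFinset.card ≤ q :=
    (Multiset.toFinset_card_le _).trans ((card_roots' P).trans hdeg.le)
  rw [hK] at h1
  nlinarith

omit [Fintype K] in
theorem shiftM_mulVec_eq_zero (hn : 1 ≤ n) (z : Fin n → K) (hz : shiftM K n *ᵥ z = 0) :
    z = z ⟨0, hn⟩ • Pi.single (⟨0, hn⟩ : Fin n) (1 : K) := by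
  funext i
  by_cases hi : i = ⟨0, hn⟩
  · subst hi; simp
  · have hi' : (i : ℕ) ≠ 0 := fun h => hi (Fin.ext h)
    have h1 := congrFun hz ⟨(i : ℕ) - 1, by omega⟩
    rw [shiftM_mulVec_of_lt _ _ (by simp; omega)] at h1
    have h2 : (⟨((⟨(i : ℕ) - 1, by omega⟩ : Fin n) : ℕ) + 1, by simp; omega⟩ : Fin n) = i := by
      apply Fin.ext
      simp; omega
    rw [h2] at h1
    simp [h1, hi]

omit [Fintype K] in
theorem shiftM_isRegNilp (hn : 1 ≤ n) : IsRegNilp (shiftM K n) n := by
  refine ⟨Fintype.card_fin n, hn, shiftM_pow_eq_zero, ?_⟩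
  have hker : finrank K (LinearMap.ker (Matrix.toLin' (shiftM K n))) = 1 := by
    have hle : LinearMap.ker (Matrix.toLin' (shiftM K n)) ≤
        K ∙ (Pi.single (⟨0, hn⟩ : Fin n) (1 : K)) := by
      intro z hz
      rw [LinearMap.mem_ker, Matrix.toLin'_apply] at hz
      rw [shiftM_mulVec_eq_zero hn z hz]
      exact Submodule.smul_mem _ _ (Submodule.mem_span_singleton_self _)
    have hge : K ∙ (Pi.single (⟨0, hn⟩ : Fin n) (1 : K)) ≤
        LinearMap.ker (Matrix.toLin' (shiftM K n)) := by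
      rw [Submodule.span_singleton_le_iff_mem, LinearMap.mem_ker, Matrix.toLin'_apply,
        Matrix.mulVec_single_one]
      funext i
      have : ¬ (0 : ℕ) = (i : ℕ) + 1 := by omega
      simp [shiftM, this]
    rw [le_antisymm hle hge, finrank_span_singleton]
    intro h
    have := congrFun h ⟨0, hn⟩
    simp at this
  have h1 := LinearMap.finrank_range_add_finrank_ker (Matrix.toLin' (shiftM K n))
  rw [hker, Module.finrank_fintype_fun_eq_card, Fintype.card_fin] at h1
  rw [Matrix.rank, ← Matrix.toLin'_apply']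
  omega

/-- the anti-identity matrix -/
def Jm (K : Type*) [Field K] (n : ℕ) : Matrix (Fin n) (Fin n) K :=
  Matrix.of fun i j => if i = Fin.rev j then 1 else 0

omit [Fintype K] in
theorem mul_Jm (A : Matrix (Fin n) (Fin n) K) (i j : Fin n) : (A * Jm K n) i j = A i (Fin.rev j) := by
  rw [Matrix.mul_apply, Finset.sum_eq_single (Fin.rev j)]
  · simp [Jm]
  · intro k _ hk
    simp [Jm, hk]
  · intro h; exact absurd (Finset.mem_univ _) h

omit [Fintype K] in
theorem Jm_mul (A : Matrix (Fin n) (Fin n) K) (i j : Fin n) : (Jm K n * A) i j = A (Fin.rev i) j := by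
  rw [Matrix.mul_apply, Finset.sum_eq_single (Fin.rev i)]
  · simp [Jm]
  · intro k _ hk
    have : i ≠ Fin.rev k := by
      intro h
      apply hk
      rw [h, Fin.rev_rev]
    simp [Jm, this]
  · intro h; exact absurd (Finset.mem_univ _) h

omit [Fintype K] in
theorem dag_shiftM_mul_Jm (hq : q ≠ 0) : dag q (shiftM K n) * Jm K n = Jm K n * shiftM K n := by
  ext i j
  rw [mul_Jm, Jm_mul, dag_apply]
  simp only [shiftM, Matrix.of_apply, Fin.val_rev]
  have hi := i.2
  have hj := j.2
  by_cases h : (i : ℕ) = n - ((j : ℕ) + 1) + 1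
  · rw [if_pos h, if_pos (by omega), one_pow]
  · rw [if_neg h, if_neg (by omega), zero_pow hq]

/-- a regular unipotent isometry of the anti-diagonal hermitian form -/
theorem exists_regular_Jm (hK : Fintype.card K = q ^ 2) (hn : 1 ≤ n) :
    ∃ g : Matrix (Fin n) (Fin n) K, dag q g * Jm K n * g = Jm K n ∧ IsRegNilp (g - 1) n := by
  have hq := q_ne_zero hK
  obtain ⟨l, hl⟩ := exists_pow_ne hK
  set N₀ := shiftM K n with hN₀
  have hreg : IsRegNilp N₀ n := shiftM_isRegNilp hn
  have hnil : IsNilpotent N₀ := ⟨n, hreg.nil⟩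
  have hnilB : IsNilpotent (l • N₀) := hnil.smul _
  have hnilC : IsNilpotent (l ^ q • N₀) := hnil.smul _
  obtain ⟨uB, huB⟩ := hnilB.isUnit_one_add
  obtain ⟨uC, huC⟩ := hnilC.isUnit_one_add
  have hJ := dag_shiftM_mul_Jm (K := K) (n := n) hq
  have hBJ : dag q (uB : Matrix (Fin n) (Fin n) K) * Jm K n = Jm K n * uC := by
    rw [huB, huC, dag_add hK, dag_one hq, dag_smul, add_mul, mul_add, one_mul, mul_one,
      Matrix.smul_mul, Matrix.mul_smul, hJ]
  have hCJ : dag q (uC : Matrix (Fin n) (Fin n) K) * Jm K n = Jm K n * uB := by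
    rw [huB, huC, dag_add hK, dag_one hq, dag_smul, add_mul, mul_add, one_mul, mul_one,
      Matrix.smul_mul, Matrix.mul_smul, hJ, frobK_frobK hK]
  have hcommBC : Commute (uB : Matrix (Fin n) (Fin n) K) uC := by
    rw [huB, huC]
    show (1 + l • N₀) * (1 + l ^ q • N₀) = (1 + l ^ q • N₀) * (1 + l • N₀)
    simp only [mul_add, add_mul, one_mul, mul_one, Matrix.smul_mul, Matrix.mul_smul]
    rw [smul_comm]
    abel
  have hcommN : Commute N₀ ((uC⁻¹ : (Matrix (Fin n) (Fin n) K)ˣ) : Matrix (Fin n) (Fin n) K) := by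
    apply Commute.units_inv_right
    rw [huC]
    exact (Commute.one_right _).add_right ((Commute.refl N₀).smul_right _)
  have hdCi : dag q ((uC⁻¹ : (Matrix (Fin n) (Fin n) K)ˣ) : Matrix (Fin n) (Fin n) K) *
      dag q (uC : Matrix (Fin n) (Fin n) K) = 1 := by
    rw [← dag_mul hK, Units.mul_inv, dag_one hq]
  refine ⟨(uB : Matrix (Fin n) (Fin n) K) * (uC⁻¹ : (Matrix (Fin n) (Fin n) K)ˣ), ?_, ?_⟩
  · rw [dag_mul hK]
    calc dag q ((uC⁻¹ : (Matrix (Fin n) (Fin n) K)ˣ) : Matrix (Fin n) (Fin n) K) *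
          dag q (uB : Matrix (Fin n) (Fin n) K) * Jm K n *
          ((uB : Matrix (Fin n) (Fin n) K) * (uC⁻¹ : (Matrix (Fin n) (Fin n) K)ˣ))
        = dag q ((uC⁻¹ : (Matrix (Fin n) (Fin n) K)ˣ) : Matrix (Fin n) (Fin n) K) *
          (dag q (uB : Matrix (Fin n) (Fin n) K) * Jm K n) *
          ((uB : Matrix (Fin n) (Fin n) K) * (uC⁻¹ : (Matrix (Fin n) (Fin n) K)ˣ)) := by
          noncomm_ring
      _ = dag q ((uC⁻¹ : (Matrix (Fin n) (Fin n) K)ˣ) : Matrix (Fin n) (Fin n) K) * Jm K n *
          (((uC : Matrix (Fin n) (Fin n) K) * uB) * (uC⁻¹ : (Matrix (Fin n) (Fin n) K)ˣ)) := by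
          rw [hBJ]; noncomm_ring
      _ = dag q ((uC⁻¹ : (Matrix (Fin n) (Fin n) K)ˣ) : Matrix (Fin n) (Fin n) K) * Jm K n *
          ((uB : Matrix (Fin n) (Fin n) K) * ((uC : Matrix (Fin n) (Fin n) K) *
            (uC⁻¹ : (Matrix (Fin n) (Fin n) K)ˣ))) := by
          rw [← hcommBC.eq]; noncomm_ring
      _ = dag q ((uC⁻¹ : (Matrix (Fin n) (Fin n) K)ˣ) : Matrix (Fin n) (Fin n) K) *
          (Jm K n * uB) := by
          rw [Units.mul_inv, mul_one, mul_assoc]
      _ = Jm K n := by
          rw [← hCJ, ← mul_assoc, hdCi, one_mul]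
  · have hU1 : (uB : Matrix (Fin n) (Fin n) K) * (uC⁻¹ : (Matrix (Fin n) (Fin n) K)ˣ) - 1 =
        N₀ * ((l - l ^ q) • ((uC⁻¹ : (Matrix (Fin n) (Fin n) K)ˣ) : Matrix (Fin n) (Fin n) K)) := by
      have h3 : (1 : Matrix (Fin n) (Fin n) K) =
          (uC : Matrix (Fin n) (Fin n) K) * (uC⁻¹ : (Matrix (Fin n) (Fin n) K)ˣ) := by
        rw [Units.mul_inv]
      nth_rewrite 1 [h3]
      rw [← sub_mul, huB, huC, Matrix.mul_smul, ← Matrix.smul_mul]
      congr 1
      rw [sub_smul]
      abel
    have hWdet : IsUnit ((l - l ^ q) •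
        ((uC⁻¹ : (Matrix (Fin n) (Fin n) K)ˣ) : Matrix (Fin n) (Fin n) K)).det := by
      rw [Matrix.det_smul]
      apply IsUnit.mul
      · exact (IsUnit.mk0 _ (sub_ne_zero.2 (Ne.symm hl))).pow _
      · exact (Matrix.isUnit_iff_isUnit_det _).mp (Units.isUnit _)
    refine ⟨hreg.card, hreg.pos, ?_, ?_⟩
    · rw [hU1, (hcommN.smul_right _).mul_pow, hreg.nil, zero_mul]
    · rw [hU1, Matrix.rank_mul_eq_left_of_isUnit_det _ _ hWdet, hreg.rank]

/-- the anti-diagonal hermitian form -/
def HJ (q n : ℕ) (x y : Fin n → K) : K := ∑ i, x i * (y (Fin.rev i)) ^ q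

theorem isHermSpace_HJ (hK : Fintype.card K = q ^ 2) : IsHermSpace q (HJ (K := K) q n) where
  add_left u u' v := by
    unfold HJ
    rw [← Finset.sum_add_distrib]
    refine Finset.sum_congr rfl fun i _ => ?_
    rw [Pi.add_apply, add_mul]
  smul_left c u v := by
    unfold HJ
    rw [Finset.mul_sum]
    refine Finset.sum_congr rfl fun i _ => ?_
    rw [Pi.smul_apply, smul_eq_mul, mul_assoc]
  conj u v := by
    unfold HJ
    rw [frobK_sum hK, ← Equiv.sum_comp Fin.revPerm]
    refine Finset.sum_congr rfl fun i _ => ?_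
    rw [Fin.revPerm_apply, Fin.rev_rev, mul_pow, frobK_frobK hK, mul_comm]
  nondeg v hv := by
    funext i
    have h := hv (Pi.single (Fin.rev i) 1)
    unfold HJ at h
    rw [Finset.sum_eq_single (Fin.rev i)] at h
    · rw [Pi.single_eq_same, one_mul, Fin.rev_rev] at h
      exact pow_eq_zero_iff (q_ne_zero hK) |>.1 h
    · intro k _ hk
      rw [Pi.single_eq_of_ne hk, zero_mul]
    · intro h'; exact absurd (Finset.mem_univ _) h'

/-- a regular unipotent unitary matrix exists -/
theorem exists_regular_unipotent (hK : Fintype.card K = q ^ 2) (hn : 1 ≤ n) :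
    ∃ A : Matrix (Fin n) (Fin n) K, dag q A * A = 1 ∧ IsRegNilp (A - 1) n := by
  have hq := q_ne_zero hK
  obtain ⟨g, hg, hgreg⟩ := exists_regular_Jm (K := K) hK hn
  obtain ⟨Θ, hΘ⟩ := exists_herm_coords hK (Fin n → K) (HJ q n) (isHermSpace_HJ hK) n
    (by rw [Module.finrank_fintype_fun_eq_card, Fintype.card_fin])
  set P := LinearMap.toMatrix' (Θ : (Fin n → K) →ₗ[K] (Fin n → K)) with hP
  set P' := LinearMap.toMatrix' (Θ.symm : (Fin n → K) →ₗ[K] (Fin n → K)) with hP'
  have hPP' : P * P' = 1 := by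
    rw [hP, hP', ← LinearMap.toMatrix'_comp]
    have : (Θ : (Fin n → K) →ₗ[K] (Fin n → K)) ∘ₗ (Θ.symm : (Fin n → K) →ₗ[K] (Fin n → K)) =
        LinearMap.id := by
      ext x
      simp
    rw [this, LinearMap.toMatrix'_id]
  have hP'P : P' * P = 1 := mul_eq_one_comm.mp hPP'
  have hPmul : ∀ x : Fin n → K, P *ᵥ x = Θ x := by
    intro x
    rw [hP, LinearMap.toMatrix'_mulVec]
    rfl
  have hdPP : dag q P * P = Jm K n := by
    ext i j
    have h1 := hΘ (Pi.single j 1) (Pi.single i 1)
    rw [← hPmul, ← hPmul, Matrix.mulVec_single_one, Matrix.mulVec_single_one] at h1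
    rw [Matrix.mul_apply]
    have h2 : ∑ k, dag q P i k * P k j = Cfsg.hermForm n K q (P.col j) (P.col i) := by
      unfold Cfsg.hermForm
      refine Finset.sum_congr rfl fun k _ => ?_
      rw [dag_apply, mul_comm]
      rfl
    rw [h2, h1]
    unfold HJ
    rw [Finset.sum_eq_single j]
    · simp only [Pi.single_eq_same, one_mul, Jm, Matrix.of_apply]
      by_cases h : i = Fin.rev j
      · rw [if_pos h, h, Pi.single_eq_same, one_pow]
      · rw [if_neg h, Pi.single_eq_of_ne (Ne.symm h), zero_pow hq]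
    · intro k _ hk
      rw [Pi.single_eq_of_ne hk, zero_mul]
    · intro h'; exact absurd (Finset.mem_univ _) h'
  refine ⟨P * g * P', ?_, ?_⟩
  · rw [dag_mul hK, dag_mul hK]
    calc dag q P' * (dag q g * dag q P) * (P * g * P')
        = dag q P' * (dag q g * (dag q P * P) * g) * P' := by noncomm_ring
      _ = dag q P' * (dag q P * P) * P' := by rw [hdPP, hg]
      _ = dag q (P * P') * (P * P') := by rw [dag_mul hK]; noncomm_ring
      _ = 1 := by rw [hPP', dag_one hq, one_mul]
  · have : P * g * P' - 1 = P * (g - 1) * P' := by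
      rw [mul_sub, sub_mul, mul_one, hPP']
    rw [this]
    exact hgreg.conj P P' hPP'

end exist

end Cfsg.Agent.Lib.Helper44.SUReg
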