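import Mathlib
import Cfsg.Agent.Lib.Helper2.BGPoly

/-!
# Roots of unity in a finite field

* `exists_root_of_unity`: a nontrivial `r`-th root of unity when `r ∣ q - 1`.
* `exists_root_E1`: an `n`-th root of the inverse of an `r`-th root of unity when the `r`-part of `n`
  is smaller than that of `q - 1`.
-/

set_option autoImplicit false

namespace Cfsg.Agent.Lib.Helper44.Sfr

universe v
variable {F : Type v} [Field F] [Fintype F]

theorem exists_root_of_unity (r : ℕ) [hr : Fact r.Prime] (hrq : r ∣ Fintype.card F - 1) :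
    ∃ ω : F, ω ^ r = 1 ∧ ω ≠ 1 := by
  classical
  have hcard : r ∣ Fintype.card Fˣ := by rw [Fintype.card_units]; exact hrq
  obtain ⟨x, hx⟩ := exists_prime_orderOf_dvd_card r hcard
  refine ⟨(x : F), ?_, ?_⟩
  · have := pow_orderOf_eq_one x
    rw [hx] at this
    have h2 := congrArg (fun u : Fˣ => (u : F)) this
    simpa using h2
  · intro h1
    have : x = 1 := Units.ext h1
    rw [this, orderOf_one] at hx
    exact hr.out.one_lt.ne hx

/-- iterated `r`-th roots -/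
theorem exists_iter_root (r : ℕ) [hr : Fact r.Prime] :
    ∀ (j m : ℕ) (c : F), c ≠ 0 → c ^ (r ^ m) = 1 →
      m + j ≤ padicValNat r (Fintype.card F - 1) → ∃ b : F, b ^ (r ^ j) = c := by
  intro j
  induction j with
  | zero =>
    intro m c _ _ _
    exact ⟨c, by simp⟩
  | succ j ih =>
    intro m c hc0 hc hm
    have hrm : r ^ m ≠ 0 := pow_ne_zero _ hr.out.ne_zero
    obtain ⟨b₁, hb₁⟩ := Cfsg.Agent.Lib.Helper2.BG.exists_pow_eq_of_pow_eq_one hr.out hc0 hrm hc (by
      rw [padicValNat.prime_pow]; omega)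
    have hb₁0 : b₁ ≠ 0 := by
      rintro rfl
      rw [zero_pow hr.out.ne_zero] at hb₁
      exact hc0 hb₁.symm
    have hb₁' : b₁ ^ (r ^ (m + 1)) = 1 := by
      rw [pow_succ', pow_mul, hb₁, hc]
    obtain ⟨b, hb⟩ := ih (m + 1) b₁ hb₁0 hb₁' (by omega)
    exact ⟨b, by rw [pow_succ, pow_mul, hb, hb₁]⟩

theorem exists_root_E1 (n : ℕ) (hn : 0 < n) (r : ℕ) [hr : Fact r.Prime] (ω : F) (hω : ω ^ r = 1)
    (hv : padicValNat r n < padicValNat r (Fintype.card F - 1)) : ∃ c : F, c ^ n * ω = 1 := by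
  have hω0 : ω ≠ 0 := by
    rintro rfl
    rw [zero_pow hr.out.ne_zero] at hω
    exact zero_ne_one hω
  -- `n = r^a * n'` with `n'` prime to `r`
  obtain ⟨n', hn'r, hn'⟩ : ∃ n' : ℕ, ¬ r ∣ n' ∧ n = r ^ padicValNat r n * n' := by
    obtain ⟨e, m, hm, hnm⟩ := Nat.exists_eq_pow_mul_and_not_dvd hn.ne' r hr.out.ne_one
    refine ⟨m, hm, ?_⟩
    have hm0 : m ≠ 0 := by
      rintro rfl
      simp at hm
    have : padicValNat r n = e := by
      rw [hnm, padicValNat.mul (pow_ne_zero _ hr.out.ne_zero) hm0, padicValNat.prime_pow,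
        padicValNat.eq_zero_of_not_dvd hm, add_zero]
    rw [this]
    exact hnm
  set a := padicValNat r n with ha
  -- an inverse of `n'` modulo `r`
  have hcop : Nat.Coprime n' r := ((Nat.Prime.coprime_iff_not_dvd hr.out).2 hn'r).symm
  obtain ⟨i, -, hi⟩ := Nat.exists_mul_mod_eq_one_of_coprime hcop hr.out.one_lt
  -- `c₁ = ω^(-i)`, realised as `ω^(i * (r - 1))`
  set c₁ : F := ω ^ (i * (r - 1)) with hc₁
  have hc₁r : c₁ ^ (r ^ 1) = 1 := by
    rw [pow_one, hc₁, ← pow_mul, mul_comm, pow_mul, hω, one_pow]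
  have hc₁0 : c₁ ≠ 0 := pow_ne_zero _ hω0
  obtain ⟨b, hb⟩ := exists_iter_root r a 1 c₁ hc₁0 hc₁r (by omega)
  refine ⟨b, ?_⟩
  rw [hn', pow_mul, hb, hc₁, ← pow_mul, ← pow_succ]
  -- exponent is `≡ 0` modulo `r`
  have hmod : (i * (r - 1) * n' + 1) % r = 0 := by
    have h1 : (n' * i) % r = 1 := hi
    have hr1 : 1 ≤ r := hr.out.one_lt.le
    have : i * (r - 1) * n' + 1 + n' * i = r * (i * n') + 1 := by
      zify [hr1]; ring
    have h2 : (i * (r - 1) * n' + 1 + n' * i) % r = 1 % r := by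
      rw [this, Nat.add_mod, Nat.mul_mod_right, zero_add, Nat.mod_mod]
    rw [Nat.add_mod, h1] at h2
    have h3 : ((i * (r - 1) * n' + 1) % r + 1) % r = 1 % r := h2
    have hlt : (i * (r - 1) * n' + 1) % r < r := Nat.mod_lt _ hr.out.pos
    rw [Nat.mod_eq_of_lt hr.out.one_lt] at h3
    by_contra hne
    by_cases hlast : (i * (r - 1) * n' + 1) % r + 1 = r
    · rw [hlast, Nat.mod_self] at h3; exact zero_ne_one h3
    · rw [Nat.mod_eq_of_lt (by omega)] at h3; omega
  obtain ⟨m, hm⟩ := Nat.dvd_of_mod_eq_zero hmod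
  rw [hm, pow_mul, hω, one_pow]

end Cfsg.Agent.Lib.Helper44.Sfr
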