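import Mathlib
import Cfsg.Agent.Lib.Helper44.HermSpace
import Cfsg.Agent.Lib.Helper44.Transport
import Cfsg.Agent.Lib.Helper44.NormForm

/-!
# Splitting a hermitian space along a nondegenerate subspace
-/

set_option autoImplicit false

namespace Cfsg.Agent.Lib.Helper44

open Module

universe u v

section split

set_option linter.unusedSectionVars false

variable {K : Type v} [Field K] [Fintype K] {q : ℕ} {V : Type u} [AddCommGroup V] [Module K V]
  {H : V → V → K}

/-- the orthogonal complement of a submodule -/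
def hermOrth (hH : IsHermSpace q H) (W : Submodule K V) : Submodule K V where
  carrier := {v | ∀ w ∈ W, H v w = 0}
  add_mem' := by
    intro a b ha hb w hw
    rw [hH.add_left, ha w hw, hb w hw, add_zero]
  zero_mem' := by
    intro w _
    exact hH.zero_left w
  smul_mem' := by
    intro c a ha w hw
    rw [hH.smul_left, ha w hw, mul_zero]

lemma mem_hermOrth (hH : IsHermSpace q H) (W : Submodule K V) (v : V) :
    v ∈ hermOrth hH W ↔ ∀ w ∈ W, H v w = 0 := Iff.rfl

/-- restriction of a form to a submodule -/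
def restrForm (H : V → V → K) (W : Submodule K V) : W → W → K := fun a b => H a b

lemma restrForm_apply (W : Submodule K V) (a b : W) : restrForm H W a b = H a b := rfl

/-- restriction of a linear equivalence to an invariant submodule -/
def restrictEquiv (g : V ≃ₗ[K] V) (P : Submodule K V) (hP : ∀ v, v ∈ P ↔ g v ∈ P) : P ≃ₗ[K] P where
  toFun w := ⟨g w, (hP w).mp w.2⟩
  invFun w := ⟨g.symm w, (hP _).mpr (by rw [LinearEquiv.apply_symm_apply]; exact w.2)⟩
  map_add' a b := Subtype.ext (by simp)
  map_smul' c a := Subtype.ext (by simp)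
  left_inv w := Subtype.ext (by simp)
  right_inv w := Subtype.ext (by simp)

lemma restrictEquiv_apply (g : V ≃ₗ[K] V) (P : Submodule K V) (hP : ∀ v, v ∈ P ↔ g v ∈ P) (w : P) :
    ((restrictEquiv g P hP w : P) : V) = g w := rfl

/-- the stabiliser of a submodule in the abstract unitary group -/
def stabSub (H : V → V → K) (W : Submodule K V) : Subgroup ↥(absPreserving K H) where
  carrier := {g | ∀ v, v ∈ W ↔ (g : V ≃ₗ[K] V) v ∈ W}
  mul_mem' := by
    intro a b ha hb v
    rw [Subgroup.coe_mul, LinearEquiv.mul_apply]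
    exact (hb v).trans (ha _)
  one_mem' := by
    intro v
    rfl
  inv_mem' := by
    intro a ha v
    have h1 := ha (((a : V ≃ₗ[K] V)).symm v)
    rw [LinearEquiv.apply_symm_apply] at h1
    exact h1.symm

lemma mem_stabSub (W : Submodule K V) (g : ↥(absPreserving K H)) :
    g ∈ stabSub H W ↔ ∀ v, v ∈ W ↔ (g : V ≃ₗ[K] V) v ∈ W := Iff.rfl

/-- Splitting along a nondegenerate subspace `W`: both `W` and `W^⊥` are nondegenerate hermitian
spaces, and the stabiliser of `W` in the unitary group is `U(W) × U(W^⊥)`. -/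
theorem split_stabilizer [FiniteDimensional K V] (hK : Fintype.card K = q ^ 2)
    (hH : IsHermSpace q H) (W : Submodule K V)
    (hW : ∀ w ∈ W, (∀ u ∈ W, H u w = 0) → w = 0) :
    IsHermSpace q (restrForm H W) ∧ IsHermSpace q (restrForm H (hermOrth hH W)) ∧
    finrank K W + finrank K (hermOrth hH W) = finrank K V ∧
    Nonempty (↥(stabSub H W) ≃* ↥(absPreserving K (restrForm H W)) ×
      ↥(absPreserving K (restrForm H (hermOrth hH W)))) := by
  classical
  set W' := hermOrth hH W with hW'
  have hq := two_le_q_of_card hK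
  have hsymm : ∀ a b, H a b = 0 → H b a = 0 := by
    intro a b h
    rw [← hH.conj, h, zero_pow (by omega)]
  have h1 : IsHermSpace q (restrForm H W) :=
    { add_left := fun a a' b => hH.add_left a a' b
      smul_left := fun c a b => hH.smul_left c a b
      conj := fun a b => hH.conj a b
      nondeg := by
        intro b hb
        exact Subtype.ext (hW b b.2 (fun u hu => hb ⟨u, hu⟩)) }
  obtain ⟨e, he⟩ := orthonormal_family hK (finrank K W) W (restrForm H W) h1 rfl
  obtain ⟨hexp, -⟩ := orthonormal_coords hK W (restrForm H W) h1 (finrank K W) rfl e he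
  let π : V → V := fun v => ∑ i, H v (e i) • (e i : V)
  have hπdef : ∀ v, π v = ∑ i, H v (e i) • (e i : V) := fun v => rfl
  have hπW : ∀ v, π v ∈ W := fun v => Submodule.sum_mem _ fun i _ => W.smul_mem _ (e i).2
  have hπ' : ∀ v, v - π v ∈ W' := by
    intro v w hw
    have hw' : w = ∑ j, H w (e j) • (e j : V) := by
      have h3 := congrArg Subtype.val (hexp ⟨w, hw⟩)
      rw [Submodule.coe_sum] at h3
      exact h3
    rw [hH.sub_left]
    have e1 : H v w = ∑ j, (H w (e j)) ^ q * H v (e j) := by
      conv_lhs => rw [hw']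
      rw [hH.sum_right hK]
      exact Finset.sum_congr rfl fun j _ => hH.smul_right _ _ _
    have e2 : H (π v) w = ∑ i, H v (e i) * H (e i) w := by
      rw [hπdef, hH.sum_left]
      exact Finset.sum_congr rfl fun i _ => hH.smul_left _ _ _
    rw [e1, e2, sub_eq_zero]
    refine Finset.sum_congr rfl fun j _ => ?_
    rw [hH.conj, mul_comm]
  have hdisj : ∀ v, v ∈ W → v ∈ W' → v = 0 := by
    intro v hv hv'
    exact hW v hv (fun u hu => hsymm _ _ (hv' u hu))
  have hdecomp : ∀ v : V, v = π v + (v - π v) := fun v => by abel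
  have hcompl : IsCompl W W' := by
    constructor
    · rw [Submodule.disjoint_def]
      exact hdisj
    · rw [codisjoint_iff, eq_top_iff]
      intro v _
      rw [hdecomp v]
      exact Submodule.add_mem_sup (hπW v) (hπ' v)
  have h2 : IsHermSpace q (restrForm H W') :=
    { add_left := fun a a' b => hH.add_left a a' b
      smul_left := fun c a b => hH.smul_left c a b
      conj := fun a b => hH.conj a b
      nondeg := by
        intro b hb
        apply Subtype.ext
        apply hH.nondeg
        intro u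
        rw [hdecomp u, hH.add_left]
        have e1 : H (π u) b = 0 := hsymm _ _ (b.2 _ (hπW u))
        have e2 : H (u - π u) b = 0 := hb ⟨u - π u, hπ' u⟩
        rw [e1, e2, add_zero] }
  refine ⟨h1, h2, Submodule.finrank_add_eq_of_isCompl hcompl, ?_⟩
  have hstab' : ∀ g : ↥(stabSub H W), ∀ v,
      v ∈ W' ↔ ((g : ↥(absPreserving K H)) : V ≃ₗ[K] V) v ∈ W' := by
    intro g v
    have hg := g.2
    have hpres := (g : ↥(absPreserving K H)).2
    constructor
    · intro hv w hw
      have hw2 : (((g : ↥(absPreserving K H)) : V ≃ₗ[K] V)).symm w ∈ W :=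
        (hg _).mpr (by rw [LinearEquiv.apply_symm_apply]; exact hw)
      have h3 := hpres v ((((g : ↥(absPreserving K H)) : V ≃ₗ[K] V)).symm w)
      rw [LinearEquiv.apply_symm_apply] at h3
      rw [h3]
      exact hv _ hw2
    · intro hv w hw
      rw [← hpres]
      exact hv _ ((hg w).mp hw)
  let ρ : ↥(stabSub H W) →* ↥(absPreserving K (restrForm H W)) ×
      ↥(absPreserving K (restrForm H W')) :=
    { toFun := fun g =>
        (⟨restrictEquiv ((g : ↥(absPreserving K H)) : V ≃ₗ[K] V) W g.2,
            fun a b => (g : ↥(absPreserving K H)).2 a b⟩,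
          ⟨restrictEquiv ((g : ↥(absPreserving K H)) : V ≃ₗ[K] V) W' (hstab' g),
            fun a b => (g : ↥(absPreserving K H)).2 a b⟩)
      map_one' := by
        apply Prod.ext <;>
        · apply Subtype.ext
          apply LinearEquiv.ext
          intro w
          apply Subtype.ext
          rfl
      map_mul' := by
        intro g g'
        apply Prod.ext <;>
        · apply Subtype.ext
          apply LinearEquiv.ext
          intro w
          apply Subtype.ext
          rfl }
  have hρW : ∀ (g : ↥(stabSub H W)) (w : W),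
      (((ρ g).1 : W ≃ₗ[K] W) w : V) = ((g : ↥(absPreserving K H)) : V ≃ₗ[K] V) w := fun g w => rfl
  have hρW' : ∀ (g : ↥(stabSub H W)) (w : W'),
      (((ρ g).2 : W' ≃ₗ[K] W') w : V) = ((g : ↥(absPreserving K H)) : V ≃ₗ[K] V) w := fun g w => rfl
  have hinj : Function.Injective ρ := by
    intro g g' hgg'
    apply Subtype.ext
    apply Subtype.ext
    apply LinearEquiv.ext
    intro v
    rw [hdecomp v, map_add, map_add]
    have e1 := hρW g ⟨π v, hπW v⟩
    have e2 := hρW' g ⟨v - π v, hπ' v⟩
    rw [hgg', hρW] at e1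
    rw [hgg', hρW'] at e2
    simp only at e1 e2
    rw [e1, e2]
  have hsurj : Function.Surjective ρ := by
    rintro ⟨a, b⟩
    let P := Submodule.prodEquivOfIsCompl W W' hcompl
    let gl : V ≃ₗ[K] V :=
      P.symm.trans ((LinearEquiv.prodCongr (a : W ≃ₗ[K] W) (b : W' ≃ₗ[K] W')).trans P)
    have hgl : ∀ (w : W) (w' : W'), gl ((w : V) + (w' : V))
        = ((a : W ≃ₗ[K] W) w : V) + ((b : W' ≃ₗ[K] W') w' : V) := by
      intro w w'
      have h3 : (w : V) + (w' : V) = P (w, w') :=
        (Submodule.coe_prodEquivOfIsCompl' W W' hcompl (w, w')).symm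
      rw [h3]
      simp only [gl, LinearEquiv.trans_apply, LinearEquiv.symm_apply_apply,
        LinearEquiv.prodCongr_apply]
      exact Submodule.coe_prodEquivOfIsCompl' W W' hcompl _
    have hgl' : ∀ v, gl v = ((a : W ≃ₗ[K] W) ⟨π v, hπW v⟩ : V)
        + ((b : W' ≃ₗ[K] W') ⟨v - π v, hπ' v⟩ : V) := by
      intro v
      conv_lhs => rw [hdecomp v]
      exact hgl ⟨π v, hπW v⟩ ⟨v - π v, hπ' v⟩
    have hcross : ∀ (x : W) (y : W'), H (x : V) (y : V) = 0 ∧ H (y : V) (x : V) = 0 :=
      fun x y => ⟨hsymm _ _ (y.2 _ x.2), y.2 _ x.2⟩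
    have hglmem : gl ∈ absPreserving K H := by
      intro u v
      rw [hgl' u, hgl' v]
      conv_rhs => rw [hdecomp u, hdecomp v]
      rw [hH.add_left, hH.add_right hK, hH.add_right hK, hH.add_left, hH.add_right hK,
        hH.add_right hK]
      rw [(hcross _ _).1, (hcross _ _).2]
      rw [(hcross ⟨π u, hπW u⟩ ⟨v - π v, hπ' v⟩).1, (hcross ⟨π v, hπW v⟩ ⟨u - π u, hπ' u⟩).2]
      have e1 := a.2 ⟨π u, hπW u⟩ ⟨π v, hπW v⟩
      have e2 := b.2 ⟨u - π u, hπ' u⟩ ⟨v - π v, hπ' v⟩
      simp only [restrForm_apply] at e1 e2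
      rw [e1, e2]
    have hglstab : (⟨gl, hglmem⟩ : ↥(absPreserving K H)) ∈ stabSub H W := by
      intro v
      show v ∈ W ↔ gl v ∈ W
      rw [hgl' v]
      constructor
      · intro hv
        have h3 : v - π v = 0 := hdisj _ (W.sub_mem hv (hπW v)) (hπ' v)
        have h4 : (⟨v - π v, hπ' v⟩ : W') = 0 := Subtype.ext h3
        rw [h4, map_zero, Submodule.coe_zero, add_zero]
        exact Submodule.coe_mem _
      · intro hv
        have h3 : ((b : W' ≃ₗ[K] W') ⟨v - π v, hπ' v⟩ : V) ∈ W := by
          have := W.sub_mem hv (Submodule.coe_mem ((a : W ≃ₗ[K] W) ⟨π v, hπW v⟩))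
          simpa using this
        have h4 : ((b : W' ≃ₗ[K] W') ⟨v - π v, hπ' v⟩ : V) = 0 :=
          hdisj _ h3 (Submodule.coe_mem _)
        have h5 : (b : W' ≃ₗ[K] W') ⟨v - π v, hπ' v⟩ = 0 := Subtype.ext h4
        have h6 : (⟨v - π v, hπ' v⟩ : W') = 0 := by
          have := (LinearEquiv.map_eq_zero_iff (b : W' ≃ₗ[K] W')).mp h5
          exact this
        have h7 : v - π v = 0 := congrArg Subtype.val h6
        rw [hdecomp v, h7, add_zero]
        exact hπW v
    refine ⟨⟨⟨gl, hglmem⟩, hglstab⟩, ?_⟩
    apply Prod.ext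
    · apply Subtype.ext
      apply LinearEquiv.ext
      intro w
      apply Subtype.ext
      show gl (w : V) = _
      have h3 := hgl w 0
      simp only [Submodule.coe_zero, add_zero, map_zero] at h3
      exact h3
    · apply Subtype.ext
      apply LinearEquiv.ext
      intro w
      apply Subtype.ext
      show gl (w : V) = _
      have h3 := hgl 0 w
      simp only [Submodule.coe_zero, zero_add, map_zero] at h3
      exact h3
  exact ⟨MulEquiv.ofBijective ρ ⟨hinj, hsurj⟩⟩

end split

/-- the standard hermitian space -/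
theorem isHermSpace_std {K : Type*} [Field K] [Fintype K] {q : ℕ} (hK : Fintype.card K = q ^ 2)
    (n : ℕ) : IsHermSpace q (Cfsg.hermForm n K q) :=
  { add_left := fun u u' v => hermForm_add_left n K q u u' v
    smul_left := fun c u v => hermForm_smul_left n K q c u v
    conj := fun u v => hermForm_pow hK n u v
    nondeg := fun v hv => hermForm_nd n K q v hv }

/-- the unitary group of any nondegenerate hermitian space of dimension `m` is `GU_m(q)` -/
theorem exists_mulEquiv_GU {K : Type*} [Field K] [Fintype K] {q : ℕ} (hK : Fintype.card K = q ^ 2)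
    (V : Type*) [AddCommGroup V] [Module K V] [FiniteDimensional K V] (H : V → V → K)
    (hH : IsHermSpace q H) (m : ℕ) (hfr : Module.finrank K V = m) :
    Nonempty (↥(absPreserving K H) ≃* ↥(Cfsg.GU m K q)) := by
  obtain ⟨Θ, hΘ⟩ := exists_herm_coords hK V H hH m hfr
  obtain ⟨φ, -⟩ := exists_mulEquiv_preserving (Cfsg.hermForm m K q) H Θ hΘ
  exact ⟨φ⟩

end Cfsg.Agent.Lib.Helper44
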