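import Mathlib
import Cfsg.Agent.Lib.Helper44.HermSplit
import Cfsg.Agent.Lib.Helper44.SURegUnip
import Cfsg.Agent.Lib.Helper43.NilpConj
import Cfsg.Agent.Lib.Helper43.JordanType

/-!
# Unipotent isometries of hermitian spaces are classified by their Jordan type

Splitting off a nondegenerate maximal cyclic subspace; uniqueness by induction; existence by
orthogonal sums of regular blocks.
-/

set_option autoImplicit false

namespace Cfsg.Agent.Lib.Helper44.HU

open Module Matrix Cfsg.Agent.Lib.Helper43 Cfsg.Agent.Lib.Helper99 Cfsg.Agent.Lib.Helper44.SUReg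

universe u v

section split

variable {K : Type v} [Field K] [Fintype K] {q : ℕ} {V : Type u} [AddCommGroup V] [Module K V]
  {H : V → V → K}

omit [Fintype K] in
theorem herm_symm_zero (hq : q ≠ 0) (hH : IsHermSpace q H) (a b : V) (h : H a b = 0) : H b a = 0 := by
  rw [← hH.conj, h, zero_pow hq]

/-- the orthogonal complement of a nondegenerate subspace is a nondegenerate complement -/
theorem isCompl_hermOrth [FiniteDimensional K V] (hK : Fintype.card K = q ^ 2)
    (hH : IsHermSpace q H) (W : Submodule K V)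
    (hW : ∀ w ∈ W, (∀ u ∈ W, H u w = 0) → w = 0) :
    IsHermSpace q (restrForm H W) ∧ IsHermSpace q (restrForm H (hermOrth hH W)) ∧
      IsCompl W (hermOrth hH W) := by
  classical
  set W' := hermOrth hH W with hW'
  have hq := q_ne_zero hK
  have hsymm : ∀ a b, H a b = 0 → H b a = 0 := herm_symm_zero hq hH
  have h1 : IsHermSpace q (restrForm H W) :=
    { add_left := fun a a' b => hH.add_left a a' b
      smul_left := fun c a b => hH.smul_left c a b
      conj := fun a b => hH.conj a b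
      nondeg := by
        intro b hb
        exact Subtype.ext (hW b b.2 (fun u hu => hb ⟨u, hu⟩)) }
  obtain ⟨e, he⟩ := orthonormal_family hK (finrank K W) W (restrForm H W) h1 rfl
  obtain ⟨hexp, -⟩ := orthonormal_coords hK W (restrForm H W) h1 (finrank K W) rfl e he
  let π : V → V := fun v => ∑ i, H v (e i) • (e i : V)
  have hπdef : ∀ v, π v = ∑ i, H v (e i) • (e i : V) := fun v => rfl
  have hπW : ∀ v, π v ∈ W := fun v => Submodule.sum_mem _ fun i _ => W.smul_mem _ (e i).2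
  have hπ' : ∀ v, v - π v ∈ W' := by
    intro v w hw
    have hw' : w = ∑ j, H w (e j) • (e j : V) := by
      have h3 := congrArg Subtype.val (hexp ⟨w, hw⟩)
      rw [Submodule.coe_sum] at h3
      exact h3
    rw [hH.sub_left]
    have e1 : H v w = ∑ j, (H w (e j)) ^ q * H v (e j) := by
      conv_lhs => rw [hw']
      rw [hH.sum_right hK]
      exact Finset.sum_congr rfl fun j _ => hH.smul_right _ _ _
    have e2 : H (π v) w = ∑ i, H v (e i) * H (e i) w := by
      rw [hπdef, hH.sum_left]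
      exact Finset.sum_congr rfl fun i _ => hH.smul_left _ _ _
    rw [e1, e2, sub_eq_zero]
    refine Finset.sum_congr rfl fun j _ => ?_
    rw [hH.conj, mul_comm]
  have hdisj : ∀ v, v ∈ W → v ∈ W' → v = 0 := by
    intro v hv hv'
    exact hW v hv (fun u hu => hsymm _ _ (hv' u hu))
  have hdecomp : ∀ v : V, v = π v + (v - π v) := fun v => by abel
  have hcompl : IsCompl W W' := by
    constructor
    · rw [Submodule.disjoint_def]
      exact hdisj
    · rw [codisjoint_iff, eq_top_iff]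
      intro v _
      rw [hdecomp v]
      exact Submodule.add_mem_sup (hπW v) (hπ' v)
  have h2 : IsHermSpace q (restrForm H W') :=
    { add_left := fun a a' b => hH.add_left a a' b
      smul_left := fun c a b => hH.smul_left c a b
      conj := fun a b => hH.conj a b
      nondeg := by
        intro b hb
        apply Subtype.ext
        apply hH.nondeg
        intro u
        rw [hdecomp u, hH.add_left]
        have e1 : H (π u) b = 0 := hsymm _ _ (b.2 _ (hπW u))
        have e2 : H (u - π u) b = 0 := hb ⟨u - π u, hπ' u⟩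
        rw [e1, e2, add_zero] }
  exact ⟨h1, h2, hcompl⟩

/-- an isometry is injective -/
theorem isometry_injective (hK : Fintype.card K = q ^ 2) (hH : IsHermSpace q H) (T : V →ₗ[K] V)
    (hT : ∀ x y, H (T x) (T y) = H x y) : Function.Injective T := by
  rw [← LinearMap.ker_eq_bot, LinearMap.ker_eq_bot']
  intro x hx
  apply hH.nondeg
  intro u
  apply herm_symm_zero (q_ne_zero hK) hH
  rw [← hT, hx]
  exact hH.zero_left _

/-- if `N ^ (d - 1) ≠ 0` is "skew" for the form, some vector has `H (N ^ (d - 1) v) v ≠ 0` -/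
theorem exists_top_ne_zero (hK : Fintype.card K = q ^ 2) (hH : IsHermSpace q H) (M : V →ₗ[K] V)
    (hM : M ≠ 0) : ∃ v, H (M v) v ≠ 0 := by
  by_contra hcon
  push Not at hcon
  apply hM
  obtain ⟨c, hc⟩ := exists_pow_ne hK
  have hpol : ∀ x y, H (M x) y + H (M y) x = 0 := by
    intro x y
    have h1 := hcon (x + y)
    rw [map_add, hH.add_left, hH.add_right hK, hH.add_right hK, hcon x, hcon y] at h1
    rw [← h1]; ring
  apply LinearMap.ext
  intro x
  rw [LinearMap.zero_apply]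
  apply hH.nondeg
  intro y
  apply herm_symm_zero (q_ne_zero hK) hH
  have h1 := hpol x y
  have h2 := hpol (c • x) y
  rw [map_smul, hH.smul_left, hH.smul_right] at h2
  have h3 : H (M y) x = -H (M x) y := by
    rw [eq_neg_iff_add_eq_zero, add_comm]; exact h1
  rw [h3] at h2
  have h4 : (c - c ^ q) * H (M x) y = 0 := by
    rw [sub_mul, ← h2]; ring
  rcases mul_eq_zero.1 h4 with h5 | h5
  · exact absurd (sub_eq_zero.1 h5).symm hc
  · exact h5

/-- a maximal cyclic subspace of a unipotent isometry on which the form is nondegenerate -/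
theorem exists_nondeg_cyc [FiniteDimensional K V] (hK : Fintype.card K = q ^ 2)
    (hH : IsHermSpace q H) (T : V →ₗ[K] V) (hT : ∀ x y, H (T x) (T y) = H x y) (d : ℕ)
    (hd : 1 ≤ d) (hNd : (T - 1) ^ d = 0) (hNd' : (T - 1) ^ (d - 1) ≠ 0) :
    ∃ v : V, ((T - 1) ^ (d - 1)) v ≠ 0 ∧
      ∀ w ∈ cyc (T - 1) d v, (∀ u ∈ cyc (T - 1) d v, H u w = 0) → w = 0 := by
  classical
  have hq := q_ne_zero hK
  set N := T - 1 with hN
  have hTN : ∀ x, T x = x + N x := by
    intro x
    rw [hN, LinearMap.sub_apply, Module.End.one_apply]; abel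
  obtain ⟨v, hv⟩ := exists_top_ne_zero hK hH (N ^ (d - 1)) hNd'
  have hv0 : (N ^ (d - 1)) v ≠ 0 := by
    intro h
    apply hv
    rw [h]
    exact hH.zero_left _
  refine ⟨v, hv0, ?_⟩
  set W := cyc N d v with hW
  have hNW : ∀ x ∈ W, N x ∈ W := cyc_invariant N d hNd v
  have hTW : ∀ x ∈ W, T x ∈ W := by
    intro x hx
    rw [hTN]
    exact W.add_mem hx (hNW x hx)
  have hTinj : Function.Injective T := isometry_injective hK hH T hT
  have hsurj : Function.Surjective (T.restrict hTW) := by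
    apply LinearMap.surjective_of_injective
    intro a b hab
    apply Subtype.ext
    apply hTinj
    exact congrArg Subtype.val hab
  -- the radical is invariant
  have hrad : ∀ w ∈ W, (∀ u ∈ W, H u w = 0) → (∀ u ∈ W, H u (N w) = 0) := by
    intro w hw hperp u hu
    obtain ⟨u', hu'⟩ := hsurj ⟨u, hu⟩
    have hu'' : T u' = u := congrArg Subtype.val hu'
    have h1 := hH.add_right hK u w (N w)
    rw [← hTN, hperp u hu, zero_add] at h1
    rw [← h1, ← hu'', hT]
    exact hperp _ u'.2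
  have hradpow : ∀ (j : ℕ) (w : V), w ∈ W → (∀ u ∈ W, H u w = 0) →
      ((N ^ j) w ∈ W ∧ ∀ u ∈ W, H u ((N ^ j) w) = 0) := by
    intro j
    induction j with
    | zero =>
      intro w hw hperp
      exact ⟨hw, hperp⟩
    | succ j ih =>
      intro w hw hperp
      obtain ⟨h1, h2⟩ := ih w hw hperp
      rw [pow_succ', Module.End.mul_apply]
      exact ⟨hNW _ h1, hrad _ h1 h2⟩
  intro w hw hperp
  by_contra hw0
  -- the last nonzero iterate of `w`
  have hex : ∃ k, (N ^ k) w = 0 := ⟨d, by rw [hNd]; rfl⟩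
  set k₀ := Nat.find hex with hk₀
  have hk₀spec : (N ^ k₀) w = 0 := Nat.find_spec hex
  have hk₀pos : k₀ ≠ 0 := by
    intro h0
    rw [h0, pow_zero] at hk₀spec
    exact hw0 hk₀spec
  have hk₀min : (N ^ (k₀ - 1)) w ≠ 0 := Nat.find_min hex (by omega)
  set z := (N ^ (k₀ - 1)) w with hz
  obtain ⟨hzW, hzperp⟩ := hradpow (k₀ - 1) w hw hperp
  have hNz : N z = 0 := by
    rw [hz, ← Module.End.mul_apply, ← pow_succ']
    have : k₀ - 1 + 1 = k₀ := by omega
    rw [this]
    exact hk₀spec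
  -- the kernel of `N` on `W` is spanned by the top iterate
  have hker1 : finrank K (LinearMap.ker (N.restrict hNW)) ≤ 1 := by
    have := dker_cyc N d hd hNd v hv0 1
    unfold dker at this
    rw [pow_one] at this
    rw [this]
    exact min_le_right _ _
  have hfd : (N.restrict hNW) ^ d = 0 := by
    ext u
    rw [restrict_pow_apply, hNd]
    rfl
  have hvW : ((N.restrict hNW) ^ (d - 1)) (⟨v, mem_cyc_self N d hd v⟩ : W) ≠ 0 := by
    intro h
    apply hv0
    have := congrArg Subtype.val h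
    rwa [restrict_pow_apply] at this
  obtain ⟨c, hc⟩ := ker_eq_span_top_iterate (N.restrict hNW) d hd hfd hker1
    (⟨v, mem_cyc_self N d hd v⟩ : W) hvW (⟨z, hzW⟩ : W) (Subtype.ext hNz)
  have hc' : z = c • (N ^ (d - 1)) v := by
    have := congrArg Subtype.val hc
    rw [Submodule.coe_smul, restrict_pow_apply] at this
    exact this
  have h1 : H v z = 0 := hzperp v (mem_cyc_self N d hd v)
  rw [hc', hH.smul_right] at h1
  rcases mul_eq_zero.1 h1 with h2 | h2
  · have hc0 : c = 0 := pow_eq_zero_iff hq |>.1 h2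
    apply hk₀min
    show z = 0
    rw [hc', hc0, zero_smul]
  · exact hv (herm_symm_zero hq hH _ _ h2)

/-- coordinates in which the space is standard and the isometry is a unitary matrix -/
theorem exists_matrix_model [FiniteDimensional K V] (hK : Fintype.card K = q ^ 2)
    (hH : IsHermSpace q H) (T : V →ₗ[K] V) (hT : ∀ x y, H (T x) (T y) = H x y) (n : ℕ)
    (hfr : finrank K V = n) :
    ∃ (Θ : V ≃ₗ[K] (Fin n → K)) (A : Matrix (Fin n) (Fin n) K),
      (∀ u v, Cfsg.hermForm n K q (Θ u) (Θ v) = H u v) ∧ (∀ x, A *ᵥ Θ x = Θ (T x)) ∧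
      dag q A * A = 1 := by
  obtain ⟨Θ, hΘ⟩ := exists_herm_coords hK V H hH n hfr
  refine ⟨Θ, LinearMap.toMatrix' ((Θ : V →ₗ[K] (Fin n → K)) ∘ₗ T ∘ₗ (Θ.symm : (Fin n → K) →ₗ[K] V)),
    hΘ, ?_, ?_⟩
  · intro x
    rw [LinearMap.toMatrix'_mulVec]
    simp
  · rw [← crit_iff_dag, ← GUFA.isHermIso_iff_crit hK]
    intro u v
    rw [LinearMap.toMatrix'_mulVec, LinearMap.toMatrix'_mulVec]
    simp only [LinearMap.comp_apply, LinearEquiv.coe_coe]
    rw [hΘ, hT, ← hΘ, LinearEquiv.apply_symm_apply, LinearEquiv.apply_symm_apply]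

omit [Fintype K] in
/-- kernel dimensions of a cyclic nilpotent map -/
theorem dker_of_cyclic [FiniteDimensional K V] (N : V →ₗ[K] V) (d : ℕ) (hd : 1 ≤ d)
    (hfr : finrank K V = d) (hNd : N ^ d = 0) (v : V) (hv : (N ^ (d - 1)) v ≠ 0) (k : ℕ) :
    dker N k = min d k := by
  classical
  rw [← dker_shiftEnd K d k]
  have hSe : (shiftEnd K d) ^ d = 0 := by
    apply LinearMap.ext
    intro w
    funext i
    rw [shiftEnd_pow_apply, dif_neg (by omega)]
    rfl
  have hvS : ((shiftEnd K d) ^ (d - 1)) (Pi.single (⟨d - 1, by omega⟩ : Fin d) (1 : K)) ≠ 0 := by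
    intro h
    have := congrFun h ⟨0, by omega⟩
    rw [shiftEnd_pow_apply, dif_pos (by simp; omega)] at this
    simp at this
  obtain ⟨A, hA⟩ := exists_equiv_conj₂ N (shiftEnd K d) d hd hfr
    (by rw [Module.finrank_fintype_fun_eq_card, Fintype.card_fin]) hNd hSe _ _ hv hvS
  exact (dker_conj A _ _ (fun w => (hA w).symm) k).symm

omit [Fintype K] in
/-- the matrix of a cyclic unipotent isometry is regular unipotent -/
theorem isRegNilp_of_model [FiniteDimensional K V] (T : V →ₗ[K] V) (d : ℕ) (hd : 1 ≤ d)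
    (hfr : finrank K V = d) (hNd : (T - 1) ^ d = 0) (v : V) (hv : ((T - 1) ^ (d - 1)) v ≠ 0)
    (Θ : V ≃ₗ[K] (Fin d → K)) (A : Matrix (Fin d) (Fin d) K) (hA : ∀ x, A *ᵥ Θ x = Θ (T x)) :
    IsRegNilp (A - 1) d := by
  have hconj : ∀ w, Matrix.toLin' (A - 1) (Θ w) = Θ ((T - 1) w) := by
    intro w
    rw [Matrix.toLin'_apply, Matrix.sub_mulVec, hA, Matrix.one_mulVec, LinearMap.sub_apply,
      Module.End.one_apply, map_sub]
  have hdk : ∀ k, dker (Matrix.toLin' (A - 1)) k = min d k := by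
    intro k
    rw [dker_conj Θ (T - 1) (Matrix.toLin' (A - 1)) hconj k]
    exact dker_of_cyclic (T - 1) d hd hfr hNd v hv k
  have hfr' : finrank K (Fin d → K) = d := by
    rw [Module.finrank_fintype_fun_eq_card, Fintype.card_fin]
  refine ⟨Fintype.card_fin d, hd, ?_, ?_⟩
  · apply Matrix.toLin'.injective
    rw [Matrix.toLin'_pow, map_zero, pow_eq_zero_iff_dker, hdk, hfr', min_self]
  · have h1 := LinearMap.finrank_range_add_finrank_ker (Matrix.toLin' (A - 1))
    have h2 := hdk 1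
    unfold dker at h2
    rw [pow_one] at h2
    rw [h2, hfr'] at h1
    rw [Matrix.rank, ← Matrix.toLin'_apply']
    have : min d 1 = 1 := min_eq_right hd
    omega

/-- two cyclic unipotent isometries on hermitian spaces of the same dimension are equivalent -/
theorem regular_iso {V' : Type u} [AddCommGroup V'] [Module K V'] {H' : V' → V' → K}
    [FiniteDimensional K V] [FiniteDimensional K V'] (hK : Fintype.card K = q ^ 2)
    (hH : IsHermSpace q H) (hH' : IsHermSpace q H')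
    (T : V →ₗ[K] V) (hT : ∀ x y, H (T x) (T y) = H x y)
    (T' : V' →ₗ[K] V') (hT' : ∀ x y, H' (T' x) (T' y) = H' x y)
    (d : ℕ) (hd : 1 ≤ d) (hfr : finrank K V = d) (hfr' : finrank K V' = d)
    (hNd : (T - 1) ^ d = 0) (hNd' : (T' - 1) ^ d = 0)
    (v : V) (hv : ((T - 1) ^ (d - 1)) v ≠ 0) (v' : V') (hv' : ((T' - 1) ^ (d - 1)) v' ≠ 0) :
    ∃ Φ : V ≃ₗ[K] V', (∀ x y, H' (Φ x) (Φ y) = H x y) ∧ ∀ x, Φ (T x) = T' (Φ x) := by
  obtain ⟨Θ, A, hΘ, hA, hAu⟩ := exists_matrix_model hK hH T hT d hfr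
  obtain ⟨Θ', A', hΘ', hA', hAu'⟩ := exists_matrix_model hK hH' T' hT' d hfr'
  have hreg := isRegNilp_of_model T d hd hfr hNd v hv Θ A hA
  have hreg' := isRegNilp_of_model T' d hd hfr' hNd' v' hv' Θ' A' hA'
  obtain ⟨g, hg, hgA⟩ := regular_conj hK A A' hAu hAu' hreg hreg'
  have hg' : g * dag q g = 1 := mul_eq_one_comm.mp hg
  let G : (Fin d → K) ≃ₗ[K] (Fin d → K) :=
    LinearEquiv.ofLinear (Matrix.toLin' g) (Matrix.toLin' (dag q g))
      (by rw [← Matrix.toLin'_mul, hg', Matrix.toLin'_one])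
      (by rw [← Matrix.toLin'_mul, hg, Matrix.toLin'_one])
  have hG : ∀ y, G y = g *ᵥ y := fun y => Matrix.toLin'_apply g y
  have hgiso : ∀ u w, Cfsg.hermForm d K q (g *ᵥ u) (g *ᵥ w) = Cfsg.hermForm d K q u w :=
    (GUFA.isHermIso_iff_crit hK g).2 ((crit_iff_dag g).2 hg)
  refine ⟨Θ ≪≫ₗ G ≪≫ₗ Θ'.symm, ?_, ?_⟩
  · intro x y
    simp only [LinearEquiv.trans_apply]
    rw [← hΘ', LinearEquiv.apply_symm_apply, LinearEquiv.apply_symm_apply, hG, hG, hgiso, hΘ]
  · intro x
    simp only [LinearEquiv.trans_apply]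
    apply Θ'.injective
    rw [LinearEquiv.apply_symm_apply, ← hA', LinearEquiv.apply_symm_apply, hG, hG, ← hA,
      Matrix.mulVec_mulVec, Matrix.mulVec_mulVec, hgA]

omit [Fintype K] in
theorem restrict_sub_one (T : V →ₗ[K] V) (W : Submodule K V) (hTW : ∀ x ∈ W, T x ∈ W)
    (hNW : ∀ x ∈ W, (T - 1) x ∈ W) : T.restrict hTW - 1 = (T - 1).restrict hNW := by
  apply LinearMap.ext
  intro w
  apply Subtype.ext
  simp [LinearMap.restrict_apply]

/-- splitting off a nondegenerate maximal cyclic subspace -/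
theorem split_step [FiniteDimensional K V] (hK : Fintype.card K = q ^ 2)
    (hH : IsHermSpace q H) (T : V →ₗ[K] V) (hT : ∀ x y, H (T x) (T y) = H x y) (d : ℕ)
    (hd : 1 ≤ d) (hNd : (T - 1) ^ d = 0) (hNd' : (T - 1) ^ (d - 1) ≠ 0) :
    ∃ (W Z : Submodule K V) (hTW : ∀ x ∈ W, T x ∈ W) (hTZ : ∀ x ∈ Z, T x ∈ Z),
      IsCompl W Z ∧ (∀ w ∈ W, ∀ z ∈ Z, H w z = 0 ∧ H z w = 0) ∧
      IsHermSpace q (restrForm H W) ∧ IsHermSpace q (restrForm H Z) ∧
      finrank K W = d ∧ ((T.restrict hTW - 1) ^ d = 0) ∧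
      (∃ v : W, ((T.restrict hTW - 1) ^ (d - 1)) v ≠ 0) ∧
      (∀ k, dker (T - 1) k = min d k + dker (T.restrict hTZ - 1) k) := by
  classical
  have hq := q_ne_zero hK
  obtain ⟨v, hv0, hnd⟩ := exists_nondeg_cyc hK hH T hT d hd hNd hNd'
  set N := T - 1 with hN
  have hTN : ∀ x, T x = x + N x := by
    intro x
    rw [hN, LinearMap.sub_apply, Module.End.one_apply]; abel
  set W := cyc N d v with hW
  obtain ⟨hHW, hHZ, hcompl⟩ := isCompl_hermOrth hK hH W hnd
  set Z := hermOrth hH W with hZ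
  have hNW : ∀ x ∈ W, N x ∈ W := cyc_invariant N d hNd v
  have hTW : ∀ x ∈ W, T x ∈ W := by
    intro x hx
    rw [hTN]
    exact W.add_mem hx (hNW x hx)
  have hTinj : Function.Injective T := isometry_injective hK hH T hT
  have hsurj : Function.Surjective (T.restrict hTW) := by
    apply LinearMap.surjective_of_injective
    intro a b hab
    apply Subtype.ext
    apply hTinj
    exact congrArg Subtype.val hab
  have hTZ : ∀ x ∈ Z, T x ∈ Z := by
    intro z hz w hw
    obtain ⟨w', hw'⟩ := hsurj ⟨w, hw⟩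
    have hw'' : T w' = w := congrArg Subtype.val hw'
    rw [← hw'', hT]
    exact hz _ w'.2
  have hNZ : ∀ x ∈ Z, N x ∈ Z := by
    intro z hz
    have : N z = T z - z := by rw [hTN]; abel
    rw [this]
    exact Z.sub_mem (hTZ z hz) hz
  refine ⟨W, Z, hTW, hTZ, hcompl, ?_, hHW, hHZ, finrank_cyc N d hNd v hv0, ?_, ?_, ?_⟩
  · intro w hw z hz
    exact ⟨herm_symm_zero hq hH _ _ (hz w hw), hz w hw⟩
  · rw [restrict_sub_one T W hTW hNW]
    ext u
    rw [restrict_pow_apply, hNd]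
    rfl
  · refine ⟨⟨v, mem_cyc_self N d hd v⟩, ?_⟩
    rw [restrict_sub_one T W hTW hNW]
    intro h
    apply hv0
    have := congrArg Subtype.val h
    rwa [restrict_pow_apply] at this
  · intro k
    rw [restrict_sub_one T Z hTZ hNZ, dker_of_isCompl N W Z hNW hNZ hcompl k]
    congr 1
    exact dker_cyc N d hd hNd v hv0 k

end split

section uniq

variable {K : Type v} [Field K] [Fintype K] {q : ℕ}

/-- gluing isometric intertwiners along orthogonal decompositions -/
theorem glue_iso {V V' : Type u} [AddCommGroup V] [Module K V] [AddCommGroup V'] [Module K V']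
    {H : V → V → K} {H' : V' → V' → K} (hK : Fintype.card K = q ^ 2)
    (hH : IsHermSpace q H) (hH' : IsHermSpace q H') (T : V →ₗ[K] V) (T' : V' →ₗ[K] V')
    (W Z : Submodule K V) (W' Z' : Submodule K V')
    (hTW : ∀ x ∈ W, T x ∈ W) (hTZ : ∀ x ∈ Z, T x ∈ Z)
    (hTW' : ∀ x ∈ W', T' x ∈ W') (hTZ' : ∀ x ∈ Z', T' x ∈ Z')
    (hc : IsCompl W Z) (hc' : IsCompl W' Z')
    (horth : ∀ w ∈ W, ∀ z ∈ Z, H w z = 0 ∧ H z w = 0)
    (horth' : ∀ w ∈ W', ∀ z ∈ Z', H' w z = 0 ∧ H' z w = 0)
    (ΦW : W ≃ₗ[K] W') (hΦW : ∀ x y, H' (ΦW x) (ΦW y) = H x y)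
    (hΦWT : ∀ x, ΦW (T.restrict hTW x) = T'.restrict hTW' (ΦW x))
    (ΦZ : Z ≃ₗ[K] Z') (hΦZ : ∀ x y, H' (ΦZ x) (ΦZ y) = H x y)
    (hΦZT : ∀ x, ΦZ (T.restrict hTZ x) = T'.restrict hTZ' (ΦZ x)) :
    ∃ Φ : V ≃ₗ[K] V', (∀ x y, H' (Φ x) (Φ y) = H x y) ∧ ∀ x, Φ (T x) = T' (Φ x) := by
  set Φ := (Submodule.prodEquivOfIsCompl W Z hc).symm ≪≫ₗ (ΦW.prodCongr ΦZ) ≪≫ₗ
    (Submodule.prodEquivOfIsCompl W' Z' hc') with hΦ
  have hΦapply : ∀ (w : W) (z : Z), Φ ((w : V) + (z : V)) = (ΦW w : V') + (ΦZ z : V') := by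
    intro w z
    have h1 : (Submodule.prodEquivOfIsCompl W Z hc).symm ((w : V) + (z : V)) = (w, z) := by
      apply (Submodule.prodEquivOfIsCompl W Z hc).injective
      rw [LinearEquiv.apply_symm_apply, Submodule.coe_prodEquivOfIsCompl']
    rw [hΦ, LinearEquiv.trans_apply, LinearEquiv.trans_apply, h1,
      Submodule.coe_prodEquivOfIsCompl']
    rfl
  have hdec : ∀ x : V, ∃ (w : W) (z : Z), x = (w : V) + (z : V) := by
    intro x
    obtain ⟨⟨w, z⟩, rfl⟩ := (Submodule.prodEquivOfIsCompl W Z hc).surjective x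
    exact ⟨w, z, by rw [Submodule.coe_prodEquivOfIsCompl']⟩
  refine ⟨Φ, ?_, ?_⟩
  · intro x y
    obtain ⟨w, z, rfl⟩ := hdec x
    obtain ⟨w₁, z₁, rfl⟩ := hdec y
    rw [hΦapply, hΦapply, hH'.add_left, hH'.add_right hK, hH'.add_right hK,
      hH.add_left, hH.add_right hK, hH.add_right hK, hΦW, hΦZ,
      (horth' _ (ΦW w).2 _ (ΦZ z₁).2).1, (horth' _ (ΦW w₁).2 _ (ΦZ z).2).2,
      (horth _ w.2 _ z₁.2).1, (horth _ w₁.2 _ z.2).2]
  · intro x
    obtain ⟨w, z, rfl⟩ := hdec x
    have h1 : T ((w : V) + (z : V)) = ((T.restrict hTW w : W) : V) + ((T.restrict hTZ z : Z) : V) := by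
      rw [map_add]
      rfl
    rw [h1, hΦapply, hΦapply, hΦWT, hΦZT, map_add]
    rfl

/-- unipotent isometries with the same kernel dimensions are equivalent -/
theorem unipotent_iso (hK : Fintype.card K = q ^ 2) :
    ∀ (n : ℕ) (V V' : Type u) [AddCommGroup V] [Module K V] [FiniteDimensional K V]
      [AddCommGroup V'] [Module K V'] [FiniteDimensional K V']
      (H : V → V → K) (H' : V' → V' → K), IsHermSpace q H → IsHermSpace q H' →
      ∀ (T : V →ₗ[K] V) (T' : V' →ₗ[K] V'), (∀ x y, H (T x) (T y) = H x y) →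
      (∀ x y, H' (T' x) (T' y) = H' x y) → IsNilpotent (T - 1) → IsNilpotent (T' - 1) →
      finrank K V = n → (∀ k, dker (T - 1) k = dker (T' - 1) k) →
      ∃ Φ : V ≃ₗ[K] V', (∀ x y, H' (Φ x) (Φ y) = H x y) ∧ ∀ x, Φ (T x) = T' (Φ x) := by
  intro n
  induction n using Nat.strong_induction_on with
  | _ n ih =>
    intro V V' _ _ _ _ _ _ H H' hH hH' T T' hT hT' hnil hnil' hfr hdk
    have hfr' : finrank K V' = n := by
      rw [← finrank_eq_of_dker_eq (T - 1) (T' - 1) hnil hnil' hdk, hfr]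
    rcases Nat.eq_zero_or_pos n with hn0 | hnpos
    · -- zero-dimensional spaces
      subst hn0
      have hs : Subsingleton V := Module.finrank_zero_iff.1 hfr
      have hs' : Subsingleton V' := Module.finrank_zero_iff.1 hfr'
      refine ⟨LinearEquiv.ofFinrankEq V V' (by rw [hfr, hfr']), ?_, ?_⟩
      · intro x y
        rw [Subsingleton.elim x 0, Subsingleton.elim (LinearEquiv.ofFinrankEq V V' _ 0) 0,
          hH.zero_left, hH'.zero_left]
      · intro x
        exact Subsingleton.elim _ _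
    · haveI : Nontrivial V := Module.nontrivial_of_finrank_pos (R := K) (by omega)
      obtain ⟨d, hd, hNd, v₀, hv₀⟩ := exists_index (T - 1) hnil
      have hNd1 : (T - 1) ^ (d - 1) ≠ 0 := by
        intro h
        apply hv₀
        rw [h]
        rfl
      have hNd' : (T' - 1) ^ d = 0 := by
        rw [pow_eq_zero_iff_dker, ← hdk, hfr', ← hfr, ← pow_eq_zero_iff_dker]
        exact hNd
      have hNd1' : (T' - 1) ^ (d - 1) ≠ 0 := by
        intro h
        apply hNd1
        rw [pow_eq_zero_iff_dker, hdk, hfr, ← hfr', ← pow_eq_zero_iff_dker]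
        exact h
      obtain ⟨W, Z, hTW, hTZ, hc, horth, hHW, hHZ, hfW, hWd, ⟨vW, hvW⟩, hdkZ⟩ :=
        split_step hK hH T hT d hd hNd hNd1
      obtain ⟨W', Z', hTW', hTZ', hc', horth', hHW', hHZ', hfW', hWd', ⟨vW', hvW'⟩, hdkZ'⟩ :=
        split_step hK hH' T' hT' d hd hNd' hNd1'
      -- the cyclic parts
      obtain ⟨ΦW, hΦW, hΦWT⟩ := regular_iso hK hHW hHW' (T.restrict hTW)
        (fun x y => hT x y) (T'.restrict hTW') (fun x y => hT' x y) d hd hfW hfW' hWd hWd'
        vW hvW vW' hvW'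
      -- the complements
      have hfZ : finrank K Z < n := by
        have := Submodule.finrank_add_eq_of_isCompl hc
        omega
      have hnilZ : IsNilpotent (T.restrict hTZ - 1) := by
        obtain ⟨k, hk⟩ := hnil
        refine ⟨k, ?_⟩
        have hNZ : ∀ x ∈ Z, (T - 1) x ∈ Z := by
          intro z hz
          rw [LinearMap.sub_apply, Module.End.one_apply]
          exact Z.sub_mem (hTZ z hz) hz
        rw [restrict_sub_one T Z hTZ hNZ]
        ext u
        rw [restrict_pow_apply, hk]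
        rfl
      have hnilZ' : IsNilpotent (T'.restrict hTZ' - 1) := by
        obtain ⟨k, hk⟩ := hnil'
        refine ⟨k, ?_⟩
        have hNZ : ∀ x ∈ Z', (T' - 1) x ∈ Z' := by
          intro z hz
          rw [LinearMap.sub_apply, Module.End.one_apply]
          exact Z'.sub_mem (hTZ' z hz) hz
        rw [restrict_sub_one T' Z' hTZ' hNZ]
        ext u
        rw [restrict_pow_apply, hk]
        rfl
      have hdkZZ : ∀ k, dker (T.restrict hTZ - 1) k = dker (T'.restrict hTZ' - 1) k := by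
        intro k
        have h1 := hdkZ k
        have h2 := hdkZ' k
        rw [hdk k] at h1
        omega
      obtain ⟨ΦZ, hΦZ, hΦZT⟩ := ih (finrank K Z) hfZ Z Z' (restrForm H Z) (restrForm H' Z')
        hHZ hHZ' (T.restrict hTZ) (T'.restrict hTZ') (fun x y => hT x y) (fun x y => hT' x y)
        hnilZ hnilZ' rfl hdkZZ
      exact glue_iso hK hH hH' T T' W Z W' Z' hTW hTZ hTW' hTZ' hc hc' horth horth'
        ΦW hΦW hΦWT ΦZ hΦZ hΦZT

end uniq

section exist

variable {K : Type v} [Field K] [Fintype K] {q : ℕ}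

omit [Fintype K] in
theorem toLin_sub_one_conj {V : Type u} [AddCommGroup V] [Module K V] {n : ℕ} (T : V →ₗ[K] V)
    (Θ : V ≃ₗ[K] (Fin n → K)) (A : Matrix (Fin n) (Fin n) K) (hA : ∀ x, A *ᵥ Θ x = Θ (T x)) :
    ∀ w, Matrix.toLin' (A - 1) (Θ w) = Θ ((T - 1) w) := by
  intro w
  rw [Matrix.toLin'_apply, Matrix.sub_mulVec, hA, Matrix.one_mulVec, LinearMap.sub_apply,
    Module.End.one_apply, map_sub]

theorem unitary_isometry (hK : Fintype.card K = q ^ 2) {n : ℕ} (A : Matrix (Fin n) (Fin n) K)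
    (hA : dag q A * A = 1) (u w : Fin n → K) :
    Cfsg.hermForm n K q (A *ᵥ u) (A *ᵥ w) = Cfsg.hermForm n K q u w :=
  (GUFA.isHermIso_iff_crit hK A).2 ((crit_iff_dag A).2 hA) u w

/-- orthogonal sum of two unipotent unitary matrices -/
theorem exists_sum_model (hK : Fintype.card K = q ^ 2) {n₁ n₂ n : ℕ} (hn : n₁ + n₂ = n)
    (A₁ : Matrix (Fin n₁) (Fin n₁) K) (A₂ : Matrix (Fin n₂) (Fin n₂) K)
    (h₁ : dag q A₁ * A₁ = 1) (h₂ : dag q A₂ * A₂ = 1)
    (hnil₁ : IsNilpotent (A₁ - 1)) (hnil₂ : IsNilpotent (A₂ - 1)) :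
    ∃ A : Matrix (Fin n) (Fin n) K, dag q A * A = 1 ∧ IsNilpotent (A - 1) ∧
      ∀ k, dker (Matrix.toLin' (A - 1)) k =
        dker (Matrix.toLin' (A₁ - 1)) k + dker (Matrix.toLin' (A₂ - 1)) k := by
  let H : ((Fin n₁ → K) × (Fin n₂ → K)) → ((Fin n₁ → K) × (Fin n₂ → K)) → K :=
    fun x y => Cfsg.hermForm n₁ K q x.1 y.1 + Cfsg.hermForm n₂ K q x.2 y.2
  have hs₁ := isHermSpace_std (q := q) hK n₁
  have hs₂ := isHermSpace_std (q := q) hK n₂
  have hH : IsHermSpace q H :=
    { add_left := by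
        intro u u' w
        show Cfsg.hermForm n₁ K q (u + u').1 w.1 + Cfsg.hermForm n₂ K q (u + u').2 w.2 = _
        rw [Prod.fst_add, Prod.snd_add, hs₁.add_left, hs₂.add_left]
        show _ = (Cfsg.hermForm n₁ K q u.1 w.1 + Cfsg.hermForm n₂ K q u.2 w.2) +
          (Cfsg.hermForm n₁ K q u'.1 w.1 + Cfsg.hermForm n₂ K q u'.2 w.2)
        ring
      smul_left := by
        intro c u w
        show Cfsg.hermForm n₁ K q (c • u).1 w.1 + Cfsg.hermForm n₂ K q (c • u).2 w.2 = _
        rw [Prod.smul_fst, Prod.smul_snd, hs₁.smul_left, hs₂.smul_left]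
        show _ = c * (Cfsg.hermForm n₁ K q u.1 w.1 + Cfsg.hermForm n₂ K q u.2 w.2)
        ring
      conj := by
        intro u w
        show (Cfsg.hermForm n₁ K q u.1 w.1 + Cfsg.hermForm n₂ K q u.2 w.2) ^ q = _
        rw [frobK_add hK, hs₁.conj, hs₂.conj]
      nondeg := by
        intro w hw
        apply Prod.ext
        · apply hs₁.nondeg
          intro u
          have := hw (u, 0)
          show Cfsg.hermForm n₁ K q u w.1 = 0
          have h0 : Cfsg.hermForm n₂ K q 0 w.2 = 0 := hs₂.zero_left _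
          have h1 : H (u, 0) w = Cfsg.hermForm n₁ K q u w.1 + Cfsg.hermForm n₂ K q 0 w.2 := rfl
          rw [h1, h0, add_zero] at this
          exact this
        · apply hs₂.nondeg
          intro u
          have := hw (0, u)
          show Cfsg.hermForm n₂ K q u w.2 = 0
          have h0 : Cfsg.hermForm n₁ K q 0 w.1 = 0 := hs₁.zero_left _
          have h1 : H (0, u) w = Cfsg.hermForm n₁ K q 0 w.1 + Cfsg.hermForm n₂ K q u w.2 := rfl
          rw [h1, h0, zero_add] at this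
          exact this }
  set T : ((Fin n₁ → K) × (Fin n₂ → K)) →ₗ[K] ((Fin n₁ → K) × (Fin n₂ → K)) :=
    (Matrix.toLin' A₁).prodMap (Matrix.toLin' A₂) with hTdef
  have hT : ∀ x y, H (T x) (T y) = H x y := by
    intro x y
    show Cfsg.hermForm n₁ K q (A₁ *ᵥ x.1) (A₁ *ᵥ y.1) + Cfsg.hermForm n₂ K q (A₂ *ᵥ x.2) (A₂ *ᵥ y.2)
      = Cfsg.hermForm n₁ K q x.1 y.1 + Cfsg.hermForm n₂ K q x.2 y.2
    rw [unitary_isometry hK A₁ h₁, unitary_isometry hK A₂ h₂]
  have hfr : finrank K ((Fin n₁ → K) × (Fin n₂ → K)) = n := by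
    rw [Module.finrank_prod, Module.finrank_fintype_fun_eq_card, Module.finrank_fintype_fun_eq_card,
      Fintype.card_fin, Fintype.card_fin, hn]
  obtain ⟨Θ, A, -, hA, hAu⟩ := exists_matrix_model hK hH T hT n hfr
  have hconj := toLin_sub_one_conj T Θ A hA
  have hT1 : T - 1 = (Matrix.toLin' (A₁ - 1)).prodMap (Matrix.toLin' (A₂ - 1)) := by
    apply LinearMap.ext
    intro x
    apply Prod.ext
    · simp [hTdef]
    · simp [hTdef]
  have hdk : ∀ k, dker (Matrix.toLin' (A - 1)) k =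
      dker (Matrix.toLin' (A₁ - 1)) k + dker (Matrix.toLin' (A₂ - 1)) k := by
    intro k
    rw [dker_conj Θ (T - 1) (Matrix.toLin' (A - 1)) hconj k, hT1, dker_prodMap]
  refine ⟨A, hAu, ?_, hdk⟩
  obtain ⟨k₁, hk₁⟩ := hnil₁
  obtain ⟨k₂, hk₂⟩ := hnil₂
  refine ⟨k₁ + k₂, ?_⟩
  apply Matrix.toLin'.injective
  have e₁ : (Matrix.toLin' (A₁ - 1)) ^ k₁ = 0 := by rw [← Matrix.toLin'_pow, hk₁, map_zero]
  have e₂ : (Matrix.toLin' (A₂ - 1)) ^ k₂ = 0 := by rw [← Matrix.toLin'_pow, hk₂, map_zero]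
  have d₁ := dker_eq_of_pow_eq_zero (Matrix.toLin' (A₁ - 1)) e₁ (k₁ + k₂) (by omega)
  have d₂ := dker_eq_of_pow_eq_zero (Matrix.toLin' (A₂ - 1)) e₂ (k₁ + k₂) (by omega)
  rw [Matrix.toLin'_pow, map_zero, pow_eq_zero_iff_dker, hdk, d₁, d₂,
    Module.finrank_fintype_fun_eq_card, Module.finrank_fintype_fun_eq_card,
    Module.finrank_fintype_fun_eq_card, Fintype.card_fin, Fintype.card_fin, Fintype.card_fin, hn]

/-- every Jordan type occurs among the unipotent unitary matrices -/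
theorem exists_unipotent_of_type (hK : Fintype.card K = q ^ 2) (μ : Multiset ℕ) :
    (∀ b ∈ μ, 1 ≤ b) → ∀ n, μ.sum = n → ∃ A : Matrix (Fin n) (Fin n) K, dag q A * A = 1 ∧
      IsNilpotent (A - 1) ∧
      ∀ k, dker (Matrix.toLin' (A - 1)) k = (μ.map (fun b => min b k)).sum := by
  induction μ using Multiset.induction_on with
  | empty =>
    intro _ n hn
    rw [Multiset.sum_zero] at hn
    subst hn
    refine ⟨1, ?_, ?_, ?_⟩
    · rw [dag_one (q_ne_zero hK), one_mul]
    · rw [sub_self]; exact IsNilpotent.zero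
    · intro k
      have h1 := dker_le (Matrix.toLin' ((1 : Matrix (Fin 0) (Fin 0) K) - 1)) k
      rw [Module.finrank_fintype_fun_eq_card, Fintype.card_fin] at h1
      rw [Multiset.map_zero, Multiset.sum_zero]
      omega
  | cons b μ' ih =>
    intro hμ n hn
    have hb : 1 ≤ b := hμ b (Multiset.mem_cons_self b μ')
    have hμ' : ∀ c ∈ μ', 1 ≤ c := fun c hc => hμ c (Multiset.mem_cons_of_mem hc)
    obtain ⟨A₂, hA₂, hnil₂, hdk₂⟩ := ih hμ' μ'.sum rfl
    obtain ⟨A₁, hA₁, hreg⟩ := exists_regular_unipotent (K := K) hK hb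
    have hnil₁ : IsNilpotent (A₁ - 1) := ⟨b, hreg.nil⟩
    obtain ⟨v, hv⟩ := hreg.exists_cyclic
    have hfr₁ : finrank K (Fin b → K) = b := hreg.finrank_fun
    have hpow₁ : (Matrix.toLin' (A₁ - 1)) ^ b = 0 := hreg.toLin_pow
    have hdk₁ : ∀ k, dker (Matrix.toLin' (A₁ - 1)) k = min b k := fun k =>
      dker_of_cyclic (V := Fin b → K) (Matrix.toLin' (A₁ - 1)) b hb hfr₁ hpow₁ v hv k
    rw [Multiset.sum_cons] at hn
    obtain ⟨A, hA, hnil, hdk⟩ := exists_sum_model hK hn A₁ A₂ hA₁ hA₂ hnil₁ hnil₂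
    refine ⟨A, hA, hnil, ?_⟩
    intro k
    rw [hdk, hdk₁, hdk₂, Multiset.map_cons, Multiset.sum_cons]

end exist

end Cfsg.Agent.Lib.Helper44.HU
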