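import Cfsg.Agent.Lib.Helper5.SlK1Defs

/-! # Sl hive (S2332, helper76), sub-hive K1 (helper5), leaf K1-CONJ (helper44):
every non-identity element of `Q` is conjugate to the root element `tv` in `SL_{m+2}(F)`. -/

set_option autoImplicit false

namespace Cfsg.Agent.Lib.Helper76.Sl

open Matrix Cfsg

variable {F : Type*} [Field F] [Fintype F] [DecidableEq F]

/-- `(0,0)` entry of an element of `Q` (own copy, to be independent of K1-Q00) -/
theorem k1conj_entry00 (m : ℕ) (x : Gm F m) (hx : x ∈ Qset F m) : x.1 0 0 = 1 := by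
  have hdet : x.1.det = 1 := x.2
  have hup : x.1.IsUpperTriangular := by
    intro i j hji
    have hji' : j < i := hji
    have hi : i ≠ 0 := by
      rintro rfl
      exact absurd hji' (Fin.not_lt_zero _)
    show x.1 i j = 0
    rw [hx i j hi, Matrix.one_apply_ne (ne_of_gt hji')]
  rw [Matrix.det_of_isUpperTriangular hup] at hdet
  rw [Finset.prod_eq_single (0 : Fin (m + 2))] at hdet
  · exact hdet
  · intro i _ hi
    rw [hx i i hi, Matrix.one_apply_eq]
  · intro h
    exact absurd (Finset.mem_univ _) h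

/-- the row vector `a` of `x = 1 + e_0 aᵀ` -/
def k1conj_row (m : ℕ) (x : Gm F m) : Fin (m + 2) → F := fun j => if j = 0 then 0 else x.1 0 j

theorem k1conj_eq (m : ℕ) (x : Gm F m) (hx : x ∈ Qset F m) :
    x.1 = 1 + Matrix.vecMulVec (Pi.single (0 : Fin (m + 2)) (1 : F)) (k1conj_row m x) := by
  ext i j
  rw [Matrix.add_apply, Matrix.vecMulVec_apply]
  by_cases hi : i = 0
  · subst hi
    rw [Pi.single_eq_same, one_mul]
    by_cases hj : j = 0
    · subst hj
      rw [k1conj_entry00 m x hx, Matrix.one_apply_eq]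
      simp [k1conj_row]
    · rw [Matrix.one_apply_ne (Ne.symm hj)]
      simp [k1conj_row, hj]
  · rw [hx i j hi, Pi.single_eq_of_ne hi, zero_mul, add_zero]

theorem k1conj_tv_eq (m : ℕ) :
    (tv F m).1 = 1 + Matrix.vecMulVec (Pi.single (0 : Fin (m + 2)) (1 : F))
      (Pi.single (Fin.last (m + 1)) (1 : F)) := by
  ext i j
  simp only [tv, Matrix.SpecialLinearGroup.transvection_coe, Matrix.add_apply,
    Matrix.vecMulVec_apply, Matrix.single_apply, Pi.single_apply]
  congr 1
  by_cases hi : i = 0 <;> by_cases hj : j = Fin.last (m + 1) <;> simp [hi, hj, eq_comm]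

/-- the lower triangular matrix with last row `a` (`a_last ≠ 0`), `(1,1)` entry `a_last⁻¹` -/
def k1conj_mat (m : ℕ) (a : Fin (m + 2) → F) : Matrix (Fin (m + 2)) (Fin (m + 2)) F :=
  fun i j => if i = Fin.last (m + 1) then a j
    else if i = 1 then (if j = 1 then (a (Fin.last (m + 1)))⁻¹ else 0)
    else (if i = j then 1 else 0)

theorem k1conj_one_ne_last (m : ℕ) (hm : 1 ≤ m) : (1 : Fin (m + 2)) ≠ Fin.last (m + 1) := by
  rw [Ne, Fin.ext_iff, Fin.val_one, Fin.val_last]
  omega

theorem k1conj_det (m : ℕ) (hm : 1 ≤ m) (a : Fin (m + 2) → F) (hl : a (Fin.last (m + 1)) ≠ 0) :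
    (k1conj_mat m a).det = 1 := by
  have h1l := k1conj_one_ne_last m hm
  have hlow : (k1conj_mat m a).IsLowerTriangular := by
    intro i j hij
    have hij' : i < j := hij
    unfold k1conj_mat
    by_cases hi : i = Fin.last (m + 1)
    · subst hi
      exact absurd hij' (not_lt.mpr (Fin.le_last j))
    · rw [if_neg hi]
      by_cases hi1 : i = 1
      · subst hi1
        rw [if_pos rfl, if_neg (ne_of_gt hij')]
      · rw [if_neg hi1, if_neg (ne_of_lt hij')]
  rw [Matrix.det_of_isLowerTriangular _ hlow]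
  rw [Finset.prod_eq_mul (Fin.last (m + 1)) (1 : Fin (m + 2)) (Ne.symm h1l)]
  · unfold k1conj_mat
    rw [if_pos rfl, if_neg h1l, if_pos rfl, if_pos rfl, mul_inv_cancel₀ hl]
  · intro c _ hc
    unfold k1conj_mat
    rw [if_neg hc.1, if_neg hc.2, if_pos rfl]
  · intro h
    exact absurd (Finset.mem_univ _) h
  · intro h
    exact absurd (Finset.mem_univ _) h

theorem k1conj_mulVec (m : ℕ) (hm : 1 ≤ m) (a : Fin (m + 2) → F) (ha0 : a 0 = 0) :
    (k1conj_mat m a) *ᵥ (Pi.single (0 : Fin (m + 2)) (1 : F)) = Pi.single 0 1 := by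
  have h1l := k1conj_one_ne_last m hm
  ext i
  rw [Matrix.mulVec_single_one]
  show k1conj_mat m a i 0 = _
  unfold k1conj_mat
  by_cases hi : i = Fin.last (m + 1)
  · subst hi
    rw [if_pos rfl, ha0, Pi.single_eq_of_ne]
    rw [Ne, Fin.ext_iff, Fin.val_last, Fin.val_zero]
    omega
  · rw [if_neg hi]
    by_cases hi1 : i = 1
    · subst hi1
      rw [if_pos rfl, if_neg (by simp), Pi.single_eq_of_ne (by simp)]
    · rw [if_neg hi1]
      by_cases hi0 : i = 0
      · subst hi0
        simp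
      · rw [if_neg hi0, Pi.single_eq_of_ne hi0]

theorem k1conj_vecMul (m : ℕ) (a : Fin (m + 2) → F) :
    (Pi.single (Fin.last (m + 1)) (1 : F)) ᵥ* (k1conj_mat m a) = a := by
  ext j
  rw [Matrix.single_one_vecMul]
  show k1conj_mat m a (Fin.last (m + 1)) j = _
  unfold k1conj_mat
  rw [if_pos rfl]

/-- `k1conj_mat` as an element of `SL_{m+2}(F)` -/
def k1conj_elt (m : ℕ) (hm : 1 ≤ m) (a : Fin (m + 2) → F) (hl : a (Fin.last (m + 1)) ≠ 0) : Gm F m :=
  ⟨k1conj_mat m a, k1conj_det m hm a hl⟩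

theorem k1conj_elt_coe (m : ℕ) (hm : 1 ≤ m) (a : Fin (m + 2) → F) (hl : a (Fin.last (m + 1)) ≠ 0) :
    (k1conj_elt m hm a hl).1 = k1conj_mat m a := rfl

theorem k1conj_vecMul_single (m : ℕ) (a : Fin (m + 2) → F) (j l k : Fin (m + 2)) :
    (a ᵥ* Matrix.single j l (1 : F)) k = if k = l then a j else 0 := by
  unfold Matrix.vecMul dotProduct
  simp only [Matrix.single_apply]
  by_cases hk : k = l
  · subst hk
    rw [if_pos rfl, Finset.sum_eq_single j]
    · simp
    · intro b _ hb
      simp [Ne.symm hb]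
    · intro h
      exact absurd (Finset.mem_univ _) h
  · rw [if_neg hk]
    apply Finset.sum_eq_zero
    intro i _
    simp [Ne.symm hk]

/-- core: for a row vector `a` with `a 0 = 0`, `a ≠ 0` there is `g ∈ SL` with `g e_0 = e_0`, last row `a`. -/
theorem k1conj_exists (m : ℕ) (hm : 1 ≤ m) (a : Fin (m + 2) → F) (ha0 : a 0 = 0) (ha : a ≠ 0) :
    ∃ g : Gm F m, g.1 *ᵥ (Pi.single (0 : Fin (m + 2)) (1 : F)) = Pi.single 0 1 ∧
      (Pi.single (Fin.last (m + 1)) (1 : F)) ᵥ* g.1 = a := by
  by_cases hl : a (Fin.last (m + 1)) = 0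
  · -- some other entry is non-zero; multiply by a transvection on the right
    obtain ⟨j, hj⟩ : ∃ j, a j ≠ 0 := by
      by_contra hcon
      push Not at hcon
      exact ha (funext hcon)
    have hj0 : j ≠ 0 := by rintro rfl; exact hj ha0
    have hjl : j ≠ Fin.last (m + 1) := by rintro rfl; exact hj hl
    set h : Gm F m := Matrix.SpecialLinearGroup.transvection hjl (1 : F) with hh
    set a' : Fin (m + 2) → F := a ᵥ* h.1 with ha'
    have hcoe : h.1 = 1 + Matrix.single j (Fin.last (m + 1)) (1 : F) := rfl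
    have ha'0 : a' 0 = 0 := by
      rw [ha', hcoe, Matrix.vecMul_add, Matrix.vecMul_one, Pi.add_apply, ha0, zero_add,
        k1conj_vecMul_single]
      have : (0 : Fin (m + 2)) ≠ Fin.last (m + 1) := by
        rw [Ne, Fin.ext_iff, Fin.val_last, Fin.val_zero]; omega
      rw [if_neg this]
    have ha'l : a' (Fin.last (m + 1)) ≠ 0 := by
      rw [ha', hcoe, Matrix.vecMul_add, Matrix.vecMul_one, Pi.add_apply, hl, zero_add,
        k1conj_vecMul_single, if_pos rfl]
      exact hj
    refine ⟨k1conj_elt m hm a' ha'l * h⁻¹, ?_, ?_⟩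
    · rw [Matrix.SpecialLinearGroup.coe_mul, ← Matrix.mulVec_mulVec]
      have hinv : (h⁻¹).1 *ᵥ (Pi.single (0 : Fin (m + 2)) (1 : F)) = Pi.single 0 1 := by
        have h1 : h.1 *ᵥ (Pi.single (0 : Fin (m + 2)) (1 : F)) = Pi.single 0 1 := by
          rw [hcoe, Matrix.add_mulVec, Matrix.one_mulVec, Matrix.mulVec_single_one]
          have : (Matrix.single j (Fin.last (m + 1)) (1 : F)).col 0 = 0 := by
            ext i
            have : (0 : Fin (m + 2)) ≠ Fin.last (m + 1) := by
              rw [Ne, Fin.ext_iff, Fin.val_last, Fin.val_zero]; omega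
            simp [Matrix.col_apply, Matrix.single_apply, this.symm]
          rw [this, add_zero]
        have h2 : (h⁻¹).1 *ᵥ (h.1 *ᵥ (Pi.single (0 : Fin (m + 2)) (1 : F))) = Pi.single 0 1 := by
          rw [Matrix.mulVec_mulVec, ← Matrix.SpecialLinearGroup.coe_mul, inv_mul_cancel,
            Matrix.SpecialLinearGroup.coe_one, Matrix.one_mulVec]
        rw [h1] at h2
        exact h2
      rw [hinv, k1conj_elt_coe]
      exact k1conj_mulVec m hm a' ha'0
    · rw [Matrix.SpecialLinearGroup.coe_mul, ← Matrix.vecMul_vecMul]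
      rw [k1conj_elt_coe, k1conj_vecMul, ha', Matrix.vecMul_vecMul, ← Matrix.SpecialLinearGroup.coe_mul,
        mul_inv_cancel, Matrix.SpecialLinearGroup.coe_one, Matrix.vecMul_one]
  · exact ⟨k1conj_elt m hm a hl, k1conj_mulVec m hm a ha0, k1conj_vecMul m a⟩

/-- K1-CONJ -/
theorem k1_conj (m : ℕ) (hm : 1 ≤ m) (x : Gm F m) (hx : x ∈ Qset F m) (hx1 : x ≠ 1) :
    IsConj x (tv F m) := by
  have hxe := k1conj_eq m x hx
  have ha0 : k1conj_row m x 0 = 0 := by simp [k1conj_row]
  have ha : k1conj_row m x ≠ 0 := by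
    intro h0
    apply hx1
    apply Subtype.ext
    rw [hxe, h0]
    ext i j
    simp [Matrix.vecMulVec_apply]
  obtain ⟨g, hg1, hg2⟩ := k1conj_exists m hm (k1conj_row m x) ha0 ha
  rw [isConj_iff]
  refine ⟨g, ?_⟩
  rw [mul_inv_eq_iff_eq_mul]
  apply Subtype.ext
  rw [Matrix.SpecialLinearGroup.coe_mul, Matrix.SpecialLinearGroup.coe_mul, hxe, k1conj_tv_eq,
    Matrix.mul_add, Matrix.add_mul, Matrix.mul_one, Matrix.one_mul, Matrix.mul_vecMulVec,
    Matrix.vecMulVec_mul, hg1, hg2]

end Cfsg.Agent.Lib.Helper76.Sl
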