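import Cfsg.Agent.Lib.Helper39.SmDefs

/-! # Sm hive (S2086, owner helper39): leaves N-SPAN `subring_eq_top_of_cubes` and N-EX
`exists_cube_ne_one` (Mathlib only). -/

set_option autoImplicit false

namespace Cfsg.Agent.Lib.Helper39.Sm

open Cfsg.Agent.Lib.Helper41.Stn
open scoped commutatorElement

variable {K : Type*} [Field K] {n : ℕ} {Y : Type*} [Group Y] (φ : Y →* St K n)
  (hφ : Function.Surjective φ)

/-- aux for N-EX / N-SPAN: a generator of the cyclic group `Kˣ` has cube `≠ 1` unless `q - 1 ∣ 3`. -/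
theorem nspan_exists_cube_ne_one [Finite K] (h2 : Nat.card K ≠ 2) (h4 : Nat.card K ≠ 4) :
    ∃ c : K, c ≠ 0 ∧ c ^ 3 ≠ 1 := by
  classical
  cases nonempty_fintype K
  obtain ⟨g, hg⟩ := IsCyclic.exists_ofOrder_eq_natCard (α := Kˣ)
  refine ⟨(g : K), g.ne_zero, fun h => ?_⟩
  have h3 : g ^ 3 = 1 := by
    apply Units.ext
    simpa using h
  have hd : orderOf g ∣ 3 := orderOf_dvd_of_pow_eq_one h3
  rw [hg, Nat.card_units] at hd
  have h13 : Nat.card K - 1 = 1 ∨ Nat.card K - 1 = 3 := (Nat.dvd_prime Nat.prime_three).1 hd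
  have h1 : 1 < Nat.card K := Finite.one_lt_card
  omega

/-- aux: a subring of a finite field is closed under inverses. -/
theorem nspan_inv_mem [Finite K] (R : Subring K) {r : K} (hr : r ∈ R) : r⁻¹ ∈ R := by
  classical
  cases nonempty_fintype K
  by_cases h0 : r = 0
  · subst h0
    simp
  · have h1 : 1 < Fintype.card K := Fintype.one_lt_card
    have hp : r ^ (Fintype.card K - 1) = 1 := FiniteField.pow_card_sub_one_eq_one r h0
    have he : r⁻¹ = r ^ (Fintype.card K - 2) := by
      apply inv_eq_of_mul_eq_one_right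
      rw [← pow_succ']
      have : Fintype.card K - 2 + 1 = Fintype.card K - 1 := by omega
      rw [this, hp]
    rw [he]
    exact pow_mem hr _

/-- aux: `(t² + t + 1) t = t³ + (t² + t)`, so `t ∈ R` as soon as `t² + t ∈ R` and `t² + t + 1 ≠ 0`. -/
theorem nspan_key [Finite K] (R : Subring K) (hR : ∀ t : K, t ^ 3 ∈ R)
    (hw : ∀ t : K, t ^ 2 + t ∈ R) (t : K) (ht : t ^ 2 + t + 1 ≠ 0) : t ∈ R := by
  have h1 : (t ^ 2 + t + 1) ∈ R := R.add_mem (hw t) R.one_mem
  have h2 : (t ^ 2 + t + 1) * t ∈ R := by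
    have : (t ^ 2 + t + 1) * t = t ^ 3 + (t ^ 2 + t) := by ring
    rw [this]
    exact R.add_mem (hR t) (hw t)
  have h3 : (t ^ 2 + t + 1)⁻¹ * ((t ^ 2 + t + 1) * t) ∈ R := R.mul_mem (nspan_inv_mem R h1) h2
  rwa [inv_mul_cancel_left₀ ht] at h3

/-- N-SPAN (Mathlib only). A subring of a finite field containing all cubes is everything unless
`q = 4`. -/
theorem subring_eq_top_of_cubes [Finite K] (h4 : Nat.card K ≠ 4) (R : Subring K)
    (hR : ∀ t : K, t ^ 3 ∈ R) : R = ⊤ := by
  classical
  rw [eq_top_iff]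
  intro x _
  -- `6 t ∈ R` for all `t`
  have h6 : ∀ t : K, 6 * t ∈ R := by
    intro t
    have : 6 * t = (t + 1) ^ 3 + (t - 1) ^ 3 - (t ^ 3 + t ^ 3) := by ring
    rw [this]
    exact R.sub_mem (R.add_mem (hR _) (hR _)) (R.add_mem (hR _) (hR _))
  by_cases h60 : (6 : K) = 0
  swap
  · have := h6 (x / 6)
    rwa [mul_div_cancel₀ _ h60] at this
  have h23 : (2 : K) = 0 ∨ (3 : K) = 0 := by
    have : (2 : K) * 3 = 0 := by rw [← h60]; norm_num
    exact mul_eq_zero.1 this
  rcases h23 with h2 | h3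
  · -- characteristic 2
    have hw : ∀ t : K, t ^ 2 + t ∈ R := by
      intro t
      have : t ^ 2 + t = (t + 1) ^ 3 - t ^ 3 - 1 - 2 * (t ^ 2 + t) := by ring
      rw [this, h2, zero_mul, sub_zero]
      exact R.sub_mem (R.sub_mem (hR _) (hR _)) R.one_mem
    by_cases hx : x ^ 2 + x + 1 = 0
    swap
    · exact nspan_key R hR hw x hx
    by_cases hq2 : Nat.card K = 2
    · rcases (Nat.card_eq_two_iff' (0 : K)).1 hq2 with ⟨y, hy, hy'⟩
      by_cases hx0 : x = 0
      · rw [hx0]; exact R.zero_mem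
      · have e1 : x = y := hy' x hx0
        have e2 : (1 : K) = y := hy' 1 one_ne_zero
        rw [e1, ← e2]; exact R.one_mem
    · obtain ⟨c, hc0, hc3⟩ := nspan_exists_cube_ne_one hq2 h4
      have hc1 : c ^ 2 + c + 1 ≠ 0 := by
        intro h
        apply hc3
        have : c ^ 3 = 1 + (c - 1) * (c ^ 2 + c + 1) := by ring
        rw [this, h, mul_zero, add_zero]
      have hc2 : c ^ 2 + c ≠ 0 := by
        intro h
        have hcc : c * (c + 1) = 0 := by rw [← h]; ring
        rcases mul_eq_zero.1 hcc with h | h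
        · exact hc0 h
        · apply hc3
          have : c = 1 - 2 + (c + 1) := by ring
          rw [this, h, h2]; norm_num
      have hcR : c ∈ R := nspan_key R hR hw c hc1
      have hcxR : c + x ∈ R := by
        apply nspan_key R hR hw
        have : (c + x) ^ 2 + (c + x) + 1 = c ^ 2 + c + (x ^ 2 + x + 1) + 2 * (c * x) := by ring
        rw [this, hx, h2, zero_mul, add_zero, add_zero]
        exact hc2
      have : x = c + x - c := by ring
      rw [this]
      exact R.sub_mem hcxR hcR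
  · -- characteristic 3 : the cube map is injective, hence surjective
    have hinj : Function.Injective (fun t : K => t ^ 3) := by
      intro t s hts
      have hts' : t ^ 3 = s ^ 3 := hts
      have : (t - s) ^ 3 = t ^ 3 - s ^ 3 - 3 * (t * s * (t - s)) := by ring
      rw [hts', h3, zero_mul, sub_self, sub_zero] at this
      exact sub_eq_zero.1 (pow_eq_zero_iff (by norm_num) |>.1 this)
    obtain ⟨t, ht⟩ := (Finite.injective_iff_surjective.1 hinj) x
    rw [← ht]
    exact hR t

end Cfsg.Agent.Lib.Helper39.Sm
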