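import Mathlib
import Cfsg.Prelude.Def_GeometricClasses
import Cfsg.Agent.Lib.Helper44.TnsDefs
import Cfsg.Agent.Lib.Helper31.TnsO2a
import Cfsg.Agent.Lib.Helper60.TnsK1
import Cfsg.Agent.Lib.Helper99.TnsK2
import Cfsg.Agent.Lib.Helper31.TnsK345
import Cfsg.Agent.Lib.Helper31.TnsR
import Cfsg.Agent.Lib.Helper83.TnsO2b

set_option autoImplicit false
open scoped MatrixGroups Kronecker
open Matrix Polynomial

/-! Obstructions for S5979 (helper44): a matrix similar to a Kronecker product. -/

namespace Cfsg.Agent.Lib.Helper44.Tns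

universe v

variable {F : Type v} [Field F]

theorem obs_aeval_sub_smul {m : Type*} [Fintype m] [DecidableEq m] (y : Matrix m m F) (c : F) :
    aeval y (X - C c : F[X]) = y - c • (1 : Matrix m m F) := by
  rw [map_sub, aeval_X, aeval_C, Algebra.algebraMap_eq_smul_one]

/-- TNS-O1 -/
theorem dvd_rank_of_small {n a b : ℕ} (e : Fin n ≃ Fin a × Fin b)
    (x : Matrix (Fin n) (Fin n) F) (hsim : IsKronSimilar a b e x) (c : F)
    (hc : (x - c • (1 : Matrix (Fin n) (Fin n) F)).rank < b) (f : F[X]) :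
    a ∣ (aeval x f).rank := by
  obtain ⟨A, B, hA, hB, hrk, -⟩ := exists_rank_of_isKronSimilar e x hsim
  have h1 := hrk (X - C c)
  rw [obs_aeval_sub_smul, obs_aeval_sub_smul] at h1
  rw [h1] at hc
  have hAs : ∃ z : F, A = z • (1 : Matrix (Fin a) (Fin a) F) := by
    by_contra hcon
    push Not at hcon
    have := le_rank_kronecker_sub A B hcon hB c
    omega
  obtain ⟨z, rfl⟩ := hAs
  have h2 : (z • (1 : Matrix (Fin a) (Fin a) F)) ⊗ₖ B = (1 : Matrix (Fin a) (Fin a) F) ⊗ₖ (z • B) := by
    rw [Matrix.smul_kronecker, Matrix.kronecker_smul]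
  rw [hrk f, h2, aeval_one_kronecker, rank_one_kronecker]
  exact dvd_mul_right _ _

section finite

variable [Fintype F]

/-- TNS-O2 -/
theorem not_isKronSimilar_block {p : ℕ} [Fact p.Prime] [CharP F p] {n a b : ℕ} (hab : n = a * b)
    (ha : 2 ≤ a) (hlt : a < b) (e : Fin n ≃ Fin a × Fin b) (r : ℕ) [Fact r.Prime] (hrp : r ≠ p)
    (hd2 : 2 ≤ orderOf ((Fintype.card F : ℕ) : ZMod r))
    (x : Matrix (Fin n) (Fin n) F) (g : F[X]) (hxr : x ^ r = 1) (hg : Irreducible g)
    (hgd : g.natDegree = orderOf ((Fintype.card F : ℕ) : ZMod r))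
    (hr1 : (x - 1).rank = g.natDegree) (hrg : (aeval x g).rank = n - g.natDegree) :
    ¬ IsKronSimilar a b e x := by
  intro hsim
  obtain ⟨A, B, hA, hB, hrk, hpow⟩ := exists_rank_of_isKronSimilar e x hsim
  set d := g.natDegree with hd
  have hdn : d ≤ n := by
    rw [← hr1]
    have := Matrix.rank_le_card_width (x - 1)
    simpa using this
  by_cases hAs : ∃ z : F, A = z • (1 : Matrix (Fin a) (Fin a) F)
  · obtain ⟨z, rfl⟩ := hAs
    have h2 : (z • (1 : Matrix (Fin a) (Fin a) F)) ⊗ₖ B
        = (1 : Matrix (Fin a) (Fin a) F) ⊗ₖ (z • B) := by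
      rw [Matrix.smul_kronecker, Matrix.kronecker_smul]
    have h3 := hrk g
    rw [h2, aeval_one_kronecker, rank_one_kronecker, hrg] at h3
    obtain ⟨j, hj⟩ := natDegree_dvd_of_irreducible (z • B) g hg
    have hle : (aeval (z • B) g).rank ≤ b := by
      have := Matrix.rank_le_card_width (aeval (z • B) g)
      simpa using this
    rw [← hd] at hj
    -- a * b - d = a * rank, b - rank = d * j
    set ρ := (aeval (z • B) g).rank with hρ
    have h4 : a * b = a * ρ + d := by omega
    have h5 : b = ρ + d * j := by omega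
    have h6 : a * (d * j) = d := by
      have : a * b = a * ρ + a * (d * j) := by rw [h5]; ring
      omega
    have hd0 : 0 < d := by omega
    have h7 : d * (a * j) = d * 1 := by rw [mul_one]; nlinarith
    have h8 : a * j = 1 := Nat.eq_of_mul_eq_mul_left hd0 h7
    have := Nat.eq_one_of_mul_eq_one_right h8
    have h9 : a = 1 := Nat.eq_one_of_mul_eq_one_right (by rw [mul_comm] at h8; rw [mul_comm]; exact h8)
    omega
  · push Not at hAs
    have h1 := le_rank_kronecker_sub A B hAs hB 1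
    have h2 := hrk (X - C 1)
    rw [obs_aeval_sub_smul, obs_aeval_sub_smul, one_smul, one_smul] at h2
    rw [one_smul, ← h2, hr1] at h1
    have had : a < orderOf ((Fintype.card F : ℕ) : ZMod r) := by rw [← hgd]; omega
    have h3 := hpow r hxr
    rw [kronecker_pow'] at h3
    have h4 : (A ^ r) ⊗ₖ (B ^ r) = (1 : F) • (1 : Matrix (Fin a × Fin b) (Fin a × Fin b) F) := by
      rw [h3, one_smul]
    obtain ⟨μ, hμ⟩ := eq_smul_one_of_kronecker (by omega) (A ^ r) (B ^ r) 1 one_ne_zero h4
    have hμ0 : μ ≠ 0 := by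
      rintro rfl
      rw [zero_smul] at hμ
      have hdet : IsUnit (A ^ r).det := by
        rw [Matrix.det_pow]
        exact hA.pow r
      have : Nonempty (Fin a) := ⟨⟨0, by omega⟩⟩
      rw [hμ, Matrix.det_zero] at hdet
      exact not_isUnit_zero hdet
    obtain ⟨z, hz⟩ := eq_smul_one_of_pow_eq_smul (p := p) r hrp hd2 had A μ hμ0 hμ
    exact hAs z hz

end finite

end Cfsg.Agent.Lib.Helper44.Tns
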