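import Mathlib

/-! # C2g sub-hive (owner helper67; S2405): leaf C2G-A2 `closure_pow_two`. -/

set_option autoImplicit false

namespace Cfsg.Agent.Lib.Helper67.C2g

/-- aux: every square lies in the additive closure of the powers of `k ^ 2`. -/
theorem a2_sq_mem {F : Type*} [Field F] (k : F) (hk : ∀ x : F, x ≠ 0 → ∃ j : ℕ, x = k ^ j) (x : F) :
    x ^ 2 ∈ AddSubgroup.closure {x : F | ∃ j : ℕ, x = (k ^ 2) ^ j} := by
  by_cases hx : x = 0
  · rw [hx]
    have : (0 : F) ^ 2 = 0 := by norm_num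
    rw [this]
    exact AddSubgroup.zero_mem _
  · obtain ⟨j, rfl⟩ := hk x hx
    apply AddSubgroup.subset_closure
    exact ⟨j, by ring⟩

/-- LEAF C2G-A2 (pure Mathlib).  `k` generates `Fˣ`, `F` finite: the additive closure of the powers of `k^2` is
everything.  (All squares lie in the closure; `t = (t/2 + 1)² - (t/2)² - 1` if `2 ≠ 0`, and squaring is onto if `2 = 0`.) -/
theorem closure_pow_two {F : Type*} [Field F] [Finite F] (k : F) (hk : ∀ x : F, x ≠ 0 → ∃ j : ℕ, x = k ^ j) :
    AddSubgroup.closure {x : F | ∃ j : ℕ, x = (k ^ 2) ^ j} = ⊤ := by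
  rw [eq_top_iff]
  intro t _
  by_cases h2 : (2 : F) = 0
  · -- squaring is injective, hence surjective
    have hinj : Function.Injective (fun x : F => x ^ 2) := by
      intro x y hxy
      have hxy' : x ^ 2 = y ^ 2 := hxy
      have : (x - y) ^ 2 = x ^ 2 + y ^ 2 - 2 * (x * y) := by ring
      rw [hxy', h2, zero_mul, sub_zero] at this
      have h0 : y ^ 2 + y ^ 2 = 0 := by
        have : y ^ 2 + y ^ 2 = 2 * y ^ 2 := by ring
        rw [this, h2, zero_mul]
      rw [h0] at this
      exact sub_eq_zero.1 (pow_eq_zero_iff (by norm_num) |>.1 this)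
    obtain ⟨x, hx⟩ := (Finite.injective_iff_surjective.1 hinj) t
    rw [← hx]
    exact a2_sq_mem k hk x
  · have : t = (t / 2 + 1) ^ 2 - (t / 2) ^ 2 - 1 ^ 2 := by
      field_simp
      ring
    rw [this]
    exact AddSubgroup.sub_mem _ (AddSubgroup.sub_mem _ (a2_sq_mem k hk _) (a2_sq_mem k hk _))
      (a2_sq_mem k hk 1)

end Cfsg.Agent.Lib.Helper67.C2g
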