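import Mathlib
import Cfsg.Agent.Lib.Helper41.PsDefs

/-! Ps hive (S4321, helper41), leaf PS3 `ps_symm` (helper44). -/

set_option autoImplicit false

namespace Cfsg.Agent.Lib.Helper41.Ps

open Subgroup
open Cfsg.Agent.Lib.Helper22.Cg

universe u

theorem ps3_padj_symm {G : Type u} [Group G] (p a b : ℕ) (h : PAdj G p a b) : PAdj G p b a := by
  obtain ⟨x, hx, hd⟩ := h
  exact ⟨x, hx, by rwa [mul_comm]⟩

/-- PS3. the goal is symmetric. -/
theorem ps_symm {G : Type u} [Group G] (p r s : ℕ) (h : Goal G p r s) : Goal G p s r := by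
  rcases h with h | ⟨t, ht, htr, hts, h1, h2⟩ | ⟨t, w, ht, hw, htr, hws, htw, h1, h2, h3⟩
  · exact Or.inl (ps3_padj_symm p r s h)
  · exact Or.inr (Or.inl ⟨t, ht, hts, htr, ps3_padj_symm p t s h2, ps3_padj_symm p r t h1⟩)
  · exact Or.inr (Or.inr ⟨w, t, hw, ht, hws, htr, htw.symm, ps3_padj_symm p w s h3,
      ps3_padj_symm p t w h2, ps3_padj_symm p r t h1⟩)

end Cfsg.Agent.Lib.Helper41.Ps
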