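import Cfsg.Agent.Lib.Helper64.StnNpermDefs
import Cfsg.Agent.Lib.Helper33.Stn_NMONcore
import Cfsg.Agent.Lib.Helper43.Stn_WMAT

/-! Stn hive (S2401, helper41), sub-hive NPERM (helper64), leaf NP-MON (helper44):
images of `N_S` are monomial for a permutation fixing every index outside `S`. -/

set_option autoImplicit false

namespace Cfsg.Agent.Lib.Helper41.Stn

open Matrix

variable {K : Type*} [Field K] {n : ℕ}

/-- NP-MON with `std_ww` as a hypothesis -/
theorem npmon_core (φ : St K n →* SpecialLinearGroup (Fin n) K)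
    (hww : ∀ {i j : Fin n}, i ≠ j → ∀ {t : K}, t ≠ 0 → ∀ a b : Fin n,
      (φ (ww i j t)).1 a b = if a = Equiv.swap i j b then mu i j t b else 0)
    {S : Finset (Fin n)} {ν : St K n} (hν : ν ∈ NS K S) :
    ∃ σ : Equiv.Perm (Fin n), (∀ i j : Fin n, (φ ν).1 i j ≠ 0 → i = σ j) ∧
      ∀ x : Fin n, x ∉ S → σ x = x := by
  unfold NS at hν
  induction hν using Subgroup.closure_induction with
  | mem x hx =>
    obtain ⟨i, j, t, hi, hj, hij, ht, rfl⟩ := hx
    refine ⟨Equiv.swap i j, ?_, ?_⟩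
    · intro a b hab
      rw [hww hij ht] at hab
      by_contra hne
      rw [if_neg hne] at hab
      exact hab rfl
    · intro x hx
      apply Equiv.swap_apply_of_ne_of_ne
      · rintro rfl; exact hx hi
      · rintro rfl; exact hx hj
  | one =>
    refine ⟨1, ?_, fun x _ => rfl⟩
    rw [map_one]
    exact nmon_one
  | mul x y _ _ hx hy =>
    obtain ⟨σ, hσ, hσS⟩ := hx
    obtain ⟨τ, hτ, hτS⟩ := hy
    refine ⟨σ * τ, ?_, ?_⟩
    · intro i j h
      rw [map_mul] at h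
      exact nmon_mul hσ hτ i j h
    · intro x hx
      rw [Equiv.Perm.mul_apply, hτS x hx, hσS x hx]
  | inv x _ hx =>
    obtain ⟨σ, hσ, hσS⟩ := hx
    refine ⟨σ⁻¹, ?_, ?_⟩
    · have h0 : φ x⁻¹ * φ x = 1 := by rw [← map_mul, inv_mul_cancel, map_one]
      have h1 : (φ x⁻¹).1 * (φ x).1 = 1 := congrArg Subtype.val h0
      exact nmon_inv hσ h1
    · intro x hx
      rw [Equiv.Perm.inv_eq_iff_eq, hσS x hx]

/-- NP-MON -/
theorem NS_monomial (φ : St K n →* SpecialLinearGroup (Fin n) K) (hφ : IsStd φ) {S : Finset (Fin n)}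
    {ν : St K n} (hν : ν ∈ NS K S) :
    ∃ σ : Equiv.Perm (Fin n), (∀ i j : Fin n, (φ ν).1 i j ≠ 0 → i = σ j) ∧ ∀ x : Fin n, x ∉ S → σ x = x :=
  npmon_core φ (fun hij _ ht a b => std_ww φ hφ hij ht a b) hν

end Cfsg.Agent.Lib.Helper41.Stn
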