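import Mathlib
import Cfsg.Prelude.Def_GeometricClasses
import Cfsg.Agent.Lib.Helper44.OcDefs

set_option autoImplicit false
open Matrix

/-! Definitions for the backup route ("Idb") to OC-IDX of the Oc hive (helper44, S5977 / S5978):
the model `E^d`, `E = F(√δ)`, of the pair `(Q, J)`. -/

namespace Cfsg.Agent.Lib.Helper44.Oc

universe v w

variable {F : Type v} [Field F] {ι : Type} [Fintype ι] [DecidableEq ι]

/-- the diagonal quadratic form `∑ c_j x_j²` on `E^d` -/
def idbQE {E : Type w} [Field E] {d : ℕ} (c : Fin d → E) : (Fin d → E) → E :=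
  fun x => ∑ j, c j * x j ^ 2

/-- `(c, T, π)` is a model of `(Q, J)` over `E ∋ wE`: `T : E^d ≃ F^ι` is `F`-linear, turns multiplication by `wE` into `J`, and
`Q ∘ T = π ∘ (∑ c_j x_j²)` for the `F`-linear map `π : E → F`; all `c_j ≠ 0`. -/
def IsIdbModel {E : Type w} [Field E] [Algebra F E] (Q : (ι → F) → F) (J : Matrix ι ι F) (wE : E) {d : ℕ}
    (c : Fin d → E) (T : (Fin d → E) ≃ₗ[F] (ι → F)) (π : E →ₗ[F] F) : Prop :=
  (∀ j, c j ≠ 0) ∧ (∀ x : Fin d → E, T (wE • x) = J *ᵥ T x) ∧ (∀ x : Fin d → E, Q (T x) = π (idbQE c x))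

end Cfsg.Agent.Lib.Helper44.Oc
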