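import Mathlib
import Cfsg.Prelude.Def_GeometricClasses
import Cfsg.Agent.Lib.Helper44.Darboux

/-!
# Alternating forms preserved up to a scalar by a map with scalar square

For a linear map `X` with `X ∘ X = z`, we construct nondegenerate alternating forms `ω` with
`ω (X u) (X w) = μ ω u w` (for `μ = -z` when `z` is a nonsquare or the characteristic is two, and
for `μ = z = a²` when both eigenspaces have even dimension), and we transport such a form to a
given symplectic form on `F^n`.
-/

set_option autoImplicit false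

namespace Cfsg.Agent.Lib.Helper44.SLInv

open Module LinearMap Matrix

universe u v

section forms

variable {F : Type v} [Field F]

/-- the standard alternating form attached to a basis indexed by `Fin N ⊕ Fin N` -/
noncomputable def stdAlt {V : Type u} [AddCommGroup V] [Module F V] {N : ℕ}
    (b : Basis (Fin N ⊕ Fin N) F V) : LinearMap.BilinForm F V :=
  LinearMap.mk₂ F
    (fun u w => ∑ i : Fin N, (b.repr u (Sum.inl i) * b.repr w (Sum.inr i)
        - b.repr u (Sum.inr i) * b.repr w (Sum.inl i)))
    (fun u u' w => by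
      simp only [map_add, Finsupp.add_apply]
      rw [← Finset.sum_add_distrib]
      exact Finset.sum_congr rfl (fun i _ => by ring))
    (fun c u w => by
      simp only [map_smul, Finsupp.smul_apply, smul_eq_mul]
      rw [Finset.mul_sum]
      exact Finset.sum_congr rfl (fun i _ => by ring))
    (fun u w w' => by
      simp only [map_add, Finsupp.add_apply]
      rw [← Finset.sum_add_distrib]
      exact Finset.sum_congr rfl (fun i _ => by ring))
    (fun c u w => by
      simp only [map_smul, Finsupp.smul_apply, smul_eq_mul]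
      rw [Finset.mul_sum]
      exact Finset.sum_congr rfl (fun i _ => by ring))

theorem stdAlt_apply {V : Type u} [AddCommGroup V] [Module F V] {N : ℕ}
    (b : Basis (Fin N ⊕ Fin N) F V) (u w : V) :
    stdAlt b u w = ∑ i : Fin N, (b.repr u (Sum.inl i) * b.repr w (Sum.inr i)
        - b.repr u (Sum.inr i) * b.repr w (Sum.inl i)) := rfl

theorem stdAlt_isAlt {V : Type u} [AddCommGroup V] [Module F V] {N : ℕ}
    (b : Basis (Fin N ⊕ Fin N) F V) : (stdAlt b).IsAlt := by
  intro x
  rw [stdAlt_apply]
  exact Finset.sum_eq_zero (fun i _ => by ring)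

theorem stdAlt_basis_inr {V : Type u} [AddCommGroup V] [Module F V] {N : ℕ}
    (b : Basis (Fin N ⊕ Fin N) F V) (x : V) (k : Fin N) :
    stdAlt b x (b (Sum.inr k)) = b.repr x (Sum.inl k) := by
  rw [stdAlt_apply]
  simp [Finsupp.single_apply]

theorem stdAlt_basis_inl {V : Type u} [AddCommGroup V] [Module F V] {N : ℕ}
    (b : Basis (Fin N ⊕ Fin N) F V) (x : V) (k : Fin N) :
    stdAlt b x (b (Sum.inl k)) = - b.repr x (Sum.inr k) := by
  rw [stdAlt_apply]
  simp [Finsupp.single_apply]

theorem stdAlt_nondegenerate {V : Type u} [AddCommGroup V] [Module F V] {N : ℕ}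
    (b : Basis (Fin N ⊕ Fin N) F V) : (stdAlt b).Nondegenerate := by
  have hleft : ∀ x, (∀ w, stdAlt b x w = 0) → x = 0 := by
    intro x hx
    apply b.repr.injective
    rw [map_zero]
    ext j
    rcases j with k | k
    · have h := hx (b (Sum.inr k))
      rw [stdAlt_basis_inr] at h
      simpa using h
    · have h := hx (b (Sum.inl k))
      rw [stdAlt_basis_inl] at h
      simpa using h
  refine ⟨hleft, fun w hw => hleft w (fun x => ?_)⟩
  rw [← (stdAlt_isAlt b).neg_eq x w, hw x, neg_zero]

/-- an even-dimensional space carries a nondegenerate alternating form -/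
theorem exists_alt_nondeg (V : Type u) [AddCommGroup V] [Module F V] [FiniteDimensional F V]
    (N : ℕ) (hfr : finrank F V = 2 * N) :
    ∃ ω : LinearMap.BilinForm F V, ω.IsAlt ∧ ω.Nondegenerate := by
  let b0 : Basis (Fin (2 * N)) F V := Module.finBasisOfFinrankEq F V hfr
  let e : Fin (2 * N) ≃ Fin N ⊕ Fin N := (finCongr (two_mul N)).trans finSumFinEquiv.symm
  exact ⟨stdAlt (b0.reindex e), stdAlt_isAlt _, stdAlt_nondegenerate _⟩

end forms

section recursion

variable {F : Type v} [Field F]

/-- If `X ∘ X = z` and either the characteristic is two or `z` is a nonsquare, an even-dimensional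
space carries a nondegenerate alternating form scaled by `-z` under `X`. -/
theorem exists_form_neg (z : F) (hz : (2 : F) = 0 ∨ ¬ IsSquare z) :
    ∀ (N : ℕ) (V : Type u) [AddCommGroup V] [Module F V] [FiniteDimensional F V]
      (X : V →ₗ[F] V), (∀ w, X (X w) = z • w) → finrank F V = 2 * N →
      ∃ ω : LinearMap.BilinForm F V, ω.IsAlt ∧ ω.Nondegenerate ∧
        ∀ u w, ω (X u) (X w) = - z * ω u w := by
  intro N
  induction N with
  | zero =>
    intro V _ _ _ X _ hfr
    have hsub : Subsingleton V := Module.finrank_zero_iff.1 (by simpa using hfr)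
    refine ⟨0, fun x => rfl, ⟨fun x _ => Subsingleton.elim x 0, fun x _ => Subsingleton.elim x 0⟩,
      fun u w => ?_⟩
    simp
  | succ N ih =>
    intro V _ _ _ X hX hfr
    by_cases hv : ∃ v, LinearIndependent F ![v, X v]
    · obtain ⟨v, hv⟩ := hv
      have hXv : X v ∉ Submodule.span F {v} := by
        intro hmem
        obtain ⟨c, hc⟩ := Submodule.mem_span_singleton.1 hmem
        have h := (LinearIndependent.pair_iff.1 hv) c (-1)
          (by rw [hc, neg_one_smul, add_neg_cancel])
        exact one_ne_zero (neg_eq_zero.1 h.2)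
      obtain ⟨f0, hf0, hker⟩ := Submodule.exists_le_ker_of_notMem hXv
      set φ : V →ₗ[F] F := (f0 (X v))⁻¹ • f0 with hφdef
      have hφv : φ v = 0 := by
        have h : v ∈ LinearMap.ker f0 := hker (Submodule.mem_span_singleton_self v)
        rw [hφdef, LinearMap.smul_apply, LinearMap.mem_ker.1 h, smul_zero]
      have hφXv : φ (X v) = 1 := by
        rw [hφdef, LinearMap.smul_apply, smul_eq_mul, inv_mul_cancel₀ hf0]
      set ψ : V →ₗ[F] F := φ ∘ₗ X with hψdef
      have hψ : ∀ x, ψ x = φ (X x) := fun x => rfl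
      have hψX : ∀ x, ψ (X x) = z * φ x := by
        intro x
        rw [hψ, hX, map_smul, smul_eq_mul]
      have hψv : ψ v = 1 := hφXv
      have hψXv : ψ (X v) = 0 := by rw [hψX, hφv, mul_zero]
      let L : V →ₗ[F] F × F := ψ.prod φ
      let U' : Submodule F V := LinearMap.ker L
      have hU' : ∀ x : V, x ∈ U' ↔ ψ x = 0 ∧ φ x = 0 := by
        intro x
        show L x = 0 ↔ _
        change ((ψ x, φ x) : F × F) = 0 ↔ _
        exact Prod.mk_eq_zero
      have hLsurj : Function.Surjective L := by
        rintro ⟨s, t⟩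
        refine ⟨s • v + t • X v, ?_⟩
        change ((ψ (s • v + t • X v), φ (s • v + t • X v)) : F × F) = (s, t)
        simp only [map_add, map_smul, smul_eq_mul, hψv, hψXv, hφv, hφXv]
        ext <;> simp
      have hfrU : finrank F U' = 2 * N := by
        have h1 := LinearMap.finrank_range_add_finrank_ker L
        rw [LinearMap.range_eq_top.2 hLsurj, finrank_top, Module.finrank_prod,
          Module.finrank_self] at h1
        show finrank F (LinearMap.ker L) = 2 * N
        omega
      have hXU : ∀ x ∈ U', X x ∈ U' := by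
        intro x hx
        rw [hU'] at hx ⊢
        exact ⟨by rw [hψX, hx.2, mul_zero], by rw [← hψ]; exact hx.1⟩
      let X' : U' →ₗ[F] U' := X.restrict hXU
      have hX'c : ∀ w : U', ((X' w : U') : V) = X (w : V) := fun w => rfl
      have hX' : ∀ w : U', X' (X' w) = z • w := by
        intro w
        apply Subtype.ext
        rw [hX'c, hX'c, hX]
        rfl
      obtain ⟨ω', halt', hnd', hinv'⟩ := ih U' X' hX' hfrU
      have hproj : ∀ x, x - ψ x • v - φ x • X v ∈ U' := by
        intro x
        rw [hU']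
        constructor
        · simp only [map_sub, map_smul, smul_eq_mul, hψv, hψXv]
          ring
        · simp only [map_sub, map_smul, smul_eq_mul, hφv, hφXv]
          ring
      let π₀ : V →ₗ[F] V :=
        LinearMap.id - (LinearMap.smulRight ψ v) - (LinearMap.smulRight φ (X v))
      have hπ₀ : ∀ x, π₀ x = x - ψ x • v - φ x • X v := fun x => rfl
      let π' : V →ₗ[F] U' := π₀.codRestrict U' (fun x => by rw [hπ₀]; exact hproj x)
      have hπ' : ∀ x, ((π' x : U') : V) = x - ψ x • v - φ x • X v := fun x => rfl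
      let ω : LinearMap.BilinForm F V :=
        LinearMap.BilinForm.linMulLin ψ φ - LinearMap.BilinForm.linMulLin φ ψ + ω'.comp π' π'
      have hω : ∀ x y, ω x y = ψ x * φ y - φ x * ψ y + ω' (π' x) (π' y) := fun x y => rfl
      have hπX : ∀ x, π' (X x) = X' (π' x) := by
        intro x
        apply Subtype.ext
        rw [hπ', hX'c, hπ', map_sub, map_sub, map_smul, map_smul, hX v, hψX, ← hψ x]
        module
      have halt : ω.IsAlt := by
        intro x
        rw [hω, halt' (π' x)]
        ring
      have hinv : ∀ x y, ω (X x) (X y) = - z * ω x y := by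
        intro x y
        rw [hω, hω, hπX, hπX, hinv', hψX, hψX, ← hψ x, ← hψ y]
        ring
      have hπv : π' v = 0 := by
        apply Subtype.ext
        rw [hπ', hψv, hφv]
        simp
      have hπXv : π' (X v) = 0 := by
        apply Subtype.ext
        rw [hπ', hψXv, hφXv]
        simp
      have hleft : ∀ x, (∀ y, ω x y = 0) → x = 0 := by
        intro x hx
        have h1 := hx v
        rw [hω, hπv, map_zero, hφv, hψv] at h1
        have hφx : φ x = 0 := by
          have : - φ x = 0 := by linear_combination h1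
          exact neg_eq_zero.1 this
        have h2 := hx (X v)
        rw [hω, hπXv, map_zero, hφXv, hψXv] at h2
        have hψx : ψ x = 0 := by linear_combination h2
        have hxc : ((π' x : U') : V) = x := by
          rw [hπ', hψx, hφx]
          simp
        have hπx : π' x = 0 := by
          apply hnd'.1
          intro y
          have h3 := hx (y : V)
          have hy := (hU' (y : V)).1 y.2
          have hyc : π' (y : V) = y := by
            apply Subtype.ext
            rw [hπ', hy.1, hy.2]
            simp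
          rw [hω, hyc, hy.1, hy.2] at h3
          linear_combination h3
        rw [← hxc, hπx]
        rfl
      refine ⟨ω, halt, ⟨hleft, fun y hy => hleft y (fun x => ?_)⟩, hinv⟩
      rw [← halt.neg_eq x y, hy x, neg_zero]
    · have hv' : ∀ v, ¬ LinearIndependent F ![v, X v] := fun v hvv => hv ⟨v, hvv⟩
      obtain ⟨a, ha⟩ := LinearMap.exists_eq_smul_id_of_forall_notLinearIndependent hv'
      have hXa : ∀ w, X w = a • w := by
        intro w
        rw [ha]
        rfl
      have hpos : 0 < finrank F V := by omega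
      have : Nontrivial V := Module.finrank_pos_iff.1 hpos
      obtain ⟨w₀, hw₀⟩ := exists_ne (0 : V)
      have haz : a * a = z := by
        have h := hX w₀
        rw [hXa, hXa, smul_smul] at h
        have h' : (a * a - z) • w₀ = 0 := by rw [sub_smul, h, sub_self]
        rcases smul_eq_zero.1 h' with h'' | h''
        · exact sub_eq_zero.1 h''
        · exact absurd h'' hw₀
      have h2 : (2 : F) = 0 := by
        rcases hz with h | h
        · exact h
        · exact absurd ⟨a, haz.symm⟩ h
      obtain ⟨ω, halt, hnd⟩ := exists_alt_nondeg V (N + 1) hfr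
      refine ⟨ω, halt, hnd, fun x y => ?_⟩
      rw [hXa, hXa, map_smul, map_smul, LinearMap.smul_apply, smul_eq_mul, smul_eq_mul, ← mul_assoc,
        haz]
      have hzz : - z = z := by
        rw [neg_eq_iff_add_eq_zero, ← two_mul, h2, zero_mul]
      rw [hzz]

end recursion

section eigen

variable {F : Type v} [Field F] {V : Type u} [AddCommGroup V] [Module F V]

theorem mem_ker_sub (X : V →ₗ[F] V) (a : F) (x : V) :
    x ∈ LinearMap.ker (X - a • LinearMap.id) ↔ X x = a • x := by
  rw [LinearMap.mem_ker, LinearMap.sub_apply, LinearMap.smul_apply, LinearMap.id_apply,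
    sub_eq_zero]

theorem mem_ker_add (X : V →ₗ[F] V) (a : F) (x : V) :
    x ∈ LinearMap.ker (X + a • LinearMap.id) ↔ X x = - (a • x) := by
  rw [LinearMap.mem_ker, LinearMap.add_apply, LinearMap.smul_apply, LinearMap.id_apply,
    add_eq_zero_iff_eq_neg]

theorem isCompl_eigen (X : V →ₗ[F] V) (a : F) (h2 : (2 : F) ≠ 0) (ha : a ≠ 0)
    (hX : ∀ w, X (X w) = (a * a) • w) :
    IsCompl (LinearMap.ker (X - a • LinearMap.id)) (LinearMap.ker (X + a • LinearMap.id)) := by
  have h2a : (2 * a) ≠ 0 := mul_ne_zero h2 ha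
  refine IsCompl.of_eq ?_ ?_
  · rw [Submodule.eq_bot_iff]
    intro x hx
    rw [Submodule.mem_inf, mem_ker_sub, mem_ker_add] at hx
    have h3 : a • x + a • x = 0 := by
      nth_rewrite 1 [← hx.1]
      rw [hx.2]
      exact neg_add_cancel _
    have h : (2 * a) • x = 0 := by
      rw [mul_smul, two_smul]
      exact h3
    exact (smul_eq_zero.1 h).resolve_left h2a
  · rw [eq_top_iff]
    intro x _
    rw [Submodule.mem_sup]
    refine ⟨(2 * a)⁻¹ • (X x + a • x), ?_, (2 * a)⁻¹ • (a • x - X x), ?_, ?_⟩
    · rw [mem_ker_sub, map_smul, map_add, map_smul, hX]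
      module
    · rw [mem_ker_add, map_smul, map_sub, map_smul, hX]
      module
    · rw [← smul_add]
      have h : X x + a • x + (a • x - X x) = (2 * a) • x := by module
      rw [h, smul_smul, inv_mul_cancel₀ h2a, one_smul]

/-- If `X ∘ X = a²` in odd characteristic and both eigenspaces have even dimension, there is a
nondegenerate alternating form scaled by `a²` under `X`. -/
theorem exists_form_sq [FiniteDimensional F V] (X : V →ₗ[F] V) (a : F) (h2 : (2 : F) ≠ 0)
    (ha : a ≠ 0) (hX : ∀ w, X (X w) = (a * a) • w) (k₁ k₂ : ℕ)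
    (h₁ : finrank F (LinearMap.ker (X - a • LinearMap.id)) = 2 * k₁)
    (h₂ : finrank F (LinearMap.ker (X + a • LinearMap.id)) = 2 * k₂) :
    ∃ ω : LinearMap.BilinForm F V, ω.IsAlt ∧ ω.Nondegenerate ∧
      ∀ u w, ω (X u) (X w) = (a * a) * ω u w := by
  have hc := isCompl_eigen X a h2 ha hX
  obtain ⟨ω₁, halt₁, hnd₁⟩ := exists_alt_nondeg (LinearMap.ker (X - a • LinearMap.id)) k₁ h₁
  obtain ⟨ω₂, halt₂, hnd₂⟩ := exists_alt_nondeg (LinearMap.ker (X + a • LinearMap.id)) k₂ h₂
  let e := Submodule.prodEquivOfIsCompl _ _ hc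
  let Ψ := e.symm
  have he : ∀ p, e p = (p.1 : V) + (p.2 : V) := fun p => rfl
  have hsum : ∀ x, ((Ψ x).1 : V) + ((Ψ x).2 : V) = x := by
    intro x
    rw [← he]
    exact e.apply_symm_apply x
  have hΨX : ∀ x, Ψ (X x) = (a • (Ψ x).1, (-a) • (Ψ x).2) := by
    intro x
    rw [LinearEquiv.symm_apply_eq, he]
    conv_lhs => rw [← hsum x]
    rw [map_add, (mem_ker_sub X a _).1 (Ψ x).1.2, (mem_ker_add X a _).1 (Ψ x).2.2]
    simp
  let π₁ : V →ₗ[F] (LinearMap.ker (X - a • LinearMap.id)) :=
    (LinearMap.fst F _ _) ∘ₗ Ψ.toLinearMap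
  let π₂ : V →ₗ[F] (LinearMap.ker (X + a • LinearMap.id)) :=
    (LinearMap.snd F _ _) ∘ₗ Ψ.toLinearMap
  have hπ₁ : ∀ x, π₁ x = (Ψ x).1 := fun x => rfl
  have hπ₂ : ∀ x, π₂ x = (Ψ x).2 := fun x => rfl
  let ω : LinearMap.BilinForm F V := ω₁.comp π₁ π₁ + ω₂.comp π₂ π₂
  have hω : ∀ x y, ω x y = ω₁ (Ψ x).1 (Ψ y).1 + ω₂ (Ψ x).2 (Ψ y).2 := fun x y => rfl
  have halt : ω.IsAlt := by
    intro x
    rw [hω, halt₁, halt₂, add_zero]
  have hinv : ∀ x y, ω (X x) (X y) = (a * a) * ω x y := by
    intro x y
    rw [hω, hω, hΨX, hΨX]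
    simp only [map_smul, LinearMap.smul_apply, smul_eq_mul]
    ring
  have hleft : ∀ x, (∀ y, ω x y = 0) → x = 0 := by
    intro x hx
    have h1 : (Ψ x).1 = 0 := by
      apply hnd₁.1
      intro y₁
      have h := hx (e (y₁, 0))
      rw [hω] at h
      have hΨe : Ψ (e (y₁, 0)) = (y₁, 0) := e.symm_apply_apply _
      rw [hΨe] at h
      simpa using h
    have h2' : (Ψ x).2 = 0 := by
      apply hnd₂.1
      intro y₂
      have h := hx (e (0, y₂))
      rw [hω] at h
      have hΨe : Ψ (e (0, y₂)) = (0, y₂) := e.symm_apply_apply _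
      rw [hΨe] at h
      simpa using h
    rw [← hsum x, h1, h2']
    simp
  refine ⟨ω, halt, ⟨hleft, fun y hy => hleft y (fun x => ?_)⟩, hinv⟩
  rw [← halt.neg_eq x y, hy x, neg_zero]

/-- the determinant of a map with `X ∘ X = a²` in odd characteristic -/
theorem det_eq_of_eigen [FiniteDimensional F V] (X : V →ₗ[F] V) (a : F) (h2 : (2 : F) ≠ 0)
    (ha : a ≠ 0) (hX : ∀ w, X (X w) = (a * a) • w) :
    LinearMap.det X = a ^ finrank F (LinearMap.ker (X - a • LinearMap.id)) *
      (-a) ^ finrank F (LinearMap.ker (X + a • LinearMap.id)) := by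
  have hc := isCompl_eigen X a h2 ha hX
  let e := Submodule.prodEquivOfIsCompl _ _ hc
  have he : ∀ p, e p = (p.1 : V) + (p.2 : V) := fun p => rfl
  let P : Module.End F ((LinearMap.ker (X - a • LinearMap.id)) ×
      (LinearMap.ker (X + a • LinearMap.id))) :=
    LinearMap.prodMap (a • LinearMap.id) ((-a) • LinearMap.id)
  have hconj : X = (e : _ →ₗ[F] V) ∘ₗ P ∘ₗ (e.symm : V →ₗ[F] _) := by
    apply LinearMap.ext
    intro w
    obtain ⟨⟨u₁, u₂⟩, rfl⟩ := e.surjective w
    simp only [LinearMap.comp_apply, LinearEquiv.coe_coe, LinearEquiv.symm_apply_apply]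
    rw [he, he, map_add, (mem_ker_sub X a _).1 u₁.2, (mem_ker_add X a _).1 u₂.2]
    simp [P]
  have hdet : LinearMap.det ((e : _ →ₗ[F] V) ∘ₗ P ∘ₗ (e.symm : V →ₗ[F] _)) = LinearMap.det P :=
    LinearMap.det_conj P e
  have hP : LinearMap.det P = a ^ finrank F (LinearMap.ker (X - a • LinearMap.id)) *
      (-a) ^ finrank F (LinearMap.ker (X + a • LinearMap.id)) := by
    rw [LinearMap.det_prodMap, LinearMap.det_smul, LinearMap.det_smul]
    simp only [LinearMap.det_id, mul_one]
  exact (congrArg LinearMap.det hconj).trans (hdet.trans hP)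

end eigen

section transport

variable {F : Type v} [Field F]

/-- a nondegenerate alternating form on `F^n` is carried to a given symplectic form by an
invertible matrix -/
theorem exists_transport {n N : ℕ} (hn : n = 2 * N) (f : (Fin n → F) → (Fin n → F) → F)
    (hf : Cfsg.Geo.IsSymplecticForm f) (ω : LinearMap.BilinForm F (Fin n → F)) (halt : ω.IsAlt)
    (hnd : ω.Nondegenerate) :
    ∃ R : GL (Fin n) F, ∀ u w, f ((R : Matrix (Fin n) (Fin n) F) *ᵥ u)
      ((R : Matrix (Fin n) (Fin n) F) *ᵥ w) = ω u w := by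
  let ωf : LinearMap.BilinForm F (Fin n → F) :=
    LinearMap.mk₂ F f hf.bilinear.add_left (fun c x y => by rw [hf.bilinear.smul_left]; rfl)
      hf.bilinear.add_right (fun c x y => by rw [hf.bilinear.smul_right]; rfl)
  have hωf : ∀ x y, ωf x y = f x y := fun _ _ => rfl
  have haltf : ωf.IsAlt := fun x => hf.alternating x
  have hndf : ωf.Nondegenerate := by
    refine ⟨fun x hx => ?_, fun y hy => ?_⟩
    · by_contra hx0
      obtain ⟨y, hy⟩ := (hf.nondegenerate x hx0).2
      exact hy (hx y)
    · by_contra hy0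
      obtain ⟨x, hx⟩ := (hf.nondegenerate y hy0).1
      exact hx (hy x)
  have hfr : finrank F (Fin n → F) = 2 * N := by rw [Module.finrank_fin_fun, hn]
  obtain ⟨b₁, hb₁⟩ := darboux_basis N (Fin n → F) ωf haltf hndf hfr
  obtain ⟨b₂, hb₂⟩ := darboux_basis N (Fin n → F) ω halt hnd hfr
  let T : (Fin n → F) ≃ₗ[F] (Fin n → F) := b₂.equiv b₁ (Equiv.refl _)
  have hT : ∀ i, T (b₂ i) = b₁ i := fun i => by simp [T]
  have hcomp : ωf.comp T.toLinearMap T.toLinearMap = ω := by
    apply LinearMap.BilinForm.ext_basis b₂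
    intro i j
    rw [LinearMap.BilinForm.comp_apply]
    simp only [LinearEquiv.coe_coe, hT]
    rw [← LinearMap.BilinForm.toMatrix_apply b₁ ωf i j, ← LinearMap.BilinForm.toMatrix_apply b₂ ω i j,
      hb₁, hb₂]
  let M := LinearMap.toMatrix' T.toLinearMap
  let M' := LinearMap.toMatrix' T.symm.toLinearMap
  have h1 : M * M' = 1 := by
    rw [← LinearMap.toMatrix'_comp]
    have : T.toLinearMap ∘ₗ T.symm.toLinearMap = LinearMap.id := by
      ext x
      simp
    rw [this, LinearMap.toMatrix'_id]
  have h2 : M' * M = 1 := by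
    rw [← LinearMap.toMatrix'_comp]
    have : T.symm.toLinearMap ∘ₗ T.toLinearMap = LinearMap.id := by
      ext x
      simp
    rw [this, LinearMap.toMatrix'_id]
  refine ⟨⟨M, M', h1, h2⟩, fun u w => ?_⟩
  show f (M *ᵥ u) (M *ᵥ w) = ω u w
  rw [LinearMap.toMatrix'_mulVec, LinearMap.toMatrix'_mulVec, ← hcomp]
  rfl

end transport

end Cfsg.Agent.Lib.Helper44.SLInv
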