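import Mathlib
import Cfsg.Agent.Lib.Helper44.SLInvForm

/-!
# Cyclic families for maps with nonsquare scalar square, and auxiliary square roots

* `exists_cyclic_family`, `exists_equiv_of_nonsquare`: two linear maps with `y ∘ y = z` (`z` a
  nonsquare) on a space of dimension `2m` are conjugate.
* `exists_sq_eq_smul`: an even-dimensional space carries a map with `J ∘ J = Δ`.
* `exists_commuting_sq`, `exists_anticommuting_sq`: such maps commuting / anticommuting with a map
  `X` with `X ∘ X = a²`.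
-/

set_option autoImplicit false

namespace Cfsg.Agent.Lib.Helper44.SLInv

open Module LinearMap

universe u v

section cyc

variable {F : Type v} [Field F]

/-- dual functionals to `v, y v` when `y ∘ y = z` -/
theorem exists_dual_pair {V : Type u} [AddCommGroup V] [Module F V] (y : V →ₗ[F] V) (z : F)
    (hy : ∀ w, y (y w) = z • w) (v : V) (hv : y v ∉ Submodule.span F {v}) :
    ∃ ψ φ : V →ₗ[F] F, ψ v = 1 ∧ ψ (y v) = 0 ∧ φ v = 0 ∧ φ (y v) = 1 ∧
      (∀ x, ψ (y x) = z * φ x) ∧ (∀ x, φ (y x) = ψ x) := by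
  obtain ⟨f0, hf0, hker⟩ := Submodule.exists_le_ker_of_notMem hv
  set φ : V →ₗ[F] F := (f0 (y v))⁻¹ • f0 with hφdef
  have hφv : φ v = 0 := by
    have h : v ∈ LinearMap.ker f0 := hker (Submodule.mem_span_singleton_self v)
    rw [hφdef, LinearMap.smul_apply, LinearMap.mem_ker.1 h, smul_zero]
  have hφyv : φ (y v) = 1 := by
    rw [hφdef, LinearMap.smul_apply, smul_eq_mul, inv_mul_cancel₀ hf0]
  refine ⟨φ ∘ₗ y, φ, hφyv, ?_, hφv, hφyv, fun x => ?_, fun x => rfl⟩
  · show φ (y (y v)) = 0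
    rw [hy, map_smul, hφv, smul_zero]
  · show φ (y (y x)) = z * φ x
    rw [hy, map_smul, smul_eq_mul]

/-- a map with nonsquare scalar square on a space of dimension `2m` has a spanning family
`v_i, y v_i` -/
theorem exists_cyclic_family (z : F) (hz : ¬ IsSquare z) :
    ∀ (m : ℕ) (V : Type u) [AddCommGroup V] [Module F V] [FiniteDimensional F V]
      (y : V →ₗ[F] V), (∀ w, y (y w) = z • w) → finrank F V = 2 * m →
      ∃ vs : Fin m → V,
        ⊤ ≤ Submodule.span F (Set.range (Sum.elim vs (fun i => y (vs i)))) := by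
  intro m
  induction m with
  | zero =>
    intro V _ _ _ y _ hfr
    have hsub : Subsingleton V := Module.finrank_zero_iff.1 (by simpa using hfr)
    refine ⟨Fin.elim0, fun x _ => ?_⟩
    rw [Subsingleton.elim x 0]
    exact zero_mem _
  | succ m ih =>
    intro V _ _ _ y hy hfr
    have hpos : 0 < finrank F V := by omega
    have : Nontrivial V := Module.finrank_pos_iff.1 hpos
    obtain ⟨v, hv0⟩ := exists_ne (0 : V)
    have hyv : y v ∉ Submodule.span F {v} := by
      intro hmem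
      obtain ⟨c, hc⟩ := Submodule.mem_span_singleton.1 hmem
      apply hz
      refine ⟨c, ?_⟩
      have h := hy v
      rw [← hc, map_smul, ← hc, smul_smul] at h
      have h' : (c * c - z) • v = 0 := by rw [sub_smul, h, sub_self]
      rcases smul_eq_zero.1 h' with h'' | h''
      · exact (sub_eq_zero.1 h'').symm
      · exact absurd h'' hv0
    obtain ⟨ψ, φ, hψv, hψyv, hφv, hφyv, hψy, hφy⟩ := exists_dual_pair y z hy v hyv
    let L : V →ₗ[F] F × F := ψ.prod φ
    let U' : Submodule F V := LinearMap.ker L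
    have hU' : ∀ x : V, x ∈ U' ↔ ψ x = 0 ∧ φ x = 0 := by
      intro x
      show L x = 0 ↔ _
      change ((ψ x, φ x) : F × F) = 0 ↔ _
      exact Prod.mk_eq_zero
    have hLsurj : Function.Surjective L := by
      rintro ⟨s, t⟩
      refine ⟨s • v + t • y v, ?_⟩
      change ((ψ (s • v + t • y v), φ (s • v + t • y v)) : F × F) = (s, t)
      simp only [map_add, map_smul, smul_eq_mul, hψv, hψyv, hφv, hφyv]
      ext <;> simp
    have hfrU : finrank F U' = 2 * m := by
      have h1 := LinearMap.finrank_range_add_finrank_ker L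
      rw [LinearMap.range_eq_top.2 hLsurj, finrank_top, Module.finrank_prod,
        Module.finrank_self] at h1
      show finrank F (LinearMap.ker L) = 2 * m
      omega
    have hyU : ∀ x ∈ U', y x ∈ U' := by
      intro x hx
      rw [hU'] at hx ⊢
      exact ⟨by rw [hψy, hx.2, mul_zero], by rw [hφy]; exact hx.1⟩
    let y' : U' →ₗ[F] U' := y.restrict hyU
    have hy'c : ∀ w : U', ((y' w : U') : V) = y (w : V) := fun w => rfl
    have hy' : ∀ w : U', y' (y' w) = z • w := by
      intro w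
      apply Subtype.ext
      rw [hy'c, hy'c, hy]
      rfl
    obtain ⟨vs', hspan'⟩ := ih U' y' hy' hfrU
    have hproj : ∀ x, x - ψ x • v - φ x • y v ∈ U' := by
      intro x
      rw [hU']
      constructor
      · simp only [map_sub, map_smul, smul_eq_mul, hψv, hψyv]
        ring
      · simp only [map_sub, map_smul, smul_eq_mul, hφv, hφyv]
        ring
    let vs : Fin (m + 1) → V := Fin.cons v (fun i => (vs' i : V))
    have hvs0 : vs 0 = v := rfl
    have hvss : ∀ i : Fin m, vs i.succ = (vs' i : V) := fun i => rfl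
    refine ⟨vs, fun u _ => ?_⟩
    have hdec : u = ψ u • v + φ u • y v + (u - ψ u • v - φ u • y v) := by module
    rw [hdec]
    refine add_mem (add_mem (Submodule.smul_mem _ _ (Submodule.subset_span ⟨Sum.inl 0, ?_⟩))
      (Submodule.smul_mem _ _ (Submodule.subset_span ⟨Sum.inr 0, ?_⟩))) ?_
    · rw [Sum.elim_inl, hvs0]
    · rw [Sum.elim_inr, hvs0]
    · have h3 : (⟨u - ψ u • v - φ u • y v, hproj u⟩ : U') ∈
          Submodule.span F (Set.range (Sum.elim vs' (fun i => y' (vs' i)))) :=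
        hspan' Submodule.mem_top
      have h4 := Submodule.mem_map_of_mem (f := U'.subtype) h3
      rw [Submodule.map_span] at h4
      refine Submodule.span_mono ?_ h4
      rintro _ ⟨_, ⟨j, rfl⟩, rfl⟩
      rcases j with i | i
      · refine ⟨Sum.inl i.succ, ?_⟩
        rw [Sum.elim_inl, Sum.elim_inl, hvss]
        rfl
      · refine ⟨Sum.inr i.succ, ?_⟩
        rw [Sum.elim_inr, Sum.elim_inr, hvss]
        rfl

/-- two maps with the same nonsquare scalar square are conjugate -/
theorem exists_equiv_of_nonsquare {V : Type u} [AddCommGroup V] [Module F V]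
    [FiniteDimensional F V] (z : F) (hz : ¬ IsSquare z) (m : ℕ) (hfr : finrank F V = 2 * m)
    (y y' : V →ₗ[F] V) (hy : ∀ w, y (y w) = z • w) (hy' : ∀ w, y' (y' w) = z • w) :
    ∃ T : V ≃ₗ[F] V, ∀ w, T (y w) = y' (T w) := by
  obtain ⟨vs, hvs⟩ := exists_cyclic_family z hz m V y hy hfr
  obtain ⟨vs', hvs'⟩ := exists_cyclic_family z hz m V y' hy' hfr
  have hcard : Fintype.card (Fin m ⊕ Fin m) = finrank F V := by
    rw [Fintype.card_sum, Fintype.card_fin, hfr]
    ring
  let b := basisOfTopLeSpanOfCardEqFinrank _ hvs hcard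
  let b' := basisOfTopLeSpanOfCardEqFinrank _ hvs' hcard
  have hbl : ∀ i, b (Sum.inl i) = vs i := fun i => by
    show (basisOfTopLeSpanOfCardEqFinrank _ hvs hcard) (Sum.inl i) = _
    rw [coe_basisOfTopLeSpanOfCardEqFinrank]
    rfl
  have hbr : ∀ i, b (Sum.inr i) = y (vs i) := fun i => by
    show (basisOfTopLeSpanOfCardEqFinrank _ hvs hcard) (Sum.inr i) = _
    rw [coe_basisOfTopLeSpanOfCardEqFinrank]
    rfl
  have hbl' : ∀ i, b' (Sum.inl i) = vs' i := fun i => by
    show (basisOfTopLeSpanOfCardEqFinrank _ hvs' hcard) (Sum.inl i) = _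
    rw [coe_basisOfTopLeSpanOfCardEqFinrank]
    rfl
  have hbr' : ∀ i, b' (Sum.inr i) = y' (vs' i) := fun i => by
    show (basisOfTopLeSpanOfCardEqFinrank _ hvs' hcard) (Sum.inr i) = _
    rw [coe_basisOfTopLeSpanOfCardEqFinrank]
    rfl
  let T : V ≃ₗ[F] V := b.equiv b' (Equiv.refl _)
  have hT : ∀ j, T (b j) = b' j := fun j => by simp [T]
  have hcomm : T.toLinearMap ∘ₗ y = y' ∘ₗ T.toLinearMap := by
    apply b.ext
    intro j
    rcases j with i | i
    · show T (y (b (Sum.inl i))) = y' (T (b (Sum.inl i)))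
      rw [hT, hbl, ← hbr, hT, hbr', hbl']
    · show T (y (b (Sum.inr i))) = y' (T (b (Sum.inr i)))
      rw [hT, hbr, hy, ← hbl, map_smul, hT, hbr', hy', hbl']
  exact ⟨T, fun w => LinearMap.congr_fun hcomm w⟩

/-- an even-dimensional space carries a map with `J ∘ J = Δ` -/
theorem exists_sq_eq_smul (W : Type u) [AddCommGroup W] [Module F W] [FiniteDimensional F W]
    (k : ℕ) (hfr : finrank F W = 2 * k) (Δ : F) :
    ∃ J : W →ₗ[F] W, ∀ w, J (J w) = Δ • w := by
  let b0 : Basis (Fin (2 * k)) F W := Module.finBasisOfFinrankEq F W hfr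
  let e : Fin (2 * k) ≃ Fin k ⊕ Fin k := (finCongr (two_mul k)).trans finSumFinEquiv.symm
  let b := b0.reindex e
  let J : W →ₗ[F] W := b.constr F
    (fun j => Sum.elim (fun i => b (Sum.inr i)) (fun i => Δ • b (Sum.inl i)) j)
  have hJl : ∀ i, J (b (Sum.inl i)) = b (Sum.inr i) := fun i => by
    show b.constr F _ (b (Sum.inl i)) = _
    rw [Basis.constr_basis]
    rfl
  have hJr : ∀ i, J (b (Sum.inr i)) = Δ • b (Sum.inl i) := fun i => by
    show b.constr F _ (b (Sum.inr i)) = _
    rw [Basis.constr_basis]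
    rfl
  have hJJ : J ∘ₗ J = Δ • LinearMap.id := by
    apply b.ext
    intro j
    rcases j with i | i
    · show J (J (b (Sum.inl i))) = Δ • b (Sum.inl i)
      rw [hJl, hJr]
    · show J (J (b (Sum.inr i))) = Δ • b (Sum.inr i)
      rw [hJr, map_smul, hJl]
  exact ⟨J, fun w => LinearMap.congr_fun hJJ w⟩

end cyc

section eigenJ

variable {F : Type v} [Field F] {V : Type u} [AddCommGroup V] [Module F V]

/-- a map with `X ∘ X = a²`, both eigenspaces of even dimension, commutes with some `J`,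
`J ∘ J = Δ` -/
theorem exists_commuting_sq [FiniteDimensional F V] (X : V →ₗ[F] V) (a : F) (h2 : (2 : F) ≠ 0)
    (ha : a ≠ 0) (hX : ∀ w, X (X w) = (a * a) • w) (k₁ k₂ : ℕ)
    (h₁ : finrank F (LinearMap.ker (X - a • LinearMap.id)) = 2 * k₁)
    (h₂ : finrank F (LinearMap.ker (X + a • LinearMap.id)) = 2 * k₂) (Δ : F) :
    ∃ J : V →ₗ[F] V, (∀ w, J (J w) = Δ • w) ∧ ∀ w, J (X w) = X (J w) := by
  have hc := isCompl_eigen X a h2 ha hX
  obtain ⟨J₁, hJ₁⟩ := exists_sq_eq_smul (LinearMap.ker (X - a • LinearMap.id)) k₁ h₁ Δ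
  obtain ⟨J₂, hJ₂⟩ := exists_sq_eq_smul (LinearMap.ker (X + a • LinearMap.id)) k₂ h₂ Δ
  let e := Submodule.prodEquivOfIsCompl _ _ hc
  have he : ∀ p, e p = (p.1 : V) + (p.2 : V) := fun p => rfl
  have hXe : ∀ p, X (e p) = e (a • p.1, (-a) • p.2) := by
    intro p
    rw [he, he, map_add, (mem_ker_sub X a _).1 p.1.2, (mem_ker_add X a _).1 p.2.2]
    simp
  let G : Module.End F ((LinearMap.ker (X - a • LinearMap.id)) ×
      (LinearMap.ker (X + a • LinearMap.id))) := LinearMap.prodMap J₁ J₂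
  have hG : ∀ p, G p = (J₁ p.1, J₂ p.2) := fun p => rfl
  let J : V →ₗ[F] V := (e : _ →ₗ[F] V) ∘ₗ G ∘ₗ (e.symm : V →ₗ[F] _)
  have hJ : ∀ w, J w = e (G (e.symm w)) := fun w => rfl
  refine ⟨J, fun w => ?_, fun w => ?_⟩
  · rw [hJ, hJ, e.symm_apply_apply, hG, hG]
    simp only
    rw [hJ₁, hJ₂, ← Prod.smul_mk, map_smul, Prod.mk.eta, e.apply_symm_apply]
  · obtain ⟨p, rfl⟩ := e.surjective w
    rw [hXe, hJ, hJ, e.symm_apply_apply, e.symm_apply_apply, hXe, hG, hG]
    simp only [map_smul]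

/-- a map with `X ∘ X = a²` whose eigenspaces have equal dimension anticommutes with some `J`,
`J ∘ J = Δ` -/
theorem exists_anticommuting_sq [FiniteDimensional F V] (X : V →ₗ[F] V) (a : F) (h2 : (2 : F) ≠ 0)
    (ha : a ≠ 0) (hX : ∀ w, X (X w) = (a * a) • w)
    (hdim : finrank F (LinearMap.ker (X - a • LinearMap.id)) =
      finrank F (LinearMap.ker (X + a • LinearMap.id))) (Δ : F) :
    ∃ J : V →ₗ[F] V, (∀ w, J (J w) = Δ • w) ∧ ∀ w, J (X w) = - X (J w) := by
  have hc := isCompl_eigen X a h2 ha hX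
  let θ : (LinearMap.ker (X - a • LinearMap.id)) ≃ₗ[F] (LinearMap.ker (X + a • LinearMap.id)) :=
    LinearEquiv.ofFinrankEq _ _ hdim
  let e := Submodule.prodEquivOfIsCompl _ _ hc
  have he : ∀ p, e p = (p.1 : V) + (p.2 : V) := fun p => rfl
  have hXe : ∀ p, X (e p) = e (a • p.1, (-a) • p.2) := by
    intro p
    rw [he, he, map_add, (mem_ker_sub X a _).1 p.1.2, (mem_ker_add X a _).1 p.2.2]
    simp
  let G : Module.End F ((LinearMap.ker (X - a • LinearMap.id)) ×
      (LinearMap.ker (X + a • LinearMap.id))) :=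
    LinearMap.prod ((Δ • θ.symm.toLinearMap) ∘ₗ LinearMap.snd F _ _)
      (θ.toLinearMap ∘ₗ LinearMap.fst F _ _)
  have hG : ∀ p, G p = (Δ • θ.symm p.2, θ p.1) := fun p => rfl
  let J : V →ₗ[F] V := (e : _ →ₗ[F] V) ∘ₗ G ∘ₗ (e.symm : V →ₗ[F] _)
  have hJ : ∀ w, J w = e (G (e.symm w)) := fun w => rfl
  refine ⟨J, fun w => ?_, fun w => ?_⟩
  · rw [hJ, hJ, e.symm_apply_apply, hG, hG]
    simp only [map_smul, LinearEquiv.symm_apply_apply, LinearEquiv.apply_symm_apply]
    rw [← Prod.smul_mk, map_smul, Prod.mk.eta, e.apply_symm_apply]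
  · obtain ⟨p, rfl⟩ := e.surjective w
    rw [hXe, hJ, hJ, e.symm_apply_apply, e.symm_apply_apply, hXe, hG, hG, ← map_neg]
    congr 1
    simp only [map_smul, Prod.neg_mk, Prod.mk.injEq]
    constructor
    · rw [smul_smul, smul_smul, mul_comm Δ (-a), ← smul_smul, ← smul_smul, neg_smul]
    · rw [neg_smul, neg_neg]

end eigenJ

end Cfsg.Agent.Lib.Helper44.SLInv
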