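import Mathlib
import Cfsg.Prelude.Def_GeometricClasses
import Cfsg.Agent.Lib.Helper44.SLInvExt
import Cfsg.Agent.Lib.Helper44.SLInvCyc

/-!
# Involutions of `SL_n(q)` conjugate into the normaliser of a quadratic field

If `n = 2`, or `q` is odd and `v₂(q-1) ≤ v₂(n)`, every nonscalar element of `SL_n(q)` with scalar
square is conjugate under `SL_n(q)` into the normaliser of a given field subalgebra of degree two.
-/

set_option autoImplicit false

namespace Cfsg.Agent.Lib.Helper44.SLInv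

open Module LinearMap Matrix

universe u v

section pos

variable {F : Type v} [Field F] {n : ℕ}

theorem two_eq_zero_iff_even_card [Fintype F] : (2 : F) = 0 ↔ Fintype.card F % 2 = 0 := by
  rw [← FiniteField.even_card_iff_char_two]
  have := ringChar.charP F
  constructor
  · intro h
    have hd : ringChar F ∣ 2 := (ringChar.spec F 2).1 (by exact_mod_cast h)
    exact (Nat.prime_dvd_prime_iff_eq (CharP.char_is_prime F (ringChar F)) Nat.prime_two).1 hd
  · intro h
    have h1 : ((ringChar F : ℕ) : F) = 0 := ringChar.Nat.cast_ringChar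
    rw [h] at h1
    exact_mod_cast h1

/-- the quotient of two nonsquares of a finite field is a square -/
theorem exists_sq_mul_of_nonsquare [Fintype F] (z Δ : F) (hz : ¬ IsSquare z) (hΔ : ¬ IsSquare Δ) :
    ∃ β : F, z = β * β * Δ := by
  classical
  have hΔ0 : Δ ≠ 0 := by
    rintro rfl
    exact hΔ ⟨0, by rw [mul_zero]⟩
  have hz0 : z ≠ 0 := by
    rintro rfl
    exact hz ⟨0, by rw [mul_zero]⟩
  have h1 : quadraticChar F (z * Δ) = 1 := by
    rw [map_mul, quadraticChar_neg_one_iff_not_isSquare.2 hz,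
      quadraticChar_neg_one_iff_not_isSquare.2 hΔ]
    norm_num
  obtain ⟨γ, hγ⟩ := (quadraticChar_one_iff_isSquare (mul_ne_zero hz0 hΔ0)).1 h1
  refine ⟨γ / Δ, ?_⟩
  have h3 : z = γ * γ / Δ := by rw [← hγ, mul_div_cancel_right₀ _ hΔ0]
  rw [h3]
  field_simp

/-- membership in the normaliser via intertwining relations -/
theorem mem_normalizer_of_intertwine (K : Subalgebra F (Matrix (Fin n) (Fin n) F))
    (κ : Matrix (Fin n) (Fin n) F)
    (hgen : ∀ k ∈ K, ∃ α β : F, k = α • (1 : Matrix (Fin n) (Fin n) F) + β • κ)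
    (y : GL (Fin n) F) (κ' κ'' : Matrix (Fin n) (Fin n) F) (hκ' : κ' ∈ K) (hκ'' : κ'' ∈ K)
    (h1 : (y : Matrix (Fin n) (Fin n) F) * κ = κ' * (y : Matrix (Fin n) (Fin n) F))
    (h2 : (y : Matrix (Fin n) (Fin n) F) * κ'' = κ * (y : Matrix (Fin n) (Fin n) F)) :
    y ∈ Cfsg.Geo.subalgebraNormalizer K := by
  have hyy : (y : Matrix (Fin n) (Fin n) F) * ((y⁻¹ : GL (Fin n) F) : Matrix (Fin n) (Fin n) F) = 1 := by
    rw [← Units.val_mul, mul_inv_cancel, Units.val_one]
  have hyy' : ((y⁻¹ : GL (Fin n) F) : Matrix (Fin n) (Fin n) F) * (y : Matrix (Fin n) (Fin n) F) = 1 := by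
    rw [← Units.val_mul, inv_mul_cancel, Units.val_one]
  apply mem_normalizer_of_gen K κ hgen y
  · rw [h1, Matrix.mul_assoc, hyy, Matrix.mul_one]
    exact hκ'
  · rw [Matrix.mul_assoc, ← h2, ← Matrix.mul_assoc, hyy', Matrix.one_mul]
    exact hκ''

theorem val_conj_toGL (R : GL (Fin n) F) (x : Matrix.SpecialLinearGroup (Fin n) F) :
    ((R * Matrix.SpecialLinearGroup.toGL x * R⁻¹ : GL (Fin n) F) : Matrix (Fin n) (Fin n) F) =
      (R : Matrix (Fin n) (Fin n) F) * (x : Matrix (Fin n) (Fin n) F) *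
        ((R⁻¹ : GL (Fin n) F) : Matrix (Fin n) (Fin n) F) := by
  rw [Units.val_mul, Units.val_mul, Matrix.SpecialLinearGroup.coe_GL_coe_matrix]

/-- transport of a (semi)commuting square root of `Δ` to a given one -/
theorem exists_GL_semicommute (N : ℕ) (hn : n = 2 * N) (κ₁ : Matrix (Fin n) (Fin n) F) (Δ : F)
    (hΔ : ¬ IsSquare Δ) (hκ₁ : κ₁ * κ₁ = Δ • (1 : Matrix (Fin n) (Fin n) F))
    (xm : Matrix (Fin n) (Fin n) F) (J : (Fin n → F) →ₗ[F] (Fin n → F))
    (hJ : ∀ w, J (J w) = Δ • w) (ε : F) (hJX : ∀ w, xm *ᵥ (J w) = ε • J (xm *ᵥ w)) :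
    ∃ R : GL (Fin n) F,
      ((R : Matrix (Fin n) (Fin n) F) * xm *
        ((R⁻¹ : GL (Fin n) F) : Matrix (Fin n) (Fin n) F)) * κ₁ =
      ε • (κ₁ * ((R : Matrix (Fin n) (Fin n) F) * xm *
        ((R⁻¹ : GL (Fin n) F) : Matrix (Fin n) (Fin n) F))) := by
  have hfr : finrank F (Fin n → F) = 2 * N := by rw [Module.finrank_fin_fun, hn]
  have hκ : ∀ w, Matrix.toLin' κ₁ (Matrix.toLin' κ₁ w) = Δ • w := by
    intro w
    rw [Matrix.toLin'_apply, Matrix.toLin'_apply, Matrix.mulVec_mulVec, hκ₁, Matrix.smul_mulVec,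
      Matrix.one_mulVec]
  obtain ⟨T, hT⟩ := exists_equiv_of_nonsquare Δ hΔ N hfr J (Matrix.toLin' κ₁) hJ hκ
  have hT' : ∀ w, T (J w) = κ₁ *ᵥ (T w) := fun w => by rw [hT, Matrix.toLin'_apply]
  refine ⟨glOfEquiv T, ?_⟩
  set Rm : Matrix (Fin n) (Fin n) F :=
    ((glOfEquiv T : GL (Fin n) F) : Matrix (Fin n) (Fin n) F) with hRm
  set Ri : Matrix (Fin n) (Fin n) F :=
    (((glOfEquiv T)⁻¹ : GL (Fin n) F) : Matrix (Fin n) (Fin n) F) with hRi
  have hact : ∀ w, (Rm * xm * Ri) *ᵥ (T w) = T (xm *ᵥ w) := by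
    intro w
    rw [← Matrix.mulVec_mulVec, ← Matrix.mulVec_mulVec, hRi, glOfEquiv_inv_mulVec,
      T.symm_apply_apply, hRm, glOfEquiv_mulVec]
  apply Matrix.toLin'.injective
  apply LinearMap.ext
  intro v
  obtain ⟨w, rfl⟩ := T.surjective v
  rw [Matrix.toLin'_apply, Matrix.toLin'_apply, ← Matrix.mulVec_mulVec, ← hT', hact, hJX, map_smul,
    hT', ← hact, Matrix.smul_mulVec, Matrix.mulVec_mulVec]

/-- two nonzero maps with square zero on a plane are conjugate -/
theorem exists_equiv_of_sq_zero {V : Type u} [AddCommGroup V] [Module F V] [FiniteDimensional F V]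
    (hfr : finrank F V = 2) (N N' : V →ₗ[F] V) (hN : ∀ w, N (N w) = 0) (hN' : ∀ w, N' (N' w) = 0)
    (hN0 : N ≠ 0) (hN'0 : N' ≠ 0) : ∃ T : V ≃ₗ[F] V, ∀ w, T (N w) = N' (T w) := by
  have key : ∀ M : V →ₗ[F] V, (∀ w, M (M w) = 0) → M ≠ 0 →
      ∃ b : Basis (Fin 2) F V, M (b 0) = 0 ∧ M (b 1) = b 0 := by
    intro M hM hM0
    obtain ⟨u, hu⟩ : ∃ u, M u ≠ 0 := by
      by_contra hcon
      push Not at hcon
      exact hM0 (LinearMap.ext hcon)
    have hLI : LinearIndependent F ![M u, u] := by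
      rw [LinearIndependent.pair_iff]
      intro s t hst
      have h1 := congrArg M hst
      rw [map_add, map_smul, map_smul, hM, smul_zero, zero_add, map_zero] at h1
      have ht : t = 0 := (smul_eq_zero.1 h1).resolve_right hu
      rw [ht, zero_smul, add_zero] at hst
      exact ⟨(smul_eq_zero.1 hst).resolve_right hu, ht⟩
    have hcard : Fintype.card (Fin 2) = finrank F V := by rw [Fintype.card_fin, hfr]
    let b := basisOfLinearIndependentOfCardEqFinrank hLI hcard
    have hb0 : b 0 = M u := by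
      show (basisOfLinearIndependentOfCardEqFinrank hLI hcard) 0 = _
      rw [coe_basisOfLinearIndependentOfCardEqFinrank]
      rfl
    have hb1 : b 1 = u := by
      show (basisOfLinearIndependentOfCardEqFinrank hLI hcard) 1 = _
      rw [coe_basisOfLinearIndependentOfCardEqFinrank]
      rfl
    refine ⟨b, ?_, ?_⟩
    · rw [hb0]
      exact hM u
    · rw [hb1, hb0]
  obtain ⟨b, hb0, hb1⟩ := key N hN hN0
  obtain ⟨b', hb0', hb1'⟩ := key N' hN' hN'0
  let T : V ≃ₗ[F] V := b.equiv b' (Equiv.refl _)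
  have hT : ∀ j, T (b j) = b' j := fun j => by simp [T]
  have hcomm : T.toLinearMap ∘ₗ N = N' ∘ₗ T.toLinearMap := by
    apply b.ext
    intro j
    fin_cases j
    · show T (N (b 0)) = N' (T (b 0))
      rw [hb0, map_zero, hT, hb0']
    · show T (N (b 1)) = N' (T (b 1))
      rw [hb1, hT, hT, hb1']
  exact ⟨T, fun w => LinearMap.congr_fun hcomm w⟩

omit [Field F] in
theorem fin_two_congr {a b c d a' b' c' d' : F} (ha : a = a') (hb : b = b') (hc : c = c')
    (hd : d = d') : (!![a, b; c, d] : Matrix (Fin 2) (Fin 2) F) = !![a', b'; c', d'] := by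
  subst ha hb hc hd
  rfl

theorem smul_one_fin_two (d : F) :
    d • (1 : Matrix (Fin 2) (Fin 2) F) = !![d, 0; 0, d] := by
  ext i j
  fin_cases i <;> fin_cases j <;> simp

theorem two_by_two_conj_identity (p q r s c : F) (h2 : (2 : F) = 0) (hcq : c * q = p + s) :
    (!![1, 0; c, 1] : Matrix (Fin 2) (Fin 2) F) * !![p, q; r, s] =
      ((p + s) • (1 : Matrix (Fin 2) (Fin 2) F) - !![p, q; r, s]) * !![1, 0; c, 1] := by
  have e1 : (p + s) • (1 : Matrix (Fin 2) (Fin 2) F) - !![p, q; r, s] = !![s, -q; -r, p] := by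
    rw [smul_one_fin_two]
    ext i j
    fin_cases i <;> fin_cases j <;> simp
  rw [e1, Matrix.mul_fin_two, Matrix.mul_fin_two]
  apply fin_two_congr
  · linear_combination hcq + p * h2
  · linear_combination q * h2
  · linear_combination r * h2
  · linear_combination hcq + s * h2

/-- characteristic two, dimension two: every nonscalar matrix with scalar square is conjugate
into the normaliser of a field subalgebra of degree two -/
theorem exists_GL_conj_char_two [Fintype F] (h2 : (2 : F) = 0)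
    (K : Subalgebra F (Matrix (Fin 2) (Fin 2) F)) (hK : Cfsg.Geo.IsFieldSubalgebra 2 K)
    (xm : Matrix (Fin 2) (Fin 2) F) (z : F) (hz0 : z ≠ 0)
    (hxx : xm * xm = z • (1 : Matrix (Fin 2) (Fin 2) F))
    (hxns : ∀ c : F, xm ≠ c • (1 : Matrix (Fin 2) (Fin 2) F)) :
    ∃ R : GL (Fin 2) F, ∀ y : GL (Fin 2) F,
      (y : Matrix (Fin 2) (Fin 2) F) = (R : Matrix (Fin 2) (Fin 2) F) * xm *
        ((R⁻¹ : GL (Fin 2) F) : Matrix (Fin 2) (Fin 2) F) →
      y ∈ Cfsg.Geo.subalgebraNormalizer K := by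
  have hchar : ringChar F = 2 := by
    have := ringChar.charP F
    have hd : ringChar F ∣ 2 := (ringChar.spec F 2).1 (by exact_mod_cast h2)
    exact (Nat.prime_dvd_prime_iff_eq (CharP.char_is_prime F (ringChar F)) Nat.prime_two).1 hd
  have h2M : ∀ M : Matrix (Fin 2) (Fin 2) F, M + M = 0 := by
    intro M
    rw [← two_smul F M, h2, zero_smul]
  obtain ⟨κ, hκK, hκns, hgen⟩ := exists_gen_of_fieldSubalgebra K hK
  obtain ⟨p, q, r, s, hκeq⟩ : ∃ p q r s : F, κ = !![p, q; r, s] :=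
    ⟨_, _, _, _, Matrix.eta_fin_two κ⟩
  have hq : q ≠ 0 := by
    intro hq0
    have hmemK : κ - s • (1 : Matrix (Fin 2) (Fin 2) F) ∈ K :=
      K.sub_mem hκK (K.smul_mem K.one_mem s)
    have hne : κ - s • (1 : Matrix (Fin 2) (Fin 2) F) ≠ 0 := fun h0 => hκns s (sub_eq_zero.1 h0)
    have hv : (κ - s • (1 : Matrix (Fin 2) (Fin 2) F)) *ᵥ ![0, 1] = 0 := by
      rw [hκeq, hq0, smul_one_fin_two]
      ext i
      fin_cases i <;> simp [Matrix.mulVec, dotProduct, Fin.sum_univ_two]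
    have h0 := mulVec_eq_zero_of_mem K hK _ hmemK hne _ hv
    have h1 := congrFun h0 1
    simp at h1
  have ht : p + s ≠ 0 := by
    intro ht0
    obtain ⟨e, he⟩ := FiniteField.isSquare_of_char_two hchar (p * p + q * r)
    have hκκ : κ * κ = (p * p + q * r) • (1 : Matrix (Fin 2) (Fin 2) F) := by
      rw [hκeq, Matrix.mul_fin_two, smul_one_fin_two]
      apply fin_two_congr
      · rfl
      · linear_combination q * ht0
      · linear_combination r * ht0
      · linear_combination (s - p) * ht0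
    have hsq0 : (κ - e • (1 : Matrix (Fin 2) (Fin 2) F)) * (κ - e • 1) = 0 := by
      have e1 : (κ - e • (1 : Matrix (Fin 2) (Fin 2) F)) * (κ - e • 1) =
          κ * κ - (e • κ + e • κ) + (e * e) • 1 := by
        simp only [sub_mul, mul_sub, Matrix.smul_mul, Matrix.mul_smul, Matrix.mul_one,
          Matrix.one_mul, smul_smul]
        abel
      rw [e1, h2M, sub_zero, hκκ, he, h2M]
    have hmemK : κ - e • (1 : Matrix (Fin 2) (Fin 2) F) ∈ K :=
      K.sub_mem hκK (K.smul_mem K.one_mem e)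
    have hne : κ - e • (1 : Matrix (Fin 2) (Fin 2) F) ≠ 0 := fun h0 => hκns e (sub_eq_zero.1 h0)
    obtain ⟨y, _, _, hyk⟩ := exists_inv_of_mem K hK _ hmemK hne
    apply hne
    calc κ - e • (1 : Matrix (Fin 2) (Fin 2) F)
        = (y * (κ - e • 1)) * (κ - e • 1) := by rw [hyk, Matrix.one_mul]
      _ = 0 := by rw [Matrix.mul_assoc, hsq0, Matrix.mul_zero]
  set c : F := (p + s) / q with hc
  have hcq : c * q = p + s := by rw [hc, div_mul_cancel₀ _ hq]
  have hc0 : c ≠ 0 := by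
    rw [hc]
    exact div_ne_zero ht hq
  set sm : Matrix (Fin 2) (Fin 2) F := !![1, 0; c, 1] with hsm
  set N₀ : Matrix (Fin 2) (Fin 2) F := !![0, 0; c, 0] with hN₀
  have hsm1 : sm = 1 + N₀ := by
    rw [hsm, hN₀]
    ext i j
    fin_cases i <;> fin_cases j <;> simp
  have hsmκ : sm * κ = ((p + s) • (1 : Matrix (Fin 2) (Fin 2) F) - κ) * sm := by
    rw [hκeq]
    exact two_by_two_conj_identity p q r s c h2 hcq
  have hN₀sq : N₀ * N₀ = 0 := by
    rw [hN₀, Matrix.mul_fin_two]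
    ext i j
    fin_cases i <;> fin_cases j <;> simp
  obtain ⟨a, ha⟩ := FiniteField.isSquare_of_char_two hchar z
  have ha0 : a ≠ 0 := by
    rintro rfl
    rw [mul_zero] at ha
    exact hz0 ha
  set Nm : Matrix (Fin 2) (Fin 2) F := xm - a • (1 : Matrix (Fin 2) (Fin 2) F) with hNm
  have hNN : Nm * Nm = 0 := by
    have e1 : Nm * Nm = xm * xm - (a • xm + a • xm) + (a * a) • 1 := by
      rw [hNm]
      simp only [sub_mul, mul_sub, Matrix.smul_mul, Matrix.mul_smul, Matrix.mul_one,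
        Matrix.one_mul, smul_smul]
      abel
    rw [e1, h2M, sub_zero, hxx, ← ha, h2M]
  have hNm0 : Nm ≠ 0 := fun h0 => hxns a (sub_eq_zero.1 h0)
  set N₀' : Matrix (Fin 2) (Fin 2) F := a • N₀ with hN₀'
  have hN₀'sq : N₀' * N₀' = 0 := by
    rw [hN₀', Matrix.smul_mul, Matrix.mul_smul, hN₀sq, smul_zero, smul_zero]
  have hN₀'0 : N₀' ≠ 0 := by
    intro h0
    have h1 := congrFun (congrFun h0 1) 0
    rw [hN₀', hN₀] at h1
    simp at h1
    rcases h1 with h1 | h1
    · exact ha0 h1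
    · exact hc0 h1
  have hNl : ∀ w, Matrix.toLin' Nm (Matrix.toLin' Nm w) = 0 := by
    intro w
    rw [Matrix.toLin'_apply, Matrix.toLin'_apply, Matrix.mulVec_mulVec, hNN, Matrix.zero_mulVec]
  have hNl' : ∀ w, Matrix.toLin' N₀' (Matrix.toLin' N₀' w) = 0 := by
    intro w
    rw [Matrix.toLin'_apply, Matrix.toLin'_apply, Matrix.mulVec_mulVec, hN₀'sq,
      Matrix.zero_mulVec]
  have hNl0 : Matrix.toLin' Nm ≠ 0 := fun h0 => hNm0 ((LinearEquiv.map_eq_zero_iff _).1 h0)
  have hNl0' : Matrix.toLin' N₀' ≠ 0 := fun h0 => hN₀'0 ((LinearEquiv.map_eq_zero_iff _).1 h0)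
  obtain ⟨T, hT⟩ := exists_equiv_of_sq_zero (F := F) (V := Fin 2 → F)
    (by rw [Module.finrank_fin_fun]) (Matrix.toLin' Nm) (Matrix.toLin' N₀') hNl hNl' hNl0 hNl0'
  have hconj := glOfEquiv_conj T Nm N₀' (fun w => by
    have h := hT w
    rwa [Matrix.toLin'_apply, Matrix.toLin'_apply] at h)
  refine ⟨glOfEquiv T, fun y hy => ?_⟩
  set Rm : Matrix (Fin 2) (Fin 2) F :=
    ((glOfEquiv T : GL (Fin 2) F) : Matrix (Fin 2) (Fin 2) F) with hRm
  set Ri : Matrix (Fin 2) (Fin 2) F :=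
    (((glOfEquiv T)⁻¹ : GL (Fin 2) F) : Matrix (Fin 2) (Fin 2) F) with hRi
  have hRR : Rm * Ri = 1 := by
    rw [hRm, hRi, ← Units.val_mul, mul_inv_cancel, Units.val_one]
  have hyval : (y : Matrix (Fin 2) (Fin 2) F) = a • sm := by
    have hx : xm = a • (1 : Matrix (Fin 2) (Fin 2) F) + Nm := by
      rw [hNm, add_sub_cancel]
    rw [hy, hx, Matrix.mul_add, Matrix.add_mul, hconj, Matrix.mul_smul, Matrix.smul_mul,
      Matrix.mul_one, hRR, hsm1, smul_add]
  have hmemK : (p + s) • (1 : Matrix (Fin 2) (Fin 2) F) - κ ∈ K :=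
    K.sub_mem (K.smul_mem K.one_mem _) hκK
  have h1 : (y : Matrix (Fin 2) (Fin 2) F) * κ =
      ((p + s) • (1 : Matrix (Fin 2) (Fin 2) F) - κ) * (y : Matrix (Fin 2) (Fin 2) F) := by
    rw [hyval, Matrix.smul_mul, hsmκ, Matrix.mul_smul]
  have h2' : (y : Matrix (Fin 2) (Fin 2) F) * ((p + s) • (1 : Matrix (Fin 2) (Fin 2) F) - κ) =
      κ * (y : Matrix (Fin 2) (Fin 2) F) := by
    rw [hyval, Matrix.smul_mul, Matrix.mul_smul]
    congr 1
    rw [Matrix.mul_sub, Matrix.mul_smul, Matrix.mul_one, hsmκ, Matrix.sub_mul, Matrix.smul_mul,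
      Matrix.one_mul, sub_sub_cancel]
  exact mem_normalizer_of_intertwine K κ hgen y _ _ hmemK hmemK h1 h2'

/-- if `n = 2`, or `q` is odd and `v₂(q-1) ≤ v₂(n)`, every nonscalar element of `SL_n(q)` with
scalar square is conjugate into the normaliser of a field subalgebra of degree two -/
theorem exists_conj_mem_normalizer [Fintype F] (hn0 : n ≠ 0) (he : Even n)
    (K : Subalgebra F (Matrix (Fin n) (Fin n) F)) (hK : Cfsg.Geo.IsFieldSubalgebra 2 K)
    (hcond : n = 2 ∨ ((2 : F) ≠ 0 ∧ padicValNat 2 (Fintype.card F - 1) ≤ padicValNat 2 n))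
    (x : Matrix.SpecialLinearGroup (Fin n) F) (z : F)
    (hx2 : ((x ^ 2 : Matrix.SpecialLinearGroup (Fin n) F) : Matrix (Fin n) (Fin n) F)
      = z • (1 : Matrix (Fin n) (Fin n) F))
    (hxns : ∀ c : F, (x : Matrix (Fin n) (Fin n) F) ≠ c • (1 : Matrix (Fin n) (Fin n) F)) :
    ∃ P : Matrix.SpecialLinearGroup (Fin n) F, P⁻¹ * x * P ∈
      ((Cfsg.Geo.subalgebraNormalizer K).comap (Matrix.SpecialLinearGroup.toGL :
        Matrix.SpecialLinearGroup (Fin n) F →* GL (Fin n) F)) := by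
  have hxx : (x : Matrix (Fin n) (Fin n) F) * (x : Matrix (Fin n) (Fin n) F)
      = z • (1 : Matrix (Fin n) (Fin n) F) := by
    rw [← hx2, Matrix.SpecialLinearGroup.coe_pow, pow_two]
  have hdetx : (x : Matrix (Fin n) (Fin n) F).det = 1 := x.det_coe
  have hz0 : z ≠ 0 := by
    intro h
    have h1 : ((x : Matrix (Fin n) (Fin n) F) * (x : Matrix (Fin n) (Fin n) F)).det = 1 := by
      rw [Matrix.det_mul, hdetx, mul_one]
    have : Nonempty (Fin n) := ⟨⟨0, Nat.pos_of_ne_zero hn0⟩⟩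
    rw [hxx, h, zero_smul, Matrix.det_zero] at h1
    exact zero_ne_one h1
  suffices hR : ∃ R : GL (Fin n) F, ∀ y : GL (Fin n) F,
      (y : Matrix (Fin n) (Fin n) F) = (R : Matrix (Fin n) (Fin n) F) *
        (x : Matrix (Fin n) (Fin n) F) *
        ((R⁻¹ : GL (Fin n) F) : Matrix (Fin n) (Fin n) F) →
      y ∈ Cfsg.Geo.subalgebraNormalizer K by
    obtain ⟨R, hR⟩ := hR
    exact exists_SL_conj_of_GL_conj _ x z hz0 hxx hxns R (hR _ (val_conj_toGL R x))
  by_cases h2 : (2 : F) = 0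
  · have hn2 : n = 2 := by
      rcases hcond with h | ⟨h, _⟩
      · exact h
      · exact absurd h2 h
    subst hn2
    exact exists_GL_conj_char_two h2 K hK _ z hz0 hxx hxns
  · obtain ⟨κ₁, hκ₁K, Δ, hΔ, hκ₁sq, hgen⟩ := exists_sqrt_gen K hK h2
    obtain ⟨N, hN⟩ := he
    have hN2 : n = 2 * N := by omega
    have hfr : finrank F (Fin n → F) = 2 * N := by rw [Module.finrank_fin_fun, hN2]
    set xm : Matrix (Fin n) (Fin n) F := (x : Matrix (Fin n) (Fin n) F) with hxm
    let X : (Fin n → F) →ₗ[F] (Fin n → F) := Matrix.toLin' xm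
    have hXa : ∀ w, X w = xm *ᵥ w := fun w => Matrix.toLin'_apply xm w
    have hX : ∀ w, X (X w) = z • w := by
      intro w
      rw [hXa, hXa, Matrix.mulVec_mulVec, hxx, Matrix.smul_mulVec, Matrix.one_mulVec]
    suffices hR : ∃ (ε : F) (R : GL (Fin n) F), ε * ε = 1 ∧
        ((R : Matrix (Fin n) (Fin n) F) * xm *
          ((R⁻¹ : GL (Fin n) F) : Matrix (Fin n) (Fin n) F)) * κ₁ =
        ε • (κ₁ * ((R : Matrix (Fin n) (Fin n) F) * xm *
          ((R⁻¹ : GL (Fin n) F) : Matrix (Fin n) (Fin n) F))) by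
      obtain ⟨ε, R, hε, hR⟩ := hR
      refine ⟨R, fun y hy => ?_⟩
      apply mem_normalizer_of_semicommute K κ₁ hκ₁K hgen y ε hε
      rw [hy]
      exact hR
    by_cases hsq : IsSquare z
    · obtain ⟨a, ha⟩ := hsq
      have ha0 : a ≠ 0 := by
        rintro rfl
        rw [mul_zero] at ha
        exact hz0 ha
      have hX' : ∀ w, X (X w) = (a * a) • w := fun w => by rw [hX, ha]
      have hdet := det_eq_of_eigen X a h2 ha0 hX'
      rw [LinearMap.det_toLin', hdetx] at hdet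
      have hc := isCompl_eigen X a h2 ha0 hX'
      have hsum := Submodule.finrank_add_eq_of_isCompl hc
      rw [hfr] at hsum
      set d₁ := finrank F (LinearMap.ker (X - a • LinearMap.id)) with hd₁
      set d₂ := finrank F (LinearMap.ker (X + a • LinearMap.id)) with hd₂
      by_cases hev : Even d₂
      · obtain ⟨k₂, hk₂⟩ := hev
        have hk₂' : d₂ = 2 * k₂ := by omega
        have hk₁ : d₁ = 2 * (N - k₂) := by omega
        obtain ⟨J, hJJ, hJX⟩ := exists_commuting_sq X a h2 ha0 hX' (N - k₂) k₂ hk₁ hk₂' Δ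
        obtain ⟨R, hR⟩ := exists_GL_semicommute N hN2 κ₁ Δ hΔ hκ₁sq xm J hJJ 1 (by
          intro w
          rw [one_smul, ← hXa, ← hXa, hJX])
        exact ⟨1, R, one_mul 1, hR⟩
      · rw [Nat.not_even_iff_odd] at hev
        have hn2 : n = 2 := by
          rcases hcond with h | ⟨_, hle⟩
          · exact h
          · exfalso
            have h1 : a ^ n = -1 := by
              have h3 : a ^ d₁ * (-a) ^ d₂ = - a ^ n := by
                rw [neg_pow a d₂, Odd.neg_one_pow hev, hN2, ← hsum, pow_add]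
                ring
              rw [h3] at hdet
              linear_combination hdet
            exact pow_ne_neg_one h2 hn0 hle a ha0 h1
        have hdim : d₁ = d₂ := by
          obtain ⟨k, hk⟩ := hev
          omega
        obtain ⟨J, hJJ, hJX⟩ := exists_anticommuting_sq X a h2 ha0 hX' hdim Δ
        obtain ⟨R, hR⟩ := exists_GL_semicommute N hN2 κ₁ Δ hΔ hκ₁sq xm J hJJ (-1) (by
          intro w
          rw [← hXa, ← hXa, hJX, neg_smul, one_smul, neg_neg])
        exact ⟨-1, R, by ring, hR⟩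
    · obtain ⟨β, hβ⟩ := exists_sq_mul_of_nonsquare z Δ hsq hΔ
      set κ₀ : Matrix (Fin n) (Fin n) F := β • κ₁ with hκ₀
      have hκ₀sq : κ₀ * κ₀ = z • (1 : Matrix (Fin n) (Fin n) F) := by
        rw [hκ₀, Matrix.smul_mul, Matrix.mul_smul, hκ₁sq, smul_smul, smul_smul, hβ]
      have hκ₀l : ∀ w, Matrix.toLin' κ₀ (Matrix.toLin' κ₀ w) = z • w := by
        intro w
        rw [Matrix.toLin'_apply, Matrix.toLin'_apply, Matrix.mulVec_mulVec, hκ₀sq,
          Matrix.smul_mulVec, Matrix.one_mulVec]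
      obtain ⟨T, hT⟩ := exists_equiv_of_nonsquare z hsq N hfr X (Matrix.toLin' κ₀) hX hκ₀l
      have hconj := glOfEquiv_conj T xm κ₀ (fun w => by
        have h := hT w
        rwa [hXa, Matrix.toLin'_apply] at h)
      refine ⟨1, glOfEquiv T, one_mul 1, ?_⟩
      rw [hconj, one_smul, hκ₀, Matrix.smul_mul, Matrix.mul_smul]

end pos

end Cfsg.Agent.Lib.Helper44.SLInv
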