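import Mathlib
import Cfsg.Prelude.Def_GeometricClasses
import Cfsg.Agent.Lib.Helper44.SLInvExt
import Cfsg.Agent.Lib.Helper44.SLInvNormB

/-!
# Membership in the subfield group `GL_n(F₀) · F^×`

* `mem_subfieldSubgroup_one`, `exists_of_mem_subfieldSubgroup`: description of the elements.
* `exists_GL_conj_mem_subfield`: a matrix whose matrix in some basis is a scalar multiple of a
  matrix over `F₀` is conjugate into the subfield group.
* `isSquare_of_mem_subfield`: elements of a subfield of index two are squares.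
-/

set_option autoImplicit false

namespace Cfsg.Agent.Lib.Helper44.SLInv

open Module LinearMap Matrix

universe v w

section subf

variable {F : Type v} [Field F] {n : ℕ}

theorem mem_subfieldSubgroup_one (F₀ : Subfield F) (y : GL (Fin n) F) :
    y ∈ Cfsg.Geo.subfieldSubgroup F₀ (1 : GL (Fin n) F) ↔
      y ∈ (Matrix.GeneralLinearGroup.map (F₀.subtype : F₀ →+* F)).range ⊔
        Cfsg.Geo.scalars (Fin n) F := by
  unfold Cfsg.Geo.subfieldSubgroup
  rw [Subgroup.mem_map]
  constructor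
  · rintro ⟨x, hx, rfl⟩
    simpa using hx
  · intro h
    exact ⟨y, h, by simp⟩

/-- elements of the subfield group are scalar multiples of rational matrices -/
theorem exists_of_mem_subfieldSubgroup (F₀ : Subfield F) (y : GL (Fin n) F)
    (hy : y ∈ Cfsg.Geo.subfieldSubgroup F₀ (1 : GL (Fin n) F)) :
    ∃ (c : F) (M₀ : Matrix (Fin n) (Fin n) F₀), c ≠ 0 ∧
      (y : Matrix (Fin n) (Fin n) F) = c • M₀.map (F₀.subtype : F₀ →+* F) := by
  rw [mem_subfieldSubgroup_one, Subgroup.mem_sup_of_normal_right] at hy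
  obtain ⟨a, ⟨g₀, rfl⟩, s, hs, rfl⟩ := hy
  rw [Cfsg.Geo.mem_scalars_iff] at hs
  obtain ⟨c, hc⟩ := hs
  refine ⟨c, (g₀ : Matrix (Fin n) (Fin n) F₀), c.ne_zero, ?_⟩
  rw [Units.val_mul, hc, Matrix.mul_smul, Matrix.mul_one]
  rfl

/-- a matrix which in some basis is a scalar multiple of a matrix over `F₀` is conjugate into the
subfield group -/
theorem exists_GL_conj_mem_subfield {ι' : Type w} [Fintype ι'] [DecidableEq ι'] (F₀ : Subfield F)
    (xm : Matrix (Fin n) (Fin n) F) (b : Basis ι' F (Fin n → F)) (c : F) (hc : c ≠ 0)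
    (h : ∀ i j, ∃ m : F₀, b.repr (xm *ᵥ b j) i = c * (m : F)) :
    ∃ R : GL (Fin n) F, ∀ y : GL (Fin n) F,
      (y : Matrix (Fin n) (Fin n) F) = (R : Matrix (Fin n) (Fin n) F) * xm *
        ((R⁻¹ : GL (Fin n) F) : Matrix (Fin n) (Fin n) F) →
      y ∈ Cfsg.Geo.subfieldSubgroup F₀ (1 : GL (Fin n) F) := by
  classical
  have hcard : Fintype.card ι' = Fintype.card (Fin n) := by
    rw [← Module.finrank_eq_card_basis b, Module.finrank_fin_fun, Fintype.card_fin]
  let e : ι' ≃ Fin n := Fintype.equivOfCardEq hcard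
  let b' : Basis (Fin n) F (Fin n → F) := b.reindex e
  let T : (Fin n → F) ≃ₗ[F] (Fin n → F) := b'.equivFun
  choose m₀ hm₀ using h
  let M₀ : Matrix (Fin n) (Fin n) F₀ := fun i j => m₀ (e.symm i) (e.symm j)
  let M : Matrix (Fin n) (Fin n) F := M₀.map (F₀.subtype : F₀ →+* F)
  have hTb : ∀ j, T (b' j) = Pi.single j 1 := fun j => by
    ext i
    show b'.equivFun (b' j) i = _
    rw [Basis.equivFun_self, Pi.single_apply]
    by_cases hji : j = i
    · rw [if_pos hji, if_pos hji.symm]
    · rw [if_neg hji, if_neg (fun h => hji h.symm)]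
  have hcomm : T.toLinearMap ∘ₗ Matrix.toLin' xm = Matrix.toLin' (c • M) ∘ₗ T.toLinearMap := by
    apply b'.ext
    intro j
    show T (Matrix.toLin' xm (b' j)) = Matrix.toLin' (c • M) (T (b' j))
    rw [hTb, Matrix.toLin'_apply, Matrix.toLin'_apply, Matrix.mulVec_single_one]
    ext i
    show b'.repr (xm *ᵥ b' j) i = (c • M) i j
    rw [Basis.repr_reindex_apply, Basis.reindex_apply, hm₀]
    rfl
  have hconj := glOfEquiv_conj T xm (c • M) (fun w => by
    have h1 := LinearMap.congr_fun hcomm w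
    change T (Matrix.toLin' xm w) = Matrix.toLin' (c • M) (T w) at h1
    rwa [Matrix.toLin'_apply, Matrix.toLin'_apply] at h1)
  refine ⟨glOfEquiv T, fun y hy => ?_⟩
  rw [hconj] at hy
  have hdetM : M.det ≠ 0 := by
    intro h0
    have h1 : (y : Matrix (Fin n) (Fin n) F).det = 0 := by
      rw [hy, Matrix.det_smul, h0, mul_zero]
    exact ((Matrix.isUnit_iff_isUnit_det _).1 (Units.isUnit y)).ne_zero h1
  have hdetM₀ : M₀.det ≠ 0 := by
    intro h0
    apply hdetM
    have h1 : M.det = (F₀.subtype : F₀ →+* F) M₀.det := by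
      rw [RingHom.map_det]
      rfl
    rw [h1, h0, map_zero]
  let g₀ : GL (Fin n) F₀ := Matrix.GeneralLinearGroup.mkOfDetNeZero M₀ hdetM₀
  let s : GL (Fin n) F :=
    Units.map (Matrix.scalar (Fin n) : F →+* Matrix (Fin n) (Fin n) F).toMonoidHom (Units.mk0 c hc)
  have hs : s ∈ Cfsg.Geo.scalars (Fin n) F := ⟨Units.mk0 c hc, rfl⟩
  have hys : y = Matrix.GeneralLinearGroup.map (F₀.subtype : F₀ →+* F) g₀ * s := by
    apply Units.ext
    rw [hy, Units.val_mul]
    show c • M = M * (Matrix.scalar (Fin n) c)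
    rw [Matrix.scalar_apply, ← Matrix.smul_one_eq_diagonal, Matrix.mul_smul, Matrix.mul_one]
  rw [mem_subfieldSubgroup_one, hys]
  exact Subgroup.mul_mem _ (Subgroup.mem_sup_left ⟨g₀, rfl⟩) (Subgroup.mem_sup_right hs)

/-- every element of a subfield of index two of a finite field of odd order is a square -/
theorem isSquare_of_mem_subfield [Fintype F] (F₀ : Subfield F)
    (hcard : Fintype.card F = Nat.card F₀ ^ 2) (h2 : (2 : F) ≠ 0) (m : F₀) :
    IsSquare (m : F) := by
  classical
  have : Fintype F₀ := Fintype.ofFinite F₀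
  by_cases hm : m = 0
  · rw [hm]
    exact ⟨0, by simp⟩
  have hch : ringChar F ≠ 2 := by
    intro h
    apply h2
    have h1 : ((ringChar F : ℕ) : F) = 0 := ringChar.Nat.cast_ringChar
    rw [h] at h1
    exact_mod_cast h1
  have hm' : (m : F) ≠ 0 := fun h => hm (Subtype.ext h)
  rw [FiniteField.isSquare_iff hch hm']
  have hq₀ : Nat.card F₀ = Fintype.card F₀ := Nat.card_eq_fintype_card
  have h1 : m ^ (Fintype.card F₀ - 1) = 1 := FiniteField.pow_card_sub_one_eq_one m hm
  have h1' : (m : F) ^ (Fintype.card F₀ - 1) = 1 := by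
    have h3 := congrArg (fun t : F₀ => (t : F)) h1
    simpa using h3
  have hodd : Fintype.card F % 2 = 1 := by
    by_contra hne
    apply h2
    exact two_eq_zero_iff_even_card.2 (by omega)
  rw [hcard, hq₀] at hodd ⊢
  set q₀ := Fintype.card F₀ with hq₀def
  have hq₀odd : Odd q₀ := by
    have h3 : Odd (q₀ ^ 2) := Nat.odd_iff.2 hodd
    exact (Nat.odd_pow_iff (by norm_num)).1 h3
  obtain ⟨t, ht⟩ := hq₀odd
  have h4 : q₀ ^ 2 / 2 = (q₀ - 1) * (t + 1) := by
    rw [ht]
    have h5 : (2 * t + 1) ^ 2 = 2 * ((2 * t + 1 - 1) * (t + 1)) + 1 := by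
      rw [Nat.add_sub_cancel]
      ring
    rw [h5]
    omega
  rw [h4, pow_mul, h1', one_pow]

end subf

end Cfsg.Agent.Lib.Helper44.SLInv
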