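import Mathlib
import Cfsg.Prelude.Def_GeometricClasses
import Cfsg.Agent.Lib.Helper44.SLInvCyc
import Cfsg.Agent.Lib.Helper44.SubfA

/-!
# Matrices with scalar square that are conjugate into the subfield group

* `exists_sqzero_family`: adapted spanning family for a map with square zero.
* `exists_GL_conj_subfield_char_two`: characteristic two.
* `exists_GL_conj_subfield_of_sq`: odd characteristic, the square is the square of a scalar.
-/

set_option autoImplicit false

namespace Cfsg.Agent.Lib.Helper44.SLInv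

open Module LinearMap Matrix

universe u v w

section fam

variable {F : Type v} [Field F]

/-- a map with square zero has a spanning family `v_i, N v_i, w_j` with `N w_j = 0` -/
theorem exists_sqzero_family :
    ∀ (d : ℕ) (V : Type u) [AddCommGroup V] [Module F V] [FiniteDimensional F V]
      (N : V →ₗ[F] V), (∀ w, N (N w) = 0) → finrank F V = d →
      ∃ (r s : ℕ) (vs : Fin r → V) (ws : Fin s → V), 2 * r + s = d ∧ (∀ j, N (ws j) = 0) ∧
        ⊤ ≤ Submodule.span F (Set.range (Sum.elim (Sum.elim vs (fun i => N (vs i))) ws)) := by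
  intro d
  induction d using Nat.strong_induction_on with
  | _ d ih =>
    intro V _ _ _ N hN hfr
    by_cases hN0 : N = 0
    · let b : Basis (Fin d) F V := Module.finBasisOfFinrankEq F V hfr
      refine ⟨0, d, Fin.elim0, b, by omega, fun j => by rw [hN0]; rfl, ?_⟩
      rw [← b.span_eq]
      apply Submodule.span_mono
      rintro _ ⟨j, rfl⟩
      exact ⟨Sum.inr j, rfl⟩
    · obtain ⟨v, hv⟩ : ∃ v, N v ≠ 0 := by
        by_contra hcon
        push Not at hcon
        exact hN0 (LinearMap.ext hcon)
      have hNv : N v ∉ Submodule.span F {v} := by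
        intro hmem
        obtain ⟨c, hc⟩ := Submodule.mem_span_singleton.1 hmem
        have h1 : N (N v) = 0 := hN v
        rw [← hc, map_smul, ← hc, smul_smul] at h1
        rcases smul_eq_zero.1 h1 with h' | h'
        · have hc0 : c = 0 := mul_self_eq_zero.1 h'
          apply hv
          rw [← hc, hc0, zero_smul]
        · apply hv
          rw [h', map_zero]
      have hy : ∀ w, N (N w) = (0 : F) • w := fun w => by rw [hN, zero_smul]
      obtain ⟨ψ, φ, hψv, hψyv, hφv, hφyv, hψy, hφy⟩ := exists_dual_pair N 0 hy v hNv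
      let L : V →ₗ[F] F × F := ψ.prod φ
      let U' : Submodule F V := LinearMap.ker L
      have hU' : ∀ x : V, x ∈ U' ↔ ψ x = 0 ∧ φ x = 0 := by
        intro x
        show L x = 0 ↔ _
        change ((ψ x, φ x) : F × F) = 0 ↔ _
        exact Prod.mk_eq_zero
      have hLsurj : Function.Surjective L := by
        rintro ⟨s, t⟩
        refine ⟨s • v + t • N v, ?_⟩
        change ((ψ (s • v + t • N v), φ (s • v + t • N v)) : F × F) = (s, t)
        simp only [map_add, map_smul, smul_eq_mul, hψv, hψyv, hφv, hφyv]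
        ext <;> simp
      have hfrU : finrank F U' = d - 2 ∧ 2 ≤ d := by
        have h1 := LinearMap.finrank_range_add_finrank_ker L
        rw [LinearMap.range_eq_top.2 hLsurj, finrank_top, Module.finrank_prod,
          Module.finrank_self, hfr] at h1
        constructor
        · show finrank F (LinearMap.ker L) = d - 2
          omega
        · omega
      have hyU : ∀ x ∈ U', N x ∈ U' := by
        intro x hx
        rw [hU'] at hx ⊢
        exact ⟨by rw [hψy, hx.2, mul_zero], by rw [hφy]; exact hx.1⟩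
      let N' : U' →ₗ[F] U' := N.restrict hyU
      have hN'c : ∀ w : U', ((N' w : U') : V) = N (w : V) := fun w => rfl
      have hN' : ∀ w : U', N' (N' w) = 0 := by
        intro w
        apply Subtype.ext
        rw [hN'c, hN'c, hN]
        rfl
      obtain ⟨r', s', vs', ws', hrs, hws', hspan'⟩ :=
        ih (d - 2) (by omega) U' N' hN' hfrU.1
      have hproj : ∀ x, x - ψ x • v - φ x • N v ∈ U' := by
        intro x
        rw [hU']
        constructor
        · simp only [map_sub, map_smul, smul_eq_mul, hψv, hψyv]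
          ring
        · simp only [map_sub, map_smul, smul_eq_mul, hφv, hφyv]
          ring
      let vs : Fin (r' + 1) → V := Fin.cons v (fun i => (vs' i : V))
      let ws : Fin s' → V := fun j => (ws' j : V)
      have hvs0 : vs 0 = v := rfl
      have hvss : ∀ i : Fin r', vs i.succ = (vs' i : V) := fun i => rfl
      refine ⟨r' + 1, s', vs, ws, by omega, fun j => ?_, fun u _ => ?_⟩
      · have h := congrArg Subtype.val (hws' j)
        exact h
      · have hdec : u = ψ u • v + φ u • N v + (u - ψ u • v - φ u • N v) := by module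
        rw [hdec]
        refine add_mem (add_mem
          (Submodule.smul_mem _ _ (Submodule.subset_span ⟨Sum.inl (Sum.inl 0), ?_⟩))
          (Submodule.smul_mem _ _ (Submodule.subset_span ⟨Sum.inl (Sum.inr 0), ?_⟩))) ?_
        · rw [Sum.elim_inl, Sum.elim_inl, hvs0]
        · rw [Sum.elim_inl, Sum.elim_inr, hvs0]
        · have h3 : (⟨u - ψ u • v - φ u • N v, hproj u⟩ : U') ∈
              Submodule.span F (Set.range
                (Sum.elim (Sum.elim vs' (fun i => N' (vs' i))) ws')) :=
            hspan' Submodule.mem_top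
          have h4 := Submodule.mem_map_of_mem (f := U'.subtype) h3
          rw [Submodule.map_span] at h4
          refine Submodule.span_mono ?_ h4
          rintro _ ⟨_, ⟨j, rfl⟩, rfl⟩
          rcases j with (i | i) | j
          · refine ⟨Sum.inl (Sum.inl i.succ), ?_⟩
            rw [Sum.elim_inl, Sum.elim_inl, Sum.elim_inl, Sum.elim_inl, hvss]
            rfl
          · refine ⟨Sum.inl (Sum.inr i.succ), ?_⟩
            rw [Sum.elim_inl, Sum.elim_inr, Sum.elim_inl, Sum.elim_inr, hvss]
            rfl
          · refine ⟨Sum.inr j, ?_⟩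
            rw [Sum.elim_inr, Sum.elim_inr]
            rfl

end fam

section reprs

variable {F : Type v} [Field F] {V : Type u} [AddCommGroup V] [Module F V]
  {ι' : Type w} [DecidableEq ι']

theorem repr_mem_one (b : Basis ι' F V) (F₀ : Subfield F) (a : F) (j i : ι') :
    ∃ m : F₀, b.repr (a • b j) i = a * (m : F) := by
  refine ⟨if j = i then 1 else 0, ?_⟩
  rw [map_smul, Finsupp.smul_apply, Basis.repr_self_apply, smul_eq_mul]
  congr 1
  split_ifs <;> simp

theorem repr_mem_neg (b : Basis ι' F V) (F₀ : Subfield F) (a : F) (j i : ι') :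
    ∃ m : F₀, b.repr ((-a) • b j) i = a * (m : F) := by
  refine ⟨-(if j = i then 1 else 0), ?_⟩
  rw [map_smul, Finsupp.smul_apply, Basis.repr_self_apply, smul_eq_mul]
  split_ifs <;> simp

theorem repr_mem_two (b : Basis ι' F V) (F₀ : Subfield F) (a : F) (j j' i : ι') :
    ∃ m : F₀, b.repr (a • (b j + b j')) i = a * (m : F) := by
  refine ⟨(if j = i then 1 else 0) + (if j' = i then 1 else 0), ?_⟩
  rw [map_smul, map_add, Finsupp.smul_apply, Finsupp.add_apply, Basis.repr_self_apply,
    Basis.repr_self_apply, smul_eq_mul]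
  congr 1
  split_ifs <;> simp

end reprs

section conj

variable {F : Type v} [Field F] {n : ℕ}

/-- characteristic two: a matrix with nonzero scalar square is conjugate into the subfield
group -/
theorem exists_GL_conj_subfield_char_two [Fintype F] (h2 : (2 : F) = 0) (F₀ : Subfield F)
    (xm : Matrix (Fin n) (Fin n) F) (z : F) (hz0 : z ≠ 0)
    (hxx : xm * xm = z • (1 : Matrix (Fin n) (Fin n) F)) :
    ∃ R : GL (Fin n) F, ∀ y : GL (Fin n) F,
      (y : Matrix (Fin n) (Fin n) F) = (R : Matrix (Fin n) (Fin n) F) * xm *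
        ((R⁻¹ : GL (Fin n) F) : Matrix (Fin n) (Fin n) F) →
      y ∈ Cfsg.Geo.subfieldSubgroup F₀ (1 : GL (Fin n) F) := by
  classical
  have hchar : ringChar F = 2 := by
    have := ringChar.charP F
    have hd : ringChar F ∣ 2 := (ringChar.spec F 2).1 (by exact_mod_cast h2)
    exact (Nat.prime_dvd_prime_iff_eq (CharP.char_is_prime F (ringChar F)) Nat.prime_two).1 hd
  obtain ⟨a, ha⟩ := FiniteField.isSquare_of_char_two hchar z
  have ha0 : a ≠ 0 := by
    rintro rfl
    rw [mul_zero] at ha
    exact hz0 ha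
  let X : (Fin n → F) →ₗ[F] (Fin n → F) := Matrix.toLin' xm
  have hXa : ∀ w, X w = xm *ᵥ w := fun w => Matrix.toLin'_apply xm w
  have hX : ∀ w, X (X w) = z • w := by
    intro w
    rw [hXa, hXa, Matrix.mulVec_mulVec, hxx, Matrix.smul_mulVec, Matrix.one_mulVec]
  let N' : (Fin n → F) →ₗ[F] (Fin n → F) := a⁻¹ • X - LinearMap.id
  have hN'def : ∀ w, N' w = a⁻¹ • X w - w := fun w => rfl
  have h2V : ∀ t : Fin n → F, t + t = 0 := by
    intro t
    rw [← two_smul F t, h2, zero_smul]
  have hN' : ∀ w, N' (N' w) = 0 := by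
    intro w
    have e1 : a⁻¹ * a⁻¹ * z = 1 := by
      rw [ha]
      field_simp
    have e2 : N' (N' w) = (a⁻¹ * a⁻¹ * z) • w + w - (a⁻¹ • X w + a⁻¹ • X w) := by
      rw [hN'def (N' w), hN'def w, map_sub, map_smul, hX]
      module
    rw [e2, e1, one_smul, h2V, h2V, sub_zero]
  have hxN : ∀ w, xm *ᵥ w = a • (w + N' w) := by
    intro w
    rw [hN'def, ← hXa, add_sub_cancel, smul_smul, mul_inv_cancel₀ ha0, one_smul]
  obtain ⟨r, s, vs, ws, hrs, hws, hspan⟩ :=
    exists_sqzero_family (F := F) n (Fin n → F) N' hN' (Module.finrank_fin_fun F)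
  have hcard : Fintype.card ((Fin r ⊕ Fin r) ⊕ Fin s) = finrank F (Fin n → F) := by
    rw [Module.finrank_fin_fun, Fintype.card_sum, Fintype.card_sum, Fintype.card_fin,
      Fintype.card_fin]
    omega
  let b := basisOfTopLeSpanOfCardEqFinrank _ hspan hcard
  have hb : ⇑b = Sum.elim (Sum.elim vs (fun i => N' (vs i))) ws :=
    coe_basisOfTopLeSpanOfCardEqFinrank _ hspan hcard
  have hbll : ∀ i, b (Sum.inl (Sum.inl i)) = vs i := fun i => by rw [hb]; rfl
  have hblr : ∀ i, b (Sum.inl (Sum.inr i)) = N' (vs i) := fun i => by rw [hb]; rfl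
  have hbr : ∀ j, b (Sum.inr j) = ws j := fun j => by rw [hb]; rfl
  apply exists_GL_conj_mem_subfield F₀ xm b a ha0
  intro i j
  rcases j with (t | t) | t
  · have e : xm *ᵥ b (Sum.inl (Sum.inl t)) =
        a • (b (Sum.inl (Sum.inl t)) + b (Sum.inl (Sum.inr t))) := by
      rw [hxN, hbll, hblr]
    rw [e]
    exact repr_mem_two b F₀ a _ _ i
  · have e : xm *ᵥ b (Sum.inl (Sum.inr t)) = a • b (Sum.inl (Sum.inr t)) := by
      rw [hxN, hblr, hN', add_zero]
    rw [e]
    exact repr_mem_one b F₀ a _ i
  · have e : xm *ᵥ b (Sum.inr t) = a • b (Sum.inr t) := by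
      rw [hxN, hbr, hws, add_zero]
    rw [e]
    exact repr_mem_one b F₀ a _ i

/-- odd characteristic: a matrix whose square is the square of a nonzero scalar is conjugate into
the subfield group -/
theorem exists_GL_conj_subfield_of_sq (h2 : (2 : F) ≠ 0) (F₀ : Subfield F)
    (xm : Matrix (Fin n) (Fin n) F) (a : F) (ha0 : a ≠ 0)
    (hxx : xm * xm = (a * a) • (1 : Matrix (Fin n) (Fin n) F)) :
    ∃ R : GL (Fin n) F, ∀ y : GL (Fin n) F,
      (y : Matrix (Fin n) (Fin n) F) = (R : Matrix (Fin n) (Fin n) F) * xm *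
        ((R⁻¹ : GL (Fin n) F) : Matrix (Fin n) (Fin n) F) →
      y ∈ Cfsg.Geo.subfieldSubgroup F₀ (1 : GL (Fin n) F) := by
  classical
  let X : (Fin n → F) →ₗ[F] (Fin n → F) := Matrix.toLin' xm
  have hXa : ∀ w, X w = xm *ᵥ w := fun w => Matrix.toLin'_apply xm w
  have hX : ∀ w, X (X w) = (a * a) • w := by
    intro w
    rw [hXa, hXa, Matrix.mulVec_mulVec, hxx, Matrix.smul_mulVec, Matrix.one_mulVec]
  have hc := isCompl_eigen X a h2 ha0 hX
  let b₁ := Module.finBasis F (LinearMap.ker (X - a • LinearMap.id))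
  let b₂ := Module.finBasis F (LinearMap.ker (X + a • LinearMap.id))
  let e := Submodule.prodEquivOfIsCompl _ _ hc
  have he : ∀ p, e p = (p.1 : Fin n → F) + (p.2 : Fin n → F) := fun p => rfl
  let b := (b₁.prod b₂).map e
  have hbl : ∀ i, b (Sum.inl i) = ((b₁ i : LinearMap.ker (X - a • LinearMap.id)) : Fin n → F) := by
    intro i
    show e ((b₁.prod b₂) (Sum.inl i)) = _
    rw [he]
    simp
  have hbr : ∀ i, b (Sum.inr i) = ((b₂ i : LinearMap.ker (X + a • LinearMap.id)) : Fin n → F) := by
    intro i
    show e ((b₁.prod b₂) (Sum.inr i)) = _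
    rw [he]
    simp
  apply exists_GL_conj_mem_subfield F₀ xm b a ha0
  intro i j
  rcases j with t | t
  · have e1 : xm *ᵥ b (Sum.inl t) = a • b (Sum.inl t) := by
      rw [← hXa, hbl]
      exact (mem_ker_sub X a _).1 (b₁ t).2
    rw [e1]
    exact repr_mem_one b F₀ a _ i
  · have e1 : xm *ᵥ b (Sum.inr t) = (-a) • b (Sum.inr t) := by
      rw [← hXa, hbr, neg_smul]
      exact (mem_ker_add X a _).1 (b₂ t).2
    rw [e1]
    exact repr_mem_neg b F₀ a _ i

end conj

end Cfsg.Agent.Lib.Helper44.SLInv
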