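import Mathlib
import Cfsg.Agent.Lib.Helper44.SubfB

/-!
# Adapted spanning families for maps with cube zero
-/

set_option autoImplicit false

namespace Cfsg.Agent.Lib.Helper44.SLInv

open Module LinearMap

universe u v

section fam

variable {F : Type v} [Field F]

/-- a map with cube zero has a spanning family `u_i, N u_i, N² u_i, v_j, N v_j, w_l` with
`N² v_j = 0` and `N w_l = 0` -/
theorem exists_cubezero_family :
    ∀ (d : ℕ) (V : Type u) [AddCommGroup V] [Module F V] [FiniteDimensional F V]
      (N : V →ₗ[F] V), (∀ w, N (N (N w)) = 0) → finrank F V = d →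
      ∃ (t r s : ℕ) (us : Fin t → V) (vs : Fin r → V) (ws : Fin s → V),
        3 * t + 2 * r + s = d ∧ (∀ i, N (N (vs i)) = 0) ∧ (∀ j, N (ws j) = 0) ∧
        ⊤ ≤ Submodule.span F (Set.range
          (Sum.elim (Sum.elim (Sum.elim us (fun i => N (us i))) (fun i => N (N (us i))))
            (Sum.elim (Sum.elim vs (fun i => N (vs i))) ws))) := by
  intro d
  induction d using Nat.strong_induction_on with
  | _ d ih =>
    intro V _ _ _ N hN hfr
    by_cases hN2 : ∀ w, N (N w) = 0
    · obtain ⟨r, s, vs, ws, hrs, hws, hspan⟩ := exists_sqzero_family (F := F) d V N hN2 hfr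
      refine ⟨0, r, s, Fin.elim0, vs, ws, by omega, fun i => hN2 _, hws, ?_⟩
      refine le_trans hspan (Submodule.span_mono ?_)
      rintro _ ⟨j, rfl⟩
      exact ⟨Sum.inr j, rfl⟩
    · push Not at hN2
      obtain ⟨u, hu⟩ := hN2
      have hN4 : N (N (N (N u))) = 0 := by rw [hN u, map_zero]
      have hnot : N (N u) ∉ Submodule.span F {u, N u} := by
        intro hmem
        obtain ⟨α, β, hαβ⟩ := Submodule.mem_span_pair.1 hmem
        have h1 := congrArg (fun x => N (N x)) hαβ
        simp only [map_add, map_smul, hN u, hN4, smul_zero, add_zero, map_zero] at h1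
        have hα : α = 0 := (smul_eq_zero.1 h1).resolve_right hu
        rw [hα, zero_smul, zero_add] at hαβ
        have h2 := congrArg (fun x => N x) hαβ
        simp only [map_smul, hN u] at h2
        have hβ : β = 0 := (smul_eq_zero.1 h2).resolve_right hu
        rw [hβ, zero_smul] at hαβ
        exact hu hαβ.symm
      obtain ⟨f0, hf0, hker⟩ := Submodule.exists_le_ker_of_notMem hnot
      set φ : V →ₗ[F] F := (f0 (N (N u)))⁻¹ • f0 with hφdef
      have hφu : φ u = 0 := by
        have h : u ∈ LinearMap.ker f0 := hker (Submodule.subset_span (by simp))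
        rw [hφdef, LinearMap.smul_apply, LinearMap.mem_ker.1 h, smul_zero]
      have hφNu : φ (N u) = 0 := by
        have h : N u ∈ LinearMap.ker f0 := hker (Submodule.subset_span (by simp))
        rw [hφdef, LinearMap.smul_apply, LinearMap.mem_ker.1 h, smul_zero]
      have hφNNu : φ (N (N u)) = 1 := by
        rw [hφdef, LinearMap.smul_apply, smul_eq_mul, inv_mul_cancel₀ hf0]
      let φ₁ : V →ₗ[F] F := φ ∘ₗ N
      let φ₀ : V →ₗ[F] F := φ ∘ₗ N ∘ₗ N
      have hφ₁ : ∀ x, φ₁ x = φ (N x) := fun x => rfl
      have hφ₀ : ∀ x, φ₀ x = φ (N (N x)) := fun x => rfl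
      let L : V →ₗ[F] F × (F × F) := φ₀.prod (φ₁.prod φ)
      let U' : Submodule F V := LinearMap.ker L
      have hU' : ∀ x : V, x ∈ U' ↔ φ₀ x = 0 ∧ φ₁ x = 0 ∧ φ x = 0 := by
        intro x
        show L x = 0 ↔ _
        change ((φ₀ x, (φ₁ x, φ x)) : F × (F × F)) = 0 ↔ _
        rw [Prod.mk_eq_zero, Prod.mk_eq_zero]
      have hLsurj : Function.Surjective L := by
        rintro ⟨s₀, s₁, s₂⟩
        refine ⟨s₀ • u + s₁ • N u + s₂ • N (N u), ?_⟩
        change ((φ₀ (s₀ • u + s₁ • N u + s₂ • N (N u)),
          (φ₁ (s₀ • u + s₁ • N u + s₂ • N (N u)), φ (s₀ • u + s₁ • N u + s₂ • N (N u)))) :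
            F × (F × F)) = (s₀, s₁, s₂)
        simp only [hφ₀, hφ₁, map_add, map_smul, smul_eq_mul, hφu, hφNu, hφNNu, hN u, hN4,
          map_zero, mul_zero, mul_one, add_zero, zero_add]
      have hfrU : finrank F U' = d - 3 ∧ 3 ≤ d := by
        have h1 := LinearMap.finrank_range_add_finrank_ker L
        rw [LinearMap.range_eq_top.2 hLsurj, finrank_top, Module.finrank_prod, Module.finrank_prod,
          Module.finrank_self, hfr] at h1
        constructor
        · show finrank F (LinearMap.ker L) = d - 3
          omega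
        · omega
      have hyU : ∀ x ∈ U', N x ∈ U' := by
        intro x hx
        rw [hU'] at hx ⊢
        refine ⟨?_, ?_, ?_⟩
        · rw [hφ₀, hN, map_zero]
        · rw [hφ₁, ← hφ₀]
          exact hx.1
        · rw [← hφ₁]
          exact hx.2.1
      let N' : U' →ₗ[F] U' := N.restrict hyU
      have hN'c : ∀ w : U', ((N' w : U') : V) = N (w : V) := fun w => rfl
      have hN' : ∀ w : U', N' (N' (N' w)) = 0 := by
        intro w
        apply Subtype.ext
        rw [hN'c, hN'c, hN'c, hN]
        rfl
      obtain ⟨t', r', s', us', vs', ws', hcount, hvs', hws', hspan'⟩ :=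
        ih (d - 3) (by omega) U' N' hN' hfrU.1
      have hproj : ∀ x, x - φ₀ x • u - φ₁ x • N u - φ x • N (N u) ∈ U' := by
        intro x
        rw [hU']
        refine ⟨?_, ?_, ?_⟩
        · simp only [hφ₀, hφ₁, map_sub, map_smul, smul_eq_mul, hφu, hφNu, hφNNu, hN u, hN4,
            map_zero, mul_zero, mul_one, sub_zero, sub_self]
        · simp only [hφ₀, hφ₁, map_sub, map_smul, smul_eq_mul, hφu, hφNu, hφNNu, hN u, hN4,
            map_zero, mul_zero, mul_one, sub_zero, sub_self]
        · simp only [hφ₀, hφ₁, map_sub, map_smul, smul_eq_mul, hφu, hφNu, hφNNu, hN u, hN4,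
            map_zero, mul_zero, mul_one, sub_zero, sub_self]
      let us : Fin (t' + 1) → V := Fin.cons u (fun i => (us' i : V))
      let vs : Fin r' → V := fun i => (vs' i : V)
      let ws : Fin s' → V := fun j => (ws' j : V)
      have hus0 : us 0 = u := rfl
      have huss : ∀ i : Fin t', us i.succ = (us' i : V) := fun i => rfl
      refine ⟨t' + 1, r', s', us, vs, ws, by omega, fun i => ?_, fun j => ?_, fun x _ => ?_⟩
      · have h := congrArg Subtype.val (hvs' i)
        exact h
      · have h := congrArg Subtype.val (hws' j)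
        exact h
      · have hdec : x = φ₀ x • u + φ₁ x • N u + φ x • N (N u) +
            (x - φ₀ x • u - φ₁ x • N u - φ x • N (N u)) := by module
        rw [hdec]
        refine add_mem (add_mem (add_mem
          (Submodule.smul_mem _ _ (Submodule.subset_span ⟨Sum.inl (Sum.inl (Sum.inl 0)), ?_⟩))
          (Submodule.smul_mem _ _ (Submodule.subset_span ⟨Sum.inl (Sum.inl (Sum.inr 0)), ?_⟩)))
          (Submodule.smul_mem _ _ (Submodule.subset_span ⟨Sum.inl (Sum.inr 0), ?_⟩))) ?_
        · simp only [Sum.elim_inl, hus0]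
        · simp only [Sum.elim_inl, Sum.elim_inr, hus0]
        · simp only [Sum.elim_inl, Sum.elim_inr, hus0]
        · have h3 : (⟨x - φ₀ x • u - φ₁ x • N u - φ x • N (N u), hproj x⟩ : U') ∈
              Submodule.span F (Set.range
                (Sum.elim (Sum.elim (Sum.elim us' (fun i => N' (us' i)))
                  (fun i => N' (N' (us' i))))
                  (Sum.elim (Sum.elim vs' (fun i => N' (vs' i))) ws'))) :=
            hspan' Submodule.mem_top
          have h4 := Submodule.mem_map_of_mem (f := U'.subtype) h3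
          rw [Submodule.map_span] at h4
          refine Submodule.span_mono ?_ h4
          rintro _ ⟨_, ⟨j, rfl⟩, rfl⟩
          rcases j with ((i | i) | i) | ((i | i) | i)
          · refine ⟨Sum.inl (Sum.inl (Sum.inl i.succ)), ?_⟩
            simp only [Sum.elim_inl, huss]
            rfl
          · refine ⟨Sum.inl (Sum.inl (Sum.inr i.succ)), ?_⟩
            simp only [Sum.elim_inl, Sum.elim_inr, huss]
            rfl
          · refine ⟨Sum.inl (Sum.inr i.succ), ?_⟩
            simp only [Sum.elim_inl, Sum.elim_inr, huss]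
            rfl
          · refine ⟨Sum.inr (Sum.inl (Sum.inl i)), ?_⟩
            simp only [Sum.elim_inl, Sum.elim_inr]
            rfl
          · refine ⟨Sum.inr (Sum.inl (Sum.inr i)), ?_⟩
            simp only [Sum.elim_inl, Sum.elim_inr]
            rfl
          · refine ⟨Sum.inr (Sum.inr i), ?_⟩
            simp only [Sum.elim_inr]
            rfl

end fam

end Cfsg.Agent.Lib.Helper44.SLInv
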