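import Mathlib
import Cfsg.Agent.Lib.Helper44.SLInvCyc
import Cfsg.Agent.Lib.Helper44.SLInvCent
import Cfsg.Agent.Lib.Helper44.SLInvNormB

/-!
# Matrices whose square is a nonsquare scalar

* `exists_std_sq`: a standard matrix of size `2m` with square `z` and determinant `(-z)^m`.
* `det_eq_of_sq_nonsquare`, `even_of_sq_nonsquare`: the determinant and the parity of the size of
  a matrix whose square is a nonsquare scalar.
* `padicVal_le_of_nonsquare_pow_eq_one`, `exists_nonsquare_pow_eq_one`: nonsquares of a finite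
  field whose `m`-th power is one.
-/

set_option autoImplicit false

namespace Cfsg.Agent.Lib.Helper44.SLInv

open Module LinearMap Matrix

universe v

section std

variable {F : Type v} [Field F]

/-- a matrix of size `2m` with square `z` and determinant `(-z)^m` -/
theorem exists_std_sq {n : ℕ} (m : ℕ) (hn : n = 2 * m) (z : F) :
    ∃ x' : Matrix (Fin n) (Fin n) F,
      x' * x' = z • (1 : Matrix (Fin n) (Fin n) F) ∧ x'.det = (-z) ^ m := by
  subst hn
  have hCC : (!![0, z; 1, 0] : Matrix (Fin 2) (Fin 2) F) * !![0, z; 1, 0] =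
      z • (1 : Matrix (Fin 2) (Fin 2) F) := by
    rw [smul_one_fin_two, Matrix.mul_fin_two]
    apply fin_two_congr <;> ring
  have hCdet : (!![0, z; 1, 0] : Matrix (Fin 2) (Fin 2) F).det = -z := by
    rw [Matrix.det_fin_two_of]
    ring
  let D : Matrix (Fin 2 × Fin m) (Fin 2 × Fin m) F :=
    Matrix.blockDiagonal (fun _ : Fin m => (!![0, z; 1, 0] : Matrix (Fin 2) (Fin 2) F))
  have hDD : D * D = z • (1 : Matrix (Fin 2 × Fin m) (Fin 2 × Fin m) F) := by
    show Matrix.blockDiagonal (fun _ : Fin m => (!![0, z; 1, 0] : Matrix (Fin 2) (Fin 2) F)) *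
      Matrix.blockDiagonal (fun _ : Fin m => (!![0, z; 1, 0] : Matrix (Fin 2) (Fin 2) F)) = _
    rw [← Matrix.blockDiagonal_mul]
    simp only [hCC]
    rw [show (fun _ : Fin m => z • (1 : Matrix (Fin 2) (Fin 2) F)) =
      z • (1 : Fin m → Matrix (Fin 2) (Fin 2) F) from rfl, Matrix.blockDiagonal_smul,
      Matrix.blockDiagonal_one]
  have hDdet : D.det = (-z) ^ m := by
    show (Matrix.blockDiagonal
      (fun _ : Fin m => (!![0, z; 1, 0] : Matrix (Fin 2) (Fin 2) F))).det = _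
    rw [Matrix.det_blockDiagonal, Finset.prod_const, Finset.card_univ, Fintype.card_fin, hCdet]
  let e : Fin 2 × Fin m ≃ Fin (2 * m) := finProdFinEquiv
  refine ⟨Matrix.reindexAlgEquiv F F e D, ?_, ?_⟩
  · rw [← map_mul, hDD, map_smul, map_one]
  · rw [Matrix.det_reindexAlgEquiv, hDdet]

/-- the determinant of a matrix whose square is a nonsquare scalar -/
theorem det_eq_of_sq_nonsquare {n : ℕ} (m : ℕ) (hn : n = 2 * m) (z : F) (hz : ¬ IsSquare z)
    (xm : Matrix (Fin n) (Fin n) F) (hxx : xm * xm = z • (1 : Matrix (Fin n) (Fin n) F)) :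
    xm.det = (-z) ^ m := by
  obtain ⟨x', hx'x', hx'det⟩ := exists_std_sq (F := F) m hn z
  have hfr : finrank F (Fin n → F) = 2 * m := by rw [Module.finrank_fin_fun, hn]
  have h1 : ∀ w, Matrix.toLin' xm (Matrix.toLin' xm w) = z • w := by
    intro w
    rw [Matrix.toLin'_apply, Matrix.toLin'_apply, Matrix.mulVec_mulVec, hxx, Matrix.smul_mulVec,
      Matrix.one_mulVec]
  have h2 : ∀ w, Matrix.toLin' x' (Matrix.toLin' x' w) = z • w := by
    intro w
    rw [Matrix.toLin'_apply, Matrix.toLin'_apply, Matrix.mulVec_mulVec, hx'x', Matrix.smul_mulVec,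
      Matrix.one_mulVec]
  obtain ⟨T, hT⟩ := exists_equiv_of_nonsquare z hz m hfr (Matrix.toLin' xm) (Matrix.toLin' x') h1 h2
  have h3 : Matrix.toLin' x' =
      (T : (Fin n → F) →ₗ[F] (Fin n → F)) ∘ₗ Matrix.toLin' xm ∘ₗ
        (T.symm : (Fin n → F) →ₗ[F] (Fin n → F)) := by
    apply LinearMap.ext
    intro v
    show Matrix.toLin' x' v = T (Matrix.toLin' xm (T.symm v))
    rw [hT, T.apply_symm_apply]
  rw [← LinearMap.det_toLin' xm, ← hx'det, ← LinearMap.det_toLin' x', h3, LinearMap.det_conj]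

/-- a matrix whose square is a nonsquare scalar has even size -/
theorem even_of_sq_nonsquare {n : ℕ} (z : F) (hz : ¬ IsSquare z)
    (xm : Matrix (Fin n) (Fin n) F) (hxx : xm * xm = z • (1 : Matrix (Fin n) (Fin n) F)) :
    Even n := by
  by_contra hodd
  rw [Nat.not_even_iff_odd] at hodd
  obtain ⟨t, ht⟩ := hodd
  have hz0 : z ≠ 0 := by
    rintro rfl
    exact hz ⟨0, by rw [mul_zero]⟩
  have hdet : xm.det * xm.det = z ^ n := by
    rw [← Matrix.det_mul, hxx, Matrix.det_smul, Matrix.det_one, mul_one, Fintype.card_fin]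
  have hzt : z ^ t ≠ 0 := pow_ne_zero _ hz0
  apply hz
  refine ⟨xm.det / z ^ t, ?_⟩
  rw [div_mul_div_comm, hdet, ht, eq_div_iff (mul_ne_zero hzt hzt)]
  ring

theorem not_isSquare_neg (hi : IsSquare (-1 : F)) (z : F) (hz : ¬ IsSquare z) :
    ¬ IsSquare (-z) := by
  rintro ⟨s, hs⟩
  obtain ⟨i, hi⟩ := hi
  have hi0 : i ≠ 0 := by
    rintro rfl
    rw [mul_zero] at hi
    exact one_ne_zero (neg_eq_zero.1 hi)
  apply hz
  refine ⟨s / i, ?_⟩
  rw [div_mul_div_comm, ← hs, ← hi, neg_div_neg_eq, div_one]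

end std

section nt

variable {F : Type v} [Field F] [Fintype F]

omit [Fintype F] in
theorem ringChar_ne_two_of_two_ne_zero (h2 : (2 : F) ≠ 0) : ringChar F ≠ 2 := by
  intro h
  apply h2
  have h1 : ((ringChar F : ℕ) : F) = 0 := ringChar.Nat.cast_ringChar
  rw [h] at h1
  exact_mod_cast h1

/-- a nonsquare whose `m`-th power is one forces `v₂(q-1) ≤ v₂(m)` -/
theorem padicVal_le_of_nonsquare_pow_eq_one (h2 : (2 : F) ≠ 0) {m : ℕ} (hm : m ≠ 0) (y : F)
    (hy : ¬ IsSquare y) (hym : y ^ m = 1) :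
    padicValNat 2 (Fintype.card F - 1) ≤ padicValNat 2 m := by
  have : Fact (Nat.Prime 2) := ⟨Nat.prime_two⟩
  by_contra hlt
  rw [not_le] at hlt
  have hch : ringChar F ≠ 2 := ringChar_ne_two_of_two_ne_zero h2
  have hy0 : y ≠ 0 := by
    rintro rfl
    exact hy ⟨0, by rw [mul_zero]⟩
  obtain ⟨v, m', hm', hvm⟩ := Nat.exists_eq_two_pow_mul_odd hm
  have hval : padicValNat 2 m = v := by rw [hvm, padicValNat_two_pow_mul_odd v m' hm']
  have hq1 : Fintype.card F - 1 ≠ 0 := by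
    have := Fintype.one_lt_card (α := F)
    omega
  have hdvd : 2 ^ (v + 1) ∣ Fintype.card F - 1 := (padicValNat_dvd_iff_le hq1).2 (by omega)
  obtain ⟨t, ht⟩ := hdvd
  have hhalf : Fintype.card F / 2 = 2 ^ v * t := by
    have h3 : 2 ^ (v + 1) * t = 2 * (2 ^ v * t) := by ring
    have h4 : 1 ≤ Fintype.card F := Fintype.card_pos
    omega
  have heul : y ^ (Fintype.card F / 2) = -1 := by
    rcases FiniteField.pow_dichotomy hch hy0 with h | h
    · exact absurd ((FiniteField.isSquare_iff hch hy0).2 h) hy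
    · exact h
  rw [hhalf, pow_mul] at heul
  have h5 : (y ^ 2 ^ v) ^ m' = 1 := by rw [← pow_mul, ← hvm, hym]
  have h6 : ((y ^ 2 ^ v) ^ t) ^ m' = 1 := by rw [← pow_mul, mul_comm, pow_mul, h5, one_pow]
  rw [heul, Odd.neg_one_pow hm'] at h6
  apply h2
  linear_combination (-1 : F) * h6

/-- if `v₂(q-1) ≤ v₂(m)` some nonsquare has `m`-th power one -/
theorem exists_nonsquare_pow_eq_one (h2 : (2 : F) ≠ 0) {m : ℕ} (hm : m ≠ 0)
    (hle : padicValNat 2 (Fintype.card F - 1) ≤ padicValNat 2 m) :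
    ∃ y : F, ¬ IsSquare y ∧ y ^ m = 1 := by
  have : Fact (Nat.Prime 2) := ⟨Nat.prime_two⟩
  have hch : ringChar F ≠ 2 := ringChar_ne_two_of_two_ne_zero h2
  obtain ⟨y₀, hy₀⟩ := FiniteField.exists_nonsquare hch
  have hy₀0 : y₀ ≠ 0 := by
    rintro rfl
    exact hy₀ ⟨0, by rw [mul_zero]⟩
  have hq1 : Fintype.card F - 1 ≠ 0 := by
    have := Fintype.one_lt_card (α := F)
    omega
  obtain ⟨k, o, ho, hko⟩ := Nat.exists_eq_two_pow_mul_odd hq1
  have hval : padicValNat 2 (Fintype.card F - 1) = k := by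
    rw [hko, padicValNat_two_pow_mul_odd k o ho]
  have hdvd : 2 ^ k ∣ m := (padicValNat_dvd_iff_le hm).2 (hval ▸ hle)
  obtain ⟨m₁, hm₁⟩ := hdvd
  refine ⟨y₀ ^ o, ?_, ?_⟩
  · rintro ⟨s, hs⟩
    obtain ⟨t, ht⟩ := ho
    apply hy₀
    refine ⟨s / y₀ ^ t, ?_⟩
    have hyt : y₀ ^ t ≠ 0 := pow_ne_zero _ hy₀0
    rw [div_mul_div_comm, ← hs, ht, eq_div_iff (mul_ne_zero hyt hyt)]
    ring
  · rw [← pow_mul, hm₁, show o * (2 ^ k * m₁) = (2 ^ k * o) * m₁ by ring, pow_mul, ← hko,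
      FiniteField.pow_card_sub_one_eq_one y₀ hy₀0, one_pow]

end nt

end Cfsg.Agent.Lib.Helper44.SLInv
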