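import Mathlib
import Cfsg.Prelude.Def_GeometricClasses
import Cfsg.Agent.Lib.Helper44.SubfA
import Cfsg.Agent.Lib.Helper44.SubfD

/-!
# Centralizing block scalings, cube roots and determinant adjustments

* `exists_commuting_matrix`: scaling the blocks of an adapted basis gives a commuting matrix with
  prescribed determinant.
* `pow_three_injective`, `exists_pow_three_eq`: cubing is a bijection of a finite field of
  characteristic three.
* `exists_sq_mul_subfield`: if `|F| = |F₀|^k` with `k` odd, every nonzero element of `F` is a square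
  times an element of `F₀`.
* `exists_SL_conj_of_commute`: from a conjugating matrix to one of determinant one.
-/

set_option autoImplicit false

namespace Cfsg.Agent.Lib.Helper44.SLInv

open Module LinearMap Matrix

universe v w

section comm

variable {F : Type v} [Field F] {n : ℕ}

/-- scaling the vectors of a basis adapted to `xm`, with constant weights along the chains, gives a
matrix commuting with `xm` -/
theorem exists_commuting_matrix {ι' : Type w} [Fintype ι'] [DecidableEq ι']
    (b : Basis ι' F (Fin n → F)) (xm : Matrix (Fin n) (Fin n) F) (a : F) (wt : ι' → F)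
    (hX : ∀ j, xm *ᵥ b j = a • b j ∨ ∃ j', wt j' = wt j ∧ xm *ᵥ b j = a • (b j + b j')) :
    ∃ C : Matrix (Fin n) (Fin n) F, C * xm = xm * C ∧ C.det = ∏ j, wt j := by
  classical
  let Cl : (Fin n → F) →ₗ[F] (Fin n → F) := b.constr F (fun j => wt j • b j)
  have hCl : ∀ j, Cl (b j) = wt j • b j := fun j => b.constr_basis F _ j
  refine ⟨LinearMap.toMatrix' Cl, ?_, ?_⟩
  · apply Matrix.toLin'.injective
    rw [Matrix.toLin'_mul, Matrix.toLin'_mul, Matrix.toLin'_toMatrix']
    apply b.ext
    intro j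
    show Cl (Matrix.toLin' xm (b j)) = Matrix.toLin' xm (Cl (b j))
    rw [Matrix.toLin'_apply, Matrix.toLin'_apply, hCl, Matrix.mulVec_smul]
    rcases hX j with h | ⟨j', hj', h⟩
    · rw [h, map_smul, hCl, smul_comm]
    · rw [h, map_smul, map_add, hCl, hCl, hj', ← smul_add, smul_comm]
  · rw [LinearMap.det_toMatrix', ← LinearMap.det_toMatrix b]
    have h1 : LinearMap.toMatrix b b Cl = Matrix.diagonal wt := by
      ext i j
      rw [LinearMap.toMatrix_apply, hCl, map_smul, Finsupp.smul_apply, Basis.repr_self_apply,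
        Matrix.diagonal_apply, smul_eq_mul]
      by_cases hij : i = j
      · subst hij
        rw [if_pos rfl, if_pos rfl, mul_one]
      · rw [if_neg hij, if_neg (fun h => hij h.symm), mul_zero]
    rw [h1, Matrix.det_diagonal]

end comm

section cube

variable {F : Type v} [Field F] [CharP F 3]

theorem three_eq_zero' : (3 : F) = 0 := by
  have h := CharP.cast_eq_zero F 3
  exact_mod_cast h

theorem sub_pow_three (a b : F) : (a - b) ^ 3 = a ^ 3 - b ^ 3 := by
  have h3 : (3 : F) = 0 := three_eq_zero'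
  have e : (a - b) ^ 3 = a ^ 3 - b ^ 3 - 3 * (a * b * (a - b)) := by ring
  rw [e, h3, zero_mul, sub_zero]

theorem pow_three_injective : Function.Injective (fun a : F => a ^ 3) := by
  intro a b hab
  have h : (a - b) ^ 3 = 0 := by
    rw [sub_pow_three]
    exact sub_eq_zero.2 hab
  exact sub_eq_zero.1 (pow_eq_zero_iff (by norm_num) |>.1 h)

theorem exists_pow_three_eq [Finite F] (z : F) : ∃ a : F, a ^ 3 = z :=
  (Finite.injective_iff_surjective.1 (pow_three_injective (F := F))) z

/-- cube roots in a finite subfield -/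
theorem exists_pow_three_eq_subfield (F₀ : Subfield F) [Finite F₀] (z : F₀) :
    ∃ a : F₀, a ^ 3 = z := by
  have hinj : Function.Injective (fun a : F₀ => a ^ 3) := by
    intro a b hab
    apply Subtype.ext
    apply pow_three_injective (F := F)
    have h := congrArg (fun t : F₀ => (t : F)) hab
    simpa using h
  exact (Finite.injective_iff_surjective.1 hinj) z

end cube

section numth

/-- `(2m+1)^k = 2 m G + 1` with `G ≡ k` modulo two -/
theorem exists_geom_parity (m : ℕ) : ∀ k : ℕ, ∃ G : ℕ,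
    (2 * m + 1) ^ k = 2 * (m * G) + 1 ∧ G % 2 = k % 2 := by
  intro k
  induction k with
  | zero => exact ⟨0, by simp, rfl⟩
  | succ k ih =>
    obtain ⟨G, hG, hpar⟩ := ih
    refine ⟨(2 * m + 1) * G + 1, ?_, ?_⟩
    · rw [pow_succ, hG]
      ring
    · have h1 : ((2 * m + 1) * G + 1) % 2 = (G + 1) % 2 := by
        have : (2 * m + 1) * G + 1 = 2 * (m * G) + (G + 1) := by ring
        rw [this, Nat.mul_add_mod]
      rw [h1]
      omega

end numth

section sqsub

variable {F : Type v} [Field F] [Fintype F]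

/-- if `|F| = |F₀|^k` is odd with `k` odd, a nonsquare of `F₀` stays a nonsquare in `F`, hence every
nonzero element of `F` is a square times a nonzero element of `F₀` -/
theorem exists_sq_mul_subfield (F₀ : Subfield F) (k : ℕ) (hk : Odd k)
    (hcard : Fintype.card F = Nat.card F₀ ^ k) (h2 : (2 : F) ≠ 0) (ρ : F) :
    ∃ (δ : F) (ε : F₀), ε ≠ 0 ∧ ρ = δ * δ * (ε : F) := by
  classical
  have : Fintype F₀ := Fintype.ofFinite F₀
  by_cases hρ : IsSquare ρ
  · obtain ⟨δ, hδ⟩ := hρ
    exact ⟨δ, 1, one_ne_zero, by rw [hδ]; simp⟩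
  have hchF : ringChar F ≠ 2 := ringChar_ne_two_of_two_ne_zero h2
  have h2' : (2 : F₀) ≠ 0 := by
    intro h
    apply h2
    have h3 : ((2 : F₀) : F) = ((0 : F₀) : F) := by rw [h]
    rwa [Subfield.coe_zero, show ((2 : F₀) : F) = 2 from rfl] at h3
  have hchF₀ : ringChar F₀ ≠ 2 := ringChar_ne_two_of_two_ne_zero h2'
  obtain ⟨ε, hε⟩ := FiniteField.exists_nonsquare hchF₀
  have hε0 : ε ≠ 0 := by
    rintro rfl
    exact hε ⟨0, by rw [mul_zero]⟩
  have hεF0 : (ε : F) ≠ 0 := fun h => hε0 (Subtype.ext h)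
  have hq₀ : Nat.card F₀ = Fintype.card F₀ := Nat.card_eq_fintype_card
  -- the parity computation
  have hodd₀ : Fintype.card F₀ % 2 = 1 := FiniteField.odd_card_of_char_ne_two hchF₀
  set q₀ := Fintype.card F₀ with hq₀def
  set m := q₀ / 2 with hm
  have hq₀m : q₀ = 2 * m + 1 := by omega
  obtain ⟨G, hG, hpar⟩ := exists_geom_parity m k
  have hGodd : Odd G := by
    rw [Nat.odd_iff, hpar]
    exact Nat.odd_iff.1 hk
  have hhalf : Fintype.card F / 2 = m * G := by
    rw [hcard, hq₀, hq₀m, hG]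
    omega
  have h1 : ε ^ m = -1 := by
    rcases FiniteField.pow_dichotomy hchF₀ hε0 with h | h
    · exact absurd ((FiniteField.isSquare_iff hchF₀ hε0).2 h) hε
    · exact h
  have h1F : (ε : F) ^ m = -1 := by
    have h3 := congrArg (fun t : F₀ => (t : F)) h1
    simpa using h3
  have hεF : ¬ IsSquare (ε : F) := by
    rw [FiniteField.isSquare_iff hchF hεF0, hhalf, pow_mul, h1F, hGodd.neg_one_pow]
    intro h
    apply h2
    have h4 : (2 : F) = 1 - (-1) := by ring
    rw [h4, h, sub_self]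
  obtain ⟨β, hβ⟩ := exists_sq_mul_of_nonsquare ρ (ε : F) hρ hεF
  exact ⟨β, ε, hε0, hβ⟩

end sqsub

section weights

variable {F : Type v} [Field F]

/-- weights constant along the chains of an adapted basis -/
def wtOf {t r s : ℕ} (wu : Fin t → F) (wv : Fin r → F) (ww : Fin s → F) :
    ((Fin t ⊕ Fin t) ⊕ Fin t) ⊕ ((Fin r ⊕ Fin r) ⊕ Fin s) → F :=
  Sum.elim (Sum.elim (Sum.elim wu wu) wu) (Sum.elim (Sum.elim wv wv) ww)

theorem prod_wtOf {t r s : ℕ} (wu : Fin t → F) (wv : Fin r → F) (ww : Fin s → F) :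
    ∏ j, wtOf wu wv ww j = (∏ i, wu i) ^ 3 * (∏ i, wv i) ^ 2 * ∏ i, ww i := by
  simp only [wtOf, Fintype.prod_sum_type, Sum.elim_inl, Sum.elim_inr]
  ring

theorem prod_ite_fin {d : ℕ} (i₀ : Fin d) (δ : F) :
    ∏ i : Fin d, (if i = i₀ then δ else 1) = δ := by
  rw [Finset.prod_ite_eq' Finset.univ i₀ (fun _ => δ), if_pos (Finset.mem_univ _)]

theorem exists_weights [Finite F] [CharP F 3] (t r s : ℕ) (τ : F)
    (hcase : 0 < s ∨ 0 < t ∨ (0 < r ∧ ∃ δ : F, δ * δ = τ)) :
    ∃ (wu : Fin t → F) (wv : Fin r → F) (ww : Fin s → F), ∏ j, wtOf wu wv ww j = τ := by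
  rcases hcase with hs | ht | ⟨hr, δ, hδ⟩
  · refine ⟨fun _ => 1, fun _ => 1, fun i => if i = ⟨0, hs⟩ then τ else 1, ?_⟩
    rw [prod_wtOf, prod_ite_fin]
    simp
  · obtain ⟨δ, hδ⟩ := exists_pow_three_eq τ
    refine ⟨fun i => if i = ⟨0, ht⟩ then δ else 1, fun _ => 1, fun _ => 1, ?_⟩
    rw [prod_wtOf, prod_ite_fin, hδ]
    simp
  · refine ⟨fun _ => 1, fun i => if i = ⟨0, hr⟩ then δ else 1, fun _ => 1, ?_⟩
    rw [prod_wtOf, prod_ite_fin, pow_two, hδ]
    simp

end weights

section slconj

variable {F : Type v} [Field F] {n : ℕ}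

/-- from a conjugating matrix to a conjugating matrix of determinant one, using an element of the
subgroup and a matrix commuting with `x` to adjust the determinant -/
theorem exists_SL_conj_of_commute (H : Subgroup (GL (Fin n) F))
    (x : Matrix.SpecialLinearGroup (Fin n) F) (R h : GL (Fin n) F)
    (hR : R * Matrix.SpecialLinearGroup.toGL x * R⁻¹ ∈ H) (hh : h ∈ H)
    (C : Matrix (Fin n) (Fin n) F)
    (hC : C * (x : Matrix (Fin n) (Fin n) F) = (x : Matrix (Fin n) (Fin n) F) * C)
    (hdet : (h : Matrix (Fin n) (Fin n) F).det * (R : Matrix (Fin n) (Fin n) F).det * C.det = 1) :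
    ∃ P : Matrix.SpecialLinearGroup (Fin n) F, P⁻¹ * x * P ∈
      H.comap (Matrix.SpecialLinearGroup.toGL :
        Matrix.SpecialLinearGroup (Fin n) F →* GL (Fin n) F) := by
  have hCdet : C.det ≠ 0 := by
    intro h0
    rw [h0, mul_zero] at hdet
    exact zero_ne_one hdet
  let Cg : GL (Fin n) F := Matrix.GeneralLinearGroup.mkOfDetNeZero C hCdet
  set X : GL (Fin n) F := Matrix.SpecialLinearGroup.toGL x with hX
  have hcomm : Cg * X = X * Cg := by
    apply Units.ext
    rw [Units.val_mul, Units.val_mul, hX, Matrix.SpecialLinearGroup.coe_GL_coe_matrix]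
    exact hC
  let Q : GL (Fin n) F := h * R * Cg
  have hQdet : (Q : Matrix (Fin n) (Fin n) F).det = 1 := by
    show ((h * R * Cg : GL (Fin n) F) : Matrix (Fin n) (Fin n) F).det = 1
    rw [Units.val_mul, Units.val_mul, Matrix.det_mul, Matrix.det_mul]
    exact hdet
  let P : Matrix.SpecialLinearGroup (Fin n) F := ⟨(Q : Matrix (Fin n) (Fin n) F), hQdet⟩
  have hPQ : Matrix.SpecialLinearGroup.toGL P = Q := by
    apply Units.ext
    rw [Matrix.SpecialLinearGroup.coe_GL_coe_matrix]
  refine ⟨P⁻¹, ?_⟩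
  rw [Subgroup.mem_comap, inv_inv, map_mul, map_mul, map_inv, hPQ, ← hX]
  have hconj : Cg * X * Cg⁻¹ = X := by
    rw [hcomm, mul_assoc, mul_inv_cancel, mul_one]
  have heq : Q * X * Q⁻¹ = h * (R * X * R⁻¹) * h⁻¹ := by
    calc Q * X * Q⁻¹ = h * (R * (Cg * X * Cg⁻¹) * R⁻¹) * h⁻¹ := by
          show h * R * Cg * X * (h * R * Cg)⁻¹ = _
          simp only [_root_.mul_inv_rev, mul_assoc]
      _ = h * (R * X * R⁻¹) * h⁻¹ := by rw [hconj]
  rw [heq]
  exact H.mul_mem (H.mul_mem hh hR) (H.inv_mem hh)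

end slconj

end Cfsg.Agent.Lib.Helper44.SLInv
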