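import Mathlib
import Cfsg.Prelude.Def_GeometricClasses
import Cfsg.Agent.Lib.Helper44.SubfA
import Cfsg.Agent.Lib.Helper44.SubfB
import Cfsg.Agent.Lib.Helper44.CubA
import Cfsg.Agent.Lib.Helper44.CubB

/-!
# Elements with scalar cube in characteristic three are conjugate into the subfield group

`exists_conj_mem_subfield_cube`: if `n` is odd or `|F| = |F₀|^k` with `k` odd, every element of
`SL_n(F)` with scalar cube is conjugate in `SL_n(F)` into the subfield group.
-/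

set_option autoImplicit false

namespace Cfsg.Agent.Lib.Helper44.SLInv

open Module LinearMap Matrix

universe v

variable {F : Type v} [Field F] [Fintype F] [CharP F 3] {n : ℕ}

theorem exists_conj_mem_subfield_cube (hn : 2 ≤ n) (F₀ : Subfield F) (k : ℕ)
    (hcard : Fintype.card F = Nat.card F₀ ^ k) (hcond : Odd n ∨ Odd k)
    (x : Matrix.SpecialLinearGroup (Fin n) F) (z : F)
    (hx3 : ((x ^ 3 : Matrix.SpecialLinearGroup (Fin n) F) : Matrix (Fin n) (Fin n) F)
      = z • (1 : Matrix (Fin n) (Fin n) F)) :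
    ∃ P : Matrix.SpecialLinearGroup (Fin n) F, P⁻¹ * x * P ∈
      ((Cfsg.Geo.subfieldSubgroup F₀ (1 : GL (Fin n) F)).comap
        (Matrix.SpecialLinearGroup.toGL :
          Matrix.SpecialLinearGroup (Fin n) F →* GL (Fin n) F)) := by
  classical
  set xm : Matrix (Fin n) (Fin n) F := (x : Matrix (Fin n) (Fin n) F) with hxm
  have hxxx : xm * xm * xm = z • (1 : Matrix (Fin n) (Fin n) F) := by
    rw [← hx3, Matrix.SpecialLinearGroup.coe_pow, pow_succ, pow_two]
  have hdetx : xm.det = 1 := x.det_coe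
  have h3 : (3 : F) = 0 := three_eq_zero'
  have hz0 : z ≠ 0 := by
    intro h
    have h1 : (xm * xm * xm).det = 1 := by
      rw [Matrix.det_mul, Matrix.det_mul, hdetx, mul_one, mul_one]
    have : Nonempty (Fin n) := ⟨⟨0, by omega⟩⟩
    rw [hxxx, h, zero_smul, Matrix.det_zero] at h1
    exact zero_ne_one h1
  obtain ⟨a, ha⟩ := exists_pow_three_eq z
  have ha0 : a ≠ 0 := by
    rintro rfl
    rw [zero_pow (by norm_num)] at ha
    exact hz0 ha.symm
  let X : (Fin n → F) →ₗ[F] (Fin n → F) := Matrix.toLin' xm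
  have hXa : ∀ w, X w = xm *ᵥ w := fun w => Matrix.toLin'_apply xm w
  have hX3 : ∀ w, X (X (X w)) = z • w := by
    intro w
    rw [hXa, hXa, hXa, Matrix.mulVec_mulVec, Matrix.mulVec_mulVec, hxxx,
      Matrix.smul_mulVec, Matrix.one_mulVec]
  let N' : (Fin n → F) →ₗ[F] (Fin n → F) := a⁻¹ • X - LinearMap.id
  have hN'def : ∀ w, N' w = a⁻¹ • X w - w := fun w => rfl
  have hN' : ∀ w, N' (N' (N' w)) = 0 := by
    intro w
    have e1 : a⁻¹ * a⁻¹ * a⁻¹ * z = 1 := by
      rw [← ha]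
      field_simp
    have e2 : N' (N' (N' w)) = (a⁻¹ * a⁻¹ * a⁻¹ * z) • w - w
        - (3 : F) • ((a⁻¹ * a⁻¹) • X (X w)) + (3 : F) • (a⁻¹ • X w) := by
      simp only [hN'def, map_sub, map_smul, hX3]
      module
    rw [e2, e1, h3, one_smul, zero_smul, zero_smul, sub_self, sub_zero, add_zero]
  have hxN : ∀ w, xm *ᵥ w = a • (w + N' w) := by
    intro w
    rw [hN'def, ← hXa, add_sub_cancel, smul_smul, mul_inv_cancel₀ ha0, one_smul]
  obtain ⟨t, r, s, us, vs, ws, hcount, hvs, hws, hspan⟩ :=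
    exists_cubezero_family (F := F) n (Fin n → F) N' hN' (Module.finrank_fin_fun F)
  have hcardι : Fintype.card (((Fin t ⊕ Fin t) ⊕ Fin t) ⊕ ((Fin r ⊕ Fin r) ⊕ Fin s)) =
      finrank F (Fin n → F) := by
    rw [Module.finrank_fin_fun]
    simp only [Fintype.card_sum, Fintype.card_fin]
    omega
  let b := basisOfTopLeSpanOfCardEqFinrank _ hspan hcardι
  have hb : ⇑b = Sum.elim (Sum.elim (Sum.elim us (fun i => N' (us i))) (fun i => N' (N' (us i))))
      (Sum.elim (Sum.elim vs (fun i => N' (vs i))) ws) :=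
    coe_basisOfTopLeSpanOfCardEqFinrank _ hspan hcardι
  have hb1 : ∀ i, b (Sum.inl (Sum.inl (Sum.inl i))) = us i := fun i => by rw [hb]; rfl
  have hb2 : ∀ i, b (Sum.inl (Sum.inl (Sum.inr i))) = N' (us i) := fun i => by rw [hb]; rfl
  have hb3 : ∀ i, b (Sum.inl (Sum.inr i)) = N' (N' (us i)) := fun i => by rw [hb]; rfl
  have hb4 : ∀ i, b (Sum.inr (Sum.inl (Sum.inl i))) = vs i := fun i => by rw [hb]; rfl
  have hb5 : ∀ i, b (Sum.inr (Sum.inl (Sum.inr i))) = N' (vs i) := fun i => by rw [hb]; rfl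
  have hb6 : ∀ j, b (Sum.inr (Sum.inr j)) = ws j := fun j => by rw [hb]; rfl
  have hXb : ∀ (wu : Fin t → F) (wv : Fin r → F) (ww : Fin s → F) j,
      xm *ᵥ b j = a • b j ∨ ∃ j', wtOf wu wv ww j' = wtOf wu wv ww j ∧
        xm *ᵥ b j = a • (b j + b j') := by
    intro wu wv ww j
    rcases j with ((i | i) | i) | ((i | i) | i)
    · right
      refine ⟨Sum.inl (Sum.inl (Sum.inr i)), rfl, ?_⟩
      rw [hxN, hb1, hb2]
    · right
      refine ⟨Sum.inl (Sum.inr i), rfl, ?_⟩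
      rw [hxN, hb2, hb3]
    · left
      rw [hxN, hb3, hN', add_zero]
    · right
      refine ⟨Sum.inr (Sum.inl (Sum.inr i)), rfl, ?_⟩
      rw [hxN, hb4, hb5]
    · left
      rw [hxN, hb5, hvs, add_zero]
    · left
      rw [hxN, hb6, hws, add_zero]
  obtain ⟨R, hR⟩ := exists_GL_conj_mem_subfield F₀ xm b a ha0 (by
    intro i j
    rcases hXb (fun _ => 1) (fun _ => 1) (fun _ => 1) j with h | ⟨j', -, h⟩
    · rw [h]
      exact repr_mem_one b F₀ a j i
    · rw [h]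
      exact repr_mem_two b F₀ a j j' i)
  have hRmem := hR _ (val_conj_toGL R x)
  have hRdet : (R : Matrix (Fin n) (Fin n) F).det ≠ 0 :=
    ((Matrix.isUnit_iff_isUnit_det _).1 ((Units.isUnit R))).ne_zero
  set τ₀ : F := ((R : Matrix (Fin n) (Fin n) F).det)⁻¹ with hτ₀
  have hsplit : ∃ (ε : F₀) (τ : F), ε ≠ 0 ∧ (ε : F) * τ = τ₀ ∧
      (0 < s ∨ 0 < t ∨ (0 < r ∧ ∃ δ : F, δ * δ = τ)) := by
    by_cases hs : 0 < s
    · exact ⟨1, τ₀, one_ne_zero, by simp, Or.inl hs⟩
    by_cases ht : 0 < t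
    · exact ⟨1, τ₀, one_ne_zero, by simp, Or.inr (Or.inl ht)⟩
    have hn2 : n = 2 * r := by omega
    have hkodd : Odd k := by
      rcases hcond with h | h
      · exfalso
        rw [hn2] at h
        exact (Nat.not_odd_iff_even.2 (even_two_mul r)) h
      · exact h
    have h2 : (2 : F) ≠ 0 := by
      intro h
      have h1 : (1 : F) = 0 := by linear_combination h3 - h
      exact one_ne_zero h1
    obtain ⟨δ, ε, hε0, hρ⟩ := exists_sq_mul_subfield F₀ k hkodd hcard h2 τ₀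
    exact ⟨ε, δ * δ, hε0, by rw [hρ]; ring, Or.inr (Or.inr ⟨by omega, δ, rfl⟩)⟩
  obtain ⟨ε, τ, hε0, hετ, hcase⟩ := hsplit
  obtain ⟨wu, wv, ww, hprod⟩ := exists_weights t r s τ hcase
  obtain ⟨C, hCx, hCdet⟩ := exists_commuting_matrix b xm a (wtOf wu wv ww) (hXb wu wv ww)
  let i₀ : Fin n := ⟨0, by omega⟩
  let D₀ : Matrix (Fin n) (Fin n) F₀ := Matrix.diagonal (fun i => if i = i₀ then ε else 1)
  have hD₀det : D₀.det = ε := by
    rw [Matrix.det_diagonal, prod_ite_fin]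
  let g₀ : GL (Fin n) F₀ := Matrix.GeneralLinearGroup.mkOfDetNeZero D₀ (by rw [hD₀det]; exact hε0)
  let h : GL (Fin n) F := Matrix.GeneralLinearGroup.map (F₀.subtype : F₀ →+* F) g₀
  have hh : h ∈ Cfsg.Geo.subfieldSubgroup F₀ (1 : GL (Fin n) F) := by
    rw [mem_subfieldSubgroup_one]
    exact Subgroup.mem_sup_left ⟨g₀, rfl⟩
  have hhdet : (h : Matrix (Fin n) (Fin n) F).det = (ε : F) := by
    have h1 : (D₀.map (F₀.subtype : F₀ →+* F)).det = (F₀.subtype : F₀ →+* F) D₀.det :=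
      (RingHom.map_det _ _).symm
    show (D₀.map (F₀.subtype : F₀ →+* F)).det = _
    rw [h1, hD₀det]
    rfl
  refine exists_SL_conj_of_commute _ x R h hRmem hh C hCx ?_
  rw [hhdet, hCdet, hprod]
  calc (ε : F) * (R : Matrix (Fin n) (Fin n) F).det * τ
      = (R : Matrix (Fin n) (Fin n) F).det * ((ε : F) * τ) := by ring
    _ = 1 := by rw [hετ, hτ₀, mul_inv_cancel₀ hRdet]

end Cfsg.Agent.Lib.Helper44.SLInv
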