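import Mathlib
import Cfsg.Prelude.Def_GeometricClasses
import Cfsg.Agent.Lib.Helper44.SubfA
import Cfsg.Agent.Lib.Helper44.SubfB
import Cfsg.Agent.Lib.Helper44.CubB

/-!
# A unipotent element with square-zero part which is not conjugate into the subfield group

`stdX t = [[1, 0], [diag t, 1]]`. If `|F| = |F₀|^2` is a power of three and `∏ t` is a nonsquare,
no conjugate of `stdX t` by a matrix of determinant one is a scalar multiple of a matrix over `F₀`
(`not_conj_std`).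
-/

set_option autoImplicit false

namespace Cfsg.Agent.Lib.Helper44.SLInv

open Module LinearMap Matrix

universe u v

section std

variable {F : Type v} [Field F] {m : ℕ}

/-- the standard nilpotent matrix with square zero -/
def stdN (t : Fin m → F) : Matrix (Fin m ⊕ Fin m) (Fin m ⊕ Fin m) F :=
  Matrix.fromBlocks 0 0 (Matrix.diagonal t) 0

/-- the standard unipotent matrix -/
def stdX (t : Fin m → F) : Matrix (Fin m ⊕ Fin m) (Fin m ⊕ Fin m) F :=
  Matrix.fromBlocks 1 0 (Matrix.diagonal t) 1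

theorem stdX_eq (t : Fin m → F) : stdX t = 1 + stdN t := by
  rw [stdX, stdN, ← Matrix.fromBlocks_one, Matrix.fromBlocks_add]
  simp

theorem stdN_mul_self (t : Fin m → F) : stdN t * stdN t = 0 := by
  rw [stdN, Matrix.fromBlocks_multiply]
  simp

theorem stdN_mulVec_inl (t : Fin m → F) (u : Fin m ⊕ Fin m → F) (i : Fin m) :
    (stdN t *ᵥ u) (Sum.inl i) = 0 := by
  rw [stdN, Matrix.fromBlocks_mulVec]
  simp

theorem stdN_mulVec_inr (t : Fin m → F) (u : Fin m ⊕ Fin m → F) (i : Fin m) :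
    (stdN t *ᵥ u) (Sum.inr i) = t i * u (Sum.inl i) := by
  rw [stdN, Matrix.fromBlocks_mulVec]
  simp [Matrix.mulVec_diagonal]

theorem stdX_det (t : Fin m → F) : (stdX t).det = 1 := by
  rw [stdX, Matrix.det_fromBlocks_zero₁₂, Matrix.det_one, one_mul]

theorem stdX_cube [CharP F 3] (t : Fin m → F) : stdX t * stdX t * stdX t = 1 := by
  have h3 : (3 : F) = 0 := three_eq_zero'
  have hNN := stdN_mul_self t
  rw [stdX_eq]
  have e : (1 + stdN t) * (1 + stdN t) * (1 + stdN t) =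
      1 + (3 : F) • stdN t + (3 : F) • (stdN t * stdN t) + stdN t * stdN t * stdN t := by
    simp only [Matrix.add_mul, Matrix.mul_add, Matrix.one_mul, Matrix.mul_one]
    module
  rw [e, hNN, h3, zero_smul, zero_smul, Matrix.zero_mul, add_zero, add_zero, add_zero]

theorem stdX_ne_smul_one (hm : 0 < m) (t : Fin m → F) (ht : ∀ i, t i ≠ 0) (c : F) :
    stdX t ≠ c • (1 : Matrix (Fin m ⊕ Fin m) (Fin m ⊕ Fin m) F) := by
  intro h
  have h1 := congrFun (congrFun h (Sum.inr ⟨0, hm⟩)) (Sum.inl ⟨0, hm⟩)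
  rw [stdX, Matrix.fromBlocks_apply₂₁, Matrix.diagonal_apply_eq, Matrix.smul_apply,
    Matrix.one_apply_ne (by simp), smul_zero] at h1
  exact ht _ h1

/-- the kernel of the standard nilpotent matrix is contained in its image -/
theorem exists_of_stdN_mulVec_eq_zero (t : Fin m → F) (ht : ∀ i, t i ≠ 0)
    (u : Fin m ⊕ Fin m → F) (hu : stdN t *ᵥ u = 0) : ∃ y, u = stdN t *ᵥ y := by
  refine ⟨Sum.elim (fun i => (t i)⁻¹ * u (Sum.inr i)) 0, ?_⟩
  ext j
  rcases j with i | i
  · rw [stdN_mulVec_inl]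
    have h1 := congrFun hu (Sum.inr i)
    rw [stdN_mulVec_inr, Pi.zero_apply] at h1
    exact (mul_eq_zero.1 h1).resolve_left (ht i)
  · rw [stdN_mulVec_inr, Sum.elim_inl, ← mul_assoc, mul_inv_cancel₀ (ht i), one_mul]

end std

section shape

variable {K : Type v} [Field K] {V : Type u} [AddCommGroup V] [Module K V]

/-- in a basis adapted to a map `N` with square zero, the image of `N` has no coordinates on the
kernel part -/
theorem repr_inr_eq_zero (N : V →ₗ[K] V) (hN : ∀ w, N (N w) = 0) {r s : ℕ}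
    (b : Basis ((Fin r ⊕ Fin r) ⊕ Fin s) K V)
    (hb : ∀ i, b (Sum.inl (Sum.inr i)) = N (b (Sum.inl (Sum.inl i))))
    (hbr : ∀ j, N (b (Sum.inr j)) = 0) (y : V) (j : Fin s) :
    b.repr (N y) (Sum.inr j) = 0 := by
  classical
  have h : (b.coord (Sum.inr j)) ∘ₗ N = 0 := by
    apply b.ext
    intro i
    rw [LinearMap.comp_apply, LinearMap.zero_apply, Basis.coord_apply]
    rcases i with (i | i) | i
    · rw [← hb, Basis.repr_self_apply, if_neg (by simp)]
    · rw [hb, hN, map_zero, Finsupp.zero_apply]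
    · rw [hbr, map_zero, Finsupp.zero_apply]
  have h1 := LinearMap.congr_fun h y
  rwa [LinearMap.comp_apply, LinearMap.zero_apply, Basis.coord_apply] at h1

end shape

section core

variable {F : Type v} [Field F] [Fintype F] [CharP F 3] {m : ℕ}

theorem not_conj_std (F₀ : Subfield F) (hcard : Fintype.card F = Nat.card F₀ ^ 2) (hm : 0 < m)
    (t : Fin m → F) (ht : ∀ i, t i ≠ 0) (hν : ¬ IsSquare (∏ i, t i))
    (P Pinv : Matrix (Fin m ⊕ Fin m) (Fin m ⊕ Fin m) F) (hPP : P * Pinv = 1) (hPiP : Pinv * P = 1)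
    (hPdet : P.det = 1) (c : F) (M₀ : Matrix (Fin m ⊕ Fin m) (Fin m ⊕ Fin m) F₀)
    (h : Pinv * stdX t * P = c • M₀.map (F₀.subtype : F₀ →+* F)) : False := by
  classical
  set ι : F₀ →+* F := F₀.subtype with hι
  have hιa : ∀ a : F₀, ι a = (a : F) := fun a => rfl
  have h3 : (3 : F) = 0 := three_eq_zero'
  have h2 : (2 : F) ≠ 0 := by
    intro h
    have h1 : (1 : F) = 0 := by linear_combination h3 - h
    exact one_ne_zero h1
  set X := stdX t with hXdef
  set Nm := stdN t with hNmdef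
  -- the scalar lies in the subfield
  have hcube : (Pinv * X * P) * (Pinv * X * P) * (Pinv * X * P) = 1 := by
    calc (Pinv * X * P) * (Pinv * X * P) * (Pinv * X * P)
        = Pinv * (X * (P * Pinv) * X * (P * Pinv) * X) * P := by simp only [Matrix.mul_assoc]
      _ = Pinv * (X * X * X) * P := by rw [hPP, Matrix.mul_one, Matrix.mul_one]
      _ = 1 := by rw [stdX_cube, Matrix.mul_one, hPiP]
  rw [h] at hcube
  have hcube' : (c * c * c) • ((M₀ * M₀ * M₀).map ι) = 1 := by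
    rw [← hcube, Matrix.map_mul, Matrix.map_mul]
    simp only [Matrix.smul_mul, Matrix.mul_smul, smul_smul]
    congr 1
    ring
  let i₀ : Fin m ⊕ Fin m := Sum.inl ⟨0, hm⟩
  set μ : F₀ := (M₀ * M₀ * M₀) i₀ i₀ with hμdef
  have hμ : c * c * c * (μ : F) = 1 := by
    have h1 := congrFun (congrFun hcube' i₀) i₀
    rw [Matrix.smul_apply, Matrix.map_apply, Matrix.one_apply_eq, smul_eq_mul] at h1
    exact h1
  have hμ0 : (μ : F) ≠ 0 := by
    intro h0
    rw [h0, mul_zero] at hμ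
    exact zero_ne_one hμ
  obtain ⟨c₀, hc₀⟩ := exists_pow_three_eq_subfield F₀ μ⁻¹
  have hcc₀ : c = (c₀ : F) := by
    apply pow_three_injective (F := F)
    show c ^ 3 = (c₀ : F) ^ 3
    have h1 : (c₀ : F) ^ 3 = (μ : F)⁻¹ := by
      rw [← hιa, ← map_pow, hc₀, map_inv₀, hιa]
    rw [h1]
    field_simp
    linear_combination hμ
  let M₁ : Matrix (Fin m ⊕ Fin m) (Fin m ⊕ Fin m) F₀ := c₀ • M₀
  have hM₁ : c • M₀.map ι = M₁.map ι := by
    ext i j
    show c * ι (M₀ i j) = ι (c₀ * M₀ i j)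
    rw [map_mul, hcc₀]
    rfl
  rw [hM₁] at h
  let N₁ : Matrix (Fin m ⊕ Fin m) (Fin m ⊕ Fin m) F₀ := M₁ - 1
  have hN₁ι : N₁.map ι = Pinv * Nm * P := by
    have e1 : N₁.map ι = M₁.map ι - 1 := by
      show (M₁ - 1).map ι = _
      rw [Matrix.map_sub ι (map_sub ι), Matrix.map_one ι (map_zero ι) (map_one ι)]
    rw [e1, ← h, hXdef, stdX_eq, Matrix.mul_add, Matrix.add_mul, Matrix.mul_one, hPiP,
      add_sub_cancel_left]
  have hNmι : P * N₁.map ι = Nm * P := by
    rw [hN₁ι, ← Matrix.mul_assoc, ← Matrix.mul_assoc, hPP, Matrix.one_mul]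
  have hN₁sq : N₁ * N₁ = 0 := by
    apply Matrix.map_injective (f := ι) Subtype.val_injective
    show (N₁ * N₁).map ι = (0 : Matrix (Fin m ⊕ Fin m) (Fin m ⊕ Fin m) F₀).map ι
    rw [Matrix.map_mul, hN₁ι, Matrix.map_zero _ (map_zero ι)]
    calc Pinv * Nm * P * (Pinv * Nm * P) = Pinv * (Nm * (P * Pinv) * Nm) * P := by
          simp only [Matrix.mul_assoc]
      _ = 0 := by rw [hPP, Matrix.mul_one, stdN_mul_self, Matrix.mul_zero, Matrix.zero_mul]
  let L : ((Fin m ⊕ Fin m) → F₀) →ₗ[F₀] ((Fin m ⊕ Fin m) → F₀) := Matrix.toLin' N₁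
  have hLa : ∀ w, L w = N₁ *ᵥ w := fun w => Matrix.toLin'_apply N₁ w
  have hL : ∀ w, L (L w) = 0 := by
    intro w
    rw [hLa, hLa, Matrix.mulVec_mulVec, hN₁sq, Matrix.zero_mulVec]
  let up : ((Fin m ⊕ Fin m) → F₀) → ((Fin m ⊕ Fin m) → F) := fun w i => (w i : F)
  have hup : ∀ w, N₁.map ι *ᵥ up w = up (N₁ *ᵥ w) := by
    intro w
    ext i
    show ∑ j, (N₁.map ι) i j * up w j = ((∑ j, N₁ i j * w j : F₀) : F)
    rw [← hιa, map_sum]
    refine Finset.sum_congr rfl (fun j _ => ?_)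
    rw [map_mul]
    rfl
  have hker : ∀ w, L w = 0 → ∃ y, w = L y := by
    intro w hw
    have h1 : N₁.map ι *ᵥ up w = 0 := by
      rw [hup, ← hLa, hw]
      ext i
      rfl
    have h2' : Nm *ᵥ (P *ᵥ up w) = 0 := by
      rw [Matrix.mulVec_mulVec, ← hNmι, ← Matrix.mulVec_mulVec, h1, Matrix.mulVec_zero]
    obtain ⟨y', hy'⟩ := exists_of_stdN_mulVec_eq_zero t ht _ h2'
    have h4 : up w = N₁.map ι *ᵥ (Pinv *ᵥ y') := by
      rw [hN₁ι, Matrix.mulVec_mulVec, Matrix.mul_assoc, hPP, Matrix.mul_one,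
        ← Matrix.mulVec_mulVec, ← hy', Matrix.mulVec_mulVec, hPiP, Matrix.one_mulVec]
    obtain ⟨π, hπ⟩ := LinearMap.exists_leftInverse_of_injective (Algebra.linearMap F₀ F)
      (LinearMap.ker_eq_bot.2 (algebraMap F₀ F).injective)
    have hπι : ∀ a : F₀, π (a : F) = a := fun a => LinearMap.congr_fun hπ a
    have hπmul : ∀ (a : F₀) (y : F), π ((a : F) * y) = a * π y := by
      intro a y
      have h5 := π.map_smul a y
      rwa [Subfield.smul_def, smul_eq_mul, smul_eq_mul] at h5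
    set Y := Pinv *ᵥ y' with hY
    refine ⟨fun j => π (Y j), ?_⟩
    funext i
    have h5 := congrFun h4 i
    have h6 : π (up w i) = w i := hπι (w i)
    rw [hLa, ← h6, h5]
    show π (∑ j, (N₁.map ι) i j * Y j) = ∑ j, N₁ i j * π (Y j)
    rw [map_sum]
    refine Finset.sum_congr rfl (fun j _ => ?_)
    rw [Matrix.map_apply]
    exact hπmul _ _
  have hfr : finrank F₀ ((Fin m ⊕ Fin m) → F₀) = m + m := by
    rw [Module.finrank_pi, Fintype.card_sum, Fintype.card_fin]
  obtain ⟨r, s', vs, ws, hrs, hws, hspan⟩ :=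
    exists_sqzero_family (F := F₀) (m + m) ((Fin m ⊕ Fin m) → F₀) L hL hfr
  have hcardκ : Fintype.card ((Fin r ⊕ Fin r) ⊕ Fin s') =
      finrank F₀ ((Fin m ⊕ Fin m) → F₀) := by
    rw [hfr]
    simp only [Fintype.card_sum, Fintype.card_fin]
    omega
  let b₀ := basisOfTopLeSpanOfCardEqFinrank _ hspan hcardκ
  have hb₀ : ⇑b₀ = Sum.elim (Sum.elim vs (fun i => L (vs i))) ws :=
    coe_basisOfTopLeSpanOfCardEqFinrank _ hspan hcardκ
  have hs' : s' = 0 := by
    by_contra hne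
    let j₀ : Fin s' := ⟨0, Nat.pos_of_ne_zero hne⟩
    obtain ⟨y, hy⟩ := hker (ws j₀) (hws j₀)
    have h1 := repr_inr_eq_zero L hL b₀ (fun i => by rw [hb₀]; rfl)
      (fun j => by rw [hb₀]; exact hws j) y j₀
    rw [← hy] at h1
    have h2' : b₀ (Sum.inr j₀) = ws j₀ := by rw [hb₀]; rfl
    rw [← h2', Basis.repr_self_apply, if_pos rfl] at h1
    exact one_ne_zero h1
  subst hs'
  have hr : m = r := by omega
  subst hr
  let v' : (Fin m ⊕ Fin m) → ((Fin m ⊕ Fin m) → F₀) := Sum.elim vs (fun i => L (vs i))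
  have hspan' : ⊤ ≤ Submodule.span F₀ (Set.range v') := by
    refine le_trans hspan (Submodule.span_mono ?_)
    rintro _ ⟨j, rfl⟩
    rcases j with j | j
    · exact ⟨j, rfl⟩
    · exact j.elim0
  have hli : LinearIndependent F₀ v' :=
    linearIndependent_of_top_le_span_of_card_eq_finrank hspan' (by
      rw [hfr, Fintype.card_sum, Fintype.card_fin])
  have hdetv : IsUnit ((Pi.basisFun F₀ (Fin m ⊕ Fin m)).det v') :=
    (Basis.is_basis_iff_det _).1 ⟨hli, top_le_iff.1 hspan'⟩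
  rw [Pi.basisFun_det_apply] at hdetv
  let Y₀ : Matrix (Fin m ⊕ Fin m) (Fin m ⊕ Fin m) F₀ := (Matrix.of v')ᵀ
  have hY₀det : Y₀.det ≠ 0 := by
    show ((Matrix.of v')ᵀ).det ≠ 0
    rw [Matrix.det_transpose]
    exact hdetv.ne_zero
  let Z : Matrix (Fin m ⊕ Fin m) (Fin m ⊕ Fin m) F := P * Y₀.map ι
  have hZdet : Z.det = ι Y₀.det := by
    show (P * Y₀.map ι).det = _
    rw [Matrix.det_mul, hPdet, one_mul]
    exact (RingHom.map_det _ _).symm
  have hZcol : ∀ j, (fun i => Z i j) = P *ᵥ up (v' j) := by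
    intro j
    ext i
    rfl
  have hshift : ∀ j : Fin m,
      Nm *ᵥ (P *ᵥ up (v' (Sum.inl j))) = P *ᵥ up (v' (Sum.inr j)) := by
    intro j
    rw [Matrix.mulVec_mulVec, ← hNmι, ← Matrix.mulVec_mulVec, hup, ← hLa]
    rfl
  let A : Matrix (Fin m) (Fin m) F := fun i j => Z (Sum.inl i) (Sum.inl j)
  let B : Matrix (Fin m) (Fin m) F := fun i j => Z (Sum.inr i) (Sum.inl j)
  have hZ : Z = Matrix.fromBlocks A 0 B (Matrix.diagonal t * A) := by
    ext i j
    rcases j with j | j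
    · rcases i with i | i
      · rfl
      · rfl
    · have h1 : Z i (Sum.inr j) = (Nm *ᵥ (fun i' => Z i' (Sum.inl j))) i := by
        rw [hZcol, hshift, ← hZcol]
      rcases i with i | i
      · rw [h1, stdN_mulVec_inl]
        rfl
      · rw [h1, stdN_mulVec_inr, Matrix.fromBlocks_apply₂₂, Matrix.diagonal_mul]
  have hdet2 : Z.det = A.det * ((∏ i, t i) * A.det) := by
    rw [hZ, Matrix.det_fromBlocks_zero₁₂, Matrix.det_mul, Matrix.det_diagonal]
  obtain ⟨β, hβ⟩ := isSquare_of_mem_subfield F₀ hcard h2 Y₀.det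
  have hA0 : A.det ≠ 0 := by
    intro h0
    rw [hZdet, h0, zero_mul] at hdet2
    exact hY₀det ((map_eq_zero ι).1 hdet2)
  apply hν
  refine ⟨β / A.det, ?_⟩
  have h7 : (∏ i, t i) * (A.det * A.det) = β * β := by
    rw [← hβ, ← hιa, ← hZdet, hdet2]
    ring
  field_simp
  linear_combination h7

end core

end Cfsg.Agent.Lib.Helper44.SLInv
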