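import Mathlib
import Cfsg.Prelude.Def_GeometricClasses
import Cfsg.Agent.Lib.Helper44.SubfA
import Cfsg.Agent.Lib.Helper44.CubB
import Cfsg.Agent.Lib.Helper44.CubD

/-!
# An element of order three of `SL_n(F)` not conjugate into the subfield group

`exists_not_conj_mem_subfield_cube`: for `n` even and `|F| = |F₀|^2` a power of three.
-/

set_option autoImplicit false

namespace Cfsg.Agent.Lib.Helper44.SLInv

open Module LinearMap Matrix

universe v

variable {F : Type v} [Field F] [Fintype F] [CharP F 3]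

theorem exists_not_conj_mem_subfield_cube (F₀ : Subfield F)
    (hcard : Fintype.card F = Nat.card F₀ ^ 2) {n : ℕ} (hn : 2 ≤ n) (heven : Even n) :
    ∃ x : Matrix.SpecialLinearGroup (Fin n) F,
      (∃ z : F, ((x ^ 3 : Matrix.SpecialLinearGroup (Fin n) F) : Matrix (Fin n) (Fin n) F)
        = z • (1 : Matrix (Fin n) (Fin n) F)) ∧
      (∀ c : F, (x : Matrix (Fin n) (Fin n) F) ≠ c • (1 : Matrix (Fin n) (Fin n) F)) ∧
      ∀ P : Matrix.SpecialLinearGroup (Fin n) F, P⁻¹ * x * P ∉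
        ((Cfsg.Geo.subfieldSubgroup F₀ (1 : GL (Fin n) F)).comap
          (Matrix.SpecialLinearGroup.toGL :
            Matrix.SpecialLinearGroup (Fin n) F →* GL (Fin n) F)) := by
  classical
  obtain ⟨m, hm⟩ := heven
  subst hm
  have hm0 : 0 < m := by omega
  have h3 : (3 : F) = 0 := three_eq_zero'
  have h2 : (2 : F) ≠ 0 := by
    intro h
    have h1 : (1 : F) = 0 := by linear_combination h3 - h
    exact one_ne_zero h1
  obtain ⟨ν, hν⟩ := FiniteField.exists_nonsquare (ringChar_ne_two_of_two_ne_zero h2)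
  have hν0 : ν ≠ 0 := by
    rintro rfl
    exact hν ⟨0, by rw [mul_zero]⟩
  let t : Fin m → F := fun i => if i = ⟨0, hm0⟩ then ν else 1
  have ht : ∀ i, t i ≠ 0 := by
    intro i
    show (if i = ⟨0, hm0⟩ then ν else 1) ≠ 0
    split_ifs
    · exact hν0
    · exact one_ne_zero
  have htprod : ∏ i, t i = ν := prod_ite_fin _ ν
  let e : Fin m ⊕ Fin m ≃ Fin (m + m) := finSumFinEquiv
  let φ : Matrix (Fin m ⊕ Fin m) (Fin m ⊕ Fin m) F ≃ₐ[F]
      Matrix (Fin (m + m)) (Fin (m + m)) F := Matrix.reindexAlgEquiv F F e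
  let x' : Matrix (Fin (m + m)) (Fin (m + m)) F := φ (stdX t)
  have hx'det : x'.det = 1 := by
    show (Matrix.reindexAlgEquiv F F e (stdX t)).det = 1
    rw [Matrix.det_reindexAlgEquiv, stdX_det]
  let x : Matrix.SpecialLinearGroup (Fin (m + m)) F := ⟨x', hx'det⟩
  have hx3 : ((x ^ 3 : Matrix.SpecialLinearGroup (Fin (m + m)) F) :
      Matrix (Fin (m + m)) (Fin (m + m)) F) = (1 : F) • (1 : Matrix (Fin (m + m)) (Fin (m + m)) F) := by
    rw [Matrix.SpecialLinearGroup.coe_pow, pow_succ, pow_two, one_smul]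
    show φ (stdX t) * φ (stdX t) * φ (stdX t) = 1
    rw [← map_mul, ← map_mul, stdX_cube, map_one]
  have hxns : ∀ c : F, (x : Matrix (Fin (m + m)) (Fin (m + m)) F) ≠
      c • (1 : Matrix (Fin (m + m)) (Fin (m + m)) F) := by
    intro c hc
    have hc' : φ (stdX t) = c • (1 : Matrix (Fin (m + m)) (Fin (m + m)) F) := hc
    have h1 : φ (stdX t) = φ (c • (1 : Matrix (Fin m ⊕ Fin m) (Fin m ⊕ Fin m) F)) := by
      rw [hc', map_smul, map_one]
    exact stdX_ne_smul_one hm0 t ht c (φ.injective h1)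
  refine ⟨x, ⟨1, hx3⟩, hxns, fun P hP => ?_⟩
  rw [Subgroup.mem_comap] at hP
  obtain ⟨c, M₀, hc0, hval⟩ := exists_of_mem_subfieldSubgroup F₀ _ hP
  rw [Matrix.SpecialLinearGroup.coe_GL_coe_matrix] at hval
  set Pm : Matrix (Fin (m + m)) (Fin (m + m)) F := (P : Matrix (Fin (m + m)) (Fin (m + m)) F)
    with hPm
  set Pi' : Matrix (Fin (m + m)) (Fin (m + m)) F :=
    ((P⁻¹ : Matrix.SpecialLinearGroup (Fin (m + m)) F) : Matrix (Fin (m + m)) (Fin (m + m)) F)
    with hPi'
  have hPiP : Pi' * Pm = 1 := by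
    have h : ((P⁻¹ * P : Matrix.SpecialLinearGroup (Fin (m + m)) F) :
        Matrix (Fin (m + m)) (Fin (m + m)) F) = 1 := by
      rw [inv_mul_cancel]
      rfl
    rwa [Matrix.SpecialLinearGroup.coe_mul] at h
  have hPP : Pm * Pi' = 1 := by
    have h : ((P * P⁻¹ : Matrix.SpecialLinearGroup (Fin (m + m)) F) :
        Matrix (Fin (m + m)) (Fin (m + m)) F) = 1 := by
      rw [mul_inv_cancel]
      rfl
    rwa [Matrix.SpecialLinearGroup.coe_mul] at h
  have hcoe : ((P⁻¹ * x * P : Matrix.SpecialLinearGroup (Fin (m + m)) F) :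
      Matrix (Fin (m + m)) (Fin (m + m)) F) = Pi' * x' * Pm := by
    rw [Matrix.SpecialLinearGroup.coe_mul, Matrix.SpecialLinearGroup.coe_mul]
  rw [hcoe] at hval
  have hPmdet : Pm.det = 1 := P.det_coe
  have hsymm : ∀ M : Matrix (Fin (m + m)) (Fin (m + m)) F, φ.symm M = M.submatrix e e := by
    intro M
    rfl
  refine not_conj_std F₀ hcard hm0 t ht (by rw [htprod]; exact hν) (φ.symm Pm) (φ.symm Pi')
    (by rw [← map_mul, hPP, map_one]) (by rw [← map_mul, hPiP, map_one])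
    (by rw [hsymm, Matrix.det_submatrix_equiv_self, hPmdet]) c (M₀.submatrix e e) ?_
  have h1 := congrArg φ.symm hval
  rw [map_mul, map_mul, map_smul] at h1
  rw [show φ.symm x' = stdX t from φ.symm_apply_apply _] at h1
  rw [h1, hsymm]
  rfl

end Cfsg.Agent.Lib.Helper44.SLInv
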