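import Mathlib
import Cfsg.Prelude.Def_GeometricClasses

/-!
# Field subalgebras of matrix algebras over finite fields

For a subalgebra `K` of `M_n(F)` with `IsFieldSubalgebra r K`:

* `isField_of`: `K` is a field.
* `pow_card_pow_eq`: `κ ^ (q^r) = κ` for `κ ∈ K`.
* `exists_pow_card_ne`: for `2 ≤ r` some `κ ∈ K` has `κ ^ q ≠ κ`.
* `add_pow_card_of_mem`, `smul_pow_card_of_mem`, `mul_pow_of_mem`: the Frobenius map is an
  `F`-algebra endomorphism of `K`.
* `commute_all_or_scalar`: for `r` prime, a matrix either commutes with all of `K` or the elements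
  of `K` commuting with it are the scalars.
-/

set_option autoImplicit false

namespace Cfsg.Agent.Lib.Helper44.Fld

open Module Matrix

universe v

variable {F : Type v} [Field F] {n : ℕ}

theorem isField_of (K : Subalgebra F (Matrix (Fin n) (Fin n) F)) {r : ℕ}
    (hK : Cfsg.Geo.IsFieldSubalgebra r K) (hn : 0 < n) : IsField K where
  exists_pair_ne := by
    have : Nonempty (Fin n) := ⟨⟨0, hn⟩⟩
    refine ⟨0, 1, fun h => ?_⟩
    have h1 := congrArg Subtype.val h
    exact zero_ne_one h1
  mul_comm := fun a b => Subtype.ext (hK.comm a a.2 b b.2)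
  mul_inv_cancel := by
    intro a ha
    obtain ⟨y, hy, h⟩ := hK.inv a a.2 (fun h0 => ha (Subtype.ext h0))
    exact ⟨⟨y, hy⟩, Subtype.ext h⟩

theorem pow_card_pow_eq [Fintype F] (K : Subalgebra F (Matrix (Fin n) (Fin n) F)) {r : ℕ}
    (hK : Cfsg.Geo.IsFieldSubalgebra r K) (hn : 0 < n) (κ : Matrix (Fin n) (Fin n) F)
    (hκ : κ ∈ K) : κ ^ (Fintype.card F ^ r) = κ := by
  classical
  let _ : Field K := (isField_of K hK hn).toField
  have : Fintype K := Fintype.ofFinite K
  have hcard : Fintype.card K = Fintype.card F ^ r := by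
    rw [Module.card_eq_pow_finrank (K := F) (V := K), hK.finrank_eq]
  have h := FiniteField.pow_card (⟨κ, hκ⟩ : K)
  rw [hcard] at h
  exact congrArg Subtype.val h

/-- the Frobenius map is additive on `K` -/
theorem add_pow_card_of_mem [Fintype F] (K : Subalgebra F (Matrix (Fin n) (Fin n) F)) {r : ℕ}
    (hK : Cfsg.Geo.IsFieldSubalgebra r K) (hn : 0 < n) (κ κ' : Matrix (Fin n) (Fin n) F)
    (hκ : κ ∈ K) (hκ' : κ' ∈ K) :
    (κ + κ') ^ Fintype.card F = κ ^ Fintype.card F + κ' ^ Fintype.card F := by
  classical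
  let _ : Field K := (isField_of K hK hn).toField
  have h := map_add (FiniteField.frobeniusAlgHom F K) (⟨κ, hκ⟩ : K) ⟨κ', hκ'⟩
  rw [FiniteField.frobeniusAlgHom_apply, FiniteField.frobeniusAlgHom_apply,
    FiniteField.frobeniusAlgHom_apply] at h
  exact congrArg Subtype.val h

theorem smul_pow_card [Fintype F] (c : F) (κ : Matrix (Fin n) (Fin n) F) :
    (c • κ) ^ Fintype.card F = c • κ ^ Fintype.card F := by
  rw [smul_pow, FiniteField.pow_card]

/-- for `2 ≤ r` the Frobenius map is not the identity on `K` -/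
theorem exists_pow_card_ne [Fintype F] (K : Subalgebra F (Matrix (Fin n) (Fin n) F)) {r : ℕ}
    (hK : Cfsg.Geo.IsFieldSubalgebra r K) (hn : 0 < n) (hr : 2 ≤ r) :
    ∃ κ ∈ K, κ ^ Fintype.card F ≠ κ := by
  classical
  let _ : Field K := (isField_of K hK hn).toField
  have : Finite K := inferInstance
  have hord := FiniteField.orderOf_frobeniusAlgEquivOfAlgebraic F K
  rw [hK.finrank_eq] at hord
  by_contra hcon
  push Not at hcon
  have h1 : FiniteField.frobeniusAlgEquivOfAlgebraic F K = 1 := by
    apply AlgEquiv.ext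
    intro a
    have h2 := hcon a.1 a.2
    apply Subtype.ext
    rw [AlgEquiv.one_apply]
    show ((FiniteField.frobeniusAlgEquivOfAlgebraic F K) a : K).val = a.val
    rw [FiniteField.coe_frobeniusAlgEquivOfAlgebraic]
    exact h2
  rw [h1, orderOf_one] at hord
  omega

/-- for `r` prime, a matrix either commutes with all of `K`, or the elements of `K` commuting with
it are scalar -/
theorem commute_all_or_scalar (K : Subalgebra F (Matrix (Fin n) (Fin n) F)) {r : ℕ}
    (hr : r.Prime) (hK : Cfsg.Geo.IsFieldSubalgebra r K) (hn : 0 < n)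
    (x : Matrix (Fin n) (Fin n) F) :
    (∀ κ ∈ K, x * κ = κ * x) ∨ (∀ κ ∈ K, x * κ = κ * x → ∃ c : F, κ = c • 1) := by
  classical
  let _ : Field K := (isField_of K hK hn).toField
  have hfr : (finrank F K).Prime := by rw [hK.finrank_eq]; exact hr
  have := IntermediateField.isSimpleOrder_of_finrank_prime F K hfr
  let L : IntermediateField F K :=
    { carrier := {κ | x * κ.val = κ.val * x}
      mul_mem' := by
        intro a b ha hb
        show x * (a.val * b.val) = (a.val * b.val) * x
        rw [← Matrix.mul_assoc, ha, Matrix.mul_assoc, hb, Matrix.mul_assoc]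
      add_mem' := by
        intro a b ha hb
        show x * (a.val + b.val) = (a.val + b.val) * x
        rw [Matrix.mul_add, Matrix.add_mul, ha, hb]
      algebraMap_mem' := by
        intro c
        show x * (algebraMap F (Matrix (Fin n) (Fin n) F) c) = (algebraMap F _ c) * x
        rw [Algebra.commutes]
      inv_mem' := by
        intro a ha
        by_cases ha0 : a = 0
        · rw [ha0, _root_.inv_zero]
          show x * 0 = 0 * x
          simp
        have h1 : a⁻¹ * a = 1 := inv_mul_cancel₀ ha0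
        have h2 : a * a⁻¹ = 1 := mul_inv_cancel₀ ha0
        have h1' : (a⁻¹).val * a.val = 1 := congrArg Subtype.val h1
        have h2' : a.val * (a⁻¹).val = 1 := congrArg Subtype.val h2
        show x * (a⁻¹).val = (a⁻¹).val * x
        calc x * (a⁻¹).val = (a⁻¹).val * a.val * x * (a⁻¹).val := by rw [h1', Matrix.one_mul]
          _ = (a⁻¹).val * (x * a.val) * (a⁻¹).val := by rw [Matrix.mul_assoc (a⁻¹).val, ← ha]
          _ = (a⁻¹).val * x := by rw [Matrix.mul_assoc, Matrix.mul_assoc, h2', Matrix.mul_one] }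
  rcases eq_bot_or_eq_top L with h | h
  · right
    intro κ hκ hx
    have hmem : (⟨κ, hκ⟩ : K) ∈ L := hx
    rw [h, IntermediateField.mem_bot] at hmem
    obtain ⟨c, hc⟩ := hmem
    refine ⟨c, ?_⟩
    have h1 : ((algebraMap F K c : K) : Matrix (Fin n) (Fin n) F) = κ := congrArg Subtype.val hc
    rw [← h1, Algebra.smul_def, mul_one]
    rfl
  · left
    intro κ hκ
    have hmem : (⟨κ, hκ⟩ : K) ∈ L := by rw [h]; exact IntermediateField.mem_top
    exact hmem

end Cfsg.Agent.Lib.Helper44.Fld
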