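import Mathlib
import Cfsg.Prelude.Def_GeometricClasses
import Cfsg.Agent.Lib.Helper44.SLInvExt
import Cfsg.Agent.Lib.Helper44.FldA

/-!
# The Galois element of the normaliser of a field subalgebra of full degree

For a field subalgebra `K` of degree `n` of `M_n(F)`, `F` finite:

* `exists_mulVec_eq`: `F^n = K v₀` for every `v₀ ≠ 0`.
* `exists_galois`: an element `g` of the normaliser of `K` with `g κ = κ^q g`, `g^n = 1`, not
  commuting with all of `K`.
* `eigen_unique`: for `n` prime, the eigenspaces of a nonscalar element of the normaliser of `K`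
  have dimension at most one.
-/

set_option autoImplicit false

namespace Cfsg.Agent.Lib.Helper44.Fld

open Module Matrix Cfsg.Agent.Lib.Helper44.SLInv

universe v

variable {F : Type v} [Field F] {n : ℕ}

section orbit

/-- the orbit map `κ ↦ κ v₀` -/
def orbitMap' (K : Subalgebra F (Matrix (Fin n) (Fin n) F)) (v₀ : Fin n → F) :
    K →ₗ[F] (Fin n → F) where
  toFun κ := κ.val *ᵥ v₀
  map_add' a b := by
    show (a.val + b.val) *ᵥ v₀ = _
    rw [Matrix.add_mulVec]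
  map_smul' c a := by
    show (c • a.val) *ᵥ v₀ = _
    rw [Matrix.smul_mulVec]
    rfl

theorem orbitMap'_apply (K : Subalgebra F (Matrix (Fin n) (Fin n) F)) (v₀ : Fin n → F) (κ : K) :
    orbitMap' K v₀ κ = κ.val *ᵥ v₀ := rfl

theorem orbitMap'_injective (K : Subalgebra F (Matrix (Fin n) (Fin n) F)) {r : ℕ}
    (hK : Cfsg.Geo.IsFieldSubalgebra r K) (v₀ : Fin n → F) (hv₀ : v₀ ≠ 0) :
    Function.Injective (orbitMap' K v₀) := by
  rw [← LinearMap.ker_eq_bot, LinearMap.ker_eq_bot']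
  intro κ hκ
  by_contra hne
  have h1 : κ.val ≠ 0 := fun h => hne (Subtype.ext h)
  exact hv₀ (mulVec_eq_zero_of_mem K hK κ.val κ.2 h1 v₀ hκ)

theorem orbitMap'_bijective (K : Subalgebra F (Matrix (Fin n) (Fin n) F))
    (hK : Cfsg.Geo.IsFieldSubalgebra n K) (v₀ : Fin n → F) (hv₀ : v₀ ≠ 0) :
    Function.Bijective (orbitMap' K v₀) := by
  have hinj := orbitMap'_injective K hK v₀ hv₀
  have : FiniteDimensional F K :=
    Module.Finite.of_injective K.val.toLinearMap Subtype.val_injective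
  have hfr : finrank F K = finrank F (Fin n → F) := by
    rw [hK.finrank_eq, Module.finrank_fin_fun]
  exact ⟨hinj, (LinearMap.injective_iff_surjective_of_finrank_eq_finrank hfr).1 hinj⟩

/-- `F^n = K v₀` -/
theorem exists_mulVec_eq (K : Subalgebra F (Matrix (Fin n) (Fin n) F))
    (hK : Cfsg.Geo.IsFieldSubalgebra n K) (v₀ : Fin n → F) (hv₀ : v₀ ≠ 0) (w : Fin n → F) :
    ∃ κ ∈ K, w = κ *ᵥ v₀ := by
  obtain ⟨κ, hκ⟩ := (orbitMap'_bijective K hK v₀ hv₀).2 w
  exact ⟨κ.val, κ.2, hκ.symm⟩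

theorem eq_of_mulVec_eq (K : Subalgebra F (Matrix (Fin n) (Fin n) F)) {r : ℕ}
    (hK : Cfsg.Geo.IsFieldSubalgebra r K) (v₀ : Fin n → F) (hv₀ : v₀ ≠ 0)
    (κ κ' : Matrix (Fin n) (Fin n) F) (hκ : κ ∈ K) (hκ' : κ' ∈ K)
    (h : κ *ᵥ v₀ = κ' *ᵥ v₀) : κ = κ' := by
  have h1 := orbitMap'_injective K hK v₀ hv₀ (a₁ := ⟨κ, hκ⟩) (a₂ := ⟨κ', hκ'⟩) h
  exact congrArg Subtype.val h1

end orbit

section eigen

/-- eigenspaces of a nonscalar element of the normaliser of `K` have dimension at most one -/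
theorem eigen_unique (K : Subalgebra F (Matrix (Fin n) (Fin n) F))
    (hK : Cfsg.Geo.IsFieldSubalgebra n K) (hnp : n.Prime) (y : GL (Fin n) F)
    (hy : y ∈ Cfsg.Geo.subalgebraNormalizer K)
    (hns : ∀ c : F, (y : Matrix (Fin n) (Fin n) F) ≠ c • (1 : Matrix (Fin n) (Fin n) F))
    (lam : F) (v w : Fin n → F) (hv : v ≠ 0)
    (hyv : (y : Matrix (Fin n) (Fin n) F) *ᵥ v = lam • v)
    (hyw : (y : Matrix (Fin n) (Fin n) F) *ᵥ w = lam • w) : ∃ c : F, w = c • v := by
  have hn : 0 < n := hnp.pos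
  set ym : Matrix (Fin n) (Fin n) F := (y : Matrix (Fin n) (Fin n) F) with hym
  set yi : Matrix (Fin n) (Fin n) F := ((y⁻¹ : GL (Fin n) F) : Matrix (Fin n) (Fin n) F) with hyi
  have hyy' : yi * ym = 1 := by
    rw [hyi, hym, ← Units.val_mul, inv_mul_cancel, Units.val_one]
  rcases commute_all_or_scalar K hnp hK hn ym with hall | hsc
  · exfalso
    obtain ⟨κ₀, hκ₀, hκ₀v⟩ := exists_mulVec_eq K hK v hv (ym *ᵥ v)
    have heq : ym = κ₀ := by
      apply Matrix.toLin'.injective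
      apply LinearMap.ext
      intro w'
      obtain ⟨κ, hκ, rfl⟩ := exists_mulVec_eq K hK v hv w'
      rw [Matrix.toLin'_apply, Matrix.toLin'_apply, Matrix.mulVec_mulVec, hall κ hκ,
        ← Matrix.mulVec_mulVec, hκ₀v, Matrix.mulVec_mulVec, Matrix.mulVec_mulVec,
        hK.comm κ hκ κ₀ hκ₀]
    have hmem : κ₀ - lam • (1 : Matrix (Fin n) (Fin n) F) ∈ K :=
      K.sub_mem hκ₀ (K.smul_mem K.one_mem lam)
    have hkill : (κ₀ - lam • (1 : Matrix (Fin n) (Fin n) F)) *ᵥ v = 0 := by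
      rw [Matrix.sub_mulVec, Matrix.smul_mulVec, Matrix.one_mulVec, ← heq, hyv, sub_self]
    by_cases h0 : κ₀ - lam • (1 : Matrix (Fin n) (Fin n) F) = 0
    · exact hns lam (by rw [heq]; exact sub_eq_zero.1 h0)
    · exact hv (mulVec_eq_zero_of_mem K hK _ hmem h0 v hkill)
  · obtain ⟨κ, hκ, hwκ⟩ := exists_mulVec_eq K hK v hv w
    have hlam : lam ≠ 0 := by
      rintro rfl
      rw [zero_smul] at hyv
      apply hv
      have h1 : (yi * ym) *ᵥ v = 0 := by rw [← Matrix.mulVec_mulVec, hyv, Matrix.mulVec_zero]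
      rwa [hyy', Matrix.one_mulVec] at h1
    have hτ : ym * κ * yi ∈ K := (hy κ).1 hκ
    have hτy : (ym * κ * yi) * ym = ym * κ := by
      rw [Matrix.mul_assoc, hyy', Matrix.mul_one]
    have h1 : (ym * κ * yi - κ) *ᵥ v = 0 := by
      have e1 : ym *ᵥ w = lam • ((ym * κ * yi) *ᵥ v) := by
        calc ym *ᵥ w = (ym * κ) *ᵥ v := by rw [hwκ, Matrix.mulVec_mulVec]
          _ = ((ym * κ * yi) * ym) *ᵥ v := by rw [hτy]
          _ = lam • ((ym * κ * yi) *ᵥ v) := by
            rw [← Matrix.mulVec_mulVec, hyv, Matrix.mulVec_smul]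
      have e2 : lam • ((ym * κ * yi) *ᵥ v) = lam • (κ *ᵥ v) := by
        rw [← e1, hyw, hwκ]
      have e3 : (ym * κ * yi) *ᵥ v = κ *ᵥ v := by
        have h3 := congrArg (fun t => lam⁻¹ • t) e2
        simpa [smul_smul, inv_mul_cancel₀ hlam] using h3
      rw [Matrix.sub_mulVec, e3, sub_self]
    have hmem : ym * κ * yi - κ ∈ K := K.sub_mem hτ hκ
    have h0 : ym * κ * yi - κ = 0 := by
      by_contra h0
      exact hv (mulVec_eq_zero_of_mem K hK _ hmem h0 v h1)
    have hcomm : ym * κ = κ * ym := by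
      rw [← hτy, sub_eq_zero.1 h0]
    obtain ⟨c, hc⟩ := hsc κ hκ hcomm
    refine ⟨c, ?_⟩
    rw [hwκ, hc, Matrix.smul_mulVec, Matrix.one_mulVec]

end eigen

end Cfsg.Agent.Lib.Helper44.Fld
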