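import Mathlib
import Cfsg.Prelude.Def_GeometricClasses
import Cfsg.Agent.Lib.Helper44.FldA
import Cfsg.Agent.Lib.Helper44.FldB

/-!
# The Galois element of the normaliser of a field subalgebra of full degree

`exists_galois`: for a field subalgebra `K` of degree `n ≥ 2` of `M_n(F)`, `F` finite with `q`
elements, there is `g` in the normaliser of `K` with `g κ = κ^q g` for `κ ∈ K`, `g^n = 1`, and `g`
does not commute with all of `K`.
-/

set_option autoImplicit false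

namespace Cfsg.Agent.Lib.Helper44.Fld

open Module Matrix Cfsg.Agent.Lib.Helper44.SLInv

universe v

variable {F : Type v} [Field F] [Fintype F] {n : ℕ}

/-- the Frobenius map of `K` as an `F`-linear map -/
def frobLin (K : Subalgebra F (Matrix (Fin n) (Fin n) F)) {r : ℕ}
    (hK : Cfsg.Geo.IsFieldSubalgebra r K) (hn : 0 < n) : K →ₗ[F] K where
  toFun κ := ⟨κ.val ^ Fintype.card F, K.pow_mem κ.2 _⟩
  map_add' a b := Subtype.ext (add_pow_card_of_mem K hK hn a.val b.val a.2 b.2)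
  map_smul' c a := Subtype.ext (smul_pow_card c a.val)

theorem exists_galois (K : Subalgebra F (Matrix (Fin n) (Fin n) F))
    (hK : Cfsg.Geo.IsFieldSubalgebra n K) (hn : 2 ≤ n) :
    ∃ g : GL (Fin n) F, g ∈ Cfsg.Geo.subalgebraNormalizer K ∧
      (∀ κ ∈ K, (g : Matrix (Fin n) (Fin n) F) * κ =
        κ ^ Fintype.card F * (g : Matrix (Fin n) (Fin n) F)) ∧
      g ^ n = 1 ∧
      ∃ κ ∈ K, (g : Matrix (Fin n) (Fin n) F) * κ ≠ κ * (g : Matrix (Fin n) (Fin n) F) := by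
  classical
  have hn0 : 0 < n := by omega
  set q := Fintype.card F with hq
  let v₀ : Fin n → F := Pi.single ⟨0, hn0⟩ 1
  have hv₀ : v₀ ≠ 0 := by
    intro h
    have h1 := congrFun h ⟨0, hn0⟩
    simp [v₀] at h1
  let e : K ≃ₗ[F] (Fin n → F) :=
    LinearEquiv.ofBijective (orbitMap' K v₀) (orbitMap'_bijective K hK v₀ hv₀)
  have he : ∀ κ : K, e κ = κ.val *ᵥ v₀ := fun κ => rfl
  let Φ := frobLin K hK hn0
  have hΦ : ∀ κ : K, (Φ κ).val = κ.val ^ q := fun κ => rfl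
  let Gl : (Fin n → F) →ₗ[F] (Fin n → F) := e.toLinearMap ∘ₗ Φ ∘ₗ e.symm.toLinearMap
  have hGl0 : ∀ κ ∈ K, Gl (κ *ᵥ v₀) = (κ ^ q) *ᵥ v₀ := by
    intro κ hκ
    show e (Φ (e.symm (κ *ᵥ v₀))) = _
    have h1 : e.symm (κ *ᵥ v₀) = ⟨κ, hκ⟩ := by
      rw [LinearEquiv.symm_apply_eq]
      rfl
    rw [h1]
    rfl
  have hGl : ∀ κ ∈ K, ∀ w, Gl (κ *ᵥ w) = (κ ^ q) *ᵥ Gl w := by
    intro κ hκ w
    obtain ⟨κ', hκ', rfl⟩ := exists_mulVec_eq K hK v₀ hv₀ w
    have hc : Commute κ κ' := hK.comm κ hκ κ' hκ'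
    rw [Matrix.mulVec_mulVec, hGl0 _ (K.mul_mem hκ hκ'), hGl0 _ hκ', Matrix.mulVec_mulVec,
      hc.mul_pow]
  have hGlpow : ∀ j : ℕ, ∀ κ ∈ K, (Gl ^ j) (κ *ᵥ v₀) = (κ ^ (q ^ j)) *ᵥ v₀ := by
    intro j
    induction j with
    | zero =>
      intro κ hκ
      simp
    | succ j ih =>
      intro κ hκ
      rw [pow_succ', Module.End.mul_apply, ih κ hκ, hGl0 _ (K.pow_mem hκ _), ← pow_mul,
        ← pow_succ]
  have hGln : Gl ^ n = 1 := by
    apply LinearMap.ext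
    intro w
    obtain ⟨κ, hκ, rfl⟩ := exists_mulVec_eq K hK v₀ hv₀ w
    rw [hGlpow n κ hκ, pow_card_pow_eq K hK hn0 κ hκ]
    rfl
  let A : Matrix (Fin n) (Fin n) F ≃ₐ[F] ((Fin n → F) →ₗ[F] (Fin n → F)) := Matrix.toLinAlgEquiv'
  let Gm : Matrix (Fin n) (Fin n) F := A.symm Gl
  have hAG : A Gm = Gl := A.apply_symm_apply Gl
  have hGmv : ∀ w, Gm *ᵥ w = Gl w := by
    intro w
    rw [← hAG]
    rfl
  have hGmn : Gm ^ n = 1 := by
    show (A.symm Gl) ^ n = 1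
    rw [← map_pow, hGln, map_one]
  let g : GL (Fin n) F := Units.ofPowEqOne Gm n hGmn (by omega)
  have hgval : (g : Matrix (Fin n) (Fin n) F) = Gm := rfl
  have hgn : g ^ n = 1 := Units.pow_ofPowEqOne hGmn (by omega)
  have hsemi : ∀ κ ∈ K, Gm * κ = κ ^ q * Gm := by
    intro κ hκ
    apply Matrix.toLin'.injective
    apply LinearMap.ext
    intro w
    rw [Matrix.toLin'_apply, Matrix.toLin'_apply, ← Matrix.mulVec_mulVec, ← Matrix.mulVec_mulVec,
      hGmv, hGmv, hGl κ hκ]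
  have hgg' : Gm * ((g⁻¹ : GL (Fin n) F) : Matrix (Fin n) (Fin n) F) = 1 := by
    rw [← hgval, ← Units.val_mul, mul_inv_cancel, Units.val_one]
  have hg'g : ((g⁻¹ : GL (Fin n) F) : Matrix (Fin n) (Fin n) F) * Gm = 1 := by
    rw [← hgval, ← Units.val_mul, inv_mul_cancel, Units.val_one]
  refine ⟨g, ?_, hsemi, hgn, ?_⟩
  · intro k
    constructor
    · intro hk
      rw [hgval, hsemi k hk, Matrix.mul_assoc, hgg', Matrix.mul_one]
      exact K.pow_mem hk _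
    · intro hk
      rw [hgval] at hk
      set κ₁ : Matrix (Fin n) (Fin n) F :=
        Gm * k * ((g⁻¹ : GL (Fin n) F) : Matrix (Fin n) (Fin n) F) with hκ₁
      have h1 : Gm * k = κ₁ * Gm := by
        rw [hκ₁, Matrix.mul_assoc, hg'g, Matrix.mul_one]
      have hκ₂ : κ₁ ^ (q ^ (n - 1)) ∈ K := K.pow_mem hk _
      have h2 : (κ₁ ^ (q ^ (n - 1))) ^ q = κ₁ := by
        rw [← pow_mul, ← pow_succ, Nat.sub_add_cancel (by omega), pow_card_pow_eq K hK hn0 κ₁ hk]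
      have h3 : Gm * κ₁ ^ (q ^ (n - 1)) = Gm * k := by
        rw [hsemi _ hκ₂, h2, h1]
      have h4 : κ₁ ^ (q ^ (n - 1)) = k := by
        have h5 := congrArg (fun M => ((g⁻¹ : GL (Fin n) F) : Matrix (Fin n) (Fin n) F) * M) h3
        simp only [← Matrix.mul_assoc, hg'g, Matrix.one_mul] at h5
        exact h5
      rw [← h4]
      exact hκ₂
  · obtain ⟨κ, hκ, hne⟩ := exists_pow_card_ne K hK hn0 hn
    refine ⟨κ, hκ, fun h => hne ?_⟩
    rw [hgval] at h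
    have h5 : κ ^ q * Gm = κ * Gm := by
      rw [← hsemi κ hκ]
      exact h
    have h6 := congrArg (fun M => M * ((g⁻¹ : GL (Fin n) F) : Matrix (Fin n) (Fin n) F)) h5
    simp only [Matrix.mul_assoc, hgg', Matrix.mul_one] at h6
    exact h6

end Cfsg.Agent.Lib.Helper44.Fld
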