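import Mathlib
import Cfsg.Prelude.Def_GeometricClasses
import Cfsg.Agent.Lib.Helper44.SLInvExt
import Cfsg.Agent.Lib.Helper44.SLInvNormB
import Cfsg.Agent.Lib.Helper44.CubB

/-!
# Generic conjugacy lemmas

* `det_of_eigenbasis`: determinant of a map diagonal in a basis.
* `det_of_idempotent`: `det (1 + (ρ - 1) E) = ρ ^ rank E` for an idempotent `E`.
* `exists_commuting_of_weights`: scaling the vectors of a basis by weights gives a matrix
  commuting with `xm` when `xm` preserves the weight spaces.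
* `exists_SL_conj_of_bases`: two `3 × 3` matrices with the same structure constants, of shape
  `1 ⊕ 2`, in two bases are conjugate under a matrix of determinant one.
-/

set_option autoImplicit false

namespace Cfsg.Agent.Lib.Helper44.Fld

open Module Matrix Cfsg.Agent.Lib.Helper44.SLInv

universe u v w

section dets

variable {F : Type v} [Field F] {V : Type u} [AddCommGroup V] [Module F V]

theorem det_of_eigenbasis {ι' : Type w} [Fintype ι'] [DecidableEq ι'] (b : Basis ι' F V)
    (f : V →ₗ[F] V) (lam : ι' → F) (h : ∀ j, f (b j) = lam j • b j) :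
    LinearMap.det f = ∏ j, lam j := by
  rw [← LinearMap.det_toMatrix b]
  have h1 : LinearMap.toMatrix b b f = Matrix.diagonal lam := by
    ext i j
    rw [LinearMap.toMatrix_apply, h, map_smul, Finsupp.smul_apply, Basis.repr_self_apply,
      Matrix.diagonal_apply, smul_eq_mul]
    by_cases hij : i = j
    · subst hij
      rw [if_pos rfl, if_pos rfl, mul_one]
    · rw [if_neg hij, if_neg (fun h => hij h.symm), mul_zero]
  rw [h1, Matrix.det_diagonal]

theorem det_of_idempotent [FiniteDimensional F V] (E : V →ₗ[F] V) (hE : E ∘ₗ E = E) (ρ : F) :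
    LinearMap.det (LinearMap.id + (ρ - 1) • E) = ρ ^ finrank F (LinearMap.range E) := by
  classical
  have hidem : IsIdempotentElem E := hE
  have hc : IsCompl (LinearMap.range E) (LinearMap.ker E) :=
    LinearMap.IsIdempotentElem.isCompl hidem
  let b₁ := Module.finBasis F (LinearMap.range E)
  let b₂ := Module.finBasis F (LinearMap.ker E)
  let e := Submodule.prodEquivOfIsCompl _ _ hc
  have he : ∀ p, e p = (p.1 : V) + (p.2 : V) := fun p => rfl
  let b := (b₁.prod b₂).map e
  have hbl : ∀ i, b (Sum.inl i) = ((b₁ i : LinearMap.range E) : V) := by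
    intro i
    show e ((b₁.prod b₂) (Sum.inl i)) = _
    rw [he]
    simp
  have hbr : ∀ i, b (Sum.inr i) = ((b₂ i : LinearMap.ker E) : V) := by
    intro i
    show e ((b₁.prod b₂) (Sum.inr i)) = _
    rw [he]
    simp
  have hEE : ∀ u, E (E u) = E u := fun u => LinearMap.congr_fun hE u
  have hf : ∀ j, ((LinearMap.id : V →ₗ[F] V) + (ρ - 1) • E) (b j) = (Sum.elim (fun _ => ρ) (fun _ => 1) j) • b j := by
    intro j
    rcases j with i | i
    · obtain ⟨u, hu⟩ := (b₁ i).2
      rw [hbl, LinearMap.add_apply, LinearMap.smul_apply, LinearMap.id_apply, ← hu, hEE,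
        Sum.elim_inl]
      module
    · have hk : E ((b₂ i : LinearMap.ker E) : V) = 0 := (b₂ i).2
      rw [hbr, LinearMap.add_apply, LinearMap.smul_apply, LinearMap.id_apply, hk, smul_zero,
        add_zero, Sum.elim_inr, one_smul]
  rw [det_of_eigenbasis b _ _ hf, Fintype.prod_sum_type]
  simp

end dets

section comm

variable {F : Type v} [Field F] {n : ℕ}

theorem exists_commuting_of_weights {ι' : Type w} [Fintype ι'] [DecidableEq ι']
    (b : Basis ι' F (Fin n → F)) (xm : Matrix (Fin n) (Fin n) F) (wt : ι' → F)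
    (hX : ∀ i j, wt i ≠ wt j → b.repr (xm *ᵥ b j) i = 0) :
    ∃ C : Matrix (Fin n) (Fin n) F, C * xm = xm * C ∧ C.det = ∏ j, wt j := by
  classical
  let Cl : (Fin n → F) →ₗ[F] (Fin n → F) := b.constr F (fun j => wt j • b j)
  have hCl : ∀ j, Cl (b j) = wt j • b j := fun j => b.constr_basis F _ j
  refine ⟨LinearMap.toMatrix' Cl, ?_, ?_⟩
  · apply Matrix.toLin'.injective
    rw [Matrix.toLin'_mul, Matrix.toLin'_mul, Matrix.toLin'_toMatrix']
    apply b.ext
    intro j
    show Cl (Matrix.toLin' xm (b j)) = Matrix.toLin' xm (Cl (b j))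
    rw [Matrix.toLin'_apply, Matrix.toLin'_apply, hCl, Matrix.mulVec_smul]
    obtain ⟨c, hc, hc0⟩ : ∃ c : ι' → F, xm *ᵥ b j = ∑ i, c i • b i ∧
        ∀ i, wt i ≠ wt j → c i = 0 :=
      ⟨fun i => b.repr (xm *ᵥ b j) i, (b.sum_repr _).symm, fun i hi => hX i j hi⟩
    rw [hc, map_sum, Finset.smul_sum]
    refine Finset.sum_congr rfl (fun i _ => ?_)
    rw [map_smul, hCl, smul_smul, smul_smul]
    by_cases hij : wt i = wt j
    · rw [hij, mul_comm]
    · rw [hc0 i hij, zero_mul, mul_zero]
  · rw [LinearMap.det_toMatrix']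
    exact det_of_eigenbasis b Cl wt hCl

end comm

section conj3

variable {F : Type v} [Field F]

theorem exists_SL_conj_of_bases (H : Subgroup (GL (Fin 3) F))
    (x : Matrix.SpecialLinearGroup (Fin 3) F) (g : GL (Fin 3) F) (hg : g ∈ H)
    (M₀ : Matrix (Fin 3) (Fin 3) F) (b b' : Basis (Fin 3) F (Fin 3 → F))
    (hx : ∀ i j, b.repr ((x : Matrix (Fin 3) (Fin 3) F) *ᵥ b j) i = M₀ i j)
    (hgM : ∀ i j, b'.repr ((g : Matrix (Fin 3) (Fin 3) F) *ᵥ b' j) i = M₀ i j)
    (h01 : M₀ 0 1 = 0) (h02 : M₀ 0 2 = 0) (h10 : M₀ 1 0 = 0) (h20 : M₀ 2 0 = 0) :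
    ∃ P : Matrix.SpecialLinearGroup (Fin 3) F, P⁻¹ * x * P ∈
      H.comap (Matrix.SpecialLinearGroup.toGL :
        Matrix.SpecialLinearGroup (Fin 3) F →* GL (Fin 3) F) := by
  classical
  set xm : Matrix (Fin 3) (Fin 3) F := (x : Matrix (Fin 3) (Fin 3) F) with hxm
  set gm : Matrix (Fin 3) (Fin 3) F := (g : Matrix (Fin 3) (Fin 3) F) with hgm
  let T : (Fin 3 → F) ≃ₗ[F] (Fin 3 → F) := b.equiv b' (Equiv.refl _)
  have hT : ∀ j, T (b j) = b' j := fun j => by
    show b.equiv b' (Equiv.refl _) (b j) = _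
    rw [Basis.equiv_apply]
    rfl
  have hTx : ∀ w, T (xm *ᵥ w) = gm *ᵥ T w := by
    have h1 : T.toLinearMap ∘ₗ Matrix.toLin' xm = Matrix.toLin' gm ∘ₗ T.toLinearMap := by
      apply b.ext
      intro j
      show T (Matrix.toLin' xm (b j)) = Matrix.toLin' gm (T (b j))
      rw [Matrix.toLin'_apply, Matrix.toLin'_apply, hT]
      have e1 : xm *ᵥ b j = ∑ i, M₀ i j • b i := by
        rw [← b.sum_repr (xm *ᵥ b j)]
        exact Finset.sum_congr rfl (fun i _ => by rw [hx])
      have e2 : gm *ᵥ b' j = ∑ i, M₀ i j • b' i := by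
        rw [← b'.sum_repr (gm *ᵥ b' j)]
        exact Finset.sum_congr rfl (fun i _ => by rw [hgM])
      rw [e1, e2, map_sum]
      exact Finset.sum_congr rfl (fun i _ => by rw [map_smul, hT])
    intro w
    have h2 := LinearMap.congr_fun h1 w
    change T (Matrix.toLin' xm w) = Matrix.toLin' gm (T w) at h2
    rwa [Matrix.toLin'_apply, Matrix.toLin'_apply] at h2
  let R : GL (Fin 3) F := glOfEquiv T
  have hconj := glOfEquiv_conj T xm gm hTx
  have hRmem : R * Matrix.SpecialLinearGroup.toGL x * R⁻¹ ∈ H := by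
    have h1 : R * Matrix.SpecialLinearGroup.toGL x * R⁻¹ = g := by
      apply Units.ext
      rw [val_conj_toGL]
      exact hconj
    rw [h1]
    exact hg
  have hRdet : (R : Matrix (Fin 3) (Fin 3) F).det ≠ 0 :=
    ((Matrix.isUnit_iff_isUnit_det _).1 ((Units.isUnit R))).ne_zero
  set δ : F := ((R : Matrix (Fin 3) (Fin 3) F).det)⁻¹ with hδ
  let wt : Fin 3 → F := fun j => if j = 0 then δ else 1
  have hwt : ∏ j, wt j = δ := by
    rw [Fin.prod_univ_three]
    simp [wt]
  obtain ⟨C, hCx, hCdet⟩ := exists_commuting_of_weights b xm wt (by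
    intro i j hij
    rw [hx]
    fin_cases i <;> fin_cases j <;> simp_all [wt])
  refine exists_SL_conj_of_commute H x R 1 hRmem H.one_mem C hCx ?_
  rw [hCdet, hwt, Units.val_one, Matrix.det_one, one_mul, hδ, mul_inv_cancel₀ hRdet]

end conj3

end Cfsg.Agent.Lib.Helper44.Fld
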