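import Mathlib
import Cfsg.Prelude.Def_GeometricClasses
import Cfsg.Agent.Lib.Helper44.FldD

/-!
# Canonical bases for `3 × 3` matrices with cube one

* `exists_basis_caseB`: no primitive cube root of unity in `F`: basis `e, w, y w`.
* `exists_basis_caseA`: with a primitive cube root of unity `ω`: an eigenbasis for `1, ω, ω²`,
  provided the three polynomials `α² + α y + y²` do not vanish.
-/

set_option autoImplicit false

namespace Cfsg.Agent.Lib.Helper44.Fld

open Module Matrix

universe v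

variable {F : Type v} [Field F]

theorem exists_mulVec_ne_zero {n : ℕ} (A : Matrix (Fin n) (Fin n) F) (hA : A ≠ 0) :
    ∃ u : Fin n → F, A *ᵥ u ≠ 0 := by
  by_contra hcon
  push Not at hcon
  apply hA
  apply Matrix.toLin'.injective
  apply LinearMap.ext
  intro u
  rw [Matrix.toLin'_apply, hcon u, map_zero]
  rfl

/-- the matrix of the canonical form when `F` has no primitive cube root of unity -/
def matB : Matrix (Fin 3) (Fin 3) F := !![1, 0, 0; 0, 0, -1; 0, 1, -1]

theorem exists_basis_caseB (h3 : (3 : F) ≠ 0) (hnoroot : ∀ lam : F, lam * lam + lam + 1 ≠ 0)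
    (y : Matrix (Fin 3) (Fin 3) F) (hy3 : y * y * y = 1) (hy1 : y ≠ 1)
    (hS : 1 + y + y * y ≠ 0) :
    ∃ b : Basis (Fin 3) F (Fin 3 → F), ∀ i j, b.repr (y *ᵥ b j) i = (matB : Matrix (Fin 3) (Fin 3) F) i j := by
  classical
  set S : Matrix (Fin 3) (Fin 3) F := 1 + y + y * y with hSdef
  have hyS : y * S = S := by
    rw [hSdef, Matrix.mul_add, Matrix.mul_add, Matrix.mul_one, ← Matrix.mul_assoc, hy3]
    abel
  have hSy : S * y = S := by
    rw [hSdef, Matrix.add_mul, Matrix.add_mul, Matrix.one_mul, hy3]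
    abel
  have hSy1 : S * (y - 1) = 0 := by
    rw [Matrix.mul_sub, hSy, Matrix.mul_one, sub_self]
  obtain ⟨u, hu⟩ := exists_mulVec_ne_zero S hS
  have hy1' : y - 1 ≠ 0 := fun h => hy1 (sub_eq_zero.1 h)
  obtain ⟨u', hu'⟩ := exists_mulVec_ne_zero (y - 1) hy1'
  set e : Fin 3 → F := S *ᵥ u with he
  set w : Fin 3 → F := (y - 1) *ᵥ u' with hw
  have hye : y *ᵥ e = e := by rw [he, Matrix.mulVec_mulVec, hyS]
  have hSw : S *ᵥ w = 0 := by rw [hw, Matrix.mulVec_mulVec, hSy1, Matrix.zero_mulVec]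
  have hSv : ∀ v, S *ᵥ v = v + y *ᵥ v + y *ᵥ (y *ᵥ v) := by
    intro v
    rw [hSdef, Matrix.add_mulVec, Matrix.add_mulVec, Matrix.one_mulVec, Matrix.mulVec_mulVec]
  have hSe : S *ᵥ e = (3 : F) • e := by
    rw [hSv, hye, hye]
    module
  have hSyw : S *ᵥ (y *ᵥ w) = 0 := by
    rw [Matrix.mulVec_mulVec, hSy, hSw]
  have hyyw : y *ᵥ (y *ᵥ w) = -w - y *ᵥ w := by
    have h := hSw
    rw [hSv] at h
    rw [eq_sub_iff_add_eq, eq_neg_iff_add_eq_zero, ← h]
    abel
  have hli : LinearIndependent F ![e, w, y *ᵥ w] := by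
    rw [Fintype.linearIndependent_iff]
    intro c hc
    rw [Fin.sum_univ_three] at hc
    simp only [Matrix.cons_val_zero, Matrix.cons_val_one, Matrix.cons_val_two,
      Matrix.head_cons, Matrix.tail_cons] at hc
    have hc0 : c 0 = 0 := by
      have h1 := congrArg (fun v => S *ᵥ v) hc
      simp only [Matrix.mulVec_add, Matrix.mulVec_smul, hSe, hSw, hSyw, smul_zero, add_zero,
        Matrix.mulVec_zero] at h1
      rw [smul_smul] at h1
      rcases smul_eq_zero.1 h1 with h2 | h2
      · exact (mul_eq_zero.1 h2).resolve_right h3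
      · exact absurd h2 hu
    rw [hc0, zero_smul, zero_add] at hc
    have hc2 : c 2 = 0 := by
      by_contra hne
      have h1 : y *ᵥ w = (-(c 1) / c 2) • w := by
        have h2 : c 2 • y *ᵥ w = -(c 1 • w) := by
          rw [eq_neg_iff_add_eq_zero, add_comm]
          exact hc
        have h4 : y *ᵥ w = (c 2)⁻¹ • (c 2 • y *ᵥ w) := by
          rw [smul_smul, inv_mul_cancel₀ hne, one_smul]
        rw [h4, h2, smul_neg, smul_smul, ← neg_smul]
        congr 1
        field_simp
      set lam : F := -(c 1) / c 2 with hlam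
      have h5 := hSw
      rw [hSv, h1, Matrix.mulVec_smul, h1, smul_smul] at h5
      have h6 : (lam * lam + lam + 1) • w = 0 := by
        rw [← h5]
        module
      rcases smul_eq_zero.1 h6 with h7 | h7
      · exact hnoroot lam h7
      · exact hu' h7
    rw [hc2, zero_smul, add_zero] at hc
    have hc1 : c 1 = 0 := (smul_eq_zero.1 hc).resolve_right hu'
    intro i
    fin_cases i
    · exact hc0
    · exact hc1
    · exact hc2
  let b := basisOfLinearIndependentOfCardEqFinrank hli (by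
    rw [Module.finrank_fin_fun, Fintype.card_fin])
  have hb : ⇑b = ![e, w, y *ᵥ w] := coe_basisOfLinearIndependentOfCardEqFinrank hli _
  have hb0 : b 0 = e := by rw [hb]; rfl
  have hb1 : b 1 = w := by rw [hb]; rfl
  have hb2 : b 2 = y *ᵥ w := by rw [hb]; rfl
  refine ⟨b, fun i j => ?_⟩
  fin_cases j
  · have e1 : y *ᵥ b 0 = b 0 := by rw [hb0, hye]
    show b.repr (y *ᵥ b 0) i = _
    rw [e1, Basis.repr_self_apply]
    fin_cases i <;> simp [matB]
  · have e1 : y *ᵥ b 1 = b 2 := by rw [hb1, hb2]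
    show b.repr (y *ᵥ b 1) i = _
    rw [e1, Basis.repr_self_apply]
    fin_cases i <;> simp [matB]
  · have e1 : y *ᵥ b 2 = -b 1 - b 2 := by rw [hb2, hb1, hyyw]
    show b.repr (y *ᵥ b 2) i = _
    rw [e1, map_sub, map_neg, Finsupp.sub_apply, Finsupp.neg_apply, Basis.repr_self_apply,
      Basis.repr_self_apply]
    fin_cases i <;> simp [matB]

section caseA

/-- facts on a primitive cube root of unity -/
theorem omega_facts (h3 : (3 : F) ≠ 0) (ω : F) (hω : ω * ω + ω + 1 = 0) :
    ω * ω * ω = 1 ∧ ω ≠ 1 ∧ ω * ω ≠ 1 ∧ ω * ω ≠ ω ∧ ω ≠ 0 := by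
  have h1 : ω * ω * ω = 1 := by linear_combination (ω - 1) * hω
  have h2 : ω ≠ 1 := by
    rintro rfl
    apply h3
    linear_combination hω
  have h0 : ω ≠ 0 := by
    rintro rfl
    simp at hω
  have h4 : ω * ω ≠ ω := by
    intro h
    have : ω * (ω - 1) = 0 := by linear_combination h
    rcases mul_eq_zero.1 this with h5 | h5
    · exact h0 h5
    · exact h2 (sub_eq_zero.1 h5)
  refine ⟨h1, h2, ?_, h4, h0⟩
  intro h
  apply h2
  have h5 : ω * ω * ω = ω := by rw [h, one_mul]
  rw [h1] at h5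
  exact h5.symm

/-- the (unnormalised) projector on the `α`-eigenspace -/
def projA (α : F) (y : Matrix (Fin 3) (Fin 3) F) : Matrix (Fin 3) (Fin 3) F :=
  (α * α) • (1 : Matrix (Fin 3) (Fin 3) F) + α • y + y * y

theorem mul_projA (α : F) (hα : α * α * α = 1) (y : Matrix (Fin 3) (Fin 3) F)
    (hy3 : y * y * y = 1) : y * projA α y = α • projA α y := by
  have e1 : y * projA α y = (α * α) • y + α • (y * y) + y * y * y := by
    rw [projA, Matrix.mul_add, Matrix.mul_add, Matrix.mul_smul, Matrix.mul_smul, Matrix.mul_one,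
      Matrix.mul_assoc]
  have e2 : α • projA α y = (α * α * α) • (1 : Matrix (Fin 3) (Fin 3) F) + (α * α) • y +
      α • (y * y) := by
    rw [projA, smul_add, smul_add, smul_smul, smul_smul]
    congr 3
    ring
  rw [e1, e2, hy3, hα, one_smul]
  abel

/-- the matrix of the canonical form when `F` has a primitive cube root of unity -/
def matA (ω : F) : Matrix (Fin 3) (Fin 3) F := Matrix.diagonal ![1, ω, ω * ω]

theorem exists_basis_caseA (h3 : (3 : F) ≠ 0) (ω : F) (hω : ω * ω + ω + 1 = 0)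
    (y : Matrix (Fin 3) (Fin 3) F) (hy3 : y * y * y = 1)
    (hP : ∀ α : F, α * α * α = 1 → projA α y ≠ 0) :
    ∃ b : Basis (Fin 3) F (Fin 3 → F), ∀ i j, b.repr (y *ᵥ b j) i = matA ω i j := by
  classical
  obtain ⟨hω3, hω1, hωω1, hωωω, hω0⟩ := omega_facts h3 ω hω
  let μ : Fin 3 → F := ![1, ω, ω * ω]
  have hμ3 : ∀ i, μ i * μ i * μ i = 1 := by
    intro i
    fin_cases i
    · show (1 : F) * 1 * 1 = 1
      ring
    · exact hω3
    · show ω * ω * (ω * ω) * (ω * ω) = 1
      have : ω * ω * (ω * ω) * (ω * ω) = (ω * ω * ω) * (ω * ω * ω) := by ring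
      rw [this, hω3, one_mul]
  have hμinj : Function.Injective μ := by
    intro i j hij
    fin_cases i <;> fin_cases j <;> first | rfl | (exfalso; revert hij; simp [μ]; try tauto)
  have hex : ∀ i, ∃ v : Fin 3 → F, v ≠ 0 ∧ y *ᵥ v = μ i • v := by
    intro i
    obtain ⟨u, hu⟩ := exists_mulVec_ne_zero _ (hP (μ i) (hμ3 i))
    refine ⟨projA (μ i) y *ᵥ u, hu, ?_⟩
    rw [Matrix.mulVec_mulVec, mul_projA (μ i) (hμ3 i) y hy3, Matrix.smul_mulVec]
  choose v hv0 hv using hex
  have hli : LinearIndependent F v := by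
    apply Module.End.eigenvectors_linearIndependent' (Matrix.toLin' y) μ hμinj v
    intro i
    refine ⟨?_, hv0 i⟩
    rw [Module.End.mem_eigenspace_iff, Matrix.toLin'_apply]
    exact hv i
  let b := basisOfLinearIndependentOfCardEqFinrank hli (by
    rw [Module.finrank_fin_fun, Fintype.card_fin])
  have hb : ⇑b = v := coe_basisOfLinearIndependentOfCardEqFinrank hli _
  refine ⟨b, fun i j => ?_⟩
  have e1 : y *ᵥ b j = μ j • b j := by rw [hb]; exact hv j
  rw [e1, map_smul, Finsupp.smul_apply, Basis.repr_self_apply, matA, Matrix.diagonal_apply,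
    smul_eq_mul]
  by_cases hij : i = j
  · subst hij
    rw [if_pos rfl, if_pos rfl, mul_one]
  · rw [if_neg hij, if_neg (fun h => hij h.symm), mul_zero]

end caseA

end Cfsg.Agent.Lib.Helper44.Fld
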