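import Mathlib
import Cfsg.Prelude.Def_GeometricClasses
import Cfsg.Agent.Lib.Helper44.FldD
import Cfsg.Agent.Lib.Helper44.FldE

/-!
# Nonvanishing of the three eigenprojectors

For a `3 × 3` matrix `y` with `y³ = 1` over a field containing a primitive cube root of unity:

* `projA_ne_zero_of_det`: if `det y = 1` and `y` is not scalar, the three eigenprojectors are
  nonzero.
* `projA_ne_zero_of_bound`: the same if all eigenspaces of `y` have dimension at most one.
-/

set_option autoImplicit false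

namespace Cfsg.Agent.Lib.Helper44.Fld

open Module Matrix

universe u v

variable {F : Type v} [Field F]

theorem finrank_le_one_of_forall {V : Type u} [AddCommGroup V] [Module F V]
    (W : Submodule F V) (h : ∀ v ∈ W, ∀ w ∈ W, v ≠ 0 → ∃ c : F, w = c • v) :
    finrank F W ≤ 1 := by
  by_cases hW : W = ⊥
  · rw [hW, finrank_bot]
    exact Nat.zero_le 1
  · obtain ⟨v, hv, hv0⟩ := (Submodule.ne_bot_iff W).1 hW
    refine finrank_le_one (⟨v, hv⟩ : W) (fun w => ?_)
    obtain ⟨c, hc⟩ := h v hv w.1 w.2 hv0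
    exact ⟨c, Subtype.ext hc.symm⟩

/-- the idempotent attached to a vanishing eigenprojector -/
theorem exists_idempotent_of_projA_eq_zero (h3 : (3 : F) ≠ 0) (ω : F) (hω : ω * ω + ω + 1 = 0)
    (α : F) (hα : α * α * α = 1) (y : Matrix (Fin 3) (Fin 3) F) (hP : projA α y = 0) :
    ∃ (β γ : F) (E : Matrix (Fin 3) (Fin 3) F), β * β * β = 1 ∧ β ≠ 0 ∧ γ = β * ω ∧
      E * E = E ∧ y = β • (1 + (ω - 1) • E) ∧ (y - γ • 1) * E = 0 ∧
      (∀ v, E *ᵥ v = 0 → y *ᵥ v = β • v) := by
  obtain ⟨hω3, hω1, hωω1, hωωω, hω0⟩ := omega_facts h3 ω hω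
  have hα0 : α ≠ 0 := by
    rintro rfl
    simp at hα
  set β : F := α * ω with hβ
  set γ : F := β * ω with hγ
  set d : F := γ - β with hd
  have hβ0 : β ≠ 0 := mul_ne_zero hα0 hω0
  have hd0 : d ≠ 0 := by
    have h1 : d = β * (ω - 1) := by rw [hd, hγ]; ring
    rw [h1]
    exact mul_ne_zero hβ0 (sub_ne_zero.2 hω1)
  have hsum : β + γ = -α := by
    rw [hγ, hβ]
    linear_combination α * hω
  have hprod : β * γ = α * α := by
    rw [hγ, hβ]
    linear_combination α * α * hω3
  have hq : ∀ s t : F, s + t = -α → s * t = α * α →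
      (y - s • (1 : Matrix (Fin 3) (Fin 3) F)) * (y - t • 1) = 0 := by
    intro s t hst hst'
    have e1 : (y - s • (1 : Matrix (Fin 3) (Fin 3) F)) * (y - t • 1) =
        (s * t) • (1 : Matrix (Fin 3) (Fin 3) F) - (s + t) • y + y * y := by
      simp only [sub_mul, mul_sub, Matrix.smul_mul, Matrix.mul_smul, Matrix.mul_one,
        Matrix.one_mul, smul_smul, add_smul]
      rw [mul_comm t s]
      abel
    rw [e1, hst, hst', neg_smul, sub_neg_eq_add]
    exact hP
  have hq1 := hq β γ hsum hprod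
  have hq2 := hq γ β (by rw [add_comm]; exact hsum) (by rw [mul_comm]; exact hprod)
  set Y : Matrix (Fin 3) (Fin 3) F := y - β • 1 with hY
  have hYY : Y * Y = d • Y := by
    have e1 : Y = (y - γ • 1) + d • (1 : Matrix (Fin 3) (Fin 3) F) := by
      rw [hY, hd, sub_smul]
      abel
    calc Y * Y = Y * ((y - γ • 1) + d • (1 : Matrix (Fin 3) (Fin 3) F)) := by rw [← e1]
      _ = d • Y := by
        rw [Matrix.mul_add, hq1, zero_add, Matrix.mul_smul, Matrix.mul_one]
  refine ⟨β, γ, d⁻¹ • Y, ?_, hβ0, rfl, ?_, ?_, ?_, ?_⟩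
  · rw [hβ]
    have : α * ω * (α * ω) * (α * ω) = (α * α * α) * (ω * ω * ω) := by ring
    rw [this, hα, hω3, one_mul]
  · rw [Matrix.smul_mul, Matrix.mul_smul, hYY, smul_smul, smul_smul]
    congr 1
    field_simp
  · have e1 : β * (ω - 1) = d := by rw [hd, hγ]; ring
    rw [smul_add, smul_smul, smul_smul, e1, mul_inv_cancel₀ hd0, one_smul, hY]
    abel
  · rw [Matrix.mul_smul, hY, hq2, smul_zero]
  · intro v hv
    rw [Matrix.smul_mulVec] at hv
    have h1 : Y *ᵥ v = 0 := by
      have h2 := congrArg (fun t => d • t) hv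
      simpa [smul_smul, mul_inv_cancel₀ hd0] using h2
    rw [hY, Matrix.sub_mulVec, Matrix.smul_mulVec, Matrix.one_mulVec] at h1
    exact sub_eq_zero.1 h1

theorem projA_ne_zero_of_det (h3 : (3 : F) ≠ 0) (ω : F) (hω : ω * ω + ω + 1 = 0)
    (y : Matrix (Fin 3) (Fin 3) F) (hdet : y.det = 1)
    (hns : ∀ c : F, y ≠ c • (1 : Matrix (Fin 3) (Fin 3) F))
    (α : F) (hα : α * α * α = 1) : projA α y ≠ 0 := by
  intro hP
  obtain ⟨hω3, hω1, hωω1, hωωω, hω0⟩ := omega_facts h3 ω hω
  obtain ⟨β, γ, E, hβ3, hβ0, hγ, hEE, hyE, -, -⟩ :=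
    exists_idempotent_of_projA_eq_zero h3 ω hω α hα y hP
  let El : (Fin 3 → F) →ₗ[F] (Fin 3 → F) := Matrix.toLin' E
  have hElEl : El ∘ₗ El = El := by
    show Matrix.toLin' E ∘ₗ Matrix.toLin' E = Matrix.toLin' E
    rw [← Matrix.toLin'_mul, hEE]
  have hdetE : (1 + (ω - 1) • E).det = ω ^ finrank F (LinearMap.range El) := by
    rw [← LinearMap.det_toLin', map_add, map_smul, Matrix.toLin'_one]
    exact det_of_idempotent El hElEl ω
  have hdet' : ω ^ finrank F (LinearMap.range El) = 1 := by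
    have h1 := hdet
    rw [hyE, Matrix.det_smul, Fintype.card_fin, hdetE] at h1
    have h2 : β ^ 3 = 1 := by rw [pow_succ, pow_two]; exact hβ3
    rwa [h2, one_mul] at h1
  have hle : finrank F (LinearMap.range El) ≤ 3 := by
    have h1 := Submodule.finrank_le (LinearMap.range El)
    rwa [Module.finrank_fin_fun] at h1
  have hcases : finrank F (LinearMap.range El) = 0 ∨ finrank F (LinearMap.range El) = 3 := by
    set r := finrank F (LinearMap.range El) with hr
    interval_cases r
    · exact Or.inl rfl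
    · exfalso
      rw [pow_one] at hdet'
      exact hω1 hdet'
    · exfalso
      rw [pow_two] at hdet'
      exact hωω1 hdet'
    · exact Or.inr rfl
  rcases hcases with h0 | h3'
  · have h1 : LinearMap.range El = ⊥ := Submodule.finrank_eq_zero.1 h0
    have h2 : El = 0 := LinearMap.range_eq_bot.1 h1
    have h4 : E = 0 := by
      apply Matrix.toLin'.injective
      rw [map_zero]
      exact h2
    apply hns β
    rw [hyE, h4, smul_zero, add_zero]
  · have h1 : LinearMap.range El = ⊤ := by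
      apply Submodule.eq_top_of_finrank_eq
      rw [h3', Module.finrank_fin_fun]
    have h2 : El = LinearMap.id := by
      apply LinearMap.ext
      intro v
      have hv : v ∈ LinearMap.range El := by rw [h1]; exact Submodule.mem_top
      obtain ⟨u, rfl⟩ := hv
      exact LinearMap.congr_fun hElEl u
    have h4 : E = 1 := by
      apply Matrix.toLin'.injective
      rw [Matrix.toLin'_one]
      exact h2
    apply hns (β * ω)
    rw [hyE, h4]
    have e2 : (1 : Matrix (Fin 3) (Fin 3) F) + (ω - 1) • (1 : Matrix (Fin 3) (Fin 3) F) =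
        ω • (1 : Matrix (Fin 3) (Fin 3) F) := by
      rw [sub_smul, one_smul]
      abel
    rw [e2, smul_smul]

theorem projA_ne_zero_of_bound (h3 : (3 : F) ≠ 0) (ω : F) (hω : ω * ω + ω + 1 = 0)
    (y : Matrix (Fin 3) (Fin 3) F)
    (hbound : ∀ (lam : F) (v w : Fin 3 → F), v ≠ 0 → y *ᵥ v = lam • v → y *ᵥ w = lam • w →
      ∃ c : F, w = c • v)
    (α : F) (hα : α * α * α = 1) : projA α y ≠ 0 := by
  intro hP
  obtain ⟨β, γ, E, hβ3, hβ0, hγ, hEE, hyE, hγE, hker⟩ :=
    exists_idempotent_of_projA_eq_zero h3 ω hω α hα y hP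
  let El : (Fin 3 → F) →ₗ[F] (Fin 3 → F) := Matrix.toLin' E
  have h1 : finrank F (LinearMap.range El) ≤ 1 := by
    apply finrank_le_one_of_forall
    rintro _ ⟨u, rfl⟩ _ ⟨u', rfl⟩ hv0
    have hev : ∀ t, y *ᵥ (El t) = γ • El t := by
      intro t
      have h2 : ((y - γ • 1) * E) *ᵥ t = 0 := by rw [hγE, Matrix.zero_mulVec]
      rw [← Matrix.mulVec_mulVec, Matrix.sub_mulVec, Matrix.smul_mulVec, Matrix.one_mulVec] at h2
      show y *ᵥ (Matrix.toLin' E t) = γ • Matrix.toLin' E t
      rw [Matrix.toLin'_apply]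
      exact sub_eq_zero.1 h2
    exact hbound γ _ _ hv0 (hev u) (hev u')
  have h2 : finrank F (LinearMap.ker El) ≤ 1 := by
    apply finrank_le_one_of_forall
    intro v hv w hw hv0
    have hv' : E *ᵥ v = 0 := by
      have := LinearMap.mem_ker.1 hv
      rwa [show El v = E *ᵥ v from Matrix.toLin'_apply E v] at this
    have hw' : E *ᵥ w = 0 := by
      have := LinearMap.mem_ker.1 hw
      rwa [show El w = E *ᵥ w from Matrix.toLin'_apply E w] at this
    exact hbound β v w hv0 (hker v hv') (hker w hw')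
  have h4 := LinearMap.finrank_range_add_finrank_ker El
  rw [Module.finrank_fin_fun] at h4
  omega

end Cfsg.Agent.Lib.Helper44.Fld
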