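import Mathlib
import Cfsg.Prelude.Def_GeometricClasses
import Cfsg.Agent.Lib.Helper2.BGFix
import Cfsg.Agent.Lib.Helper44.FldC
import Cfsg.Agent.Lib.Helper44.FldF

/-!
# Elements with scalar cube of `SL_3(q)` and the normaliser of a cubic field subalgebra

* `exists_conj_of_cube_one`: if `3 ≠ 0` in `F`, every nonscalar element of `SL_3(F)` with cube one
  is conjugate in `SL_3(F)` into the normaliser of a cubic field subalgebra.
* `not_conj_of_two_eigen`: a nonscalar element with a two-dimensional eigenspace is not.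
-/

set_option autoImplicit false

namespace Cfsg.Agent.Lib.Helper44.Fld

open Module Matrix Polynomial

universe v

theorem orderOf_two_zmod_three : orderOf (2 : ZMod 3) = 2 := by
  have e1 : (2 : ZMod 3) ^ 2 = 1 := by decide
  have e2 : (2 : ZMod 3) ≠ 1 := by decide
  exact orderOf_eq_prime e1 e2

variable {F : Type v} [Field F] [Fintype F]

/-- if `q ≡ 2` modulo `3`, a `3 × 3` matrix cannot satisfy `1 + y + y² = 0` -/
theorem one_add_add_sq_ne_zero {p : ℕ} [Fact p.Prime] [CharP F p]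
    (hq : Fintype.card F % 3 = 2) (h3 : (3 : F) ≠ 0)
    (y : Matrix (Fin 3) (Fin 3) F) (hy3 : y * y * y = 1) : 1 + y + y * y ≠ 0 := by
  intro hS
  have hp3 : (3 : ℕ) ≠ p := by
    rintro rfl
    apply h3
    have := CharP.cast_eq_zero F 3
    exact_mod_cast this
  have : Fact (Nat.Prime 3) := ⟨Nat.prime_three⟩
  let A : Matrix (Fin 3) (Fin 3) F ≃ₐ[F] ((Fin 3 → F) →ₗ[F] (Fin 3 → F)) := Matrix.toLinAlgEquiv'
  let f : Module.End F (Fin 3 → F) := A y
  have hy3' : y ^ 3 = 1 := by rw [pow_succ, pow_two]; exact hy3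
  have hf3 : f ^ 3 = 1 := by
    show (A y) ^ 3 = 1
    rw [← map_pow, hy3', map_one]
  have h3' : ((3 : ℕ) : F) ≠ 0 := by exact_mod_cast h3
  have hss : f.IsSemisimple :=
    Module.End.isSemisimple_of_squarefree_aeval_eq_zero
      (Cfsg.Agent.Lib.Helper2.BG.squarefree_X_pow_sub_one (r := 3) h3')
      (by rw [map_sub, map_pow, aeval_X, map_one, hf3, sub_self])
  have hd := Cfsg.Agent.Lib.Helper2.BG.allIrrDeg_cyclotomic (F := F) (p := p) (r := 3) hp3
  have hord : orderOf ((Fintype.card F : ℕ) : ZMod 3) = 2 := by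
    have h1 : ((Fintype.card F : ℕ) : ZMod 3) = 2 := by
      rw [← ZMod.natCast_mod, hq]
      rfl
    rw [h1]
    exact orderOf_two_zmod_three
  rw [hord] at hd
  have haeval : aeval f (cyclotomic 3 F) = 0 := by
    have h1 : aeval f (cyclotomic 3 F) = A (aeval y (cyclotomic 3 F)) := by
      show aeval (A y) (cyclotomic 3 F) = A (aeval y (cyclotomic 3 F))
      rw [Polynomial.aeval_algEquiv]
      rfl
    have h2 : aeval y (cyclotomic 3 F) = 0 := by
      rw [Polynomial.cyclotomic_three, map_add, map_add, map_pow, aeval_X, map_one, pow_two,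
        ← hS]
      abel
    rw [h1, h2, map_zero]
  have hdvd := Cfsg.Agent.Lib.Helper2.BG.dvd_finrank_of_inv hss (cyclotomic_ne_zero 3 F) hd 3
    (⊤ : Submodule F (Fin 3 → F)) (by rw [finrank_top, Module.finrank_fin_fun])
    (Cfsg.Agent.Lib.Helper2.BG.inv_top f) (fun v _ => by rw [haeval]; rfl)
  rw [finrank_top, Module.finrank_fin_fun] at hdvd
  omega

theorem exists_conj_of_cube_one {p : ℕ} [Fact p.Prime] [CharP F p]
    (K : Subalgebra F (Matrix (Fin 3) (Fin 3) F)) (hK : Cfsg.Geo.IsFieldSubalgebra 3 K)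
    (hcase : (∃ ω : F, ω * ω + ω + 1 = 0) ∨ Fintype.card F % 3 = 2) (h3 : (3 : F) ≠ 0)
    (x : Matrix.SpecialLinearGroup (Fin 3) F)
    (hx3 : (x : Matrix (Fin 3) (Fin 3) F) * (x : Matrix (Fin 3) (Fin 3) F) *
      (x : Matrix (Fin 3) (Fin 3) F) = 1)
    (hxns : ∀ c : F, (x : Matrix (Fin 3) (Fin 3) F) ≠ c • (1 : Matrix (Fin 3) (Fin 3) F)) :
    ∃ P : Matrix.SpecialLinearGroup (Fin 3) F, P⁻¹ * x * P ∈
      (Cfsg.Geo.subalgebraNormalizer K).comap
        (Matrix.SpecialLinearGroup.toGL :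
          Matrix.SpecialLinearGroup (Fin 3) F →* GL (Fin 3) F) := by
  classical
  obtain ⟨g, hgN, hgsemi, hg3, κ, hκ, hgκ⟩ := exists_galois K hK (by norm_num)
  set gm : Matrix (Fin 3) (Fin 3) F := (g : Matrix (Fin 3) (Fin 3) F) with hgm
  have hgm3 : gm * gm * gm = 1 := by
    have h1 : ((g ^ 3 : GL (Fin 3) F) : Matrix (Fin 3) (Fin 3) F) = 1 := by
      rw [hg3]
      rfl
    rwa [Units.val_pow_eq_pow_val, pow_succ, pow_two] at h1
  have hgns : ∀ c : F, gm ≠ c • (1 : Matrix (Fin 3) (Fin 3) F) := by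
    intro c hc
    apply hgκ
    rw [hc, Matrix.smul_mul, Matrix.mul_smul, Matrix.one_mul, Matrix.mul_one]
  rcases hcase with ⟨ω, hω⟩ | hq
  · have hbound := eigen_unique K hK Nat.prime_three g hgN hgns
    have hPg := projA_ne_zero_of_bound h3 ω hω gm
      (fun lam v w hv h1 h2 => hbound lam v w hv h1 h2)
    have hPx := projA_ne_zero_of_det h3 ω hω (x : Matrix (Fin 3) (Fin 3) F) x.det_coe hxns
    obtain ⟨b, hb⟩ := exists_basis_caseA h3 ω hω _ hx3 hPx
    obtain ⟨b', hb'⟩ := exists_basis_caseA h3 ω hω gm hgm3 hPg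
    exact exists_SL_conj_of_bases _ x g hgN (matA ω) b b' hb hb'
      (by simp [matA]) (by simp [matA]) (by simp [matA]) (by simp [matA])
  · have hnoroot : ∀ lam : F, lam * lam + lam + 1 ≠ 0 := by
      intro lam hlam
      have hl3 : lam ^ 3 = 1 := by linear_combination (lam - 1) * hlam
      have hl1 : lam ≠ 1 := by
        rintro rfl
        apply h3
        linear_combination hlam
      have hl0 : lam ≠ 0 := by
        rintro rfl
        simp at hlam
      have hord : orderOf lam = 3 := orderOf_eq_prime hl3 hl1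
      have h1 : lam ^ (Fintype.card F - 1) = 1 := FiniteField.pow_card_sub_one_eq_one lam hl0
      have h2 := orderOf_dvd_of_pow_eq_one h1
      rw [hord] at h2
      have hq1 : 1 < Fintype.card F := Fintype.one_lt_card
      omega
    have hx1 : (x : Matrix (Fin 3) (Fin 3) F) ≠ 1 := by
      intro h
      exact hxns 1 (by rw [h, one_smul])
    have hg1 : gm ≠ 1 := by
      intro h
      exact hgns 1 (by rw [h, one_smul])
    obtain ⟨b, hb⟩ := exists_basis_caseB h3 hnoroot _ hx3 hx1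
      (one_add_add_sq_ne_zero (p := p) hq h3 _ hx3)
    obtain ⟨b', hb'⟩ := exists_basis_caseB h3 hnoroot gm hgm3 hg1
      (one_add_add_sq_ne_zero (p := p) hq h3 _ hgm3)
    exact exists_SL_conj_of_bases _ x g hgN matB b b' hb hb'
      (by simp [matB]) (by simp [matB]) (by simp [matB]) (by simp [matB])

omit [Fintype F] in
/-- a nonscalar element with two independent eigenvectors for the same eigenvalue is not conjugate
into the normaliser of a cubic field subalgebra -/
theorem not_conj_of_two_eigen (K : Subalgebra F (Matrix (Fin 3) (Fin 3) F))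
    (hK : Cfsg.Geo.IsFieldSubalgebra 3 K) (x : Matrix.SpecialLinearGroup (Fin 3) F)
    (hxns : ∀ c : F, (x : Matrix (Fin 3) (Fin 3) F) ≠ c • (1 : Matrix (Fin 3) (Fin 3) F))
    (lam : F) (v w : Fin 3 → F) (hv : v ≠ 0)
    (hxv : (x : Matrix (Fin 3) (Fin 3) F) *ᵥ v = lam • v)
    (hxw : (x : Matrix (Fin 3) (Fin 3) F) *ᵥ w = lam • w) (hind : ∀ c : F, w ≠ c • v)
    (P : Matrix.SpecialLinearGroup (Fin 3) F) :
    P⁻¹ * x * P ∉ (Cfsg.Geo.subalgebraNormalizer K).comap
      (Matrix.SpecialLinearGroup.toGL :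
        Matrix.SpecialLinearGroup (Fin 3) F →* GL (Fin 3) F) := by
  intro hP
  rw [Subgroup.mem_comap] at hP
  set x' : Matrix (Fin 3) (Fin 3) F := (x : Matrix (Fin 3) (Fin 3) F) with hx'
  set Pm : Matrix (Fin 3) (Fin 3) F := (P : Matrix (Fin 3) (Fin 3) F) with hPm
  set Pi' : Matrix (Fin 3) (Fin 3) F :=
    ((P⁻¹ : Matrix.SpecialLinearGroup (Fin 3) F) : Matrix (Fin 3) (Fin 3) F) with hPi'
  have hPiP : Pi' * Pm = 1 := by
    have h : ((P⁻¹ * P : Matrix.SpecialLinearGroup (Fin 3) F) : Matrix (Fin 3) (Fin 3) F) = 1 := by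
      rw [inv_mul_cancel]
      rfl
    rwa [Matrix.SpecialLinearGroup.coe_mul] at h
  have hPP : Pm * Pi' = 1 := by
    have h : ((P * P⁻¹ : Matrix.SpecialLinearGroup (Fin 3) F) : Matrix (Fin 3) (Fin 3) F) = 1 := by
      rw [mul_inv_cancel]
      rfl
    rwa [Matrix.SpecialLinearGroup.coe_mul] at h
  set y : GL (Fin 3) F := Matrix.SpecialLinearGroup.toGL (P⁻¹ * x * P) with hy
  have hyval : (y : Matrix (Fin 3) (Fin 3) F) = Pi' * x' * Pm := by
    rw [hy, Matrix.SpecialLinearGroup.coe_GL_coe_matrix, Matrix.SpecialLinearGroup.coe_mul,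
      Matrix.SpecialLinearGroup.coe_mul]
  have hyns : ∀ c : F, (y : Matrix (Fin 3) (Fin 3) F) ≠ c • (1 : Matrix (Fin 3) (Fin 3) F) := by
    intro c hc
    apply hxns c
    rw [hyval] at hc
    calc x' = Pm * (Pi' * x' * Pm) * Pi' := by
          rw [← Matrix.mul_assoc, ← Matrix.mul_assoc, hPP, Matrix.one_mul, Matrix.mul_assoc, hPP,
            Matrix.mul_one]
      _ = c • 1 := by rw [hc, Matrix.mul_smul, Matrix.smul_mul, Matrix.mul_one, hPP]
  have hev : ∀ u : Fin 3 → F, x' *ᵥ u = lam • u →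
      (y : Matrix (Fin 3) (Fin 3) F) *ᵥ (Pi' *ᵥ u) = lam • (Pi' *ᵥ u) := by
    intro u hu
    rw [hyval, Matrix.mulVec_mulVec, Matrix.mul_assoc, Matrix.mul_assoc, hPP, Matrix.mul_one,
      ← Matrix.mulVec_mulVec, hu, Matrix.mulVec_smul]
  have hv' : Pi' *ᵥ v ≠ 0 := by
    intro h0
    apply hv
    have h1 : (Pm * Pi') *ᵥ v = 0 := by rw [← Matrix.mulVec_mulVec, h0, Matrix.mulVec_zero]
    rwa [hPP, Matrix.one_mulVec] at h1
  obtain ⟨c, hc⟩ := eigen_unique K hK Nat.prime_three y hP hyns lam _ _ hv' (hev v hxv) (hev w hxw)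
  apply hind c
  have h1 := congrArg (fun t => Pm *ᵥ t) hc
  simp only [Matrix.mulVec_mulVec, hPP, Matrix.one_mulVec, Matrix.mulVec_smul] at h1
  exact h1

end Cfsg.Agent.Lib.Helper44.Fld
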