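import Mathlib
import Cfsg.Prelude.Def_GeometricClasses
import Cfsg.Agent.Lib.Helper2.BGFix
import Cfsg.Agent.Lib.Helper38.SLCard
import Cfsg.Agent.Lib.Helper44.FldC
import Cfsg.Agent.Lib.Helper44.FldG

/-!
# Examples, the reduction to cube one, and the index of the Singer normaliser in `SL_3(q)`

* `exists_two_eigen_char_three`, `exists_two_eigen_of_nine_dvd`: elements of `SL_3(F)` with scalar
  cube and a two-dimensional eigenspace.
* `eq_one_of_cube_scalar`: for `q ≡ 4, 7, 8` modulo `9`, `x³ = z` in `SL_3(q)` forces `z = 1`.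
* `not_three_dvd_index`: for `q ≡ 2, 5` modulo `9` the index of the normaliser of a cubic field
  subalgebra in `SL_3(q)` is prime to three.
-/

set_option autoImplicit false

namespace Cfsg.Agent.Lib.Helper44.Fld

open Module Matrix

universe v

variable {F : Type v} [Field F]

section examples

theorem exists_two_eigen_char_three (h3 : (3 : F) = 0) :
    ∃ x : Matrix.SpecialLinearGroup (Fin 3) F,
      (x : Matrix (Fin 3) (Fin 3) F) * (x : Matrix (Fin 3) (Fin 3) F) *
        (x : Matrix (Fin 3) (Fin 3) F) = (1 : F) • (1 : Matrix (Fin 3) (Fin 3) F) ∧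
      (∀ c : F, (x : Matrix (Fin 3) (Fin 3) F) ≠ c • (1 : Matrix (Fin 3) (Fin 3) F)) ∧
      ∃ (lam : F) (v w : Fin 3 → F), v ≠ 0 ∧ (x : Matrix (Fin 3) (Fin 3) F) *ᵥ v = lam • v ∧
        (x : Matrix (Fin 3) (Fin 3) F) *ᵥ w = lam • w ∧ ∀ c : F, w ≠ c • v := by
  let x' : Matrix (Fin 3) (Fin 3) F := !![1, 1, 0; 0, 1, 0; 0, 0, 1]
  have hdet : x'.det = 1 := by
    simp [x', Matrix.det_fin_three]
  refine ⟨⟨x', hdet⟩, ?_, ?_, 1, ![1, 0, 0], ![0, 0, 1], ?_, ?_, ?_, ?_⟩
  · show x' * x' * x' = (1 : F) • (1 : Matrix (Fin 3) (Fin 3) F)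
    rw [one_smul]
    ext i j
    fin_cases i <;> fin_cases j <;> simp [x', Matrix.mul_apply, Fin.sum_univ_three]
    linear_combination h3
  · intro c hc
    have h1 := congrFun (congrFun hc 0) 1
    simp [x'] at h1
  · intro h
    have h1 := congrFun h 0
    simp at h1
  · show x' *ᵥ ![1, 0, 0] = (1 : F) • ![1, 0, 0]
    ext i
    fin_cases i <;> simp [x', Matrix.mulVec, dotProduct, Fin.sum_univ_three]
  · show x' *ᵥ ![0, 0, 1] = (1 : F) • ![0, 0, 1]
    ext i
    fin_cases i <;> simp [x', Matrix.mulVec, dotProduct, Fin.sum_univ_three]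
  · intro c hc
    have h1 := congrFun hc 2
    simp at h1

theorem exists_two_eigen_of_pow_nine (a : F) (ha9 : a ^ 9 = 1) (ha3 : a ^ 3 ≠ 1) :
    ∃ x : Matrix.SpecialLinearGroup (Fin 3) F,
      (x : Matrix (Fin 3) (Fin 3) F) * (x : Matrix (Fin 3) (Fin 3) F) *
        (x : Matrix (Fin 3) (Fin 3) F) = (a ^ 3) • (1 : Matrix (Fin 3) (Fin 3) F) ∧
      (∀ c : F, (x : Matrix (Fin 3) (Fin 3) F) ≠ c • (1 : Matrix (Fin 3) (Fin 3) F)) ∧
      ∃ (lam : F) (v w : Fin 3 → F), v ≠ 0 ∧ (x : Matrix (Fin 3) (Fin 3) F) *ᵥ v = lam • v ∧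
        (x : Matrix (Fin 3) (Fin 3) F) *ᵥ w = lam • w ∧ ∀ c : F, w ≠ c • v := by
  have ha0 : a ≠ 0 := by
    rintro rfl
    simp at ha9
  set a' : F := (a * a)⁻¹ with ha'
  have haa' : a * a * a' = 1 := by
    rw [ha']
    field_simp
  have ha'3 : a' * a' * a' = a ^ 3 := by
    have h1 : (a * a) * (a * a) * (a * a) * (a' * a' * a') = 1 := by
      have : (a * a) * (a * a) * (a * a) * (a' * a' * a') = (a * a * a') ^ 3 := by ring
      rw [this, haa', one_pow]
    have h2 : (a * a) * (a * a) * (a * a) * a ^ 3 = 1 := by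
      have : (a * a) * (a * a) * (a * a) * a ^ 3 = a ^ 9 := by ring
      rw [this, ha9]
    have h3 : (a * a) * (a * a) * (a * a) ≠ 0 := by positivity
    exact mul_left_cancel₀ h3 (h1.trans h2.symm)
  let x' : Matrix (Fin 3) (Fin 3) F := !![a, 0, 0; 0, a, 0; 0, 0, a']
  have hdet : x'.det = 1 := by
    simp [x', Matrix.det_fin_three]
    linear_combination haa'
  refine ⟨⟨x', hdet⟩, ?_, ?_, a, ![1, 0, 0], ![0, 1, 0], ?_, ?_, ?_, ?_⟩
  · show x' * x' * x' = (a ^ 3) • (1 : Matrix (Fin 3) (Fin 3) F)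
    ext i j
    fin_cases i <;> fin_cases j <;>
      simp [x', Matrix.mul_apply, Fin.sum_univ_three]
    · ring
    · ring
    · rw [← ha'3]
  · intro c hc
    have h1 := congrFun (congrFun hc 0) 0
    have h2 := congrFun (congrFun hc 2) 2
    simp [x'] at h1 h2
    apply ha3
    have h4 : a * a * a = 1 := by
      have : a' = a := by rw [h2, h1]
      rw [this] at haa'
      exact haa'
    rw [pow_succ, pow_two]
    exact h4
  · intro h
    have h1 := congrFun h 0
    simp at h1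
  · show x' *ᵥ ![1, 0, 0] = a • ![1, 0, 0]
    ext i
    fin_cases i <;> simp [x', Matrix.mulVec, dotProduct, Fin.sum_univ_three]
  · show x' *ᵥ ![0, 1, 0] = a • ![0, 1, 0]
    ext i
    fin_cases i <;> simp [x', Matrix.mulVec, dotProduct, Fin.sum_univ_three]
  · intro c hc
    have h1 := congrFun hc 1
    simp at h1

end examples

section reduction

variable [Fintype F]

theorem gcd_three_card_sub_one (hq : Fintype.card F % 3 = 2) :
    Nat.gcd 3 (Fintype.card F - 1) = 1 := by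
  have hq1 : 1 < Fintype.card F := Fintype.one_lt_card
  have h1 : ¬ 3 ∣ Fintype.card F - 1 := by omega
  exact (Nat.Prime.coprime_iff_not_dvd Nat.prime_three).2 h1

theorem gcd_nine_card_sub_one (hq : Fintype.card F % 9 = 4 ∨ Fintype.card F % 9 = 7) :
    Nat.gcd 9 (Fintype.card F - 1) = 3 := by
  have hq1 : 1 < Fintype.card F := Fintype.one_lt_card
  rw [Nat.gcd_rec]
  rcases hq with h | h
  · have : (Fintype.card F - 1) % 9 = 3 := by omega
    rw [this]
    rfl
  · have : (Fintype.card F - 1) % 9 = 6 := by omega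
    rw [this]
    rfl

/-- in `SL_3(q)` with `q ≡ 4, 7, 8` modulo `9`, a scalar cube is one -/
theorem eq_one_of_cube_scalar
    (hq : Fintype.card F % 9 = 4 ∨ Fintype.card F % 9 = 7 ∨ Fintype.card F % 9 = 8)
    (x : Matrix.SpecialLinearGroup (Fin 3) F) (z : F)
    (hx3 : (x : Matrix (Fin 3) (Fin 3) F) * (x : Matrix (Fin 3) (Fin 3) F) *
      (x : Matrix (Fin 3) (Fin 3) F) = z • (1 : Matrix (Fin 3) (Fin 3) F)) : z = 1 := by
  set x' : Matrix (Fin 3) (Fin 3) F := (x : Matrix (Fin 3) (Fin 3) F) with hx'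
  have hdet : x'.det = 1 := x.det_coe
  have hz3 : z ^ 3 = 1 := by
    have h1 := congrArg Matrix.det hx3
    rw [Matrix.det_mul, Matrix.det_mul, hdet, Matrix.det_smul, Matrix.det_one, Fintype.card_fin,
      mul_one, mul_one, mul_one] at h1
    exact h1.symm
  have hz0 : z ≠ 0 := by
    rintro rfl
    simp at hz3
  have hzq : z ^ (Fintype.card F - 1) = 1 := FiniteField.pow_card_sub_one_eq_one z hz0
  by_cases h8 : Fintype.card F % 9 = 8
  · have hg := gcd_three_card_sub_one (F := F) (by omega)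
    have h1 : z ^ (Nat.gcd 3 (Fintype.card F - 1)) = 1 := pow_gcd_eq_one.2 ⟨hz3, hzq⟩
    rwa [hg, pow_one] at h1
  · have hq' : Fintype.card F % 9 = 4 ∨ Fintype.card F % 9 = 7 := by omega
    by_contra hz1
    have hnc : ∀ b : F, b ^ 3 ≠ z := by
      intro b hb
      have hb0 : b ≠ 0 := by
        rintro rfl
        apply hz0
        rw [← hb]
        simp
      have hb9 : b ^ 9 = 1 := by
        have : b ^ 9 = (b ^ 3) ^ 3 := by ring
        rw [this, hb, hz3]
      have hbq : b ^ (Fintype.card F - 1) = 1 := FiniteField.pow_card_sub_one_eq_one b hb0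
      have h1 : b ^ (Nat.gcd 9 (Fintype.card F - 1)) = 1 := pow_gcd_eq_one.2 ⟨hb9, hbq⟩
      rw [gcd_nine_card_sub_one hq'] at h1
      exact hz1 (by rw [← hb, h1])
    have : Fact (Nat.Prime 3) := ⟨Nat.prime_three⟩
    let A : Matrix (Fin 3) (Fin 3) F ≃ₐ[F] ((Fin 3 → F) →ₗ[F] (Fin 3 → F)) :=
      Matrix.toLinAlgEquiv'
    let f : Module.End F (Fin 3 → F) := A x'
    have hf : f ^ 3 = algebraMap F _ z := by
      show (A x') ^ 3 = _
      rw [← map_pow, pow_succ, pow_two, hx3, Algebra.algebraMap_eq_smul_one, map_smul, map_one]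
    obtain ⟨d, hd1, hd2⟩ := Cfsg.Agent.Lib.Helper2.BG.det_of_pow_eq (r := 3) z hnc f hf
    rw [Module.finrank_fin_fun] at hd1
    have hd : d = 1 := by omega
    have hdetf : LinearMap.det f = 1 := by
      show LinearMap.det (Matrix.toLin' x') = 1
      rw [LinearMap.det_toLin', hdet]
    rw [hdetf, hd, pow_one] at hd2
    apply hz1
    rw [hd2]
    norm_num

end reduction

section index

variable [Fintype F]

theorem not_nine_dvd_card_GL (hq : Fintype.card F % 9 = 2 ∨ Fintype.card F % 9 = 5) :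
    ¬ 9 ∣ Nat.card (GL (Fin 3) F) := by
  intro hdvd
  rw [Matrix.card_GL_field, Fin.prod_univ_three] at hdvd
  have h1 := (ZMod.natCast_eq_zero_iff _ 9).2 hdvd
  set q := Fintype.card F with hqdef
  have hq1 : 1 < q := Fintype.one_lt_card
  have hle0 : q ^ ((0 : Fin 3) : ℕ) ≤ q ^ 3 := Nat.pow_le_pow_right (by omega) (by simp)
  have hle1 : q ^ ((1 : Fin 3) : ℕ) ≤ q ^ 3 := Nat.pow_le_pow_right (by omega) (by simp)
  have hle2 : q ^ ((2 : Fin 3) : ℕ) ≤ q ^ 3 := Nat.pow_le_pow_right (by omega) (by simp)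
  rw [Nat.cast_mul, Nat.cast_mul, Nat.cast_sub hle0, Nat.cast_sub hle1, Nat.cast_sub hle2] at h1
  simp only [Nat.cast_pow] at h1
  rcases hq with h | h
  · have h2 : ((q : ℕ) : ZMod 9) = 2 := by
      rw [← ZMod.natCast_mod, h]
      rfl
    rw [h2] at h1
    revert h1
    decide
  · have h2 : ((q : ℕ) : ZMod 9) = 5 := by
      rw [← ZMod.natCast_mod, h]
      rfl
    rw [h2] at h1
    revert h1
    decide

theorem not_three_dvd_index (K : Subalgebra F (Matrix (Fin 3) (Fin 3) F))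
    (hK : Cfsg.Geo.IsFieldSubalgebra 3 K)
    (hq : Fintype.card F % 9 = 2 ∨ Fintype.card F % 9 = 5) :
    ¬ 3 ∣ ((Cfsg.Geo.subalgebraNormalizer K).comap
      (Matrix.SpecialLinearGroup.toGL :
        Matrix.SpecialLinearGroup (Fin 3) F →* GL (Fin 3) F)).index := by
  classical
  intro hidx
  obtain ⟨g, hgN, hgsemi, hg3, κ, hκ, hgκ⟩ := exists_galois K hK (by norm_num)
  set gm : Matrix (Fin 3) (Fin 3) F := (g : Matrix (Fin 3) (Fin 3) F) with hgm
  have hgm3 : gm ^ 3 = 1 := by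
    have h1 : ((g ^ 3 : GL (Fin 3) F) : Matrix (Fin 3) (Fin 3) F) = 1 := by
      rw [hg3]
      rfl
    rwa [Units.val_pow_eq_pow_val] at h1
  have hdet3 : gm.det ^ 3 = 1 := by
    rw [← Matrix.det_pow, hgm3, Matrix.det_one]
  have hdet0 : gm.det ≠ 0 := by
    intro h
    rw [h] at hdet3
    simp at hdet3
  have hdetq : gm.det ^ (Fintype.card F - 1) = 1 :=
    FiniteField.pow_card_sub_one_eq_one _ hdet0
  have hdet1 : gm.det = 1 := by
    have h1 : gm.det ^ (Nat.gcd 3 (Fintype.card F - 1)) = 1 := pow_gcd_eq_one.2 ⟨hdet3, hdetq⟩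
    rwa [gcd_three_card_sub_one (F := F) (by omega), pow_one] at h1
  let g' : Matrix.SpecialLinearGroup (Fin 3) F := ⟨gm, hdet1⟩
  have hg'GL : Matrix.SpecialLinearGroup.toGL g' = g := by
    apply Units.ext
    rw [Matrix.SpecialLinearGroup.coe_GL_coe_matrix]
  set H := (Cfsg.Geo.subalgebraNormalizer K).comap
      (Matrix.SpecialLinearGroup.toGL :
        Matrix.SpecialLinearGroup (Fin 3) F →* GL (Fin 3) F) with hH
  have hg'H : g' ∈ H := by
    rw [hH, Subgroup.mem_comap, hg'GL]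
    exact hgN
  have hg'3 : g' ^ 3 = 1 := by
    apply Subtype.ext
    rw [Matrix.SpecialLinearGroup.coe_pow]
    exact hgm3
  have hg'1 : g' ≠ 1 := by
    intro h
    apply hgκ
    have h1 : gm = 1 := congrArg Subtype.val h
    rw [h1, Matrix.one_mul, Matrix.mul_one]
  have hord : orderOf (⟨g', hg'H⟩ : H) = 3 := by
    apply orderOf_eq_prime
    · apply Subtype.ext
      rw [SubmonoidClass.coe_pow]
      exact hg'3
    · intro h
      exact hg'1 (congrArg Subtype.val h)
  have h3H : 3 ∣ Nat.card H := by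
    have h1 := orderOf_dvd_natCard (⟨g', hg'H⟩ : H)
    rwa [hord] at h1
  have h9 : 9 ∣ Nat.card (Matrix.SpecialLinearGroup (Fin 3) F) := by
    rw [← Subgroup.card_mul_index H]
    exact Nat.mul_dvd_mul h3H hidx
  have h9' : 9 ∣ Nat.card (GL (Fin 3) F) := by
    rw [← Cfsg.Agent.Lib.Helper38.card_SL_mul 3 (by norm_num)]
    exact Dvd.dvd.mul_right h9 _
  exact not_nine_dvd_card_GL hq h9'

end index

section arith

variable [Fintype F]

theorem three_dvd_card_iff {p : ℕ} [hp : Fact p.Prime] [CharP F p] :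
    (3 : F) = 0 ↔ Fintype.card F % 3 = 0 := by
  obtain ⟨k, -, hk⟩ := FiniteField.card F p
  constructor
  · intro h
    have h1 : ((3 : ℕ) : F) = 0 := by exact_mod_cast h
    have h2 : p ∣ 3 := (CharP.cast_eq_zero_iff F p 3).1 h1
    have h3 : p = 3 := (Nat.prime_dvd_prime_iff_eq hp.out Nat.prime_three).1 h2
    rw [hk, h3]
    have hk0 : (k : ℕ) ≠ 0 := k.ne_zero
    exact Nat.mod_eq_zero_of_dvd (dvd_pow_self 3 hk0)
  · intro h
    have h1 : 3 ∣ p ^ (k : ℕ) := by
      rw [← hk]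
      exact Nat.dvd_of_mod_eq_zero h
    have h2 : 3 ∣ p := Nat.Prime.dvd_of_dvd_pow Nat.prime_three h1
    have h3 : 3 = p := (Nat.prime_dvd_prime_iff_eq Nat.prime_three hp.out).1 h2
    have h4 := CharP.cast_eq_zero F p
    rw [← h3] at h4
    exact_mod_cast h4

theorem exists_omega (hq : Fintype.card F % 3 = 1) :
    ∃ ω : F, ω * ω + ω + 1 = 0 := by
  classical
  have : Fact (Nat.Prime 3) := ⟨Nat.prime_three⟩
  have hq1 : 1 < Fintype.card F := Fintype.one_lt_card
  have hcard : Fintype.card Fˣ = Fintype.card F - 1 := Fintype.card_units F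
  have hdvd : 3 ∣ Fintype.card Fˣ := by
    rw [hcard]
    omega
  obtain ⟨u, hu⟩ := exists_prime_orderOf_dvd_card 3 hdvd
  have hu3 : u ^ 3 = 1 := by
    rw [← hu]
    exact pow_orderOf_eq_one u
  have hu1 : u ≠ 1 := by
    intro h
    rw [h, orderOf_one] at hu
    omega
  refine ⟨(u : F), ?_⟩
  have h3' : (u : F) ^ 3 = 1 := by
    have := congrArg Units.val hu3
    simpa using this
  have h1' : (u : F) ≠ 1 := by
    intro h
    exact hu1 (Units.ext h)
  have h4 : ((u : F) - 1) * ((u : F) * (u : F) + (u : F) + 1) = 0 := by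
    linear_combination h3'
  rcases mul_eq_zero.1 h4 with h5 | h5
  · exact absurd (sub_eq_zero.1 h5) h1'
  · exact h5

theorem exists_pow_nine (hq : Fintype.card F % 9 = 1) : ∃ a : F, a ^ 9 = 1 ∧ a ^ 3 ≠ 1 := by
  classical
  have hq1 : 1 < Fintype.card F := Fintype.one_lt_card
  obtain ⟨ζ, hζ⟩ := IsCyclic.exists_generator (α := Fˣ)
  have hord : orderOf ζ = Fintype.card F - 1 := by
    rw [orderOf_eq_card_of_forall_mem_zpowers hζ, Nat.card_eq_fintype_card, Fintype.card_units]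
  obtain ⟨t, ht⟩ : ∃ t, Fintype.card F - 1 = 9 * t := ⟨(Fintype.card F - 1) / 9, by omega⟩
  have ht0 : 0 < t := by omega
  refine ⟨((ζ ^ t : Fˣ) : F), ?_, ?_⟩
  · have h1 : (ζ ^ t) ^ 9 = 1 := by
      rw [← pow_mul, mul_comm, ← ht, ← hord]
      exact pow_orderOf_eq_one ζ
    have := congrArg Units.val h1
    simpa using this
  · intro h
    have h1 : (ζ ^ t) ^ 3 = 1 := by
      apply Units.ext
      simpa using h
    rw [← pow_mul] at h1
    have h2 := orderOf_dvd_of_pow_eq_one h1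
    rw [hord, ht] at h2
    have h3 := Nat.le_of_dvd (by omega) h2
    omega

end arith

end Cfsg.Agent.Lib.Helper44.Fld
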