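import Mathlib
import Cfsg.Agent.Lib.Helper47.G42Defs

/-! # G42 hive (helper47, S2553): leaf G42-F58 `seven_dvd_of_trans_five`.
A transitive group of degree 8 containing a 5-cycle is primitive (a nontrivial block through a fixed point of the
5-cycle `g` is `g`-invariant, so consists of fixed points of `g`; two such disjoint blocks do not fit into the
3 fixed points), hence 2-transitive by Jordan's theorem (Mathlib), hence of order divisible by 56. -/

set_option autoImplicit false

namespace Cfsg.Agent.Lib.Helper47.G42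

open Equiv MulAction
open scoped Pointwise

/-- aux: a block of size `≤ 4` containing a fixed point of the 5-cycle `g ∈ H` consists of fixed points of `g`. -/
theorem f58_block_fixed (H : Subgroup (Perm (Fin 8))) (g : Perm (Fin 8)) (hg : g ∈ H) (hc : g.IsCycle)
    (h5 : g.support.card = 5) (B : Set (Fin 8)) (hB : IsBlock H B) (hB4 : B.ncard ≤ 4)
    (c : Fin 8) (hcB : c ∈ B) (hgc : g c = c) : B ⊆ ((g.support : Set (Fin 8)))ᶜ := by
  intro x hxB
  by_contra hx
  have hx' : g x ≠ x := by
    simpa [Perm.mem_support] using hx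
  set γ : H := ⟨g, hg⟩ with hγ
  have hγc : γ • c = c := hgc
  have hstab : γ • B = B := hB.smul_eq_of_mem hcB (by rw [hγc]; exact hcB)
  have hmem : γ ∈ stabilizer H B := hstab
  have hpow : ∀ i : ℕ, (γ ^ i) • B = B := fun i => (stabilizer H B).pow_mem hmem i
  have hsub : (g.support : Set (Fin 8)) ⊆ B := by
    intro y hy
    have hy' : g y ≠ y := by simpa [Perm.mem_support] using hy
    obtain ⟨i, hi⟩ := hc.exists_pow_eq hx' hy'
    have : (γ ^ i) • x ∈ (γ ^ i) • B := Set.smul_mem_smul_set hxB
    rw [hpow i] at this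
    have e : (γ ^ i) • x = y := by
      rw [← hi]
      rfl
    rwa [e] at this
  have h1 : (g.support : Set (Fin 8)).ncard ≤ B.ncard := Set.ncard_le_ncard hsub
  rw [Set.ncard_coe_finset, h5] at h1
  omega

/-- aux: a transitive group of degree 8 containing a 5-cycle is primitive. -/
theorem f58_prim (H : Subgroup (Perm (Fin 8)))
    (htr : ∀ x y : Fin 8, ∃ h ∈ H, h x = y) (g : Perm (Fin 8)) (hg : g ∈ H) (hc : g.IsCycle)
    (h5 : g.support.card = 5) : IsPreprimitive H (Fin 8) := by
  haveI hpt : IsPretransitive H (Fin 8) :=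
    ⟨fun x y => by
      obtain ⟨h, hh, hxy⟩ := htr x y
      exact ⟨⟨h, hh⟩, hxy⟩⟩
  refine { toIsPretransitive := hpt, isTrivialBlock_of_isBlock := ?_ }
  intro B hB
  by_contra hnt
  unfold IsTrivialBlock at hnt
  push Not at hnt
  obtain ⟨hns, hnu⟩ := hnt
  -- size of `B`
  have hB2 : 2 ≤ B.ncard := Set.one_lt_ncard_iff_nontrivial.2 hns
  have hB4 : B.ncard ≤ 4 := by
    by_contra h
    apply hnu
    apply hB.eq_univ_of_card_lt
    rw [Nat.card_eq_fintype_card, Fintype.card_fin]
    omega
  have hBne : B.Nonempty := by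
    rw [← Set.ncard_pos]
    omega
  have hdvd : B.ncard ∣ 8 := by
    have := hB.ncard_dvd_card hBne
    rwa [Nat.card_eq_fintype_card, Fintype.card_fin] at this
  obtain ⟨b0, hb0⟩ := hBne
  -- the fixed point set
  set F : Set (Fin 8) := ((g.support : Set (Fin 8)))ᶜ with hF
  have hFcard : F.ncard = 3 := by
    have := Set.ncard_add_ncard_compl (g.support : Set (Fin 8))
    rw [Set.ncard_coe_finset, h5, Nat.card_eq_fintype_card, Fintype.card_fin] at this
    rw [← hF] at this
    omega
  have hFfix : ∀ x ∈ F, g x = x := by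
    intro x hx
    simpa [hF, Perm.mem_support] using hx
  -- translates through a fixed point lie in `F`
  have htrans : ∀ p ∈ F, ∃ h : H, p ∈ h • B ∧ h • B ⊆ F := by
    intro p hp
    obtain ⟨h, hh⟩ := exists_smul_eq H b0 p
    refine ⟨h, ?_, ?_⟩
    · rw [← hh]
      exact Set.smul_mem_smul_set hb0
    · apply f58_block_fixed H g hg hc h5 (h • B) (hB.translate h)
        (by rw [Set.ncard_smul_set]; exact hB4) p
      · rw [← hh]
        exact Set.smul_mem_smul_set hb0
      · exact hFfix p hp
  have hFne : F.Nonempty := by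
    rw [← Set.ncard_pos]
    omega
  obtain ⟨c, hcF⟩ := hFne
  obtain ⟨h₁, hc1, hsub1⟩ := htrans c hcF
  have hn1 : (h₁ • B).ncard = B.ncard := Set.ncard_smul_set _ _
  have hle1 : (h₁ • B).ncard ≤ F.ncard := Set.ncard_le_ncard hsub1
  have hBcard : B.ncard = 2 := by
    rw [hn1, hFcard] at hle1
    have h3 : B.ncard ≠ 3 := by
      intro h
      rw [h] at hdvd
      norm_num at hdvd
    omega
  have hlt : (h₁ • B).ncard < F.ncard := by rw [hn1, hBcard, hFcard]; norm_num
  obtain ⟨b, hbF, hb1⟩ := Set.exists_mem_notMem_of_ncard_lt_ncard hlt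
  obtain ⟨h₂, hb2, hsub2⟩ := htrans b hbF
  have hne : h₁ • B ≠ h₂ • B := by
    intro h
    apply hb1
    rw [h]
    exact hb2
  have hdisj : Disjoint (h₁ • B) (h₂ • B) := hB hne
  have hun : ((h₁ • B) ∪ (h₂ • B)).ncard = (h₁ • B).ncard + (h₂ • B).ncard := Set.ncard_union_eq hdisj
  have hsubU : (h₁ • B) ∪ (h₂ • B) ⊆ F := Set.union_subset hsub1 hsub2
  have hleU := Set.ncard_le_ncard hsubU
  rw [hun, Set.ncard_smul_set, Set.ncard_smul_set, hBcard, hFcard] at hleU
  omega

/-- LEAF G42-F58. -/
theorem seven_dvd_of_trans_five (H : Subgroup (Perm (Fin 8)))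
    (htr : ∀ x y : Fin 8, ∃ h ∈ H, h x = y) (g : Perm (Fin 8)) (hg : g ∈ H) (hc : g.IsCycle)
    (h5 : g.support.card = 5) : 7 ∣ Nat.card H := by
  have hprim := f58_prim H htr g hg hc h5
  haveI := hprim.toIsPretransitive
  have hsc : Set.ncard ((g.support : Set (Fin 8))ᶜ) = 2 + 1 := by
    have := Set.ncard_add_ncard_compl (g.support : Set (Fin 8))
    rw [Set.ncard_coe_finset, h5, Nat.card_eq_fintype_card, Fintype.card_fin] at this
    omega
  have h2 : IsMultiplyPretransitive H (Fin 8) 2 :=
    hprim.is_two_pretransitive hsc (by rw [Nat.card_eq_fintype_card, Fintype.card_fin]; norm_num)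
      (Equiv.Perm.isPretransitive_of_isCycle_mem hc hg)
  have hs : ({0, 1} : Set (Fin 8)).ncard = 2 := Set.ncard_pair (by decide)
  have hidx := h2.index_of_fixingSubgroup_mul hs
  rw [Nat.card_eq_fintype_card, Fintype.card_fin] at hidx
  have h6 : (8 - 2).factorial = 720 := by decide
  have h8 : (8 : ℕ).factorial = 40320 := by decide
  rw [h6, h8] at hidx
  have h56 : (fixingSubgroup H ({0, 1} : Set (Fin 8))).index = 56 := by omega
  have hd := Subgroup.index_dvd_card (fixingSubgroup H ({0, 1} : Set (Fin 8)))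
  rw [h56] at hd
  exact (by norm_num : 7 ∣ 56).trans hd

end Cfsg.Agent.Lib.Helper47.G42
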