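import Mathlib

/-!
# Splitting of a conjugacy class under a normal subgroup with abelian quotient

`S` embeds in `G` as the kernel of a surjection `δ : G → D` onto a commutative group.  If the
elements of `S` with property `P` form one `G`-class (of `a₀`) and the `δ`-values of the
centralizer of `a₀` form the subgroup `E`, then these elements form `|D / E|` classes of `S`.
-/

set_option autoImplicit false

namespace Cfsg.Agent.Lib.Helper44

theorem card_classes_of_twisted {G S D : Type*} [Group G] [Group S] [CommGroup D]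
    (ι : S →* G) (hι : Function.Injective ι) (δ : G →* D) (hδ : Function.Surjective δ)
    (hker : ∀ g : G, δ g = 1 ↔ ∃ s : S, ι s = g)
    (P : S → Prop) (a₀ : S)
    (hconj : ∀ a : S, P a → ∃ g : G, g * ι a₀ * g⁻¹ = ι a)
    (hinv : ∀ (b : S) (g : G), g * ι a₀ * g⁻¹ = ι b → P b)
    (E : Subgroup D)
    (hE₁ : ∀ g : G, g * ι a₀ = ι a₀ * g → δ g ∈ E)
    (hE₂ : ∀ e ∈ E, ∃ z : G, z * ι a₀ = ι a₀ * z ∧ δ z = e) :
    Nat.card {C : ConjClasses S // ∃ a : S, ConjClasses.mk a = C ∧ P a} = Nat.card (D ⧸ E) := by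
  classical
  have hδι : ∀ s : S, δ (ι s) = 1 := fun s => (hker _).2 ⟨s, rfl⟩
  have htw : ∀ g : G, ∃ s : S, ι s = g * ι a₀ * g⁻¹ := by
    intro g
    apply (hker _).1
    rw [map_mul, map_mul, hδι, mul_one, map_inv, mul_inv_cancel]
  choose tw htw' using htw
  choose gd hgd using hδ
  have hPtw : ∀ g : G, P (tw g) := fun g => hinv (tw g) g (htw' g).symm
  symm
  refine Nat.card_congr (Equiv.ofBijective
    (fun x : D ⧸ E => (⟨ConjClasses.mk (tw (gd (Quotient.out x))),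
      tw (gd (Quotient.out x)), rfl, hPtw _⟩ :
      {C : ConjClasses S // ∃ a : S, ConjClasses.mk a = C ∧ P a})) ⟨?_, ?_⟩)
  · intro x y hxy
    have h1 : ConjClasses.mk (tw (gd (Quotient.out x))) = ConjClasses.mk (tw (gd (Quotient.out y))) :=
      congrArg Subtype.val hxy
    rw [ConjClasses.mk_eq_mk_iff_isConj, isConj_iff] at h1
    obtain ⟨s, hs⟩ := h1
    set g := gd (Quotient.out x) with hg
    set g' := gd (Quotient.out y) with hg'
    have h2 : ι s * (g * ι a₀ * g⁻¹) * (ι s)⁻¹ = g' * ι a₀ * g'⁻¹ := by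
      rw [← htw', ← htw', ← map_inv, ← map_mul, ← map_mul, hs]
    have h3 : (g'⁻¹ * ι s * g) * ι a₀ = ι a₀ * (g'⁻¹ * ι s * g) := by
      have : g'⁻¹ * (ι s * (g * ι a₀ * g⁻¹) * (ι s)⁻¹) * (ι s * g) =
          g'⁻¹ * (g' * ι a₀ * g'⁻¹) * (ι s * g) := by rw [h2]
      calc (g'⁻¹ * ι s * g) * ι a₀
          = g'⁻¹ * (ι s * (g * ι a₀ * g⁻¹) * (ι s)⁻¹) * (ι s * g) := by group
        _ = g'⁻¹ * (g' * ι a₀ * g'⁻¹) * (ι s * g) := this
        _ = ι a₀ * (g'⁻¹ * ι s * g) := by group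
    have h4 := hE₁ _ h3
    rw [map_mul, map_mul, map_inv, hδι, mul_one, hgd, hgd] at h4
    have h5 : ((Quotient.out y : D) : D ⧸ E) = ((Quotient.out x : D) : D ⧸ E) :=
      QuotientGroup.eq.2 h4
    have hx : ((Quotient.out x : D) : D ⧸ E) = x := Quotient.out_eq' x
    have hy : ((Quotient.out y : D) : D ⧸ E) = y := Quotient.out_eq' y
    rw [hx, hy] at h5
    exact h5.symm
  · rintro ⟨C, a, rfl, hPa⟩
    obtain ⟨g, hg⟩ := hconj a hPa
    refine ⟨((δ g : D) : D ⧸ E), ?_⟩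
    apply Subtype.ext
    show ConjClasses.mk (tw (gd (Quotient.out ((δ g : D) : D ⧸ E)))) = ConjClasses.mk a
    set d := Quotient.out ((δ g : D) : D ⧸ E) with hd
    set g' := gd d with hg'
    have hd' : ((d : D) : D ⧸ E) = ((δ g : D) : D ⧸ E) := Quotient.out_eq' _
    have h1 : d⁻¹ * δ g ∈ E := QuotientGroup.eq.1 hd'
    obtain ⟨z, hz, hδz⟩ := hE₂ _ h1
    have h2 : δ (g * z⁻¹ * g'⁻¹) = 1 := by
      rw [map_mul, map_mul, map_inv, map_inv, hδz, hgd]
      rw [mul_inv_rev, inv_inv]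
      group
    obtain ⟨s, hs⟩ := (hker _).1 h2
    rw [ConjClasses.mk_eq_mk_iff_isConj, isConj_iff]
    refine ⟨s, ?_⟩
    apply hι
    rw [map_mul, map_mul, map_inv, hs, htw', ← hg]
    have hz' : z⁻¹ * ι a₀ * z = ι a₀ := by
      rw [mul_assoc, ← hz, ← mul_assoc, inv_mul_cancel, one_mul]
    calc g * z⁻¹ * g'⁻¹ * (g' * ι a₀ * g'⁻¹) * (g * z⁻¹ * g'⁻¹)⁻¹
        = g * (z⁻¹ * ι a₀ * z) * g⁻¹ := by group
      _ = g * ι a₀ * g⁻¹ := by rw [hz']

end Cfsg.Agent.Lib.Helper44
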