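import Mathlib
import Cfsg.Agent.Lib.Helper44.SURegUnip
import Cfsg.Agent.Lib.Helper44.TwistedClasses

/-!
# The regular unipotent elements of `SU_n(q)` form `gcd(n, q + 1)` classes
-/

set_option autoImplicit false

namespace Cfsg.Agent.Lib.Helper44.SUReg

open Matrix Module Cfsg.Agent.Lib.Helper43 Cfsg.Agent.Lib.Helper44.GUFA

variable {K : Type*} [Field K] [Fintype K] {q n : ℕ}

/-- the inclusion of `SU` in `GU` -/
def suToGU (K : Type*) [Field K] (n q : ℕ) : ↥(Cfsg.SU n K q) →* ↥(Cfsg.GU n K q) :=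
  ((Matrix.SpecialLinearGroup.toGL).comp (Cfsg.SU n K q).subtype).codRestrict (Cfsg.GU n K q)
    (fun u => u.2)

omit [Fintype K] in
theorem suToGU_val (u : ↥(Cfsg.SU n K q)) :
    ((suToGU K n q u : GL (Fin n) K) : Matrix (Fin n) (Fin n) K) =
      ((u : GL (Fin n) K) : Matrix (Fin n) (Fin n) K) := rfl

omit [Fintype K] in
theorem suToGU_injective : Function.Injective (suToGU K n q) := by
  intro u v h
  apply Subtype.ext
  apply Subtype.ext
  have := congrArg (fun g : ↥(Cfsg.GU n K q) => ((g : GL (Fin n) K) : Matrix (Fin n) (Fin n) K)) h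
  exact this

/-- the determinant on `GU` -/
def detGU (hK : Fintype.card K = q ^ 2) (n : ℕ) : ↥(Cfsg.GU n K q) →* ↥(Helper13.normOne K q) :=
  ((Matrix.GeneralLinearGroup.det).comp (Cfsg.GU n K q).subtype).codRestrict (Helper13.normOne K q)
    (fun g => by
      rw [Helper13.mem_normOne]
      apply Units.ext
      have := Helper13.GU_det_pow hK n g.1 g.2
      simpa using this)

theorem detGU_val (hK : Fintype.card K = q ^ 2) (g : ↥(Cfsg.GU n K q)) :
    (((detGU hK n g : ↥(Helper13.normOne K q)) : Kˣ) : K) =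
      ((g : GL (Fin n) K) : Matrix (Fin n) (Fin n) K).det := rfl

theorem gu_unitary (hK : Fintype.card K = q ^ 2) (g : ↥(Cfsg.GU n K q)) :
    dag q ((g : GL (Fin n) K) : Matrix (Fin n) (Fin n) K) *
      ((g : GL (Fin n) K) : Matrix (Fin n) (Fin n) K) = 1 :=
  (crit_iff_dag _).1 ((isHermIso_iff_crit hK _).1 ((Helper5.mem_GU_iff _).1 g.2))

/-- a unitary matrix as an element of `GU` -/
noncomputable def mkGUm (hK : Fintype.card K = q ^ 2) (g : Matrix (Fin n) (Fin n) K)
    (hg : dag q g * g = 1) : ↥(Cfsg.GU n K q) :=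
  Helper5.mkGU hK g ((isHermIso_iff_crit hK g).2 ((crit_iff_dag g).2 hg))

theorem mkGUm_val (hK : Fintype.card K = q ^ 2) (g : Matrix (Fin n) (Fin n) K)
    (hg : dag q g * g = 1) :
    ((mkGUm hK g hg : GL (Fin n) K) : Matrix (Fin n) (Fin n) K) = g := rfl

/-- a unitary matrix of determinant one as an element of `SU` -/
def mkSUm (hK : Fintype.card K = q ^ 2) (A : Matrix (Fin n) (Fin n) K)
    (hA : dag q A * A = 1) (hdet : A.det = 1) : ↥(Cfsg.SU n K q) :=
  ⟨⟨A, hdet⟩, (isHermIso_iff_crit hK A).2 ((crit_iff_dag A).2 hA)⟩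

theorem mkSUm_val (hK : Fintype.card K = q ^ 2) (A : Matrix (Fin n) (Fin n) K)
    (hA : dag q A * A = 1) (hdet : A.det = 1) :
    ((mkSUm hK A hA hdet : GL (Fin n) K) : Matrix (Fin n) (Fin n) K) = A := rfl

omit [Fintype K] in
theorem det_eq_one_of_nilpotent (A : Matrix (Fin n) (Fin n) K) (h : IsNilpotent (A - 1)) :
    A.det = 1 := by
  have h1 : Matrix.toLin' A = (1 : K) • (1 : (Fin n → K) →ₗ[K] (Fin n → K)) +
      Matrix.toLin' (A - 1) := by
    rw [map_sub, Matrix.toLin'_one, one_smul]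
    show _ = LinearMap.id + _
    abel
  have h2 : IsNilpotent (Matrix.toLin' (A - 1)) := by
    obtain ⟨k, hk⟩ := h
    refine ⟨k, ?_⟩
    rw [← Matrix.toLin'_pow, hk, map_zero]
  rw [← LinearMap.det_toLin', h1, det_smul_one_add_nilpotent n
    (by rw [Module.finrank_fintype_fun_eq_card, Fintype.card_fin]) 1 _ h2, one_pow]

omit [Fintype K] in
theorem gu_ext {g h : ↥(Cfsg.GU n K q)}
    (hgh : ((g : GL (Fin n) K) : Matrix (Fin n) (Fin n) K) =
      ((h : GL (Fin n) K) : Matrix (Fin n) (Fin n) K)) : g = h :=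
  Subtype.ext (Units.ext hgh)

theorem detGU_ker (hK : Fintype.card K = q ^ 2) (g : ↥(Cfsg.GU n K q)) :
    detGU hK n g = 1 ↔ ∃ s : ↥(Cfsg.SU n K q), suToGU K n q s = g := by
  constructor
  · intro h
    have hdet : ((g : GL (Fin n) K) : Matrix (Fin n) (Fin n) K).det = 1 := by
      rw [← detGU_val hK, h]
      rfl
    refine ⟨mkSUm hK _ (gu_unitary hK g) hdet, ?_⟩
    apply gu_ext
    rfl
  · rintro ⟨s, rfl⟩
    apply Subtype.ext
    apply Units.ext
    rw [detGU_val, suToGU_val]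
    exact s.1.2

theorem detGU_surjective (hK : Fintype.card K = q ^ 2) (hn : 1 ≤ n) :
    Function.Surjective (detGU hK n) := by
  classical
  intro d
  have hd : ((d : Kˣ) : K) ^ (q + 1) = 1 := by
    have := (Helper13.mem_normOne q d.1).1 d.2
    have := congrArg Units.val this
    simpa using this
  refine ⟨Helper13.diagGU n q (Function.update (fun _ => (1 : K)) (⟨0, hn⟩ : Fin n) ((d : Kˣ) : K))
    ?_, ?_⟩
  · intro i
    by_cases hi : i = ⟨0, hn⟩
    · subst hi
      rw [Function.update_self]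
      exact hd
    · rw [Function.update_of_ne hi, one_pow]
  · apply Subtype.ext
    apply Units.ext
    rw [detGU_val, Helper13.diagGU_val, Matrix.det_diagonal,
      Finset.prod_update_of_mem (Finset.mem_univ _)]
    simp

theorem card_regular_classes_eq_quot (hK : Fintype.card K = q ^ 2) (hn : 1 ≤ n) :
    Nat.card {C : ConjClasses ↥(Cfsg.SU n K q) // ∃ u : ↥(Cfsg.SU n K q), ConjClasses.mk u = C ∧
      (((u : GL (Fin n) K) : Matrix (Fin n) (Fin n) K) - 1) ^ n = 0 ∧
      (((u : GL (Fin n) K) : Matrix (Fin n) (Fin n) K) - 1).rank = n - 1} =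
    Nat.card (↥(Helper13.normOne K q) ⧸
      (powMonoidHom n : ↥(Helper13.normOne K q) →* ↥(Helper13.normOne K q)).range) := by
  obtain ⟨A₀, hA₀, hreg₀⟩ := exists_regular_unipotent (K := K) hK hn
  set a₀ := mkSUm hK A₀ hA₀ (det_eq_one_of_nilpotent A₀ ⟨n, hreg₀.nil⟩) with ha₀
  refine card_classes_of_twisted (suToGU K n q) suToGU_injective (detGU hK n)
    (detGU_surjective hK hn) (detGU_ker hK)
    (fun u => (((u : GL (Fin n) K) : Matrix (Fin n) (Fin n) K) - 1) ^ n = 0 ∧
      (((u : GL (Fin n) K) : Matrix (Fin n) (Fin n) K) - 1).rank = n - 1) a₀ ?_ ?_ _ ?_ ?_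
  · -- all regular unipotent elements are conjugate under `GU`
    rintro a ⟨h1, h2⟩
    have hregA : IsRegNilp (((a : GL (Fin n) K) : Matrix (Fin n) (Fin n) K) - 1) n :=
      ⟨Fintype.card_fin n, hn, h1, h2⟩
    have hAu : dag q ((a : GL (Fin n) K) : Matrix (Fin n) (Fin n) K) *
        ((a : GL (Fin n) K) : Matrix (Fin n) (Fin n) K) = 1 := gu_unitary hK (suToGU K n q a)
    obtain ⟨g, hg, hgA⟩ := regular_conj hK A₀ _ hA₀ hAu hreg₀ hregA
    refine ⟨mkGUm hK g hg, ?_⟩
    rw [mul_inv_eq_iff_eq_mul]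
    apply gu_ext
    exact hgA
  · -- invariance
    intro b g hgb
    have h1 := congrArg (fun x : ↥(Cfsg.GU n K q) =>
      ((x : GL (Fin n) K) : Matrix (Fin n) (Fin n) K)) hgb
    have h2 : ((b : GL (Fin n) K) : Matrix (Fin n) (Fin n) K) =
        ((g : GL (Fin n) K) : Matrix (Fin n) (Fin n) K) * A₀ *
          (((g⁻¹ : ↥(Cfsg.GU n K q)) : GL (Fin n) K) : Matrix (Fin n) (Fin n) K) := h1.symm
    have hPP' : ((g : GL (Fin n) K) : Matrix (Fin n) (Fin n) K) *
        (((g⁻¹ : ↥(Cfsg.GU n K q)) : GL (Fin n) K) : Matrix (Fin n) (Fin n) K) = 1 := by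
      have := congrArg (fun x : ↥(Cfsg.GU n K q) =>
        ((x : GL (Fin n) K) : Matrix (Fin n) (Fin n) K)) (mul_inv_cancel g)
      exact this
    have h3 : ((b : GL (Fin n) K) : Matrix (Fin n) (Fin n) K) - 1 =
        ((g : GL (Fin n) K) : Matrix (Fin n) (Fin n) K) * (A₀ - 1) *
          (((g⁻¹ : ↥(Cfsg.GU n K q)) : GL (Fin n) K) : Matrix (Fin n) (Fin n) K) := by
      rw [mul_sub, sub_mul, mul_one, hPP', h2]
    have h4 := hreg₀.conj _ _ hPP'
    rw [← h3] at h4
    exact ⟨h4.nil, h4.rank⟩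
  · -- determinants of the centralizer
    intro g hg
    have h1 := congrArg (fun x : ↥(Cfsg.GU n K q) =>
      ((x : GL (Fin n) K) : Matrix (Fin n) (Fin n) K)) hg
    have h2 : ((g : GL (Fin n) K) : Matrix (Fin n) (Fin n) K) * A₀ =
        A₀ * ((g : GL (Fin n) K) : Matrix (Fin n) (Fin n) K) := h1
    obtain ⟨c, hc, hdet⟩ := det_centralizer hK A₀ _ hreg₀ (gu_unitary hK g) h2
    have hc0 : c ≠ 0 := by
      rintro rfl
      rw [zero_pow (by omega)] at hc
      exact zero_ne_one hc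
    refine ⟨⟨Units.mk0 c hc0, ?_⟩, ?_⟩
    · rw [Helper13.mem_normOne]
      apply Units.ext
      simpa using hc
    · apply Subtype.ext
      apply Units.ext
      rw [detGU_val, hdet]
      simp
  · -- scalars
    rintro e ⟨c, rfl⟩
    have hc : ((c : Kˣ) : K) ^ (q + 1) = 1 := by
      have := (Helper13.mem_normOne q c.1).1 c.2
      have := congrArg Units.val this
      simpa using this
    refine ⟨Helper13.diagGU n q (fun _ => ((c : Kˣ) : K)) (fun _ => hc), ?_, ?_⟩
    · apply gu_ext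
      show Matrix.diagonal (fun _ => ((c : Kˣ) : K)) * A₀ = A₀ * Matrix.diagonal (fun _ => ((c : Kˣ) : K))
      rw [← Matrix.smul_one_eq_diagonal, Matrix.smul_mul, Matrix.mul_smul, one_mul, mul_one]
    · apply Subtype.ext
      apply Units.ext
      rw [detGU_val, Helper13.diagGU_val, Matrix.det_diagonal, Finset.prod_const, Finset.card_univ,
        Fintype.card_fin]
      simp

/-- the regular unipotent elements of `SU_n(q)` form `gcd(n, q + 1)` conjugacy classes -/
theorem card_regular_classes (hK : Fintype.card K = q ^ 2) (hn : 1 ≤ n) :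
    Nat.card {C : ConjClasses ↥(Cfsg.SU n K q) // ∃ u : ↥(Cfsg.SU n K q), ConjClasses.mk u = C ∧
      (((u : GL (Fin n) K) : Matrix (Fin n) (Fin n) K) - 1) ^ n = 0 ∧
      (((u : GL (Fin n) K) : Matrix (Fin n) (Fin n) K) - 1).rank = n - 1} = Nat.gcd n (q + 1) := by
  rw [card_regular_classes_eq_quot hK hn, ← Subgroup.index_eq_card,
    IsCyclic.index_powMonoidHom_range, Helper13.card_normOne hK, Nat.gcd_comm]

end Cfsg.Agent.Lib.Helper44.SUReg
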