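import Mathlib
import Cfsg.Agent.Lib.Helper44.HermUnipotent
import Cfsg.Agent.Lib.Helper44.SURegCount

/-!
# Unipotent classes of `GU_n(q)` and the classes of elements of order `p`
-/

set_option autoImplicit false

namespace Cfsg.Agent.Lib.Helper44.GUUnip

open Module Matrix Cfsg.Agent.Lib.Helper43 Cfsg.Agent.Lib.Helper99 Cfsg.Agent.Lib.Helper44.SUReg
  Cfsg.Agent.Lib.Helper44.HU

variable {K : Type*} [Field K] [Fintype K] {q n : ℕ}

omit [Fintype K] in
theorem toLin_sub_one (A : Matrix (Fin n) (Fin n) K) :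
    Matrix.toLin' A - 1 = Matrix.toLin' (A - 1) := by
  rw [map_sub, Matrix.toLin'_one]
  rfl

/-- unipotent unitary matrices with the same kernel dimensions are conjugate under a unitary
matrix -/
theorem unipotent_conj (hK : Fintype.card K = q ^ 2) (A A' : Matrix (Fin n) (Fin n) K)
    (hA : dag q A * A = 1) (hA' : dag q A' * A' = 1) (hnil : IsNilpotent (A - 1))
    (hnil' : IsNilpotent (A' - 1))
    (hdk : ∀ k, dker (Matrix.toLin' (A - 1)) k = dker (Matrix.toLin' (A' - 1)) k) :
    ∃ g : Matrix (Fin n) (Fin n) K, dag q g * g = 1 ∧ g * A = A' * g := by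
  have hs := isHermSpace_std (q := q) hK n
  have hnilT : IsNilpotent (Matrix.toLin' A - 1) := by
    rw [toLin_sub_one]
    obtain ⟨k, hk⟩ := hnil
    exact ⟨k, by rw [← Matrix.toLin'_pow, hk, map_zero]⟩
  have hnilT' : IsNilpotent (Matrix.toLin' A' - 1) := by
    rw [toLin_sub_one]
    obtain ⟨k, hk⟩ := hnil'
    exact ⟨k, by rw [← Matrix.toLin'_pow, hk, map_zero]⟩
  obtain ⟨Φ, hΦ, hΦT⟩ := unipotent_iso hK n (Fin n → K) (Fin n → K) (Cfsg.hermForm n K q)
    (Cfsg.hermForm n K q) hs hs (Matrix.toLin' A) (Matrix.toLin' A')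
    (fun x y => by
      rw [Matrix.toLin'_apply, Matrix.toLin'_apply]; exact unitary_isometry hK A hA x y)
    (fun x y => by
      rw [Matrix.toLin'_apply, Matrix.toLin'_apply]; exact unitary_isometry hK A' hA' x y)
    hnilT hnilT'
    (by rw [Module.finrank_fintype_fun_eq_card, Fintype.card_fin])
    (by
      intro k
      rw [toLin_sub_one, toLin_sub_one]
      exact hdk k)
  refine ⟨LinearMap.toMatrix' (Φ : (Fin n → K) →ₗ[K] (Fin n → K)), ?_, ?_⟩
  · rw [← crit_iff_dag, ← GUFA.isHermIso_iff_crit hK]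
    intro u w
    rw [LinearMap.toMatrix'_mulVec, LinearMap.toMatrix'_mulVec]
    exact hΦ u w
  · apply Matrix.toLin'.injective
    rw [Matrix.toLin'_mul, Matrix.toLin'_mul, Matrix.toLin'_toMatrix']
    apply LinearMap.ext
    intro x
    exact hΦT x

omit [Fintype K] in
/-- kernel dimensions are invariant under conjugation -/
theorem dker_conj_matrix (A A' g g' : Matrix (Fin n) (Fin n) K) (hgg' : g * g' = 1)
    (hgA : g * A = A' * g) (k : ℕ) :
    dker (Matrix.toLin' (A' - 1)) k = dker (Matrix.toLin' (A - 1)) k := by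
  have hg'g : g' * g = 1 := mul_eq_one_comm.mp hgg'
  let G : (Fin n → K) ≃ₗ[K] (Fin n → K) :=
    LinearEquiv.ofLinear (Matrix.toLin' g) (Matrix.toLin' g')
      (by rw [← Matrix.toLin'_mul, hgg', Matrix.toLin'_one])
      (by rw [← Matrix.toLin'_mul, hg'g, Matrix.toLin'_one])
  apply dker_conj G
  intro w
  show Matrix.toLin' (A' - 1) (Matrix.toLin' g w) = Matrix.toLin' g (Matrix.toLin' (A - 1) w)
  rw [← LinearMap.comp_apply, ← LinearMap.comp_apply, ← Matrix.toLin'_mul, ← Matrix.toLin'_mul,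
    sub_mul, mul_sub, hgA, one_mul, mul_one]

end Cfsg.Agent.Lib.Helper44.GUUnip
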