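import Mathlib
import Cfsg.Agent.Lib.Helper44.GUUnipClasses
import Cfsg.Agent.Lib.Helper43.JordanType

/-!
# The classes of elements of order `p` of `GU_n(q)`
-/

set_option autoImplicit false

namespace Cfsg.Agent.Lib.Helper44.GUUnip

open Module Matrix Cfsg.Agent.Lib.Helper43 Cfsg.Agent.Lib.Helper99 Cfsg.Agent.Lib.Helper44.SUReg
  Cfsg.Agent.Lib.Helper44.HU

variable {K : Type*} [Field K] [Fintype K] {p q n : ℕ}

omit [Fintype K] in
theorem pow_char_eq_one_iff [Fact p.Prime] [CharP K p] (A : Matrix (Fin n) (Fin n) K) :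
    A ^ p = 1 ↔ (A - 1) ^ p = 0 := by
  rcases Nat.eq_zero_or_pos n with rfl | hn
  · exact ⟨fun _ => Subsingleton.elim _ _, fun _ => Subsingleton.elim _ _⟩
  · haveI : Nonempty (Fin n) := ⟨⟨0, hn⟩⟩
    rw [sub_pow_char_of_commute p (Commute.one_right A), one_pow, sub_eq_zero]

omit [Fintype K] in
theorem orderOf_eq_prime_iff_matrix [Fact p.Prime] [CharP K p] (g : ↥(Cfsg.GU n K q)) :
    orderOf g = p ↔ ((g : GL (Fin n) K) : Matrix (Fin n) (Fin n) K) ≠ 1 ∧
      (((g : GL (Fin n) K) : Matrix (Fin n) (Fin n) K) - 1) ^ p = 0 := by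
  rw [orderOf_eq_prime_iff, ← pow_char_eq_one_iff]
  constructor
  · rintro ⟨h1, h2⟩
    refine ⟨fun h => h2 (gu_ext (by rw [h]; rfl)), ?_⟩
    have := congrArg (fun x : ↥(Cfsg.GU n K q) =>
      ((x : GL (Fin n) K) : Matrix (Fin n) (Fin n) K)) h1
    simpa using this
  · rintro ⟨h1, h2⟩
    refine ⟨gu_ext ?_, fun h => h1 (by rw [h]; rfl)⟩
    simpa using h2

omit [Fintype K] in
theorem pow_eq_zero_iff_type (A : Matrix (Fin n) (Fin n) K) (μ : Multiset ℕ)
    (hsum : μ.sum = n) (hdk : ∀ k, dker (Matrix.toLin' (A - 1)) k = smin μ k) (k : ℕ) :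
    (A - 1) ^ k = 0 ↔ ∀ b ∈ μ, b ≤ k := by
  rw [← smin_eq_sum_iff, ← hdk, hsum]
  have h := pow_eq_zero_iff_dker (Matrix.toLin' (A - 1)) k
  rw [Module.finrank_fintype_fun_eq_card, Fintype.card_fin] at h
  rw [← h, ← Matrix.toLin'_pow]
  constructor
  · intro h0; rw [h0, map_zero]
  · intro h0; exact Matrix.toLin'.injective (by rw [h0, map_zero])

omit [Fintype K] in
theorem eq_one_iff_type (A : Matrix (Fin n) (Fin n) K) (μ : Multiset ℕ) (h1 : ∀ b ∈ μ, 1 ≤ b)
    (hsum : μ.sum = n) (hdk : ∀ k, dker (Matrix.toLin' (A - 1)) k = smin μ k) :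
    A = 1 ↔ μ = Multiset.replicate n 1 := by
  rw [← sub_eq_zero, ← pow_one (A - 1), pow_eq_zero_iff_type A μ hsum hdk 1]
  constructor
  · intro h
    have hall : ∀ b ∈ μ, b = 1 := fun b hb => le_antisymm (h b hb) (h1 b hb)
    have h3 : Multiset.card μ = n := by
      rw [← smin_one μ h1, (smin_eq_sum_iff μ 1).2 h, hsum]
    exact Multiset.eq_replicate.2 ⟨h3, hall⟩
  · intro h b hb
    rw [h] at hb
    rw [Multiset.eq_of_mem_replicate hb]

/-- the all-ones partition -/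
def onesPartition (n : ℕ) : Nat.Partition n :=
  ⟨Multiset.replicate n 1,
    fun {i} hi => by rw [Multiset.eq_of_mem_replicate hi]; exact Nat.one_pos, by simp⟩

theorem card_order_p_classes_eq [Fact p.Prime] [CharP K p] (hK : Fintype.card K = q ^ 2) :
    Nat.card {C : ConjClasses ↥(Cfsg.GU n K q) //
      ∃ g : ↥(Cfsg.GU n K q), ConjClasses.mk g = C ∧ orderOf g = p} =
    Nat.card {μ : Nat.Partition n //
      (∀ a ∈ μ.parts, a ≤ p) ∧ μ.parts ≠ Multiset.replicate n 1} := by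
  classical
  have hex : ∀ μ : Nat.Partition n, ∃ A : Matrix (Fin n) (Fin n) K, dag q A * A = 1 ∧
      IsNilpotent (A - 1) ∧ ∀ k, dker (Matrix.toLin' (A - 1)) k = smin μ.parts k :=
    fun μ => exists_unipotent_of_type hK μ.parts (fun b hb => μ.parts_pos hb) n μ.parts_sum
  choose A hAu hAnil hAdk using hex
  have hord : ∀ μ : {μ : Nat.Partition n //
      (∀ a ∈ μ.parts, a ≤ p) ∧ μ.parts ≠ Multiset.replicate n 1},
      orderOf (mkGUm hK (A μ.1) (hAu μ.1)) = p := by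
    intro μ
    rw [orderOf_eq_prime_iff_matrix, mkGUm_val]
    refine ⟨fun h => μ.2.2 ?_, ?_⟩
    · exact (eq_one_iff_type (A μ.1) μ.1.parts (fun b hb => μ.1.parts_pos hb) μ.1.parts_sum
        (hAdk μ.1)).1 h
    · exact (pow_eq_zero_iff_type (A μ.1) μ.1.parts μ.1.parts_sum (hAdk μ.1) p).2 μ.2.1
  symm
  refine Nat.card_eq_of_bijective (fun μ => ⟨ConjClasses.mk (mkGUm hK (A μ.1) (hAu μ.1)),
    mkGUm hK (A μ.1) (hAu μ.1), rfl, hord μ⟩) ⟨?_, ?_⟩
  · -- injective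
    intro μ μ' h
    have h1 := congrArg Subtype.val h
    simp only at h1
    rw [ConjClasses.mk_eq_mk_iff_isConj, isConj_iff] at h1
    obtain ⟨c, hc⟩ := h1
    rw [mul_inv_eq_iff_eq_mul] at hc
    have h2 := congrArg (fun x : ↥(Cfsg.GU n K q) =>
      ((x : GL (Fin n) K) : Matrix (Fin n) (Fin n) K)) hc
    have h3 : ((c : GL (Fin n) K) : Matrix (Fin n) (Fin n) K) * A μ.1 =
        A μ'.1 * ((c : GL (Fin n) K) : Matrix (Fin n) (Fin n) K) := h2
    have hcc : ((c : GL (Fin n) K) : Matrix (Fin n) (Fin n) K) *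
        (((c⁻¹ : ↥(Cfsg.GU n K q)) : GL (Fin n) K) : Matrix (Fin n) (Fin n) K) = 1 := by
      have := congrArg (fun x : ↥(Cfsg.GU n K q) =>
        ((x : GL (Fin n) K) : Matrix (Fin n) (Fin n) K)) (mul_inv_cancel c)
      exact this
    have h4 := dker_conj_matrix (A μ.1) (A μ'.1) _ _ hcc h3
    apply Subtype.ext
    apply Nat.Partition.ext
    apply eq_of_smin_eq (fun b hb => μ.1.parts_pos hb) (fun b hb => μ'.1.parts_pos hb)
    intro k
    rw [← hAdk, ← hAdk, h4]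
  · -- surjective
    rintro ⟨C, g, rfl, hg⟩
    rw [orderOf_eq_prime_iff_matrix] at hg
    obtain ⟨hg1, hgp⟩ := hg
    set B := ((g : GL (Fin n) K) : Matrix (Fin n) (Fin n) K) with hB
    have hBu : dag q B * B = 1 := gu_unitary hK g
    have hnilT : IsNilpotent (Matrix.toLin' (B - 1)) :=
      ⟨p, by rw [← Matrix.toLin'_pow, hgp, map_zero]⟩
    obtain ⟨ν, hν1, hνdk⟩ := exists_jt (Matrix.toLin' (B - 1)) hnilT
    have hνsum : ν.sum = n := by
      rw [sum_eq_finrank_of_dker _ hnilT ν hνdk, Module.finrank_fintype_fun_eq_card,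
        Fintype.card_fin]
    let μ : Nat.Partition n := ⟨ν, fun {i} hi => hν1 i hi, hνsum⟩
    have hμ : (∀ a ∈ μ.parts, a ≤ p) ∧ μ.parts ≠ Multiset.replicate n 1 := by
      refine ⟨(pow_eq_zero_iff_type B ν hνsum hνdk p).1 hgp, fun h => hg1 ?_⟩
      exact (eq_one_iff_type B ν hν1 hνsum hνdk).2 h
    refine ⟨⟨μ, hμ⟩, ?_⟩
    apply Subtype.ext
    show ConjClasses.mk (mkGUm hK (A μ) (hAu μ)) = ConjClasses.mk g
    rw [ConjClasses.mk_eq_mk_iff_isConj, isConj_iff]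
    obtain ⟨g₀, hg₀, hg₀A⟩ := unipotent_conj hK (A μ) B (hAu μ) hBu (hAnil μ) ⟨p, hgp⟩
      (fun k => by rw [hAdk, hνdk])
    refine ⟨mkGUm hK g₀ hg₀, ?_⟩
    rw [mul_inv_eq_iff_eq_mul]
    apply gu_ext
    exact hg₀A

/-- the number of classes of elements of order `p` of `GU_n(q)` -/
theorem card_order_p_classes [Fact p.Prime] [CharP K p] (hK : Fintype.card K = q ^ 2) :
    Nat.card {C : ConjClasses ↥(Cfsg.GU n K q) //
      ∃ g : ↥(Cfsg.GU n K q), ConjClasses.mk g = C ∧ orderOf g = p} =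
    (Finset.univ.filter (fun μ : Nat.Partition n => ∀ a ∈ μ.parts, a ≤ p)).card - 1 := by
  classical
  rw [card_order_p_classes_eq hK, Nat.card_eq_fintype_card, Fintype.card_subtype]
  have hp1 : 1 ≤ p := (Fact.out : p.Prime).one_lt.le
  have hmem : onesPartition n ∈
      Finset.univ.filter (fun μ : Nat.Partition n => ∀ a ∈ μ.parts, a ≤ p) := by
    rw [Finset.mem_filter]
    refine ⟨Finset.mem_univ _, fun a ha => ?_⟩
    have : a = 1 := Multiset.eq_of_mem_replicate ha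
    omega
  rw [← Finset.card_erase_of_mem hmem]
  congr 1
  ext μ
  simp only [Finset.mem_filter, Finset.mem_univ, true_and, Finset.mem_erase]
  constructor
  · rintro ⟨h1, h2⟩
    exact ⟨fun h => h2 (by rw [h]; rfl), h1⟩
  · rintro ⟨h1, h2⟩
    exact ⟨h2, fun h => h1 (Nat.Partition.ext h)⟩

end Cfsg.Agent.Lib.Helper44.GUUnip
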