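import Mathlib
import Cfsg.Agent.Lib.Helper40.SympPrimeCount
import Cfsg.Agent.Lib.Helper43.GUConj
import Cfsg.Agent.Lib.Helper43.GUSimilar

/-!
# Semisimple classes of prime order of `GU_n(q)` and characteristic polynomials
-/

set_option autoImplicit false
open Polynomial UniqueFactorizationMonoid

namespace Cfsg.Agent.Lib.Helper44.GUSS

open Cfsg.Agent.Lib.Helper40.SemisimpleConj Cfsg.Agent.Lib.Helper40.PrimeOrder
  Cfsg.Agent.Lib.Helper43.HermSqrt

section general
variable {F : Type*} [Field F]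

theorem reverse_map_ringHom (σ : F →+* F) (f : F[X]) : (f.map σ).reverse = f.reverse.map σ := by
  unfold reverse
  rw [natDegree_map_eq_of_injective σ.injective, reflect_map]

theorem recip_map (σ : F →+* F) (f : F[X]) : recip (f.map σ) = (recip f).map σ := by
  unfold recip
  rw [reverse_map_ringHom, Polynomial.map_mul, map_C, coeff_map, map_inv₀ σ]

theorem recip_mul (f g : F[X]) : recip (f * g) = recip f * recip g := by
  unfold recip
  rw [reverse_mul_of_domain, mul_coeff_zero, mul_inv, C_mul]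
  ring

theorem recip_one : recip (1 : F[X]) = 1 := by
  unfold recip
  have h3 : (1 : F[X]).reverse = 1 := by
    have h4 : (1 : F[X]) = C 1 := by simp
    rw [h4, reverse_C]
  rw [h3, coeff_one_zero, inv_one, C_1, one_mul]

theorem recip_X_sub_one : recip (X - 1 : F[X]) = X - 1 := by
  unfold recip
  rw [reverse_X_sub_one]
  have h : (X - 1 : F[X]).coeff 0 = -1 := by simp
  rw [h, inv_neg, inv_one, C_neg, C_1]
  ring

theorem recip_pow (f : F[X]) (k : ℕ) : recip (f ^ k) = recip f ^ k := by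
  induction k with
  | zero => rw [pow_zero, pow_zero, recip_one]
  | succ k ih => rw [pow_succ, pow_succ, recip_mul, ih]

theorem recip_multiset_prod (M : Multiset F[X]) : recip M.prod = (M.map recip).prod := by
  induction M using Multiset.induction_on with
  | empty => simp [recip_one]
  | cons π M ih => rw [Multiset.prod_cons, Multiset.map_cons, Multiset.prod_cons, recip_mul, ih]

theorem recip_polyOf (a : ℕ) (M : Multiset F[X]) :
    recip (polyOf a M) = polyOf a (M.map recip) := by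
  unfold polyOf
  rw [recip_mul, recip_pow, recip_X_sub_one, recip_multiset_prod]

/-- the monic reciprocal polynomial twisted by a field endomorphism -/
noncomputable def srecip (σ : F →+* F) (f : F[X]) : F[X] := (recip f).map σ

theorem srecip_polyOf (σ : F →+* F) (a : ℕ) (M : Multiset F[X]) :
    srecip σ (polyOf a M) = polyOf a (M.map (srecip σ)) := by
  unfold srecip
  rw [recip_polyOf]
  unfold polyOf
  rw [Polynomial.map_mul, Polynomial.map_pow, Polynomial.map_sub, map_X, Polynomial.map_one,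
    Polynomial.map_multiset_prod, Multiset.map_map]
  rfl

theorem map_map_self (σ : F →+* F) (hσ : ∀ a, σ (σ a) = a) (f : F[X]) :
    (f.map σ).map σ = f := by
  rw [Polynomial.map_map]
  have : σ.comp σ = RingHom.id F := RingHom.ext hσ
  rw [this, Polynomial.map_id]

theorem srecip_srecip (σ : F →+* F) (hσ : ∀ a, σ (σ a) = a) (f : F[X]) (hm : f.Monic)
    (h0 : f.coeff 0 ≠ 0) : srecip σ (srecip σ f) = f := by
  unfold srecip
  rw [recip_map, recip_recip f hm h0, map_map_self σ hσ]

theorem irreducible_map_of_involutive (σ : F →+* F) (hσ : ∀ a, σ (σ a) = a) {f : F[X]}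
    (hf : Irreducible f) : Irreducible (f.map σ) := by
  let e : F ≃+* F := RingEquiv.ofRingHom σ σ (RingHom.ext hσ) (RingHom.ext hσ)
  exact (MulEquiv.irreducible_iff (Polynomial.mapEquiv e)).2 hf

variable {ι : Type*} [Fintype ι] [DecidableEq ι]

/-- the characteristic polynomial of the inverse is the monic reciprocal polynomial -/
theorem charpoly_of_mul_eq_one (M M' : Matrix ι ι F) (h : M * M' = 1) :
    M'.charpoly = recip M.charpoly := by
  have h1 : (1 : Matrix ι ι F[X]) - (X : F[X]) • M.map (⇑(C : F →+* F[X])) =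
      (C : F →+* F[X]).mapMatrix M * (-(Matrix.charmatrix M')) := by
    have h2 : (C : F →+* F[X]).mapMatrix M * (C : F →+* F[X]).mapMatrix M' = 1 := by
      rw [← map_mul, h, map_one]
    rw [Matrix.charmatrix, neg_sub, mul_sub, h2]
    congr 1
    rw [Matrix.scalar_apply, ← Matrix.smul_one_eq_diagonal, Matrix.mul_smul, Matrix.mul_one]
    rfl
  have h3 : M.charpoly.reverse = C (M.det * (-1) ^ Fintype.card ι) * M'.charpoly := by
    rw [Matrix.reverse_charpoly]
    unfold Matrix.charpolyRev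
    rw [h1, Matrix.det_mul, ← RingHom.map_det, Matrix.det_neg]
    unfold Matrix.charpoly
    rw [C_mul, C_pow, C_neg, C_1, mul_assoc]
  have hdet : M.det ≠ 0 := by
    intro h0
    have := congrArg Matrix.det h
    rw [Matrix.det_mul, h0, zero_mul, Matrix.det_one] at this
    exact zero_ne_one this
  have h4 : M.charpoly.coeff 0 = M.det * (-1) ^ Fintype.card ι := by
    rw [Matrix.det_eq_sign_charpoly_coeff M, mul_comm, ← mul_assoc, ← mul_pow]
    simp
  have h5 : M.charpoly.coeff 0 ≠ 0 := by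
    rw [h4]
    exact mul_ne_zero hdet (pow_ne_zero _ (neg_ne_zero.2 one_ne_zero))
  unfold recip
  rw [h3, ← h4, ← mul_assoc, ← C_mul, inv_mul_cancel₀ h5, C_1, one_mul]

theorem cT_pow (σ : F →+* F) (X : Matrix ι ι F) (k : ℕ) : cT σ (X ^ k) = cT σ X ^ k := by
  induction k with
  | zero => rw [pow_zero, pow_zero, cT_one]
  | succ k ih => rw [pow_succ, cT_mul, ih, ← pow_succ']

theorem charpoly_cT (σ : F →+* F) (X : Matrix ι ι F) : (cT σ X).charpoly = X.charpoly.map σ := by
  unfold cT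
  rw [Matrix.charpoly_transpose, Matrix.charpoly_map]

/-- the characteristic polynomial of a unitary matrix -/
theorem srecip_charpoly_of_unitary (σ : F →+* F) (hσ : ∀ a, σ (σ a) = a) (A : Matrix ι ι F)
    (hA : cT σ A * A = 1) : srecip σ A.charpoly = A.charpoly := by
  have h1 : A * cT σ A = 1 := mul_eq_one_comm.1 hA
  have h2 := charpoly_of_mul_eq_one A (cT σ A) h1
  rw [charpoly_cT] at h2
  unfold srecip
  rw [← h2, map_map_self σ hσ]

end general

section rset
variable {K : Type*} [Field K] [Fintype K]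

theorem map_mem_Rset (σ : K →+* K) (hσ : ∀ a, σ (σ a) = a) (r : ℕ) [hr : Fact r.Prime] {π : K[X]}
    (hπ : π ∈ Rset K r) : π.map σ ∈ Rset K r := by
  have hr0 : 0 < r := hr.out.pos
  have h := (mem_Rset hr0).1 hπ
  rw [mem_Rset hr0]
  refine ⟨h.1.map σ, irreducible_map_of_involutive σ hσ h.2.1, ?_, ?_⟩
  · have := Polynomial.map_dvd σ h.2.2.1
    rw [Polynomial.map_sub, Polynomial.map_pow, map_X, Polynomial.map_one] at this
    exact this
  · intro h1
    apply h.2.2.2
    have := congrArg (Polynomial.map σ) h1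
    rw [map_map_self σ hσ, Polynomial.map_sub, map_X, Polynomial.map_one] at this
    exact this

theorem srecip_mem_Rset (σ : K →+* K) (hσ : ∀ a, σ (σ a) = a) (r : ℕ) [hr : Fact r.Prime]
    {π : K[X]} (hπ : π ∈ Rset K r) : srecip σ π ∈ Rset K r :=
  map_mem_Rset σ hσ r (recip_mem_Rset r hπ)

end rset

section gu
variable {K : Type*} [Field K] [Fintype K] {q n : ℕ}

theorem q_ne_zero' (hK : Fintype.card K = q ^ 2) : q ≠ 0 := by
  have := Cfsg.Agent.Lib.Helper13.two_le_q hK
  omega

/-- elements of `GU` of order prime to `p` with the same characteristic polynomial are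
conjugate -/
theorem isConj_GU_of_charpoly_eq (hK : Fintype.card K = q ^ 2) (p : ℕ) [Fact p.Prime] [CharP K p]
    (g h : ↥(Cfsg.GU n K q)) (hg : (orderOf g).Coprime p) (hh : (orderOf h).Coprime p)
    (hc : ((g : GL (Fin n) K) : Matrix (Fin n) (Fin n) K).charpoly =
      ((h : GL (Fin n) K) : Matrix (Fin n) (Fin n) K).charpoly) : IsConj g h := by
  have h1 : IsConj (g : GL (Fin n) K) (h : GL (Fin n) K) := by
    apply isConj_GL_of_charpoly_eq p _ _ _ _ hc
    · rw [Subgroup.orderOf_coe]; exact hg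
    · rw [Subgroup.orderOf_coe]; exact hh
  obtain ⟨P, hP⟩ := isConj_iff.1 h1
  have hP' : P * (g : GL (Fin n) K) = (h : GL (Fin n) K) * P := by
    rw [← hP, inv_mul_cancel_right]
  obtain ⟨Q, hQ, hQA⟩ := gu_conj hK (g : GL (Fin n) K) (h : GL (Fin n) K) P g.2 h.2 hP'
  rw [isConj_iff]
  refine ⟨⟨Q, hQ⟩, ?_⟩
  apply Subtype.ext
  show Q * (g : GL (Fin n) K) * Q⁻¹ = (h : GL (Fin n) K)
  rw [hQA, mul_inv_cancel_right]

/-- every monic polynomial fixed by the twisted reciprocal is the characteristic polynomial of an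
element of `GU` of order prime to `p` -/
theorem exists_GU_of_charpoly (hK : Fintype.card K = q ^ 2) (p : ℕ) [Fact p.Prime] [CharP K p]
    (σ : K →+* K) (hσq : ∀ a, σ a = a ^ q) (hσ : ∀ a, σ (σ a) = a) (c₀ : K)
    (hc₀ : c₀ - σ c₀ ≠ 0) (f : K[X]) (hfm : f.Monic) (hfd : f.natDegree = n)
    (hf0 : f.coeff 0 ≠ 0) (hfs : srecip σ f = f) :
    ∃ g : ↥(Cfsg.GU n K q), (orderOf g).Coprime p ∧
      ((g : GL (Fin n) K) : Matrix (Fin n) (Fin n) K).charpoly = f ∧
      ∀ k : ℕ, (∀ π : K[X], π.Monic → Irreducible π → π ∣ f → π ∣ X ^ k - 1) → g ^ k = 1 := by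
  obtain ⟨g₀, hg1, hg2, hg3⟩ := exists_GL_of_charpoly' p n f hfm hfd hf0
  set A : Matrix (Fin n) (Fin n) K := (g₀ : Matrix (Fin n) (Fin n) K) with hA
  set A' : Matrix (Fin n) (Fin n) K := ((g₀⁻¹ : GL (Fin n) K) : Matrix (Fin n) (Fin n) K) with hA'
  have haa' : A * A' = 1 := g₀.mul_inv
  have ha'a : A' * A = 1 := g₀.inv_mul
  have hs1 : cT σ A' * cT σ A = 1 := by rw [← cT_mul, haa', cT_one]
  have hs2 : cT σ A * cT σ A' = 1 := by rw [← cT_mul, ha'a, cT_one]
  let h : GL (Fin n) K := ⟨cT σ A', cT σ A, hs1, hs2⟩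
  have hhc : (h : Matrix (Fin n) (Fin n) K).charpoly = f := by
    show (cT σ A').charpoly = f
    rw [charpoly_cT, charpoly_of_mul_eq_one A A' haa', hA, hg2]
    exact hfs
  have hhN : h ^ orderOf g₀ = 1 := by
    apply Units.ext
    rw [Units.val_pow_eq_pow_val, Units.val_one]
    show cT σ A' ^ orderOf g₀ = 1
    rw [← cT_pow, hA', ← Units.val_pow_eq_pow_val, inv_pow, pow_orderOf_eq_one, inv_one,
      Units.val_one, cT_one]
  have hho : (orderOf h).Coprime p :=
    Nat.Coprime.coprime_dvd_left (orderOf_dvd_of_pow_eq_one hhN) hg1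
  have hconj : IsConj g₀ h := isConj_GL_of_charpoly_eq p g₀ h hg1 hho (by rw [hg2, hhc])
  obtain ⟨P, hP⟩ := isConj_iff.1 hconj
  have hP' : P * g₀ = h * P := by rw [← hP, inv_mul_cancel_right]
  have hPm : (P : Matrix (Fin n) (Fin n) K) * A = cT σ A' * (P : Matrix (Fin n) (Fin n) K) := by
    have := congrArg (fun x : GL (Fin n) K => (x : Matrix (Fin n) (Fin n) K)) hP'
    exact this
  have hinv : cT σ A * (P : Matrix (Fin n) (Fin n) K) * A = (P : Matrix (Fin n) (Fin n) K) := by
    rw [mul_assoc, hPm, ← mul_assoc, hs2, one_mul]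
  obtain ⟨x, x', hxx', hx⟩ := exists_gu_conj_matrix σ hσ c₀ hc₀ A A'
    (P : Matrix (Fin n) (Fin n) K) ((P⁻¹ : GL (Fin n) K) : Matrix (Fin n) (Fin n) K) haa'
    P.mul_inv hinv
  let X₀ : GL (Fin n) K := ⟨x, x', hxx', mul_eq_one_comm.1 hxx'⟩
  have hXmem : X₀ * g₀ * X₀⁻¹ ∈ Cfsg.GU n K q := by
    rw [mem_GU_iff_cT (q_ne_zero' hK) σ hσq]
    exact hx
  refine ⟨⟨X₀ * g₀ * X₀⁻¹, hXmem⟩, ?_, ?_, ?_⟩
  · rw [← Subgroup.orderOf_coe]
    show (orderOf (X₀ * g₀ * X₀⁻¹)).Coprime p
    have : orderOf (X₀ * g₀ * X₀⁻¹) = orderOf g₀ := by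
      have := MulEquiv.orderOf_eq (MulAut.conj X₀) g₀
      rw [MulAut.conj_apply] at this
      exact this
    rw [this]
    exact hg1
  · rw [← hg2]
    symm
    exact charpoly_eq_of_isConj g₀ (X₀ * g₀ * X₀⁻¹) (isConj_iff.2 ⟨X₀, rfl⟩)
  · intro k hk
    apply Subtype.ext
    show (X₀ * g₀ * X₀⁻¹) ^ k = 1
    rw [conj_pow, hg3 k hk, mul_one, mul_inv_cancel]

omit [Fintype K] in
theorem charpoly_eq_of_isConj_GU (a b : ↥(Cfsg.GU n K q)) (hab : IsConj a b) :
    ((a : GL (Fin n) K) : Matrix (Fin n) (Fin n) K).charpoly =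
      ((b : GL (Fin n) K) : Matrix (Fin n) (Fin n) K).charpoly :=
  charpoly_eq_of_isConj _ _ (MonoidHom.map_isConj (Cfsg.GU n K q).subtype hab)

set_option maxHeartbeats 800000 in
/-- the classes of elements of prime order `r` of `GU_n(q)` correspond to the multisets of
irreducible factors of `X ^ r - 1` stable under the twisted reciprocal -/
theorem card_gu_classes_eq (hK : Fintype.card K = q ^ 2) (p : ℕ) [Fact p.Prime] [CharP K p]
    (σ : K →+* K) (hσq : ∀ a, σ a = a ^ q) (hσ : ∀ a, σ (σ a) = a) (c₀ : K)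
    (hc₀ : c₀ - σ c₀ ≠ 0) (n r i : ℕ) (hr : r.Prime) (hrp : r ≠ p)
    (hi : i = orderOf ((Fintype.card K : ℕ) : ZMod r)) :
    Nat.card {C : ConjClasses ↥(Cfsg.GU n K q) //
      ∃ g : ↥(Cfsg.GU n K q), ConjClasses.mk g = C ∧ orderOf g = r} =
    Nat.card {M : Multiset K[X] // (∀ π ∈ M, π ∈ Rset K r) ∧ M ≠ 0 ∧
      i * Multiset.card M ≤ n ∧ M.map (srecip σ) = M} := by
  classical
  have : Fact r.Prime := ⟨hr⟩
  have hp : p.Prime := Fact.out
  have hr0 : 0 < r := hr.pos
  have hr2 := hr.two_le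
  have hrcop : r.Coprime p := (Nat.coprime_primes hr hp).2 hrp
  have hRm : ∀ π ∈ Rset K r, π.Monic := fun π h => ((mem_Rset hr0).1 h).1
  have hRi : ∀ π ∈ Rset K r, Irreducible π := fun π h => ((mem_Rset hr0).1 h).2.1
  have hRd : ∀ π ∈ Rset K r, π ∣ X ^ r - 1 := fun π h => ((mem_Rset hr0).1 h).2.2.1
  have hR1 : ∀ π ∈ Rset K r, π ≠ X - 1 := fun π h => ((mem_Rset hr0).1 h).2.2.2
  have hRdeg : ∀ π ∈ Rset K r, π.natDegree = i := fun π h => by
    rw [hi]
    exact natDegree_of_irreducible_dvd r π (hRm π h) (hRi π h) (hRd π h) (hR1 π h)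
  let P : Multiset K[X] → K[X] := fun M => polyOf (n - i * Multiset.card M) M
  have hPinj : ∀ M M' : Multiset K[X], (∀ π ∈ M, π ∈ Rset K r) → (∀ π ∈ M', π ∈ Rset K r) →
      P M = P M' → M = M' := by
    intro M M' hM hM' h
    have h1 := filter_polyOf (n - i * Multiset.card M) M (fun π hπ => hRm π (hM π hπ))
      (fun π hπ => hRi π (hM π hπ)) (fun π hπ => hR1 π (hM π hπ))
    have h2 := filter_polyOf (n - i * Multiset.card M') M' (fun π hπ => hRm π (hM' π hπ))
      (fun π hπ => hRi π (hM' π hπ)) (fun π hπ => hR1 π (hM' π hπ))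
    rw [← h1, ← h2]
    exact congrArg (fun f => (normalizedFactors f).filter (fun π => π ≠ X - 1)) h
  have hex : ∀ M : {M : Multiset K[X] // (∀ π ∈ M, π ∈ Rset K r) ∧ M ≠ 0 ∧
      i * Multiset.card M ≤ n ∧ M.map (srecip σ) = M},
      ∃ g : ↥(Cfsg.GU n K q), (orderOf g).Coprime p ∧
        ((g : GL (Fin n) K) : Matrix (Fin n) (Fin n) K).charpoly = P M.1 ∧ orderOf g = r := by
    rintro ⟨M, hM, hM0, hMle, hMs⟩
    have hPm : (P M).Monic := polyOf_monic _ _ (fun π hπ => hRm π (hM π hπ))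
    have hPd : (P M).natDegree = n := by
      change (polyOf (n - i * Multiset.card M) M).natDegree = n
      rw [polyOf_natDegree _ _ (fun π hπ => hRm π (hM π hπ)) i (fun π hπ => hRdeg π (hM π hπ))]
      omega
    have hP0 : (P M).coeff 0 ≠ 0 :=
      coeff_zero_ne_zero_of_dvd r hr0 _ _
        (polyOf_dvd_pow _ _ _ (X_sub_one_dvd r) (fun π hπ => hRd π (hM π hπ)))
    have hPs : srecip σ (P M) = P M := by
      change srecip σ (polyOf (n - i * Multiset.card M) M) = polyOf (n - i * Multiset.card M) M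
      rw [srecip_polyOf, hMs]
    obtain ⟨g, hg1, hg2, hg3⟩ :=
      exists_GU_of_charpoly hK p σ hσq hσ c₀ hc₀ (P M) hPm hPd hP0 hPs
    refine ⟨g, hg1, hg2, ?_⟩
    have hgr : g ^ r = 1 := hg3 r (fun π' _ hπ'i hπ'd =>
      dvd_of_dvd_polyOf _ _ _ (X_sub_one_dvd r) (fun π hπ => hRd π (hM π hπ)) π' hπ'i hπ'd)
    have hg1' : g ≠ 1 := by
      intro h1
      apply hM0
      have h2 : P M = polyOf n (0 : Multiset K[X]) := by
        rw [← hg2, h1]
        have : (((1 : ↥(Cfsg.GU n K q)) : GL (Fin n) K) : Matrix (Fin n) (Fin n) K) = 1 := rfl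
        rw [this, Matrix.charpoly_one]
        simp [polyOf]
      have h3 := filter_polyOf (n - i * Multiset.card M) M (fun π hπ => hRm π (hM π hπ))
        (fun π hπ => hRi π (hM π hπ)) (fun π hπ => hR1 π (hM π hπ))
      have h4 := filter_polyOf (F := K) n (0 : Multiset K[X]) (by simp) (by simp) (by simp)
      rw [← h3, ← h4]
      exact congrArg (fun f => (normalizedFactors f).filter (fun π => π ≠ X - 1)) h2
    exact orderOf_eq_prime hgr hg1'
  let Ξ : {M : Multiset K[X] // (∀ π ∈ M, π ∈ Rset K r) ∧ M ≠ 0 ∧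
      i * Multiset.card M ≤ n ∧ M.map (srecip σ) = M} →
      {C : ConjClasses ↥(Cfsg.GU n K q) //
        ∃ g : ↥(Cfsg.GU n K q), ConjClasses.mk g = C ∧ orderOf g = r} :=
    fun M => ⟨ConjClasses.mk (Classical.choose (hex M)), Classical.choose (hex M), rfl,
      (Classical.choose_spec (hex M)).2.2⟩
  symm
  apply Nat.card_eq_of_bijective Ξ
  constructor
  · intro M M' hMM
    have h1 : ConjClasses.mk (Classical.choose (hex M)) =
        ConjClasses.mk (Classical.choose (hex M')) := congrArg Subtype.val hMM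
    have h2 := charpoly_eq_of_isConj_GU _ _ (ConjClasses.mk_eq_mk_iff_isConj.1 h1)
    rw [(Classical.choose_spec (hex M)).2.1, (Classical.choose_spec (hex M')).2.1] at h2
    exact Subtype.ext (hPinj _ _ M.2.1 M'.2.1 h2)
  · rintro ⟨C, g, hgC, hgr⟩
    set f := ((g : GL (Fin n) K) : Matrix (Fin n) (Fin n) K).charpoly with hf
    have hfm : f.Monic := Matrix.charpoly_monic _
    have hfd : f.natDegree = n := by
      rw [hf, Matrix.charpoly_natDegree_eq_dim, Fintype.card_fin]
    set M₀ := normalizedFactors f with hM₀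
    set M' := M₀.filter (fun π => π ≠ X - 1) with hM'
    set a := Multiset.count (X - 1) M₀ with ha
    have hfP : f = polyOf a M' := eq_polyOf_of_monic f hfm
    have hgr1 : ((g : GL (Fin n) K) : Matrix (Fin n) (Fin n) K) ^ r = 1 := by
      have h1 : g ^ r = 1 := by rw [← hgr]; exact pow_orderOf_eq_one g
      have h2 := congrArg (fun y : ↥(Cfsg.GU n K q) =>
        ((y : GL (Fin n) K) : Matrix (Fin n) (Fin n) K)) h1
      simpa using h2
    have hM'mem : ∀ x ∈ M', x ∈ Rset K r := by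
      intro x hx
      rw [hM', Multiset.mem_filter] at hx
      obtain ⟨hx1, hx2⟩ := hx
      rw [hM₀, mem_normalizedFactors_iff_monic hfm.ne_zero] at hx1
      rw [mem_Rset hr0]
      exact ⟨hx1.1, hx1.2.1, dvd_of_pow_eq_one _ r hgr1 x hx1.2.1 hx1.2.2, hx2⟩
    have hdeg : n = a + i * Multiset.card M' := by
      rw [← hfd, hfP]
      exact polyOf_natDegree _ _ (fun x hx => hRm x (hM'mem x hx)) i
        (fun x hx => hRdeg x (hM'mem x hx))
    have hle : i * Multiset.card M' ≤ n := by omega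
    have hfPm : f = P M' := by
      change f = polyOf (n - i * Multiset.card M') M'
      rw [hfP]
      congr 1
      omega
    have hgcop : (orderOf g).Coprime p := by rw [hgr]; exact hrcop
    have hgu : cT σ ((g : GL (Fin n) K) : Matrix (Fin n) (Fin n) K) *
        ((g : GL (Fin n) K) : Matrix (Fin n) (Fin n) K) = 1 :=
      (mem_GU_iff_cT (q_ne_zero' hK) σ hσq (g : GL (Fin n) K)).1 g.2
    have hsf : srecip σ f = f := srecip_charpoly_of_unitary σ hσ _ hgu
    have hMs : M'.map (srecip σ) = M' := by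
      have hsmem : ∀ x ∈ M'.map (srecip σ), x ∈ Rset K r := by
        intro x hx
        obtain ⟨y, hy, rfl⟩ := Multiset.mem_map.1 hx
        exact srecip_mem_Rset σ hσ r (hM'mem y hy)
      have h1 := filter_polyOf a (M'.map (srecip σ)) (fun π hπ => hRm π (hsmem π hπ))
        (fun π hπ => hRi π (hsmem π hπ)) (fun π hπ => hR1 π (hsmem π hπ))
      have h2 := filter_polyOf a M' (fun π hπ => hRm π (hM'mem π hπ))
        (fun π hπ => hRi π (hM'mem π hπ)) (fun π hπ => hR1 π (hM'mem π hπ))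
      have h3 : polyOf a (M'.map (srecip σ)) = polyOf a M' := by
        rw [← srecip_polyOf, ← hfP, hsf]
      calc M'.map (srecip σ)
          = (normalizedFactors (polyOf a (M'.map (srecip σ)))).filter (fun π => π ≠ X - 1) :=
            h1.symm
        _ = (normalizedFactors (polyOf a M')).filter (fun π => π ≠ X - 1) := by rw [h3]
        _ = M' := h2
    have hM0 : M' ≠ 0 := by
      intro h0
      have h1 : f = (X - 1) ^ n := by
        rw [hfPm, h0]
        simp [P, polyOf]
      have h2 : (g : GL (Fin n) K) = 1 :=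
        eq_one_of_charpoly p (g : GL (Fin n) K) (by rw [Subgroup.orderOf_coe]; exact hgcop) h1
      have h3 : g = 1 := Subtype.ext h2
      rw [h3, orderOf_one] at hgr
      omega
    refine ⟨⟨M', hM'mem, hM0, hle, hMs⟩, ?_⟩
    apply Subtype.ext
    change ConjClasses.mk (Classical.choose (hex ⟨M', hM'mem, hM0, hle, hMs⟩)) = C
    rw [← hgC]
    apply ConjClasses.mk_eq_mk_iff_isConj.2
    obtain ⟨hc1, hc2, hc3⟩ := Classical.choose_spec (hex ⟨M', hM'mem, hM0, hle, hMs⟩)
    apply isConj_GU_of_charpoly_eq hK p _ _ hc1 hgcop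
    rw [hc2, ← hfPm]

end gu

end Cfsg.Agent.Lib.Helper44.GUSS
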