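import Mathlib
import Cfsg.Agent.Lib.Helper44.GUSemisimple

/-!
# The number of classes of elements of odd prime order of `GU_n(q)` (semisimple case)
-/

set_option autoImplicit false
open Polynomial UniqueFactorizationMonoid

namespace Cfsg.Agent.Lib.Helper44.GUSS

open Cfsg.Agent.Lib.Helper40.SemisimpleConj Cfsg.Agent.Lib.Helper40.PrimeOrder
  Cfsg.Agent.Lib.Helper43.HermSqrt

section nt

/-- the arithmetic behind the dichotomy -/
theorem mod_four_of_pow_add (r : ℕ) [hr : Fact r.Prime] (hr2 : r ≠ 2) (u : ZMod r) (hu : u ≠ 0)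
    (j : ℕ) (h : u ^ (2 * j) + u = 0) : orderOf u % 4 = 2 := by
  have h11 : (1 : ZMod r) ≠ -1 := by
    intro h1
    have h2 : ((2 : ℕ) : ZMod r) = 0 := by
      push_cast
      linear_combination h1
    have h3 : r ∣ 2 := (ZMod.natCast_eq_zero_iff _ _).1 h2
    exact hr2 ((Nat.prime_dvd_prime_iff_eq hr.out Nat.prime_two).1 h3)
  rcases Nat.eq_zero_or_pos j with rfl | hj
  · rw [mul_zero, pow_zero] at h
    have hu1 : u = -1 := by linear_combination h
    have h2 : u ^ 2 = 1 := by rw [hu1]; ring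
    have h3 : u ≠ 1 := by rw [hu1]; exact fun h => h11 h.symm
    have : Fact (Nat.Prime 2) := ⟨Nat.prime_two⟩
    rw [orderOf_eq_prime h2 h3]
  · obtain ⟨w, hw⟩ : ∃ w, 2 * j = w + 1 := ⟨2 * j - 1, by omega⟩
    have hwodd : w % 2 = 1 := by omega
    have h1 : u ^ w = -1 := by
      have h2 : u ^ w * u = -1 * u := by
        rw [← pow_succ, ← hw]
        linear_combination h
      exact mul_right_cancel₀ hu h2
    have h2 : u ^ (2 * w) = 1 := by
      rw [mul_comm, pow_mul, h1]; ring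
    have h3 : orderOf u ∣ 2 * w := orderOf_dvd_of_pow_eq_one h2
    have h4 : ¬ orderOf u ∣ w := by
      intro hd
      have := orderOf_dvd_iff_pow_eq_one.1 hd
      rw [h1] at this
      exact h11 this.symm
    rcases Nat.even_or_odd (orderOf u) with he | ho
    · obtain ⟨c, hc⟩ := he
      have hc2 : orderOf u = 2 * c := by omega
      rw [hc2] at h3 h4 ⊢
      have h5 : c ∣ w := Nat.dvd_of_mul_dvd_mul_left (by norm_num) h3
      have hcodd : c % 2 = 1 := by
        obtain ⟨d, hd⟩ := h5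
        rcases Nat.even_or_odd c with ⟨e, he⟩ | ⟨e, he⟩
        · exfalso
          rw [hd, he] at hwodd
          have : (e + e) * d = 2 * (e * d) := by ring
          omega
        · omega
      omega
    · exfalso
      apply h4
      have hcop : Nat.Coprime (orderOf u) 2 := Nat.Coprime.symm (Nat.coprime_two_left.2 ho)
      exact hcop.dvd_of_dvd_mul_left h3

end nt

section dich
variable {K : Type*} [Field K] [Fintype K] {q : ℕ}

theorem exists_q_eq_pow (p : ℕ) [Fact p.Prime] [CharP K p] (hK : Fintype.card K = q ^ 2) :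
    ∃ k, q = p ^ k := by
  obtain ⟨m, hpm, hm⟩ := FiniteField.card K p
  have h1 : q ∣ p ^ (m : ℕ) := by rw [← hm, hK]; exact dvd_pow_self q two_ne_zero
  obtain ⟨k, _, hk⟩ := (Nat.dvd_prime_pow hpm).1 h1
  exact ⟨k, hk⟩

/-- `(ζ⁻¹)^q` is a root of the twisted reciprocal of `π` -/
theorem aeval_inv_pow_srecip (p : ℕ) [Fact p.Prime] [CharP K p] (hK : Fintype.card K = q ^ 2)
    (σ : K →+* K) (hσq : ∀ a, σ a = a ^ q) (r : ℕ) [hr : Fact r.Prime] {π : K[X]}
    (hπ : π ∈ Rset K r) :
    haveI : Fact (Irreducible π) := ⟨((mem_Rset hr.out.pos).1 hπ).2.1⟩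
    aeval ((AdjoinRoot.root π)⁻¹ ^ q) (srecip σ π) = 0 := by
  have hr0 := hr.out.pos
  have h := (mem_Rset hr0).1 hπ
  have : Fact (Irreducible π) := ⟨h.2.1⟩
  set ζ := AdjoinRoot.root π with hζ
  obtain ⟨k, hk⟩ := exists_q_eq_pow p hK
  have : CharP (AdjoinRoot π) p :=
    charP_of_injective_algebraMap (algebraMap K (AdjoinRoot π)).injective p
  let φ : AdjoinRoot π →+* AdjoinRoot π := iterateFrobenius (AdjoinRoot π) p k
  have hφ : ∀ x, φ x = x ^ q := fun x => by rw [hk]; exact iterateFrobenius_def p k x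
  have hcomm : (algebraMap K (AdjoinRoot π)).comp σ = φ.comp (algebraMap K (AdjoinRoot π)) := by
    ext a
    rw [RingHom.comp_apply, RingHom.comp_apply, hφ, hσq, map_pow]
  have hζr : ζ ^ r = 1 := by
    have h1 : AdjoinRoot.mk π (X ^ r - 1) = 0 := AdjoinRoot.mk_eq_zero.2 h.2.2.1
    rw [map_sub, map_pow, AdjoinRoot.mk_X, map_one, sub_eq_zero] at h1
    exact h1
  have hζ0 : ζ ≠ 0 := by
    intro h0
    rw [h0, zero_pow hr.out.ne_zero] at hζr
    exact zero_ne_one hζr
  haveI : Invertible ζ := invertibleOfNonzero hζ0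
  have h1 : aeval ζ⁻¹ (recip π) = 0 := by
    have h2 := (eval₂_reverse_eq_zero_iff (algebraMap K (AdjoinRoot π)) ζ π).2 (by
      rw [← aeval_def, AdjoinRoot.aeval_eq, AdjoinRoot.mk_self])
    rw [invOf_eq_inv, ← aeval_def] at h2
    unfold recip
    rw [map_mul, h2, mul_zero]
  have h2 := Polynomial.map_aeval_eq_aeval_map hcomm (recip π) ζ⁻¹
  rw [h1, map_zero, hφ] at h2
  exact h2.symm

theorem srecip_eq_self_of_mod_four (p : ℕ) [Fact p.Prime] [CharP K p]
    (hK : Fintype.card K = q ^ 2) (σ : K →+* K) (hσq : ∀ a, σ a = a ^ q)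
    (hσ : ∀ a, σ (σ a) = a) (r : ℕ) [hr : Fact r.Prime] {π : K[X]}
    (hπ : π ∈ Rset K r) (hi4 : orderOf (q : ZMod r) % 4 = 2) : srecip σ π = π := by
  have hr0 := hr.out.pos
  have h := (mem_Rset hr0).1 hπ
  have hs := (mem_Rset hr0).1 (srecip_mem_Rset σ hσ r hπ)
  have : Fact (Irreducible π) := ⟨h.2.1⟩
  have hkey := aeval_inv_pow_srecip p hK σ hσq r hπ
  set ζ := AdjoinRoot.root π with hζ
  have hζr : ζ ^ r = 1 := by
    have h1 : AdjoinRoot.mk π (X ^ r - 1) = 0 := AdjoinRoot.mk_eq_zero.2 h.2.2.1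
    rw [map_sub, map_pow, AdjoinRoot.mk_X, map_one, sub_eq_zero] at h1
    exact h1
  have hζ0 : ζ ≠ 0 := by
    intro h0
    rw [h0, zero_pow hr.out.ne_zero] at hζr
    exact zero_ne_one hζr
  set u : ZMod r := (q : ZMod r) with hu
  set i := orderOf u with hi
  obtain ⟨c, hc⟩ : ∃ c, i = 2 * c := ⟨i / 2, by omega⟩
  have hcodd : c % 2 = 1 := by omega
  have hc0 : c ≠ 0 := by omega
  have h1 : u ^ c * u ^ c = 1 := by
    rw [← pow_add, ← two_mul, ← hc, hi, pow_orderOf_eq_one]
  have h2 : u ^ c ≠ 1 := pow_ne_one_of_lt_orderOf hc0 (by omega)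
  have h3 : u ^ c = -1 := (mul_self_eq_one_iff.1 h1).resolve_left h2
  have h4 : ((q ^ c + 1 : ℕ) : ZMod r) = 0 := by
    push_cast
    rw [← hu, h3]; ring
  have h5 : r ∣ q ^ c + 1 := (ZMod.natCast_eq_zero_iff _ _).1 h4
  obtain ⟨j, hj⟩ : ∃ j, c + 1 = 2 * j := ⟨(c + 1) / 2, by omega⟩
  have h6 : ζ ^ (Fintype.card K ^ j) = ζ⁻¹ ^ q := by
    obtain ⟨d, hd⟩ := h5
    have h7 : ζ ^ (Fintype.card K ^ j) * ζ ^ q = 1 := by
      rw [← pow_add, hK, ← pow_mul, ← hj]
      have : q ^ (c + 1) + q = r * (d * q) := by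
        rw [pow_succ]
        calc q ^ c * q + q = (q ^ c + 1) * q := by ring
          _ = r * (d * q) := by rw [hd]; ring
      rw [this, pow_mul, hζr, one_pow]
    rw [inv_pow]
    exact eq_inv_of_mul_eq_one_left h7
  have hpb := AdjoinRoot.powerBasis h.1.ne_zero
  have h7 : ((FiniteField.frobeniusAlgHom K (AdjoinRoot π)) ^ j) ζ = ζ⁻¹ ^ q := by
    rw [AlgHom.coe_pow, FiniteField.coe_frobeniusAlgHom, pow_iterate]
    exact h6
  have h8 : aeval (ζ⁻¹ ^ q) π = 0 := by
    rw [← h7, aeval_algHom_apply, AdjoinRoot.aeval_eq, AdjoinRoot.mk_self, map_zero]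
  rw [minpoly.eq_of_irreducible_of_monic hs.2.1 hkey hs.1,
    ← minpoly.eq_of_irreducible_of_monic h.2.1 h8 h.1]

theorem mod_four_of_srecip_eq_self (p : ℕ) [Fact p.Prime] [CharP K p]
    (hK : Fintype.card K = q ^ 2) (σ : K →+* K) (hσq : ∀ a, σ a = a ^ q)
    (r : ℕ) [hr : Fact r.Prime] (hr2 : r ≠ 2) (hqr : (q : ZMod r) ≠ 0) {π : K[X]}
    (hπ : π ∈ Rset K r) (hfix : srecip σ π = π) : orderOf (q : ZMod r) % 4 = 2 := by
  have hr0 := hr.out.pos
  have h := (mem_Rset hr0).1 hπ
  have : Fact (Irreducible π) := ⟨h.2.1⟩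
  have hkey := aeval_inv_pow_srecip p hK σ hσq r hπ
  rw [hfix] at hkey
  set ζ := AdjoinRoot.root π with hζ
  have hζr : ζ ^ r = 1 := by
    have h1 : AdjoinRoot.mk π (X ^ r - 1) = 0 := AdjoinRoot.mk_eq_zero.2 h.2.2.1
    rw [map_sub, map_pow, AdjoinRoot.mk_X, map_one, sub_eq_zero] at h1
    exact h1
  have hζ0 : ζ ≠ 0 := by
    intro h0
    rw [h0, zero_pow hr.out.ne_zero] at hζr
    exact zero_ne_one hζr
  have hζ1 : ζ ≠ 1 := by
    intro h1
    have h2 : AdjoinRoot.mk π (X - 1) = 0 := by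
      rw [map_sub, AdjoinRoot.mk_X, map_one, sub_eq_zero]; exact h1
    have h3 : π ∣ X - 1 := AdjoinRoot.mk_eq_zero.1 h2
    have h4 : Associated π (X - 1) := Irreducible.associated_of_dvd h.2.1 irreducible_X_sub_one h3
    exact h.2.2.2 (Polynomial.eq_of_monic_of_associated h.1 monic_X_sub_one h4)
  have hord : orderOf ζ = r := orderOf_eq_prime hζr hζ1
  have hpb := AdjoinRoot.powerBasis h.1.ne_zero
  have : Module.Finite K (AdjoinRoot π) := hpb.finite
  have : Finite (AdjoinRoot π) := Module.finite_of_finite K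
  let α : AdjoinRoot π →ₐ[K] AdjoinRoot π :=
    AdjoinRoot.liftAlgHom π (Algebra.ofId K (AdjoinRoot π)) (ζ⁻¹ ^ q) (by
      rw [aeval_def] at hkey
      exact hkey)
  have hαζ : α ζ = ζ⁻¹ ^ q := AdjoinRoot.liftAlgHom_root _ _ _ _
  obtain ⟨j, hj⟩ := (FiniteField.bijective_frobeniusAlgHom_pow K (AdjoinRoot π)).2 α
  have h1 : ζ ^ (Fintype.card K ^ (j : ℕ)) = ζ⁻¹ ^ q := by
    rw [← hαζ, ← hj]
    simp only [AlgHom.coe_pow, FiniteField.coe_frobeniusAlgHom, pow_iterate]
  have h2 : ζ ^ (Fintype.card K ^ (j : ℕ) + q) = 1 := by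
    rw [pow_add, h1, inv_pow, inv_mul_cancel₀ (pow_ne_zero _ hζ0)]
  have h3 : r ∣ Fintype.card K ^ (j : ℕ) + q := by
    rw [← hord]; exact orderOf_dvd_of_pow_eq_one h2
  have h4 : (q : ZMod r) ^ (2 * (j : ℕ)) + (q : ZMod r) = 0 := by
    have := (ZMod.natCast_eq_zero_iff _ _).2 h3
    rw [hK] at this
    push_cast at this
    rw [← pow_mul] at this
    exact this
  exact mod_four_of_pow_add r hr2 _ hqr j h4

end dich

section count
variable {K : Type*} [Field K] [Fintype K] {q n : ℕ}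

set_option maxHeartbeats 1600000 in
/-- the number of classes of elements of odd prime order `r ≠ p` of `GU_n(q)` -/
theorem card_gu_prime_order (p : ℕ) [Fact p.Prime] [CharP K p] (hK : Fintype.card K = q ^ 2)
    (r i b s : ℕ) (hr : r.Prime) (hr2 : r ≠ 2) (hrp : r ≠ p) (hi : i = orderOf (q : ZMod r))
    (hb : b = if Odd i then i else i / 2) (hs : s * b = r - 1) :
    Nat.card {C : ConjClasses ↥(Cfsg.GU n K q) //
      ∃ g : ↥(Cfsg.GU n K q), ConjClasses.mk g = C ∧ orderOf g = r} =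
    if i % 4 = 2 then Nat.choose (2 * n / i + s) s - 1
    else Nat.choose (n / (2 * b) + s / 2) (s / 2) - 1 := by
  classical
  obtain ⟨σ, hσq, hσ, c₀, hc₀⟩ := exists_sigma hK
  have : Fact r.Prime := ⟨hr⟩
  have hp : p.Prime := Fact.out
  have hr0 : 0 < r := hr.pos
  have hr2' := hr.two_le
  have hrF : (r : K) ≠ 0 := by
    intro h0
    rw [CharP.cast_eq_zero_iff K p] at h0
    exact hrp ((Nat.prime_dvd_prime_iff_eq hp hr).1 h0).symm
  have hb1 : 1 ≤ b := by
    rcases Nat.eq_zero_or_pos b with h | h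
    · subst h
      rw [mul_zero] at hs
      omega
    · exact h
  have hs1 : 0 < s := by
    rcases Nat.eq_zero_or_pos s with h | h
    · subst h
      rw [zero_mul] at hs
      omega
    · exact h
  have hi1 : 1 ≤ i := by
    rcases Nat.eq_zero_or_pos i with h | h
    · subst h
      simp at hb
      omega
    · exact h
  have hqr : (q : ZMod r) ≠ 0 := by
    intro h0
    rw [h0] at hi
    have : orderOf (0 : ZMod r) = 0 := by
      rw [orderOf_eq_zero_iff']
      intro k hk
      rw [zero_pow hk.ne']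
      exact zero_ne_one
    omega
  -- `b` is the order of `q ^ 2`
  have hb2 : b = orderOf ((Fintype.card K : ℕ) : ZMod r) := by
    rw [hK]
    push_cast
    rw [orderOf_pow' _ two_ne_zero, ← hi, hb]
    rcases Nat.even_or_odd i with he | ho
    · rw [if_neg (Nat.not_odd_iff_even.2 he)]
      have : i.gcd 2 = 2 := Nat.gcd_eq_right he.two_dvd
      rw [this]
    · rw [if_pos ho]
      have : i.gcd 2 = 1 := Nat.Coprime.symm (Nat.coprime_two_left.2 ho)
      rw [this, Nat.div_one]
  rw [card_gu_classes_eq hK p σ hσq hσ c₀ hc₀ n r b hr hrp hb2]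
  have : Nonempty (Fin s) := ⟨⟨0, hs1⟩⟩
  have hcard : (Rset K r).card = s := by
    have h1 := card_Rset_mul (F := K) r hrF
    rw [← hb2, ← hs] at h1
    exact Nat.eq_of_mul_eq_mul_right hb1 h1
  let e : Fin s ≃ ↥(Rset K r) := (Finset.equivFinOfCardEq hcard).symm
  let π : Fin s → K[X] := fun j => (e j : K[X])
  have hπinj : Function.Injective π := fun a b h => e.injective (Subtype.ext h)
  have hπmem : ∀ j, π j ∈ Rset K r := fun j => (e j).2
  have hπ : ∀ j, (π j).Monic ∧ Irreducible (π j) ∧ π j ∣ X ^ r - 1 ∧ π j ≠ X - 1 :=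
    fun j => (mem_Rset hr0).1 (e j).2
  have hπ0 : ∀ j, (π j).coeff 0 ≠ 0 := fun j => coeff_zero_ne_zero_of_mem_Rset hr0 (hπmem j)
  have hrange : ∀ x, x ∈ ((Rset K r : Finset K[X]) : Set K[X]) ↔ ∃ j, π j = x := by
    intro x
    constructor
    · intro hx
      exact ⟨e.symm ⟨x, hx⟩, by simp [π]⟩
    · rintro ⟨j, rfl⟩
      exact hπmem j
  have htrans := card_multiset_transport ((Rset K r : Finset K[X]) : Set K[X]) π hπinj hrange
    (fun M => M ≠ 0 ∧ b * Multiset.card M ≤ n ∧ M.map (srecip σ) = M)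
  refine Eq.trans htrans ?_
  by_cases h4 : i % 4 = 2
  · rw [if_pos h4]
    have hfixall : ∀ j, srecip σ (π j) = π j := fun j =>
      srecip_eq_self_of_mod_four p hK σ hσq hσ r (hπmem j) (hi ▸ h4)
    have hiff : ∀ M' : Multiset (Fin s),
        ((M'.map π ≠ 0 ∧ b * Multiset.card (M'.map π) ≤ n ∧
          (M'.map π).map (srecip σ) = M'.map π) ↔ (M' ≠ 0 ∧ b * Multiset.card M' ≤ n)) := by
      intro M'
      rw [Multiset.card_map]
      have hne : M'.map π ≠ 0 ↔ M' ≠ 0 := not_congr Multiset.map_eq_zero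
      rw [hne]
      refine and_congr_right (fun _ => ?_)
      refine and_iff_left_of_imp (fun _ => ?_)
      rw [Multiset.map_map]
      apply Multiset.map_congr rfl
      intro j _
      exact hfixall j
    rw [Nat.card_congr (Equiv.subtypeEquivRight hiff), card_multiset_ne_zero_le s b n hb1]
    have hib : i = 2 * b := by
      rw [hb, if_neg (by rw [Nat.odd_iff]; omega)]
      omega
    rw [hib, Nat.mul_div_mul_left n b (by norm_num)]
  · rw [if_neg h4]
    let τ : Fin s → Fin s := fun j => e.symm ⟨srecip σ (π j), srecip_mem_Rset σ hσ r (hπmem j)⟩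
    have hπτ : ∀ j, π (τ j) = srecip σ (π j) := by
      intro j
      simp [π, τ]
    have hτ : ∀ j, τ (τ j) = j := by
      intro j
      apply hπinj
      rw [hπτ, hπτ, srecip_srecip σ hσ _ (hπ j).1 (hπ0 j)]
    have hfix : ∀ j, τ j ≠ j := by
      intro j h
      have h1 := hπτ j
      rw [h] at h1
      apply h4
      rw [hi]
      exact mod_four_of_srecip_eq_self p hK σ hσq r hr2 hqr (hπmem j) h1.symm
    have hiff : ∀ M' : Multiset (Fin s),
        ((M'.map π ≠ 0 ∧ b * Multiset.card (M'.map π) ≤ n ∧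
          (M'.map π).map (srecip σ) = M'.map π) ↔
        (M' ≠ 0 ∧ b * Multiset.card M' ≤ 2 * (n / 2) ∧ M'.map τ = M')) := by
      intro M'
      rw [Multiset.card_map]
      have hne : M'.map π ≠ 0 ↔ M' ≠ 0 := not_congr Multiset.map_eq_zero
      rw [hne]
      refine and_congr_right (fun _ => ?_)
      have hmap : (M'.map π).map (srecip σ) = (M'.map τ).map π := by
        rw [Multiset.map_map, Multiset.map_map]
        apply Multiset.map_congr rfl
        intro j _
        exact (hπτ j).symm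
      rw [hmap]
      have hsym : (M'.map τ).map π = M'.map π ↔ M'.map τ = M' :=
        ⟨fun h => Multiset.map_injective hπinj h, fun h => by rw [h]⟩
      rw [hsym]
      constructor
      · rintro ⟨h1, h2⟩
        refine ⟨?_, h2⟩
        have hdec := symm_decomp hτ hfix M' h2
        have hcardM : Multiset.card M' = 2 * Multiset.card (M'.filter (· ∈ half τ)) := by
          conv_lhs => rw [hdec]
          rw [Multiset.card_add, Multiset.card_map]; ring
        rw [hcardM] at h1 ⊢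
        have : b * (2 * Multiset.card (M'.filter (· ∈ half τ))) =
            2 * (b * Multiset.card (M'.filter (· ∈ half τ))) := by ring
        rw [this] at h1 ⊢
        omega
      · rintro ⟨h1, h2⟩
        refine ⟨?_, h2⟩
        have := Nat.mul_div_le n 2
        omega
    rw [Nat.card_congr (Equiv.subtypeEquivRight hiff), card_symm_multisets hτ hfix b (n / 2)]
    have hhalf : (half τ).card = s / 2 := by
      have := card_half hτ hfix
      rw [Fintype.card_fin] at this
      omega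
    have hs2 : 0 < s / 2 := by
      have := card_half hτ hfix
      rw [Fintype.card_fin] at this
      omega
    have : Nonempty (Fin (s / 2)) := ⟨⟨0, hs2⟩⟩
    let e₁ : Fin (s / 2) ≃ ↥(half τ) := (Finset.equivFinOfCardEq hhalf).symm
    let π₁ : Fin (s / 2) → Fin s := fun j => (e₁ j : Fin s)
    have hπ₁inj : Function.Injective π₁ := fun a b h => e₁.injective (Subtype.ext h)
    have hrange₁ : ∀ x, x ∈ ((half τ : Finset (Fin s)) : Set (Fin s)) ↔ ∃ j, π₁ j = x := by
      intro x
      constructor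
      · intro hx
        exact ⟨e₁.symm ⟨x, hx⟩, by simp [π₁]⟩
      · rintro ⟨j, rfl⟩
        exact (e₁ j).2
    rw [card_multiset_transport ((half τ : Finset (Fin s)) : Set (Fin s)) π₁ hπ₁inj hrange₁
      (fun N => N ≠ 0 ∧ b * Multiset.card N ≤ n / 2)]
    have hiff₁ : ∀ N' : Multiset (Fin (s / 2)),
        ((N'.map π₁ ≠ 0 ∧ b * Multiset.card (N'.map π₁) ≤ n / 2) ↔
          (N' ≠ 0 ∧ b * Multiset.card N' ≤ n / 2)) := by
      intro N'
      rw [Multiset.card_map]
      exact and_congr_left (fun _ => not_congr Multiset.map_eq_zero)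
    rw [Nat.card_congr (Equiv.subtypeEquivRight hiff₁),
      card_multiset_ne_zero_le (s / 2) b (n / 2) hb1, Nat.div_div_eq_div_mul]

end count

end Cfsg.Agent.Lib.Helper44.GUSS
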