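import Mathlib

/-!
# Lang–Steinberg for `GL_n`: fixed vectors of injective Frobenius-semilinear maps span
-/

set_option autoImplicit false

namespace Cfsg.Agent.Lib.Helper44

open Polynomial

section poly

variable {K : Type*} [Field K] (q : ℕ) (a : ℕ → K)

/-- The additive polynomials `F_j` with `F_0 = 0`, `F_{j+1} = F_j ^ q + a_j T ^ q`. -/
noncomputable def langPoly : ℕ → K[X]
  | 0 => 0
  | (j + 1) => (langPoly j) ^ q + C (a j) * X ^ q

lemma langPoly_zero : langPoly q a 0 = 0 := rfl

lemma langPoly_succ (j : ℕ) :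
    langPoly q a (j + 1) = (langPoly q a j) ^ q + C (a j) * X ^ q := rfl

lemma X_sq_dvd_langPoly (hq : 2 ≤ q) (j : ℕ) : (X : K[X]) ^ 2 ∣ langPoly q a j := by
  induction j with
  | zero => simp [langPoly_zero]
  | succ j ih =>
    rw [langPoly_succ]
    refine dvd_add (ih.trans (dvd_pow_self _ (by omega))) ?_
    exact Dvd.dvd.mul_left (pow_dvd_pow X hq) _

lemma langPoly_natDegree (hq : 2 ≤ q) (j : ℕ) :
    (langPoly q a j = 0 ∧ ∀ i < j, a i = 0) ∨ q ≤ (langPoly q a j).natDegree := by
  induction j with
  | zero => left; exact ⟨rfl, fun i hi => absurd hi (Nat.not_lt_zero i)⟩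
  | succ j ih =>
    rw [langPoly_succ]
    rcases ih with ⟨h0, hz⟩ | hdeg
    · rw [h0, zero_pow (by omega : q ≠ 0), zero_add]
      by_cases haj : a j = 0
      · left
        refine ⟨by simp [haj], fun i hi => ?_⟩
        rcases Nat.lt_succ_iff_lt_or_eq.mp hi with h | h
        · exact hz i h
        · rw [h]; exact haj
      · right
        rw [natDegree_C_mul_X_pow q (a j) haj]
    · right
      have h1 : (C (a j) * X ^ q : K[X]).natDegree < ((langPoly q a j) ^ q).natDegree := by
        rw [natDegree_pow]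
        calc (C (a j) * X ^ q : K[X]).natDegree ≤ q := natDegree_C_mul_X_pow_le (a j) q
          _ < q * q := by nlinarith
          _ ≤ q * (langPoly q a j).natDegree := Nat.mul_le_mul_left q hdeg
      rw [natDegree_add_eq_left_of_natDegree_lt h1, natDegree_pow]
      calc q ≤ q * q := by nlinarith
        _ ≤ q * (langPoly q a j).natDegree := Nat.mul_le_mul_left q hdeg

lemma exists_langPoly_fixed [IsAlgClosed K] (hq : 2 ≤ q) (r : ℕ) (ha : ∃ i < r, a i ≠ 0) :
    ∃ t : K, t ≠ 0 ∧ (langPoly q a r).eval t = t := by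
  obtain ⟨D, hD⟩ := X_sq_dvd_langPoly q a hq r
  have hdeg : q ≤ (langPoly q a r).natDegree := by
    rcases langPoly_natDegree q a hq r with ⟨-, hz⟩ | h
    · obtain ⟨i, hi, hai⟩ := ha
      exact absurd (hz i hi) hai
    · exact h
  have hD0 : D ≠ 0 := by
    rintro rfl
    rw [mul_zero] at hD
    rw [hD, natDegree_zero] at hdeg
    omega
  have hXD : 1 ≤ (X * D : K[X]).natDegree := by
    rw [natDegree_mul X_ne_zero hD0, natDegree_X]
    omega
  have hQ : (X * D - 1 : K[X]).degree ≠ 0 := by
    have h1 : (X * D - 1 : K[X]).natDegree = (X * D : K[X]).natDegree :=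
      natDegree_sub_eq_left_of_natDegree_lt (by rw [natDegree_one]; omega)
    intro h
    have h2 : (X * D - 1 : K[X]).natDegree = 0 :=
      natDegree_eq_zero_iff_degree_le_zero.mpr h.le
    omega
  obtain ⟨t, ht⟩ := IsAlgClosed.exists_root _ hQ
  have ht' : t * D.eval t = 1 := by
    have : (X * D - 1 : K[X]).eval t = 0 := ht
    simpa [sub_eq_zero] using this
  refine ⟨t, ?_, ?_⟩
  · rintro rfl
    simp at ht'
  · rw [hD, eval_mul, eval_pow, eval_X, pow_two, mul_assoc, ht', mul_one]

end poly

section semilinear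

variable {K : Type*} [Field K] [IsAlgClosed K] {σ : K →+* K}

/-- An injective `q`-Frobenius-semilinear endomorphism of a nonzero finite-dimensional space over
an algebraically closed field has a nonzero fixed vector. -/
theorem exists_fixed_ne_zero {V : Type*} [AddCommGroup V] [Module K V] [FiniteDimensional K V]
    [Nontrivial V] (q : ℕ) (hq : 2 ≤ q) (hσ : ∀ c, σ c = c ^ q) (φ : V →ₛₗ[σ] V)
    (hinj : Function.Injective φ) : ∃ w : V, w ≠ 0 ∧ φ w = w := by
  classical
  obtain ⟨v, hv⟩ := exists_ne (0 : V)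
  have hex : ∃ r, ¬ LinearIndependent K (fun j : Fin (r + 1) => φ^[j] v) := by
    refine ⟨Module.finrank K V, fun h => ?_⟩
    have := h.fintype_card_le_finrank
    simp at this
  obtain ⟨r, hdep, hmin⟩ : ∃ r, ¬ LinearIndependent K (fun j : Fin (r + 1) => φ^[j] v) ∧
      ∀ m < r, LinearIndependent K (fun j : Fin (m + 1) => φ^[j] v) :=
    ⟨Nat.find hex, Nat.find_spec hex, fun m hm => not_not.mp (Nat.find_min hex hm)⟩
  have hind : LinearIndependent K (fun j : Fin r => φ^[j] v) := by
    cases r with
    | zero => exact linearIndependent_empty_type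
    | succ m => exact hmin m (Nat.lt_succ_self m)
  have hmem : φ^[r] v ∈ Submodule.span K (Set.range (fun j : Fin r => φ^[j] v)) := by
    by_contra hnot
    apply hdep
    rw [linearIndependent_finSucc']
    exact ⟨hind, hnot⟩
  obtain ⟨c, hc⟩ := (Submodule.mem_span_range_iff_exists_fun K).mp hmem
  let a : ℕ → K := fun j => if h : j < r then c ⟨j, h⟩ else 0
  have hrel : ∑ j ∈ Finset.range r, a j • φ^[j] v = φ^[r] v := by
    rw [Finset.sum_range, ← hc]
    refine Finset.sum_congr rfl fun i _ => ?_
    simp [a, i.2]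
  have hne : φ^[r] v ≠ 0 := by
    intro h
    apply hv
    apply hinj.iterate r
    rw [h, iterate_map_zero]
  have ha : ∃ i < r, a i ≠ 0 := by
    by_contra hall
    simp only [not_exists, not_and, not_not] at hall
    apply hne
    rw [← hrel]
    exact Finset.sum_eq_zero fun j hj => by rw [hall j (Finset.mem_range.mp hj), zero_smul]
  obtain ⟨t, ht0, ht⟩ := exists_langPoly_fixed q a hq r ha
  let e : ℕ → K := fun j => (langPoly q a j).eval t
  have he0 : e 0 = 0 := by simp [e, langPoly_zero]
  have hesucc : ∀ j, e (j + 1) = e j ^ q + a j * t ^ q := by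
    intro j
    simp [e, langPoly_succ]
  have her : e r = t := ht
  let w : V := ∑ j ∈ Finset.range r, e (j + 1) • φ^[j] v
  refine ⟨w, ?_, ?_⟩
  · intro hw
    obtain ⟨i, hi, -⟩ := ha
    have hsum : ∑ j : Fin r, e (j + 1) • φ^[j] v = 0 := by
      rw [← Finset.sum_range (fun j => e (j + 1) • φ^[j] v)]
      exact hw
    have h1 := Fintype.linearIndependent_iff.mp hind (fun j => e (j + 1)) hsum ⟨r - 1, by omega⟩
    have h2 : e (r - 1 + 1) = t := by
      rw [Nat.sub_add_cancel (by omega)]
      exact her
    exact ht0 (h2 ▸ h1)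
  · have h1 : φ w = ∑ j ∈ Finset.range r, (e (j + 1)) ^ q • φ^[j + 1] v := by
      simp only [w, map_sum, LinearMap.map_smulₛₗ, hσ, Function.iterate_succ_apply']
    have h2 : w = ∑ j ∈ Finset.range r, (e j) ^ q • φ^[j] v + t ^ q • φ^[r] v := by
      simp only [w, hesucc, add_smul, Finset.sum_add_distrib]
      congr 1
      rw [← hrel, Finset.smul_sum]
      refine Finset.sum_congr rfl fun j _ => ?_
      rw [smul_smul, mul_comm]
    have h3 := Finset.sum_range_succ' (fun j => (e j) ^ q • φ^[j] v) r
    have h4 := Finset.sum_range_succ (fun j => (e j) ^ q • φ^[j] v) r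
    simp only [her, he0, zero_pow (by omega : q ≠ 0), zero_smul, add_zero] at h3 h4
    rw [h1, h2, ← h3, h4]

/-- The fixed vectors of an injective `q`-Frobenius-semilinear endomorphism of a finite-dimensional
space over an algebraically closed field span the space. -/
theorem span_fixed_eq_top {V : Type*} [AddCommGroup V] [Module K V] [FiniteDimensional K V]
    (q : ℕ) (hq : 2 ≤ q) (hσ : ∀ c, σ c = c ^ q) (φ : V →ₛₗ[σ] V)
    (hinj : Function.Injective φ) : Submodule.span K {w : V | φ w = w} = ⊤ := by
  by_contra hS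
  set S := Submodule.span K {w : V | φ w = w} with hSdef
  have hfixS : ∀ w, φ w = w → w ∈ S := fun w hw => Submodule.subset_span hw
  have hAS : ∀ t ∈ S, ∀ c : K, ∃ s ∈ S, s - φ s = c • t := by
    intro t ht
    induction ht using Submodule.span_induction with
    | mem w hw =>
      intro c
      have hdeg : (X ^ q - X + C c : K[X]).degree ≠ 0 := by
        have h1 : (X ^ q - X : K[X]).natDegree = q :=
          FiniteField.X_pow_card_sub_X_natDegree_eq K (by omega)
        have h2 : 0 < (X ^ q - X : K[X]).degree := by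
          rw [← natDegree_pos_iff_degree_pos, h1]
          omega
        rw [degree_add_C h2]
        exact h2.ne'
      obtain ⟨b, hb⟩ := IsAlgClosed.exists_root _ hdeg
      have hb' : b ^ q - b + c = 0 := by simpa using hb
      have hw' : φ w = w := hw
      refine ⟨b • w, S.smul_mem _ (hfixS w hw), ?_⟩
      rw [map_smulₛₗ, hσ, hw', ← sub_smul]
      congr 1
      linear_combination (-1 : K) * hb'
    | zero =>
      intro c
      exact ⟨0, S.zero_mem, by simp⟩
    | add t1 t2 _ _ h1 h2 =>
      intro c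
      obtain ⟨s1, hs1, e1⟩ := h1 c
      obtain ⟨s2, hs2, e2⟩ := h2 c
      exact ⟨s1 + s2, S.add_mem hs1 hs2, by rw [map_add, smul_add, ← e1, ← e2]; abel⟩
    | smul d t _ h =>
      intro c
      obtain ⟨s, hs, e⟩ := h (c * d)
      exact ⟨s, hs, by rw [e, mul_smul]⟩
  have hroot : ∀ t ∈ S, ∀ c : K, ∃ s ∈ S, φ s = c • t := by
    intro t ht
    induction ht using Submodule.span_induction with
    | mem w hw =>
      intro c
      obtain ⟨b, hb⟩ := IsAlgClosed.exists_pow_nat_eq c (by omega : 0 < q)
      have hw' : φ w = w := hw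
      exact ⟨b • w, S.smul_mem b (hfixS w hw), by rw [map_smulₛₗ, hσ, hb, hw']⟩
    | zero =>
      intro c
      exact ⟨0, S.zero_mem, by simp⟩
    | add t1 t2 _ _ h1 h2 =>
      intro c
      obtain ⟨s1, hs1, e1⟩ := h1 c
      obtain ⟨s2, hs2, e2⟩ := h2 c
      exact ⟨s1 + s2, S.add_mem hs1 hs2, by rw [map_add, smul_add, ← e1, ← e2]⟩
    | smul d t _ h =>
      intro c
      obtain ⟨s, hs, e⟩ := h (c * d)
      exact ⟨s, hs, by rw [e, mul_smul]⟩
  have hpre : ∀ u, φ u ∈ S → u ∈ S := by
    intro u hu
    obtain ⟨s, hs, e⟩ := hroot _ hu 1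
    rw [one_smul] at e
    rwa [← hinj e]
  have hle : S ≤ S.comap φ := by
    rw [hSdef]
    refine Submodule.span_le.mpr fun w hw => ?_
    have hw' : φ w = w := hw
    rw [SetLike.mem_coe, Submodule.mem_comap, hw']
    exact Submodule.subset_span hw
  let φ' : (V ⧸ S) →ₛₗ[σ] (V ⧸ S) := S.mapQ S φ hle
  have hinj' : Function.Injective φ' := by
    rw [injective_iff_map_eq_zero]
    intro x
    induction x using Submodule.Quotient.induction_on with
    | H u =>
      intro h
      rw [Submodule.mapQ_apply, Submodule.Quotient.mk_eq_zero] at h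
      rw [Submodule.Quotient.mk_eq_zero]
      exact hpre u h
  have : Nontrivial (V ⧸ S) := Submodule.Quotient.nontrivial_iff.mpr hS
  obtain ⟨x, hx0, hx⟩ := exists_fixed_ne_zero q hq hσ φ' hinj'
  induction x using Submodule.Quotient.induction_on with
  | H u =>
    apply hx0
    rw [Submodule.Quotient.mk_eq_zero]
    rw [Submodule.mapQ_apply, Submodule.Quotient.eq] at hx
    obtain ⟨s, hs, e⟩ := hAS _ hx 1
    rw [one_smul] at e
    have hfix : φ (u + s) = u + s := by
      rw [map_add]
      have h1 : φ u + φ s - (u + s) = 0 := by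
        have h2 : φ u + φ s - (u + s) = (φ u - u) - (s - φ s) := by abel
        rw [h2, e, sub_self]
      exact sub_eq_zero.mp h1
    have h3 : u + s ∈ S := hfixS _ hfix
    have h4 := S.sub_mem h3 hs
    simpa using h4

/-- **Lang–Steinberg for `GL_n`** with respect to any ring endomorphism `σ` of the algebraically
closed field `K` of the form `c ↦ c ^ q`, `q ≥ 2`. -/
theorem lang_steinberg_GL (q : ℕ) (hq : 2 ≤ q) (hσ : ∀ c, σ c = c ^ q) (n : ℕ)
    (g : GL (Fin n) K) :
    ∃ x : GL (Fin n) K, g = x * (Matrix.GeneralLinearGroup.map σ x)⁻¹ := by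
  classical
  let φ : (Fin n → K) →ₛₗ[σ] (Fin n → K) :=
    { toFun := fun v => g.val.mulVec (σ ∘ v)
      map_add' := by
        intro u w
        have h1 : σ ∘ (u + w) = σ ∘ u + σ ∘ w := by
          funext i
          simp
        rw [h1, Matrix.mulVec_add]
      map_smul' := by
        intro c u
        have h1 : σ ∘ (c • u) = σ c • (σ ∘ u) := by
          funext i
          simp
        rw [h1, Matrix.mulVec_smul] }
  have hφ : ∀ v, φ v = g.val.mulVec (σ ∘ v) := fun v => rfl
  have hinj : Function.Injective φ := by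
    intro u w huw
    rw [hφ, hφ] at huw
    have h1 := congrArg (fun z => (g⁻¹).val.mulVec z) huw
    simp only [Matrix.mulVec_mulVec, ← Units.val_mul, inv_mul_cancel, Units.val_one,
      Matrix.one_mulVec] at h1
    funext i
    exact σ.injective (congrFun h1 i)
  have hspan := span_fixed_eq_top q hq hσ φ hinj
  let b0 := Module.Basis.ofSpan hspan.ge
  have hb0 : ∀ i, φ (b0 i) = b0 i := fun i =>
    Module.Basis.ofSpan_subset hspan.ge (Set.mem_range_self i)
  let e := b0.indexEquiv (Pi.basisFun K (Fin n))
  let b := b0.reindex e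
  have hb : ∀ j, φ (b j) = b j := by
    intro j
    simp only [b, Module.Basis.reindex_apply]
    exact hb0 _
  let X : Matrix (Fin n) (Fin n) K := (Pi.basisFun K (Fin n)).toMatrix b
  have hX : ∀ i j, X i j = b j i := by
    intro i j
    simp [X, Module.Basis.toMatrix_apply]
  haveI : Invertible X := Module.Basis.invertibleToMatrix (Pi.basisFun K (Fin n)) b
  let x : GL (Fin n) K := unitOfInvertible X
  have hxX : x.val = X := rfl
  refine ⟨x, ?_⟩
  rw [eq_mul_inv_iff_mul_eq]
  apply Units.ext
  ext i j
  rw [Units.val_mul, Matrix.mul_apply, hxX, hX]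
  have h1 := congrFun (hb j) i
  rw [hφ] at h1
  rw [← h1]
  simp only [Matrix.mulVec, dotProduct, Function.comp]
  refine Finset.sum_congr rfl fun k _ => ?_
  rw [Matrix.GeneralLinearGroup.map_apply, hxX, hX]

end semilinear

end Cfsg.Agent.Lib.Helper44
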