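import Mathlib
import Cfsg.Agent.Lib.Helper75.LoCountDefs

/-! # LO-COUNT sub-split (architect helper75; Lo sub-hive of helper21, We hive S2347): leaf COUNT-VEC. -/

set_option autoImplicit false

namespace Cfsg.Agent.Lib.Helper21.Lo

open Matrix

variable {F : Type*} [Field F] [Fintype F] [DecidableEq F]

/-- aux: `e_i ⬝ᵥ M *ᵥ e_j = M i j` -/
theorem countvec_single {F : Type*} [Field F] (n : ℕ) (M : Matrix (Fin n) (Fin n) F) (i j : Fin n) :
    (Pi.single i (1 : F) : Fin n → F) ⬝ᵥ M *ᵥ (Pi.single j (1 : F) : Fin n → F) = M i j := by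
  rw [Matrix.mulVec_single_one, single_one_dotProduct]
  rfl

/-- COUNT-VEC (E). `M` symmetric `≠ 0`, `2 ≠ 0`: some `v` has `Q v ≠ 0`. -/
theorem count_exists_vec (h2 : (2 : F) ≠ 0) (n : ℕ) (M : Matrix (Fin n) (Fin n) F)
    (hM : M.transpose = M) (h0 : M ≠ 0) : ∃ v : Fin n → F, v ⬝ᵥ M *ᵥ v ≠ 0 := by
  by_contra h
  push Not at h
  apply h0
  have hii : ∀ i, M i i = 0 := by
    intro i
    rw [← countvec_single n M i i]
    exact h _
  ext i j
  have hs : M j i = M i j := by
    have := congrFun (congrFun hM i) j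
    simpa [Matrix.transpose_apply] using this
  have h1 := h (Pi.single i (1 : F) + Pi.single j (1 : F))
  rw [Matrix.mulVec_add, add_dotProduct, dotProduct_add, dotProduct_add,
    countvec_single, countvec_single, countvec_single, countvec_single, hii, hii, hs] at h1
  have h3 : (2 : F) * M i j = 0 := by
    rw [← h1]; ring
  rcases mul_eq_zero.1 h3 with h4 | h4
  · exact absurd h4 h2
  · simpa using h4

end Cfsg.Agent.Lib.Helper21.Lo
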