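import Cfsg.Agent.Lib.Helper6.Ls.Defs
import Cfsg.Agent.Lib.Helper13.UnitaryConfig
import Cfsg.Agent.Lib.Helper13.UnitaryLift
import Cfsg.Agent.Lib.Helper13.UnitaryComm
import Cfsg.Agent.Lib.Helper5.HermPerp
import Cfsg.Agent.Lib.Helper8.LsCEMAT
import Cfsg.Prelude.Def_Classical

set_option autoImplicit false
set_option linter.unusedSectionVars false
set_option linter.unusedVariables false

/-! Ls hive (helper6, S2334 / S2335): leaf C-HEIS `exists_heis_data` (helper44). -/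

namespace Cfsg.Agent.Lib.Helper6.Ls

open Module Cfsg.Agent.Lib.Helper99

section concrete

variable {F : Type*} [Field F] [Fintype F] {q : ℕ}

/-! ### identities in `GL` -/

theorem heis_Eelt_one (hF : Fintype.card F = q ^ 2) {n : ℕ} (e : Fin n → F)
    (hee : Cfsg.hermForm n F q e e = 0) : Eelt q e 0 0 = 1 := by
  apply Units.ext
  rw [coe_Eelt hF e 0 hee (hermForm_zero_left e) 0, Emat_zero hF]
  rfl

theorem heis_neg_perp (hF : Fintype.card F = q ^ 2) {n : ℕ} (e w : Fin n → F)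
    (hwe : Cfsg.hermForm n F q w e = 0) : Cfsg.hermForm n F q (-w) e = 0 := by
  rw [hermForm_neg_left, hwe, neg_zero]

theorem heis_add_perp (hF : Fintype.card F = q ^ 2) {n : ℕ} (e w w' : Fin n → F)
    (hwe : Cfsg.hermForm n F q w e = 0) (hw'e : Cfsg.hermForm n F q w' e = 0) :
    Cfsg.hermForm n F q (w + w') e = 0 := by
  rw [Helper13.hermForm_add_left, hwe, hw'e, add_zero]

theorem heis_inv (hF : Fintype.card F = q ^ 2) {n : ℕ} (e w : Fin n → F)
    (hee : Cfsg.hermForm n F q e e = 0) (hwe : Cfsg.hermForm n F q w e = 0) (c : F) :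
    (Eelt q e w c)⁻¹ = Eelt q e (-w) (-c - Cfsg.hermForm n F q w w) := by
  apply inv_eq_of_mul_eq_one_right
  rw [Eelt_mul hF e w (-w) hee hwe (heis_neg_perp hF e w hwe), hermForm_neg_left]
  have h1 : w + -w = 0 := add_neg_cancel w
  have h2 : c + (-c - Cfsg.hermForm n F q w w) - -Cfsg.hermForm n F q w w = 0 := by ring
  rw [h1, h2]
  exact heis_Eelt_one hF e hee

theorem heis_conj (hF : Fintype.card F = q ^ 2) {n : ℕ} (e v w : Fin n → F)
    (hee : Cfsg.hermForm n F q e e = 0) (hve : Cfsg.hermForm n F q v e = 0)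
    (hwe : Cfsg.hermForm n F q w e = 0) (d c : F) :
    (Eelt q e v d)⁻¹ * Eelt q e w c * Eelt q e v d =
      Eelt q e w (c + Cfsg.hermForm n F q w v - Cfsg.hermForm n F q v w) := by
  have hnve := heis_neg_perp hF e v hve
  rw [heis_inv hF e v hee hve, Eelt_mul hF e (-v) w hee hnve hwe,
    Eelt_mul hF e (-v + w) v hee (heis_add_perp hF e (-v) w hnve hwe) hve]
  have h1 : -v + w + v = w := by abel
  have h2 : -d - Cfsg.hermForm n F q v v + c - Cfsg.hermForm n F q w (-v) + d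
      - Cfsg.hermForm n F q v (-v + w)
      = c + Cfsg.hermForm n F q w v - Cfsg.hermForm n F q v w := by
    rw [hermForm_neg_right hF, Helper13.hermForm_add_right hF, hermForm_neg_right hF]
    ring
  rw [h1, h2]

theorem heis_div (hF : Fintype.card F = q ^ 2) {n : ℕ} (e w : Fin n → F)
    (hee : Cfsg.hermForm n F q e e = 0) (hwe : Cfsg.hermForm n F q w e = 0) (c₁ c₂ : F) :
    Eelt q e w c₁ * (Eelt q e w c₂)⁻¹ = utv q e (c₁ - c₂) := by
  rw [heis_inv hF e w hee hwe, Eelt_mul hF e w (-w) hee hwe (heis_neg_perp hF e w hwe),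
    hermForm_neg_left]
  have h1 : w + -w = 0 := add_neg_cancel w
  have h2 : c₁ + (-c₂ - Cfsg.hermForm n F q w w) - -Cfsg.hermForm n F q w w = c₁ - c₂ := by ring
  rw [h1, h2]
  exact Eelt_zero_eq_utv hF e hee _

theorem heis_comm (hF : Fintype.card F = q ^ 2) {n : ℕ} (e v w : Fin n → F)
    (hee : Cfsg.hermForm n F q e e = 0) (hve : Cfsg.hermForm n F q v e = 0)
    (hwe : Cfsg.hermForm n F q w e = 0) (d c : F) :
    (Eelt q e v d)⁻¹ * Eelt q e w c * Eelt q e v d * (Eelt q e w c)⁻¹ =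
      utv q e (Cfsg.hermForm n F q w v - Cfsg.hermForm n F q v w) := by
  rw [heis_conj hF e v w hee hve hwe, heis_div hF e w hee hwe]
  congr 1
  ring

/-! ### `pad2` and the hermitian form -/

theorem heis_pad2_zero {m : ℕ} : pad2 (0 : Fin m → F) = 0 := by
  funext k
  refine Fin.cases ?_ (fun k => Fin.cases ?_ (fun k => ?_) k) k <;> simp [pad2]

theorem heis_pad2_add {m : ℕ} (a b : Fin m → F) : pad2 (a + b) = pad2 a + pad2 b := by
  funext k
  refine Fin.cases ?_ (fun k => Fin.cases ?_ (fun k => ?_) k) k <;> simp [pad2]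

theorem heis_pad2_neg {m : ℕ} (a : Fin m → F) : pad2 (-a) = -pad2 a := by
  funext k
  refine Fin.cases ?_ (fun k => Fin.cases ?_ (fun k => ?_) k) k <;> simp [pad2]

theorem heis_herm_pad2 {m : ℕ} (a b : Fin m → F) :
    Cfsg.hermForm (m + 2) F q (pad2 a) (pad2 b) = Cfsg.hermForm m F q a b := by
  unfold Cfsg.hermForm
  rw [Fin.sum_univ_succ, Fin.sum_univ_succ]
  simp [pad2]

theorem heis_pad2_perp (hq0 : q ≠ 0) {m : ℕ} (e : Fin (m + 2) → F)
    (hsupp : ∀ k : Fin (m + 2), k ≠ 0 → k ≠ 1 → e k = 0) (a : Fin m → F) :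
    Cfsg.hermForm (m + 2) F q (pad2 a) e = 0 := by
  apply Helper13.hermForm_eq_zero_of_disjoint _ _ _ hq0
  intro k
  by_cases h0 : k = 0
  · left
    rw [h0]
    simp [pad2]
  by_cases h1 : k = 1
  · left
    rw [h1]
    have : (1 : Fin (m + 2)) = Fin.succ 0 := rfl
    rw [this]
    simp [pad2]
  · right
    exact hsupp k h0 h1

theorem heis_herm_single_left {m : ℕ} (k : Fin m) (t : F) (b : Fin m → F) :
    Cfsg.hermForm m F q (Pi.single k t) b = t * (b k) ^ q := by
  classical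
  unfold Cfsg.hermForm
  rw [Finset.sum_eq_single k]
  · rw [Pi.single_eq_same]
  · intro j _ hj
    rw [Pi.single_eq_of_ne hj, zero_mul]
  · intro h
    exact absurd (Finset.mem_univ k) h

theorem heis_herm_single_right (hq0 : q ≠ 0) {m : ℕ} (k : Fin m) (t : F) (a : Fin m → F) :
    Cfsg.hermForm m F q a (Pi.single k t) = a k * t ^ q := by
  classical
  unfold Cfsg.hermForm
  rw [Finset.sum_eq_single k]
  · rw [Pi.single_eq_same]
  · intro j _ hj
    rw [Pi.single_eq_of_ne hj, zero_pow hq0, mul_zero]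
  · intro h
    exact absurd (Finset.mem_univ k) h

theorem heis_herm_symm {m : ℕ} (v v' : Fin m → F) (hv : ∀ k, v k ^ q = v k)
    (hv' : ∀ k, v' k ^ q = v' k) :
    Cfsg.hermForm m F q v v' = Cfsg.hermForm m F q v' v := by
  unfold Cfsg.hermForm
  apply Finset.sum_congr rfl
  intro k _
  rw [hv, hv', mul_comm]

/-- elements of the root subgroup are root elements -/
theorem heis_mem_Zgrp (hF : Fintype.card F = q ^ 2) {n : ℕ} (e : Fin n → F)
    (hee : Cfsg.hermForm n F q e e = 0) (z : SUg F n q) (hz : z ∈ Zgrp e) :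
    ∃ c : F, c + c ^ q = 0 ∧ (z : GL (Fin n) F) = utv q e c := by
  have hq0 : q ≠ 0 := by have := q_ge_two hF; omega
  unfold Zgrp at hz
  induction hz using Subgroup.closure_induction with
  | mem x hx => exact hx
  | one => exact ⟨0, by rw [zero_pow hq0, add_zero], by rw [Helper13.utv_zero e hee]; rfl⟩
  | mul x y _ _ hx hy =>
    obtain ⟨c, hc, hxc⟩ := hx
    obtain ⟨c', hc', hyc⟩ := hy
    refine ⟨c + c', ?_, ?_⟩
    · rw [frob_add hF]
      linear_combination hc + hc'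
    · rw [Subgroup.coe_mul, hxc, hyc, Helper13.utv_add e hee]
  | inv x _ hx =>
    obtain ⟨c, hc, hxc⟩ := hx
    refine ⟨-c, Helper13.trace_zero_neg hF hc, ?_⟩
    rw [Subgroup.coe_inv, hxc, Helper13.utv_inv e hee]

theorem heis_comm_coe (hF : Fintype.card F = q ^ 2) {n : ℕ} (e v w : Fin n → F)
    (hee : Cfsg.hermForm n F q e e = 0) (hve : Cfsg.hermForm n F q v e = 0)
    (hwe : Cfsg.hermForm n F q w e = 0) (d c : F) (y a : SUg F n q)
    (hy : (y : GL (Fin n) F) = Eelt q e v d) (ha : (a : GL (Fin n) F) = Eelt q e w c) :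
    ((y⁻¹ * a * y * a⁻¹ : SUg F n q) : GL (Fin n) F) =
      utv q e (Cfsg.hermForm n F q w v - Cfsg.hermForm n F q v w) := by
  rw [Subgroup.coe_mul, Subgroup.coe_mul, Subgroup.coe_mul, Subgroup.coe_inv, Subgroup.coe_inv,
    ha, hy, heis_comm hF e v w hee hve hwe]

theorem heis_sep_coe (hF : Fintype.card F = q ^ 2) {n : ℕ} (e v v' w : Fin n → F)
    (hee : Cfsg.hermForm n F q e e = 0) (hve : Cfsg.hermForm n F q v e = 0)
    (hv'e : Cfsg.hermForm n F q v' e = 0)
    (hwe : Cfsg.hermForm n F q w e = 0) (d d' c : F) (y y' a : SUg F n q)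
    (hy : (y : GL (Fin n) F) = Eelt q e v d) (hy' : (y' : GL (Fin n) F) = Eelt q e v' d')
    (ha : (a : GL (Fin n) F) = Eelt q e w c) :
    ((y⁻¹ * a * y * (y'⁻¹ * a * y')⁻¹ : SUg F n q) : GL (Fin n) F) =
      utv q e ((Cfsg.hermForm n F q w v - Cfsg.hermForm n F q v w)
        - (Cfsg.hermForm n F q w v' - Cfsg.hermForm n F q v' w)) := by
  rw [Subgroup.coe_mul, Subgroup.coe_inv, Subgroup.coe_mul, Subgroup.coe_mul, Subgroup.coe_mul,
    Subgroup.coe_mul, Subgroup.coe_inv, Subgroup.coe_inv, ha, hy, hy',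
    heis_conj hF e v w hee hve hwe, heis_conj hF e v' w hee hv'e hwe, heis_div hF e w hee hwe]
  congr 1
  ring

theorem heis_comm_gen (hF : Fintype.card F = q ^ 2) {n : ℕ} (e v : Fin n → F)
    (hee : Cfsg.hermForm n F q e e = 0) (hve : Cfsg.hermForm n F q v e = 0) (d c : F)
    (y g : SUg F n q) (hy : (y : GL (Fin n) F) = Eelt q e v d) (hg : (g : GL (Fin n) F) = utv q e c) :
    y * g = g * y := by
  apply Subtype.ext
  rw [Subgroup.coe_mul, Subgroup.coe_mul, hg, hy, ← Eelt_zero_eq_utv hF e hee,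
    Eelt_mul hF e v 0 hee hve (hermForm_zero_left e),
    Eelt_mul hF e 0 v hee (hermForm_zero_left e) hve,
    hermForm_zero_left, hermForm_zero_right hF, add_zero, zero_add, add_comm c]

theorem heis_exists_Q1 (hF : Fintype.card F = q ^ 2) (m : ℕ) (e : Fin (m + 2) → F)
    (hee : Cfsg.hermForm (m + 2) F q e e = 0)
    (hpe : ∀ a : Fin m → F, Cfsg.hermForm (m + 2) F q (pad2 a) e = 0) :
    ∃ Q1 : Subgroup (SUg F (m + 2) q), ∀ g : SUg F (m + 2) q, g ∈ Q1 ↔
      ∃ (v : Fin m → F) (c : F), (∀ k, v k ^ q = v k) ∧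
        c + c ^ q + Cfsg.hermForm (m + 2) F q (pad2 v) (pad2 v) = 0 ∧
        (g : GL (Fin (m + 2)) F) = Eelt q e (pad2 v) c := by
  have hq2 := q_ge_two hF
  have hq0 : q ≠ 0 := by omega
  refine ⟨
    { carrier := {g | ∃ (v : Fin m → F) (c : F), (∀ k, v k ^ q = v k) ∧
        c + c ^ q + Cfsg.hermForm (m + 2) F q (pad2 v) (pad2 v) = 0 ∧
        (g : GL (Fin (m + 2)) F) = Eelt q e (pad2 v) c}
      mul_mem' := by
        rintro a b ⟨v, c, hv, hc, ha⟩ ⟨v', c', hv', hc', hb⟩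
        refine ⟨v + v', c + c' - Cfsg.hermForm (m + 2) F q (pad2 v') (pad2 v), ?_, ?_, ?_⟩
        · intro k
          rw [Pi.add_apply, frob_add hF, hv, hv']
        · rw [heis_pad2_add, frob_sub hF, frob_add hF, Helper13.hermForm_conj hF,
            Helper13.hermForm_add_left, Helper13.hermForm_add_right hF, Helper13.hermForm_add_right hF]
          linear_combination hc + hc'
        · rw [Subgroup.coe_mul, ha, hb, Eelt_mul hF e (pad2 v) (pad2 v') hee (hpe v) (hpe v'),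
            heis_pad2_add]
      one_mem' := by
        refine ⟨0, 0, fun k => by rw [Pi.zero_apply, zero_pow hq0], ?_, ?_⟩
        · rw [heis_pad2_zero, hermForm_zero_left, zero_pow hq0, add_zero, add_zero]
        · rw [heis_pad2_zero, heis_Eelt_one hF e hee]
          rfl
      inv_mem' := by
        rintro a ⟨v, c, hv, hc, ha⟩
        refine ⟨-v, -c - Cfsg.hermForm (m + 2) F q (pad2 v) (pad2 v), ?_, ?_, ?_⟩
        · intro k
          rw [Pi.neg_apply, frob_neg hF, hv]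
        · rw [heis_pad2_neg, frob_sub hF, frob_neg hF, hermForm_self_pow hF, hermForm_neg_left,
            hermForm_neg_right hF]
          linear_combination (-1 : F) * hc
        · rw [Subgroup.coe_inv, ha, heis_inv hF e (pad2 v) hee (hpe v), heis_pad2_neg] },
    fun g => Iff.rfl⟩

/-- C-HEIS -/
theorem exists_heis_data (hF : Fintype.card F = q ^ 2) (m : ℕ) (hm : 1 ≤ m) (e f : Fin (m + 2) → F)
    (hee : Cfsg.hermForm (m + 2) F q e e = 0) (hff : Cfsg.hermForm (m + 2) F q f f = 0)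
    (hef : Cfsg.hermForm (m + 2) F q e f = 1)
    (hsupp : ∀ k : Fin (m + 2), k ≠ 0 → k ≠ 1 → e k = 0 ∧ f k = 0) :
    ∃ (Q1 : Subgroup (SUg F (m + 2) q)) (ι : Type) (_ : Fintype ι) (y : ι → SUg F (m + 2) q),
      Zgrp e ≤ Q1 ∧ (∀ a ∈ Q1, ∀ b ∈ Q1, a * b = b * a) ∧ Fintype.card ι = q ^ m ∧
      (∀ i, ∀ z ∈ (Zgrp e : Subgroup (SUg F (m + 2) q)), y i * z = z * y i) ∧
      (∀ i, ∀ a ∈ Q1, (y i)⁻¹ * a * y i * a⁻¹ ∈ (Zgrp e : Subgroup (SUg F (m + 2) q))) ∧
      (∀ i j, i ≠ j → ∀ z ∈ (Zgrp e : Subgroup (SUg F (m + 2) q)),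
        ∃ a ∈ Q1, (y i)⁻¹ * a * y i * ((y j)⁻¹ * a * y j)⁻¹ = z) := by
  classical
  have hq2 := q_ge_two hF
  have hq0 : q ≠ 0 := by omega
  have hpe : ∀ a : Fin m → F, Cfsg.hermForm (m + 2) F q (pad2 a) e = 0 := fun a =>
    heis_pad2_perp hq0 e (fun k h0 h1 => (hsupp k h0 h1).1) a
  obtain ⟨Q1, hQ1mem⟩ := heis_exists_Q1 hF m e hee hpe
  -- the index set and the elements `y`
  have hZ0 : Nat.card {t : F // t + t ^ q = 0} = q :=
    Helper5.card_trace_fiber hF (c := (0 : F)) (zero_pow hq0)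
  obtain ⟨τ, hτ, hτinj⟩ : ∃ τ : (Fin m → Fin q) → Fin m → F,
      (∀ (s : Fin m → Fin q) (k : Fin m), τ s k + τ s k ^ q = 0) ∧
      (∀ (s s' : Fin m → Fin q) (k : Fin m), τ s k = τ s' k → s k = s' k) := by
    let φ : {t : F // t + t ^ q = 0} ≃ Fin q := Finite.equivFinOfCardEq hZ0
    refine ⟨fun s k => ((φ.symm (s k) : {t : F // t + t ^ q = 0}) : F),
      fun s k => (φ.symm (s k)).2, fun s s' k h => ?_⟩
    exact φ.symm.injective (Subtype.ext h)
  obtain ⟨θ, hθ⟩ := exists_trace_eq' hF (1 : F) (one_pow q)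
  obtain ⟨sv, hsv⟩ : ∃ sv : (Fin m → Fin q) → (Fin m → F), ∀ s k, sv s k = θ * τ s k :=
    ⟨fun s k => θ * τ s k, fun s k => rfl⟩
  have hcs : ∀ s : Fin m → Fin q, ∃ c : F,
      c + c ^ q + Cfsg.hermForm (m + 2) F q (pad2 (sv s)) (pad2 (sv s)) = 0 := by
    intro s
    obtain ⟨c, hc⟩ := exists_trace_eq' hF (-Cfsg.hermForm (m + 2) F q (pad2 (sv s)) (pad2 (sv s)))
      (by rw [frob_neg hF, hermForm_self_pow hF])
    exact ⟨c, by rw [hc]; ring⟩
  choose cs hcs using hcs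
  obtain ⟨y, hy⟩ : ∃ y : (Fin m → Fin q) → SUg F (m + 2) q,
      ∀ s, ((y s : SUg F (m + 2) q) : GL (Fin (m + 2)) F) = Eelt q e (pad2 (sv s)) (cs s) :=
    ⟨fun s => ⟨Eelt q e (pad2 (sv s)) (cs s), Eelt_mem_suGL hF e _ hee (hpe _) _ (hcs s)⟩, fun s => rfl⟩
  -- the value of the commutator form
  have hx : ∀ (s : Fin m → Fin q) (k : Fin m) (t : F), t ^ q = t →
      Cfsg.hermForm (m + 2) F q (pad2 (Pi.single k t)) (pad2 (sv s))
        - Cfsg.hermForm (m + 2) F q (pad2 (sv s)) (pad2 (Pi.single k t)) = -(t * τ s k) := by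
    intro s k t ht
    rw [heis_herm_pad2, heis_herm_pad2, heis_herm_single_left, heis_herm_single_right hq0, ht]
    rw [hsv]
    have hsk : (τ s k) ^ q = -(τ s k) := eq_neg_of_add_eq_zero_right (hτ s k)
    rw [mul_pow, hsk]
    linear_combination (-(t * τ s k)) * hθ
  refine ⟨Q1, Fin m → Fin q, inferInstance, y, ?_, ?_, ?_, ?_, ?_, ?_⟩
  · -- `Zgrp e ≤ Q1`
    unfold Zgrp
    rw [Subgroup.closure_le]
    rintro g ⟨c, hc, hg⟩
    rw [SetLike.mem_coe, hQ1mem]
    refine ⟨0, c, fun k => by rw [Pi.zero_apply, zero_pow hq0], ?_, ?_⟩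
    · rw [heis_pad2_zero, hermForm_zero_left, add_zero]
      exact hc
    · rw [heis_pad2_zero, hg, Eelt_zero_eq_utv hF e hee]
  · -- abelian
    intro a ha' b hb'
    obtain ⟨v, c, hv, hc, ha⟩ := (hQ1mem a).1 ha'
    obtain ⟨v', c', hv', hc', hb⟩ := (hQ1mem b).1 hb'
    apply Subtype.ext
    rw [Subgroup.coe_mul, Subgroup.coe_mul, ha, hb,
      Eelt_mul hF e (pad2 v) (pad2 v') hee (hpe v) (hpe v'),
      Eelt_mul hF e (pad2 v') (pad2 v) hee (hpe v') (hpe v), heis_herm_pad2, heis_herm_pad2,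
      heis_herm_symm v' v hv' hv, add_comm (pad2 v) (pad2 v'), add_comm c c']
  · -- cardinality
    rw [Fintype.card_fun, Fintype.card_fin, Fintype.card_fin]
  · -- `y i` centralises `Zgrp e`
    intro i z hz
    have hle : (Zgrp e : Subgroup (SUg F (m + 2) q)) ≤ Subgroup.centralizer {y i} := by
      unfold Zgrp
      rw [Subgroup.closure_le]
      rintro g ⟨c, hc, hg⟩
      rw [SetLike.mem_coe, Subgroup.mem_centralizer_iff]
      intro h hh
      rw [Set.mem_singleton_iff] at hh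
      subst hh
      exact heis_comm_gen hF e (pad2 (sv i)) hee (hpe _) (cs i) c (y i) g (hy i) hg
    exact (Subgroup.mem_centralizer_iff.1 (hle hz)) (y i) (Set.mem_singleton _)
  · -- commutators with `Q1` lie in `Zgrp e`
    intro i a ha'
    obtain ⟨v, c, hv, hc, ha⟩ := (hQ1mem a).1 ha'
    apply Subgroup.subset_closure
    refine ⟨Cfsg.hermForm (m + 2) F q (pad2 v) (pad2 (sv i))
      - Cfsg.hermForm (m + 2) F q (pad2 (sv i)) (pad2 v), ?_, ?_⟩
    · rw [frob_sub hF, Helper13.hermForm_conj hF, Helper13.hermForm_conj hF]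
      ring
    · exact heis_comm_coe hF e (pad2 (sv i)) (pad2 v) hee (hpe _) (hpe _) (cs i) c (y i) a (hy i) ha
  · -- separation
    intro i j hij z hz
    obtain ⟨c₀, hc₀, hzc⟩ := heis_mem_Zgrp hF e hee z hz
    obtain ⟨k, hk⟩ := Function.ne_iff.1 hij
    have hδ0 : τ i k - τ j k ≠ 0 := by
      intro h
      apply hk
      exact hτinj i j k (sub_eq_zero.1 h)
    have hik : (τ i k) ^ q = -(τ i k) := eq_neg_of_add_eq_zero_right (hτ i k)
    have hjk : (τ j k) ^ q = -(τ j k) := eq_neg_of_add_eq_zero_right (hτ j k)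
    have hc₀' : c₀ ^ q = -c₀ := eq_neg_of_add_eq_zero_right hc₀
    set δ : F := τ i k - τ j k with hδ
    have hδq : δ ^ q = -δ := by
      rw [hδ, frob_sub hF, hik, hjk]
      ring
    set t : F := -c₀ / δ with ht
    have htq : t ^ q = t := by
      rw [ht, div_pow, frob_neg hF, hc₀', hδq, neg_neg, div_neg, neg_div]
    have hwq : ∀ l, (Pi.single k t : Fin m → F) l ^ q = (Pi.single k t : Fin m → F) l := by
      intro l
      by_cases hl : l = k
      · rw [hl, Pi.single_eq_same, htq]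
      · rw [Pi.single_eq_of_ne hl, zero_pow hq0]
    obtain ⟨c, hc⟩ := exists_trace_eq' hF
      (-Cfsg.hermForm (m + 2) F q (pad2 (Pi.single k t)) (pad2 (Pi.single k t)))
      (by rw [frob_neg hF, hermForm_self_pow hF])
    have hc' : c + c ^ q + Cfsg.hermForm (m + 2) F q (pad2 (Pi.single k t)) (pad2 (Pi.single k t)) = 0 := by
      rw [hc]; ring
    refine ⟨⟨Eelt q e (pad2 (Pi.single k t)) c, Eelt_mem_suGL hF e _ hee (hpe _) _ hc'⟩,
      (hQ1mem _).2 ⟨Pi.single k t, c, hwq, hc', rfl⟩, ?_⟩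
    apply Subtype.ext
    rw [heis_sep_coe hF e (pad2 (sv i)) (pad2 (sv j)) (pad2 (Pi.single k t)) hee (hpe _) (hpe _) (hpe _)
      (cs i) (cs j) c (y i) (y j) _ (hy i) (hy j) rfl, hzc]
    congr 1
    have h1 := hx i k t htq
    have h2 := hx j k t htq
    have h3 : t * δ = -c₀ := by rw [ht, div_mul_cancel₀ _ hδ0]
    linear_combination h1 - h2 - h3

end concrete

end Cfsg.Agent.Lib.Helper6.Ls
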