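import Mathlib
import Cfsg.Prelude.Def_GeometricClasses
import Cfsg.Agent.Lib.Helper37.OmegaIndex
import Cfsg.Agent.Lib.Helper53.OcODDO

set_option autoImplicit false

namespace Cfsg.Agent.Lib.Helper44.Oc

universe v

variable {F : Type v} [Field F] {ι : Type} [Fintype ι] [DecidableEq ι]

/-- IDX-IDXL: the pure group theory index lemma. -/
theorem idb_index_lemma {G : Type*} [Group G] (O Ω N H : Subgroup G) [Finite O] (r : ℕ)
    (hr : r.Prime) (hr2 : r ≠ 2)
    (hΩO : Ω ≤ O) (hnorm : (Ω.subgroupOf O).Normal) (h4 : Ω.relIndex O ∣ 4)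
    (hHN : H ≤ N) (hHO : H ≤ O) (hdiv : r ∣ N.relIndex Ω) :
    Nat.card H * r ∣ Nat.card O := by
  classical
  set A : Subgroup G := N ⊓ O with hA
  have hAO : A ≤ O := inf_le_right
  have hHA : H ≤ A := le_inf hHN hHO
  have h1 : Ω.relIndex A ∣ Ω.relIndex O := by
    have := Subgroup.relIndex_dvd_index_of_normal (Ω.subgroupOf O) (A.subgroupOf O)
    rwa [Subgroup.relIndex_subgroupOf hAO] at this
  have h1' : Ω.relIndex A ∣ 4 := dvd_trans h1 h4
  have hNΩ : N ⊓ Ω ≤ Ω := inf_le_right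
  have hNΩA : N ⊓ Ω ≤ A := le_inf inf_le_left (le_trans inf_le_right hΩO)
  have e1 : (N ⊓ Ω).relIndex Ω * Ω.relIndex O = (N ⊓ Ω).relIndex O :=
    Subgroup.relIndex_mul_relIndex _ _ _ hNΩ hΩO
  have e2 : (N ⊓ Ω).relIndex A * A.relIndex O = (N ⊓ Ω).relIndex O :=
    Subgroup.relIndex_mul_relIndex _ _ _ hNΩA hAO
  have e3 : (N ⊓ Ω).relIndex Ω = N.relIndex Ω := Subgroup.inf_relIndex_right N Ω
  have e4 : (N ⊓ Ω).relIndex A = Ω.relIndex A := by
    have : N ⊓ Ω ⊓ A = Ω ⊓ A := by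
      rw [hA]
      apply le_antisymm
      · exact le_inf (le_trans inf_le_left inf_le_right) inf_le_right
      · refine le_inf (le_inf (le_trans inf_le_right inf_le_left) inf_le_left) inf_le_right
    rw [← Subgroup.inf_relIndex_right (N ⊓ Ω) A, this, Subgroup.inf_relIndex_right]
  have h2 : r ∣ Ω.relIndex A * A.relIndex O := by
    rw [← e4, e2, ← e1, e3]
    exact dvd_mul_of_dvd_left hdiv _
  have hcop : Nat.Coprime r (Ω.relIndex A) := by
    have h2' : Nat.Coprime r 4 := by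
      have : Nat.Coprime r 2 := (Nat.coprime_primes hr Nat.prime_two).2 hr2
      have h22 : (4 : ℕ) = 2 * 2 := by norm_num
      rw [h22]
      exact Nat.Coprime.mul_right this this
    exact Nat.Coprime.coprime_dvd_right h1' h2'
  have h3 : r ∣ A.relIndex O := hcop.dvd_of_dvd_mul_left h2
  have e5 : Nat.card A * A.relIndex O = Nat.card O := by
    have := Subgroup.relIndex_mul_relIndex ⊥ A O bot_le hAO
    rwa [Subgroup.relIndex_bot_left, Subgroup.relIndex_bot_left] at this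
  have h4' : Nat.card H ∣ Nat.card A := Subgroup.card_dvd_of_le hHA
  rw [← e5]
  exact Nat.mul_dvd_mul h4' h3

/-- IDX-IDXL in the orthogonal setting: a subgroup `H` of `N(K) ∩ O(Q)` and an odd prime `r` dividing `[Ω : N(K) ∩ Ω]`:
`|H| * r` divides `|O(Q)|`. -/
theorem idb_card_mul_dvd [Fintype F] (h2 : (2 : F) ≠ 0) (Q : (ι → F) → F)
    (hQ : Cfsg.Geo.IsNondegenerateQuadraticForm Q) (hn : 2 ≤ Fintype.card ι)
    (K : Subalgebra F (Matrix ι ι F)) (H : Subgroup (GL ι F))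
    (hHN : H ≤ Cfsg.Geo.subalgebraNormalizer K) (hHO : H ≤ Cfsg.isometryGroup F Q)
    (r : ℕ) (hr : r.Prime) (hr2 : r ≠ 2)
    (hΩ : r ∣ (Cfsg.Geo.subalgebraNormalizer K).relIndex (Cfsg.Geo.omegaGL Q)) :
    Nat.card H * r ∣ Nat.card (Cfsg.isometryGroup F Q) := by
  classical
  obtain ⟨G, hG, hdet⟩ := oddo_exists_gram h2 Q hQ
  have hidx : (Cfsg.Omega F Q).index = 4 := Cfsg.Agent.Lib.Helper37.index_omega_eq_four hG hdet hn
  have hsub : (Cfsg.Geo.omegaGL Q).subgroupOf (Cfsg.isometryGroup F Q) = Cfsg.Omega F Q := by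
    unfold Cfsg.Geo.omegaGL Subgroup.subgroupOf
    exact Subgroup.comap_map_eq_self_of_injective (Subgroup.subtype_injective _) _
  have hle : Cfsg.Geo.omegaGL Q ≤ Cfsg.isometryGroup F Q := by
    unfold Cfsg.Geo.omegaGL
    exact Subgroup.map_subtype_le _
  have hnorm : ((Cfsg.Geo.omegaGL Q).subgroupOf (Cfsg.isometryGroup F Q)).Normal := by
    rw [hsub]
    unfold Cfsg.Omega
    infer_instance
  have h4 : (Cfsg.Geo.omegaGL Q).relIndex (Cfsg.isometryGroup F Q) ∣ 4 := by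
    unfold Subgroup.relIndex
    rw [hsub, hidx]
  exact idb_index_lemma (Cfsg.isometryGroup F Q) (Cfsg.Geo.omegaGL Q) (Cfsg.Geo.subalgebraNormalizer K) H r
    hr hr2 hle hnorm h4 hHN hHO hΩ

end Cfsg.Agent.Lib.Helper44.Oc
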