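import Mathlib
import Cfsg.Prelude.Def_GeometricClasses
import Cfsg.Agent.Lib.Helper44.OcDefs
import Cfsg.Agent.Lib.Helper44.OcIdbDefs
import Cfsg.Agent.Lib.Helper44.OcIdbIDXL
import Cfsg.Agent.Lib.Helper53.OcIdbFR
import Cfsg.Agent.Lib.Helper99.OcIdbMODEL
import Cfsg.Agent.Lib.Helper43.OcIdbQE
import Cfsg.Agent.Lib.Helper95.OcIdbEMB
import Cfsg.Agent.Lib.Helper55.OcIdbLT
import Cfsg.Agent.Lib.Helper45.OfCARDE
import Cfsg.Agent.Lib.Helper13.OfCARDO
import Cfsg.Agent.Lib.Helper25.OcIdxAR1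
import Cfsg.Agent.Lib.Helper25.OcIdxAR2
import Cfsg.Agent.Lib.Helper68.OcIdxZ
import Cfsg.Agent.Lib.Helper42.OcIdxL
import Cfsg.Agent.Lib.Helper42.OcIdxP
import Cfsg.Agent.Lib.Helper8.SpOrthF
import Cfsg.Agent.Lib.Helper74.OcNORM
import Cfsg.Agent.Lib.Helper99.QuadStd

set_option autoImplicit false
open Matrix

/-! Assembly of the backup route "Idb" to OC-IDX (helper44, Oc hive S5977 / S5978). -/

namespace Cfsg.Agent.Lib.Helper44.Oc

universe v

variable {F : Type v} [Field F] {ι : Type} [Fintype ι] [DecidableEq ι]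

/-- a square root of a nonsquare in a quadratic extension (copy of `Cfsg.Agent.Lib.Helper8.GUSp.exists_sqrt_ext`, kept here
to avoid its import closure) -/
theorem idbasm_exists_sqrt [Fintype F] {E : Type*} [Field E] [Algebra F E] [Fintype E] (h2 : (2 : F) ≠ 0)
    (hodd : Odd (Fintype.card F)) (hcardE : Fintype.card E = Fintype.card F ^ 2) (D : F)
    (hD : ¬ IsSquare D) :
    ∃ w : E, w * w = algebraMap F E D := by
  have hD0 : D ≠ 0 := by
    rintro rfl
    exact hD ⟨0, by simp⟩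
  obtain ⟨s, hs⟩ := hodd
  have h2E : (2 : E) ≠ 0 := by
    intro h
    apply h2
    apply (algebraMap F E).injective
    rw [map_ofNat, map_zero]
    exact h
  have hFE : ringChar E ≠ 2 := by
    intro h
    apply h2E
    have h0 := ringChar.Nat.cast_ringChar (R := E)
    rw [h] at h0
    exact_mod_cast h0
  have ha0 : algebraMap F E D ≠ 0 := by
    intro h
    apply hD0
    apply (algebraMap F E).injective
    rw [h, map_zero]
  have hsq : IsSquare (algebraMap F E D) := by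
    rw [FiniteField.isSquare_iff hFE ha0, hcardE]
    have e : Fintype.card F ^ 2 / 2 = (Fintype.card F - 1) * (s + 1) := by
      rw [hs]
      have : 2 * s + 1 - 1 = 2 * s := by omega
      rw [this]
      have : (2 * s + 1) ^ 2 = 2 * (2 * s * (s + 1)) + 1 := by ring
      rw [this]
      omega
    rw [e, ← map_pow, pow_mul, FiniteField.pow_card_sub_one_eq_one D hD0, one_pow, map_one]
  obtain ⟨w, hw⟩ := hsq
  exact ⟨w, hw.symm⟩

/-- the two zero counts are different -/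
theorem idbasm_count_ne (q m : ℕ) (hq : 2 ≤ q) (hm : 1 ≤ m) :
    (q ^ m - 1) * (q ^ (m - 1) + 1) + 1 ≠ (q ^ m + 1) * (q ^ (m - 1) - 1) + 1 := by
  obtain ⟨k, rfl⟩ : ∃ k, m = k + 1 := ⟨m - 1, by omega⟩
  rw [Nat.add_sub_cancel]
  have h1 : 1 ≤ q ^ k := Nat.one_le_pow _ _ (by omega)
  have h2 : q ^ (k + 1) = q * q ^ k := by rw [pow_succ]; ring
  rw [h2]
  generalize q ^ k = a at h1
  obtain ⟨b, rfl⟩ : ∃ b, a = b + 1 := ⟨a - 1, by omega⟩
  obtain ⟨t, rfl⟩ : ∃ t, q = t + 2 := ⟨q - 2, by omega⟩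
  have e1 : (t + 2) * (b + 1) - 1 = t * b + t + 2 * b + 1 := by
    have : (t + 2) * (b + 1) = t * b + t + 2 * b + 1 + 1 := by ring
    omega
  rw [e1, Nat.add_sub_cancel]
  intro h
  have h3 : (t * b + t + 2 * b + 1) * (b + 1 + 1) = ((t + 2) * (b + 1) + 1) * b + (2 * t * b + 2 * t + 2 * b + 2) := by
    ring
  rw [h3] at h
  omega

/-- **OC-IDX via the backup route**: `4 ∤ ord_r(q)` for an odd prime `r ≠ p` dividing `[Ω : N(K) ∩ Ω]`. -/
theorem idb_ord_mod_four [Fintype F] {p : ℕ} [Fact p.Prime] [CharP F p] (h2 : (2 : F) ≠ 0) (d : ℕ)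
    (hd : 4 ≤ d) (hcard : Fintype.card ι = 2 * d) (Q : (ι → F) → F)
    (hQ : Cfsg.Geo.IsNondegenerateQuadraticForm Q) (K : Subalgebra F (Matrix ι ι F)) (J : Matrix ι ι F) (δ : F)
    (hδ : ¬ IsSquare δ) (hJ : IsJ Q δ J) (hJK : J ∈ K)
    (hK : ∀ k ∈ K, ∃ a b : F, k = a • (1 : Matrix ι ι F) + b • J)
    (r : ℕ) [Fact r.Prime] (hr2 : r ≠ 2) (hrp : r ≠ p)
    (hΩ : r ∣ (Cfsg.Geo.subalgebraNormalizer K).relIndex (Cfsg.Geo.omegaGL Q)) :
    orderOf ((Fintype.card F : ℕ) : ZMod r) % 4 ≠ 0 := by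
  classical
  intro h4mod
  have h4 : 4 ∣ orderOf ((Fintype.card F : ℕ) : ZMod r) := Nat.dvd_of_mod_eq_zero h4mod
  have hr : r.Prime := Fact.out
  have hp : p.Prime := Fact.out
  set q := Fintype.card F with hq
  -- arithmetic of `q`
  have hodd : Odd q := by
    rcases Nat.even_or_odd q with he | ho
    · exfalso
      apply h2
      have h2q : (2 : ℕ) ∣ q := he.two_dvd
      have : ((q : ℕ) : F) = 0 := by rw [hq]; exact Nat.cast_card_eq_zero F
      obtain ⟨t, ht⟩ := h2q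
      -- `p ∣ q`, `q` a power of `p`, `2 ∣ q` so `p = 2`
      obtain ⟨n, hn⟩ := FiniteField.card F p
      have hpq : q = p ^ (n : ℕ) := by rw [hq]; exact hn.2
      have h2p : 2 ∣ p := by
        have : 2 ∣ p ^ (n : ℕ) := by rw [← hpq]; exact ⟨t, ht⟩
        exact Nat.Prime.dvd_of_dvd_pow Nat.prime_two this
      have hp2 : p = 2 := ((Nat.prime_dvd_prime_iff_eq Nat.prime_two hp).1 h2p).symm
      have : ((p : ℕ) : F) = 0 := CharP.cast_eq_zero F p
      rw [hp2] at this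
      exact_mod_cast this
    · exact ho
  have hq1 : 1 < q := Fintype.one_lt_card
  have hq3 : 3 ≤ q := by
    obtain ⟨s, hs⟩ := hodd
    omega
  have hrq : ¬ r ∣ q := by
    obtain ⟨n, hn⟩ := FiniteField.card F p
    have hpq : q = p ^ (n : ℕ) := by rw [hq]; exact hn.2
    intro h
    rw [hpq] at h
    have := Nat.Prime.dvd_of_dvd_pow hr h
    exact hrp ((Nat.prime_dvd_prime_iff_eq hr hp).1 this)
  -- the quadratic extension
  let E := FiniteField.Extension F p 2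
  have : Finite E := inferInstance
  let _ : Fintype E := Fintype.ofFinite E
  have hcardE : Fintype.card E = q ^ 2 := by
    rw [← Nat.card_eq_fintype_card, FiniteField.natCard_extension, Nat.card_eq_fintype_card]
  have hfrE : Module.finrank F E = 2 := FiniteField.finrank_extension F p 2
  have h2E : (2 : E) ≠ 0 := by
    intro h
    apply h2
    apply (algebraMap F E).injective
    rw [map_ofNat, map_zero]
    exact h
  obtain ⟨wE, hw⟩ := idbasm_exists_sqrt (E := E) h2 hodd hcardE δ hδ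
  -- frame, model, embedding
  obtain ⟨v, hv1, hv2, hv3⟩ := idb_frame h2 Q hQ δ hδ J hJ d hcard
  obtain ⟨c, T, π, hM⟩ := idb_model (E := E) h2 Q hQ δ hδ J hJ d hcard hfrE wE hw v hv1 hv2 hv3
  have hQE := idb_QE_nondeg h2E c hM.1
  obtain ⟨H, hHJ, hHO, hHcard⟩ := idb_embed Q J wE c T π hM
  have hHN : H ≤ Cfsg.Geo.subalgebraNormalizer K := fun g hg =>
    (mem_normalizer_iff h2 K J δ hδ hJ.1 hJK hK g).2 (Or.inl (hHJ g hg))
  have hn : 2 ≤ Fintype.card ι := by omega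
  have hdvd1 : Nat.card H * r ∣ Nat.card (Cfsg.isometryGroup F Q) :=
    idb_card_mul_dvd h2 Q hQ hn K H hHN hHO r hr hr2 hΩ
  have hdvd0 : Nat.card H ∣ Nat.card (Cfsg.isometryGroup F Q) := Subgroup.card_dvd_of_le hHO
  rw [hHcard] at hdvd1 hdvd0
  -- coordinates `Fin (2 d)` on the `F`-side
  have hce : Fintype.card (Fin (2 * d)) = Fintype.card ι := by rw [Fintype.card_fin, hcard]
  let e : Fin (2 * d) ≃ ι := Fintype.equivOfCardEq hce
  let Q' : (Fin (2 * d) → F) → F := Cfsg.Agent.Lib.Helper99.QuadStd.reidx e Q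
  have hQ' : Cfsg.Geo.IsNondegenerateQuadraticForm Q' := Cfsg.Agent.Lib.Helper99.QuadStd.nondeg_reidx e Q hQ
  let Θ : (ι → F) ≃ₗ[F] (Fin (2 * d) → F) := LinearEquiv.funCongrLeft F F e
  have hΘ : ∀ x, Q' (Θ x) = Q x := by
    intro x
    show Q (fun k => (Θ x) (e.symm k)) = Q x
    congr 1
    funext k
    show x (e (e.symm k)) = x k
    rw [Equiv.apply_symm_apply]
  have hcardO : Nat.card (Cfsg.isometryGroup F Q) = Nat.card (Cfsg.isometryGroup F Q') :=
    Cfsg.Agent.Lib.Helper8.card_isometryGroup_of_coords Q Q' Θ hΘ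
  rw [hcardO] at hdvd1 hdvd0
  rcases Nat.even_or_odd' d with ⟨e', hde | hde⟩
  · -- `d = 2 e'`
    subst hde
    have he2 : 2 ≤ e' := by omega
    have hAR := idx_arith_even q r e' (2 * e') rfl (by omega) hr hr2 (by omega) hrq h4
    have hZ := idx_zsig q e' (2 * e') rfl hq3 he2
    rcases Cfsg.Agent.Lib.Helper44.Of.card_isometryGroup_of_even (F := E) h2E (n := 2 * e') (m := e') rfl
      (by omega) (idbQE c) hQE with ⟨hzE, hoE⟩ | ⟨hzE, hoE⟩ <;>
    rcases Cfsg.Agent.Lib.Helper44.Of.card_isometryGroup_of_even (F := F) h2 (n := 2 * (2 * e')) (m := 2 * e') rfl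
      (by omega) Q' hQ' with ⟨hzF, hoF⟩ | ⟨hzF, hoF⟩
    · rw [hoE, hoF, hcardE] at hdvd1
      exact hAR.1 hdvd1
    · -- `E` plus, `F` minus: Lagrangian transfer
      exfalso
      obtain ⟨X, hX, hXQ⟩ := idx_lagrangian_of_card_zeros (F := E) h2E (n := 2 * e') (m := e') rfl (by omega)
        (idbQE c) hQE hzE
      obtain ⟨Y, hY, hYQ⟩ := idb_lagrangian_transfer hfrE Q J wE c T π hM e' X hX hXQ
      have hY' : Module.finrank F (Y.map (Θ : (ι → F) →ₗ[F] (Fin (2 * (2 * e')) → F))) = 2 * e' := by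
        exact (LinearEquiv.finrank_map_eq Θ Y).trans hY
      have hY'Q : ∀ x ∈ Y.map (Θ : (ι → F) →ₗ[F] (Fin (2 * (2 * e')) → F)), Q' x = 0 := by
        rintro x ⟨y, hy, rfl⟩
        show Q' (Θ y) = 0
        rw [hΘ]
        exact hYQ y hy
      have hz := idx_card_zeros_of_lagrangian (F := F) h2 (n := 2 * (2 * e')) (m := 2 * e') rfl (by omega)
        Q' hQ' _ hY' hY'Q
      rw [hzF] at hz
      exact idbasm_count_ne q (2 * e') (by omega) (by omega) hz.symm
    · rw [hoE, hoF, hcardE] at hdvd0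
      exact hZ hdvd0
    · rw [hoE, hoF, hcardE] at hdvd1
      exact hAR.2 hdvd1
  · -- `d = 2 e' + 1`
    subst hde
    have hoE := Cfsg.Agent.Lib.Helper44.Of.card_isometryGroup_of_odd (F := E) h2E (n := 2 * e' + 1) (m := e') rfl
      (idbQE c) hQE
    rcases Cfsg.Agent.Lib.Helper44.Of.card_isometryGroup_of_even (F := F) h2 (n := 2 * (2 * e' + 1))
      (m := 2 * e' + 1) rfl (by omega) Q' hQ' with ⟨hzF, hoF⟩ | ⟨hzF, hoF⟩
    · rw [hoE, hoF, hcardE] at hdvd1
      exact idx_arith_odd q r e' (2 * e' + 1) rfl hr hr2 (by omega) hrq h4 (q ^ (2 * e' + 1) - 1) (Or.inl rfl) hdvd1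
    · rw [hoE, hoF, hcardE] at hdvd1
      exact idx_arith_odd q r e' (2 * e' + 1) rfl hr hr2 (by omega) hrq h4 (q ^ (2 * e' + 1) + 1) (Or.inr rfl) hdvd1

end Cfsg.Agent.Lib.Helper44.Oc
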