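import Mathlib
import Cfsg.Prelude.Def_GeometricClasses
import Cfsg.Agent.Lib.Helper44.OcDefs
import Cfsg.Agent.Lib.Helper44.OcIdbASM
import Cfsg.Agent.Lib.Helper74.OcGEN
import Cfsg.Agent.Lib.Helper74.OcNORM
import Cfsg.Agent.Lib.Helper97.OcCOMM
import Cfsg.Agent.Lib.Helper97.OcEVRK
import Cfsg.Agent.Lib.Helper97.OcSQ
import Cfsg.Agent.Lib.Helper53.OcTESTP
import Cfsg.Agent.Lib.Helper53.OcODDO
import Cfsg.Agent.Lib.Helper35.OcEJ
import Cfsg.Agent.Lib.Helper9.OcCNEG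
import Cfsg.Agent.Lib.Helper61.OcOBSSS
import Cfsg.Agent.Lib.Helper99.OcTESTSS
import Cfsg.Agent.Lib.Helper32.OcT1
import Cfsg.Agent.Lib.Helper72.OcCINV
import Cfsg.Agent.Lib.Helper74.OcAJ

set_option autoImplicit false
open scoped MatrixGroups
open Matrix Polynomial

/-! Assembly for S5977 / S5978 (helper44). -/

namespace Cfsg.Agent.Lib.Helper44.Oc

universe v

variable {F : Type v} [Field F] {ι : Type} [Fintype ι] [DecidableEq ι]

theorem main_two_ne_zero [Fintype F] (hodd : Odd (Fintype.card F)) : (2 : F) ≠ 0 := by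
  intro h
  have h1 : ((Fintype.card F : ℕ) : F) = 0 := Nat.cast_card_eq_zero F
  obtain ⟨k, hk⟩ := hodd
  rw [hk] at h1
  push_cast at h1
  rw [h, zero_mul, zero_add] at h1
  exact one_ne_zero h1

theorem main_omegaGL_le (Q : (ι → F) → F) : Cfsg.Geo.omegaGL Q ≤ Cfsg.isometryGroup F Q := by
  intro g hg
  obtain ⟨g', -, rfl⟩ := hg
  exact g'.2

/-- conjugation of matrices by a unit -/
theorem main_val_conj (g x : GL ι F) :
    ((g⁻¹ * x * g : GL ι F) : Matrix ι ι F)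
      = ((g⁻¹ : GL ι F) : Matrix ι ι F) * (x : Matrix ι ι F) * (g : Matrix ι ι F) := by
  rw [Units.val_mul, Units.val_mul]

theorem main_inv_mul (g : GL ι F) : ((g⁻¹ : GL ι F) : Matrix ι ι F) * (g : Matrix ι ι F) = 1 := by
  rw [← Units.val_mul, inv_mul_cancel, Units.val_one]

theorem main_mul_inv (g : GL ι F) : (g : Matrix ι ι F) * ((g⁻¹ : GL ι F) : Matrix ι ι F) = 1 := by
  rw [← Units.val_mul, mul_inv_cancel, Units.val_one]

/-- rank is invariant under conjugation -/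
theorem main_rank_conj (g : GL ι F) (A : Matrix ι ι F) :
    (((g⁻¹ : GL ι F) : Matrix ι ι F) * A * (g : Matrix ι ι F)).rank = A.rank := by
  have h1 : IsUnit ((g : Matrix ι ι F)).det := (Matrix.isUnit_iff_isUnit_det _).1 (Units.isUnit g)
  have h2 : IsUnit (((g⁻¹ : GL ι F) : Matrix ι ι F)).det :=
    (Matrix.isUnit_iff_isUnit_det _).1 (Units.isUnit g⁻¹)
  rw [Matrix.rank_mul_eq_left_of_isUnit_det _ _ h1, Matrix.rank_mul_eq_right_of_isUnit_det _ _ h2]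

/-- polynomials in a conjugate -/
theorem main_aeval_conj (g : GL ι F) (A : Matrix ι ι F) (φ : F[X]) :
    aeval (((g⁻¹ : GL ι F) : Matrix ι ι F) * A * (g : Matrix ι ι F)) φ
      = ((g⁻¹ : GL ι F) : Matrix ι ι F) * aeval A φ * (g : Matrix ι ι F) := by
  induction φ using Polynomial.induction_on' with
  | add p q hp hq => rw [map_add, map_add, hp, hq, Matrix.mul_add, Matrix.add_mul]
  | monomial n a =>
    rw [aeval_monomial, aeval_monomial]
    have hpow : ∀ n : ℕ, (((g⁻¹ : GL ι F) : Matrix ι ι F) * A * (g : Matrix ι ι F)) ^ n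
        = ((g⁻¹ : GL ι F) : Matrix ι ι F) * A ^ n * (g : Matrix ι ι F) := by
      intro n
      induction n with
      | zero => rw [pow_zero, pow_zero, Matrix.mul_one, main_inv_mul]
      | succ n ih =>
        rw [pow_succ, ih, pow_succ]
        calc ((g⁻¹ : GL ι F) : Matrix ι ι F) * A ^ n * (g : Matrix ι ι F)
              * (((g⁻¹ : GL ι F) : Matrix ι ι F) * A * (g : Matrix ι ι F))
            = ((g⁻¹ : GL ι F) : Matrix ι ι F) * A ^ n
              * ((g : Matrix ι ι F) * ((g⁻¹ : GL ι F) : Matrix ι ι F)) * A * (g : Matrix ι ι F) := by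
              simp only [Matrix.mul_assoc]
          _ = _ := by rw [main_mul_inv, Matrix.mul_one, Matrix.mul_assoc _ (A ^ n) A]
    rw [hpow, Algebra.algebraMap_eq_smul_one]
    simp only [Matrix.smul_mul, Matrix.mul_smul, Matrix.one_mul, Matrix.mul_one, Matrix.mul_assoc]


/-- transport of a (anti)commutation relation along a conjugation -/
theorem main_conj_rel (h : GL ι F) (X J J₀ : Matrix ι ι F) (s : F)
    (hh : (h : Matrix ι ι F) * J * ((h⁻¹ : GL ι F) : Matrix ι ι F) = J₀)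
    (hX : X * J₀ = s • (J₀ * X)) :
    (((h⁻¹ : GL ι F) : Matrix ι ι F) * X * (h : Matrix ι ι F)) * J
      = s • (J * (((h⁻¹ : GL ι F) : Matrix ι ι F) * X * (h : Matrix ι ι F))) := by
  have hJ : J = ((h⁻¹ : GL ι F) : Matrix ι ι F) * J₀ * (h : Matrix ι ι F) := by
    rw [← hh]
    calc J = (((h⁻¹ : GL ι F) : Matrix ι ι F) * (h : Matrix ι ι F)) * J
          * (((h⁻¹ : GL ι F) : Matrix ι ι F) * (h : Matrix ι ι F)) := by
          rw [main_inv_mul, Matrix.one_mul, Matrix.mul_one]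
      _ = _ := by simp only [Matrix.mul_assoc]
  have h1 : (((h⁻¹ : GL ι F) : Matrix ι ι F) * X * (h : Matrix ι ι F))
      * (((h⁻¹ : GL ι F) : Matrix ι ι F) * J₀ * (h : Matrix ι ι F))
      = ((h⁻¹ : GL ι F) : Matrix ι ι F) * (X * J₀) * (h : Matrix ι ι F) := by
    calc _ = ((h⁻¹ : GL ι F) : Matrix ι ι F) * X
          * ((h : Matrix ι ι F) * ((h⁻¹ : GL ι F) : Matrix ι ι F)) * J₀ * (h : Matrix ι ι F) := by
          simp only [Matrix.mul_assoc]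
      _ = _ := by rw [main_mul_inv, Matrix.mul_one]; simp only [Matrix.mul_assoc]
  have h3 : (((h⁻¹ : GL ι F) : Matrix ι ι F) * J₀ * (h : Matrix ι ι F))
      * (((h⁻¹ : GL ι F) : Matrix ι ι F) * X * (h : Matrix ι ι F))
      = ((h⁻¹ : GL ι F) : Matrix ι ι F) * (J₀ * X) * (h : Matrix ι ι F) := by
    calc _ = ((h⁻¹ : GL ι F) : Matrix ι ι F) * J₀
          * ((h : Matrix ι ι F) * ((h⁻¹ : GL ι F) : Matrix ι ι F)) * X * (h : Matrix ι ι F) := by
          simp only [Matrix.mul_assoc]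
      _ = _ := by rw [main_mul_inv, Matrix.mul_one]; simp only [Matrix.mul_assoc]
  rw [hJ, h1, h3, hX, Matrix.mul_smul, Matrix.smul_mul]

theorem main_conj_pow (g x : GL ι F) (n : ℕ) (hx : x ^ n = 1) : (g⁻¹ * x * g) ^ n = 1 := by
  have h := conj_pow (a := g⁻¹) (b := x) (i := n)
  rw [inv_inv] at h
  rw [h, hx, mul_one, inv_mul_cancel]

/-- the case `r = p` -/
theorem main_bad_p [Fintype F] {p : ℕ} [hp : Fact p.Prime] [CharP F p] (h2 : (2 : F) ≠ 0) (d : ℕ) (hd : 4 ≤ d)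
    (hcard : Fintype.card ι = 2 * d) (Q : (ι → F) → F) (hQ : Cfsg.Geo.IsNondegenerateQuadraticForm Q)
    (K : Subalgebra F (Matrix ι ι F)) (J : Matrix ι ι F) (δ : F) (hδ : ¬ IsSquare δ)
    (hJJ : J * J = δ • (1 : Matrix ι ι F)) (hJK : J ∈ K)
    (hKgen : ∀ k ∈ K, ∃ a b : F, k = a • (1 : Matrix ι ι F) + b • J)
    (hall : ∀ x ∈ Cfsg.Geo.omegaGL Q,
      (∃ z : F, ((x ^ p : GL ι F) : Matrix ι ι F) = z • (1 : Matrix ι ι F)) →
      (∀ z : F, (x : Matrix ι ι F) ≠ z • (1 : Matrix ι ι F)) →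
      ∃ g ∈ Cfsg.Geo.omegaGL Q, g⁻¹ * x * g ∈ Cfsg.Geo.subalgebraNormalizer K) : False := by
  have hp2 : p ≠ 2 := by
    rintro rfl
    apply h2
    have := (CharP.cast_eq_zero_iff F 2 2).2 (dvd_refl 2)
    exact_mod_cast this
  have hodd : Odd p := hp.out.odd_of_ne_two hp2
  have hδ0 : δ ≠ 0 := by
    rintro rfl
    exact hδ ⟨0, by rw [mul_zero]⟩
  obtain ⟨x, hxΩ, hxp, hxns, hrank⟩ := exists_test_p h2 d hd hcard Q hQ
  obtain ⟨g, -, hg⟩ := hall x hxΩ ⟨1, by rw [hxp, one_smul]; rfl⟩ hxns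
  have hyp : (g⁻¹ * x * g) ^ p = 1 := main_conj_pow g x p hxp
  have hcomm := (mem_normalizer_iff h2 K J δ hδ hJJ hJK hKgen (g⁻¹ * x * g)).1 hg
  have hyJ := commute_of_odd h2 J δ hδ0 hJJ ((g⁻¹ * x * g : GL ι F) : Matrix ι ι F) p hodd
    (by rw [← Units.val_pow_eq_pow_val, hyp]; rfl) hcomm
  set y : Matrix ι ι F := ((g⁻¹ * x * g : GL ι F) : Matrix ι ι F) with hy
  have h1 : (y - 1) * J = J * (y - 1) := by
    rw [Matrix.sub_mul, Matrix.mul_sub, hyJ, Matrix.one_mul, Matrix.mul_one]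
  have hM : (y - 1) * (y - 1) * J = J * ((y - 1) * (y - 1)) := by
    rw [Matrix.mul_assoc, h1, ← Matrix.mul_assoc, h1, Matrix.mul_assoc]
  have heven := even_rank_of_commute δ hδ J _ hJJ hM
  have hconj : (y - 1) * (y - 1)
      = ((g⁻¹ : GL ι F) : Matrix ι ι F) * (((x : Matrix ι ι F) - 1) * ((x : Matrix ι ι F) - 1))
        * (g : Matrix ι ι F) := by
    have h3 := main_aeval_conj g (x : Matrix ι ι F) ((X - 1) * (X - 1))
    simp only [map_mul, map_sub, aeval_X, map_one] at h3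
    rw [hy, main_val_conj]
    exact h3
  rw [hconj, main_rank_conj, hrank] at heven
  exact absurd heven (by decide)

/-- the case of an odd prime `r ≠ p` -/
theorem main_bad_ss [Fintype F] {p : ℕ} [hp : Fact p.Prime] [CharP F p] (h2 : (2 : F) ≠ 0) (d : ℕ) (hd : 4 ≤ d)
    (hcard : Fintype.card ι = 2 * d) (Q : (ι → F) → F) (hQ : Cfsg.Geo.IsNondegenerateQuadraticForm Q)
    (K : Subalgebra F (Matrix ι ι F)) (J : Matrix ι ι F) (δ : F) (hδ : ¬ IsSquare δ)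
    (hJ : IsJ Q δ J) (hJK : J ∈ K)
    (hKgen : ∀ k ∈ K, ∃ a b : F, k = a • (1 : Matrix ι ι F) + b • J)
    (r : ℕ) [hr : Fact r.Prime] (hr2 : r ≠ 2) (hrp : r ≠ p)
    (hΩ : r ∣ (Cfsg.Geo.subalgebraNormalizer K).relIndex (Cfsg.Geo.omegaGL Q))
    (hall : ∀ x ∈ Cfsg.Geo.omegaGL Q,
      (∃ z : F, ((x ^ r : GL ι F) : Matrix ι ι F) = z • (1 : Matrix ι ι F)) →
      (∀ z : F, (x : Matrix ι ι F) ≠ z • (1 : Matrix ι ι F)) →
      ∃ g ∈ Cfsg.Geo.omegaGL Q, g⁻¹ * x * g ∈ Cfsg.Geo.subalgebraNormalizer K) : False := by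
  have hodd : Odd r := hr.out.odd_of_ne_two hr2
  have hδ0 : δ ≠ 0 := by
    rintro rfl
    exact hδ ⟨0, by rw [mul_zero]⟩
  have hi4 := idb_ord_mod_four h2 d hd hcard Q hQ K J δ hδ hJ hJK hKgen r hr2 hrp hΩ
  have hrO : r ∣ Nat.card (Cfsg.Geo.omegaGL Q) := dvd_trans hΩ (Subgroup.relIndex_dvd_card _ _)
  obtain ⟨x, hxΩ, hxr, hxns, φ, hφ, hφr, hrk⟩ := exists_test_ss h2 d hd hcard Q hQ r hr2 hrp hrO hi4
  obtain ⟨g, hgΩ, hg⟩ := hall x hxΩ ⟨1, by rw [hxr, one_smul]; rfl⟩ hxns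
  have hyr : (g⁻¹ * x * g) ^ r = 1 := main_conj_pow g x r hxr
  have hyO : g⁻¹ * x * g ∈ Cfsg.isometryGroup F Q :=
    mul_mem (mul_mem (inv_mem (main_omegaGL_le Q hgΩ)) (main_omegaGL_le Q hxΩ)) (main_omegaGL_le Q hgΩ)
  have hcomm := (mem_normalizer_iff h2 K J δ hδ hJ.1 hJK hKgen (g⁻¹ * x * g)).1 hg
  have hyJ := commute_of_odd h2 J δ hδ0 hJ.1 ((g⁻¹ * x * g : GL ι F) : Matrix ι ι F) r hodd
    (by rw [← Units.val_pow_eq_pow_val, hyr]; rfl) hcomm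
  have hobs := obs_ss h2 Q hQ δ hδ J hJ r hr2 hrp hi4 (g⁻¹ * x * g) hyO hyJ hyr φ hφ hφr
  rw [main_val_conj, main_aeval_conj, main_rank_conj, hcard] at hobs
  set i := orderOf ((Fintype.card F : ℕ) : ZMod r) with hi
  have h5 : 2 * d - (aeval (x : Matrix ι ι F) φ).rank = i := by omega
  rw [h5] at hobs
  have hi1 : 1 ≤ i := by
    rcases Nat.eq_zero_or_pos i with h0 | h0
    · rw [h0] at hi4
      exact absurd rfl hi4
    · exact h0
  have := Nat.le_of_dvd hi1 hobs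
  omega

/-- `r = 2`, involutions -/
theorem main_good_invol [Fintype F] (h2 : (2 : F) ≠ 0) (d : ℕ) (hd : 4 ≤ d)
    (hcard : Fintype.card ι = 2 * d) (Q : (ι → F) → F) (hQ : Cfsg.Geo.IsNondegenerateQuadraticForm Q)
    (K : Subalgebra F (Matrix ι ι F)) (J : Matrix ι ι F) (δ : F) (hδ : ¬ IsSquare δ)
    (hJ : IsJ Q δ J) (hJK : J ∈ K)
    (hKgen : ∀ k ∈ K, ∃ a b : F, k = a • (1 : Matrix ι ι F) + b • J)
    (x : GL ι F) (hxΩ : x ∈ Cfsg.Geo.omegaGL Q)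
    (hxx : (x : Matrix ι ι F) * (x : Matrix ι ι F) = 1)
    (hxns : ∀ z : F, (x : Matrix ι ι F) ≠ z • (1 : Matrix ι ι F)) :
    ∃ g ∈ Cfsg.Geo.omegaGL Q, g⁻¹ * x * g ∈ Cfsg.Geo.subalgebraNormalizer K := by
  have hxO := main_omegaGL_le Q hxΩ
  have hdet := det_eq_one_of_mem_omegaGL Q x hxΩ
  have heven : Even (Fintype.card ι) := ⟨d, by rw [hcard]; ring⟩
  obtain ⟨J', hJ', hxJ'⟩ := exists_J_commute_invol h2 Q hQ heven δ hδ x hxO hxx hdet
  obtain ⟨h, hhO, hh⟩ := exists_conj_J h2 Q hQ δ hδ J J' hJ hJ'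
  obtain ⟨c, hcO, hcx, hch⟩ := cent_invol_covers h2 Q hQ heven x hxO hxx hxns hdet h hhO
  refine ⟨c * h, hch, ?_⟩
  have hcx' : c * x = x * c := Units.ext (by rw [Units.val_mul, Units.val_mul]; exact hcx)
  have hc1 : c⁻¹ * x * c = x := by rw [mul_assoc, ← hcx', ← mul_assoc, inv_mul_cancel, one_mul]
  have e1 : (c * h)⁻¹ * x * (c * h) = h⁻¹ * x * h := by
    calc (c * h)⁻¹ * x * (c * h) = h⁻¹ * (c⁻¹ * x * c) * h := by group
      _ = h⁻¹ * x * h := by rw [hc1]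
  rw [e1, mem_normalizer_iff h2 K J δ hδ hJ.1 hJK hKgen, main_val_conj]
  left
  have := main_conj_rel h (x : Matrix ι ι F) J J' 1 hh (by rw [one_smul]; exact hxJ')
  rw [one_smul] at this
  exact this

/-- `r = 2`, elements with square `-1` -/
theorem main_good_sq_neg [Fintype F] (h2 : (2 : F) ≠ 0) (d : ℕ) (hd : 4 ≤ d)
    (hcard : Fintype.card ι = 2 * d) (Q : (ι → F) → F) (hQ : Cfsg.Geo.IsNondegenerateQuadraticForm Q)
    (K : Subalgebra F (Matrix ι ι F)) (J : Matrix ι ι F) (δ : F) (hδ : ¬ IsSquare δ)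
    (hJ : IsJ Q δ J) (hJK : J ∈ K)
    (hKgen : ∀ k ∈ K, ∃ a b : F, k = a • (1 : Matrix ι ι F) + b • J)
    (x : GL ι F) (hxΩ : x ∈ Cfsg.Geo.omegaGL Q)
    (hxx : (x : Matrix ι ι F) * (x : Matrix ι ι F) = -1) :
    ∃ g ∈ Cfsg.Geo.omegaGL Q, g⁻¹ * x * g ∈ Cfsg.Geo.subalgebraNormalizer K := by
  have hxO := main_omegaGL_le Q hxΩ
  haveI : Nonempty ι := by
    rw [← Fintype.card_pos_iff, hcard]
    omega
  obtain ⟨J₀, τ, hJ₀, hxJ₀, hτO, hτdet, hτx⟩ := exists_J_anticomm h2 Q hQ δ hδ x hxO hxx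
  obtain ⟨h, hhO, hh⟩ := exists_conj_J h2 Q hQ δ hδ J J₀ hJ hJ₀
  rcases det_isometry h2 Q hQ h hhO with hd1 | hdm
  · obtain ⟨c, hcO, hcx, hch⟩ := cent_sq_neg_covers h2 Q hQ x hxO hxx h hhO hd1
    refine ⟨c * h, hch, ?_⟩
    have hcx' : c * x = x * c := Units.ext (by rw [Units.val_mul, Units.val_mul]; exact hcx)
    have hc1 : c⁻¹ * x * c = x := by rw [mul_assoc, ← hcx', ← mul_assoc, inv_mul_cancel, one_mul]
    have e1 : (c * h)⁻¹ * x * (c * h) = h⁻¹ * x * h := by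
      calc (c * h)⁻¹ * x * (c * h) = h⁻¹ * (c⁻¹ * x * c) * h := by group
        _ = h⁻¹ * x * h := by rw [hc1]
    rw [e1, mem_normalizer_iff h2 K J δ hδ hJ.1 hJK hKgen, main_val_conj]
    right
    have := main_conj_rel h (x : Matrix ι ι F) J J₀ (-1) hh (by rw [neg_one_smul]; exact hxJ₀)
    rw [neg_one_smul] at this
    exact this
  · have hτinv : ((τ⁻¹ : GL ι F) : Matrix ι ι F).det = -1 := by
      have h1 : ((τ⁻¹ : GL ι F) : Matrix ι ι F).det * (τ : Matrix ι ι F).det = 1 := by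
        rw [← Matrix.det_mul, main_inv_mul, Matrix.det_one]
      rw [hτdet] at h1
      have : ((τ⁻¹ : GL ι F) : Matrix ι ι F).det = -1 := by
        have h3 : -((τ⁻¹ : GL ι F) : Matrix ι ι F).det = 1 := by rw [← h1]; ring
        rw [← h3]; ring
      exact this
    have hh'O : τ⁻¹ * h ∈ Cfsg.isometryGroup F Q := mul_mem (inv_mem hτO) hhO
    have hdet' : ((τ⁻¹ * h : GL ι F) : Matrix ι ι F).det = 1 := by
      rw [Units.val_mul, Matrix.det_mul, hτinv, hdm]; ring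
    obtain ⟨c, hcO, hcx, hch⟩ := cent_sq_neg_covers h2 Q hQ x hxO hxx (τ⁻¹ * h) hh'O hdet'
    refine ⟨c * (τ⁻¹ * h), hch, ?_⟩
    have hcx' : c * x = x * c := Units.ext (by rw [Units.val_mul, Units.val_mul]; exact hcx)
    have hc1 : c⁻¹ * x * c = x := by rw [mul_assoc, ← hcx', ← mul_assoc, inv_mul_cancel, one_mul]
    have e1 : (c * (τ⁻¹ * h))⁻¹ * x * (c * (τ⁻¹ * h)) = h⁻¹ * (τ * x * τ⁻¹) * h := by
      calc (c * (τ⁻¹ * h))⁻¹ * x * (c * (τ⁻¹ * h)) = h⁻¹ * (τ * (c⁻¹ * x * c) * τ⁻¹) * h := by group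
        _ = h⁻¹ * (τ * x * τ⁻¹) * h := by rw [hc1]
    rw [e1, mem_normalizer_iff h2 K J δ hδ hJ.1 hJK hKgen, main_val_conj]
    right
    have := main_conj_rel h ((τ * x * τ⁻¹ : GL ι F) : Matrix ι ι F) J J₀ (-1) hh
      (by rw [neg_one_smul]; exact hτx)
    rw [neg_one_smul] at this
    exact this

/-- the abstract theorem -/
theorem oc_main [Fintype F] {p : ℕ} [hp : Fact p.Prime] [CharP F p] (h2 : (2 : F) ≠ 0) (d : ℕ) (hd : 4 ≤ d)
    (hcard : Fintype.card ι = 2 * d) (Q : (ι → F) → F) (hQ : Cfsg.Geo.IsNondegenerateQuadraticForm Q)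
    (K : Subalgebra F (Matrix ι ι F)) (hK : Cfsg.Geo.IsFieldSubalgebra 2 K)
    (hKf : Cfsg.Geo.IsSelfAdjointFor (QuadraticMap.polar Q) K)
    (r : ℕ) [hr : Fact r.Prime]
    (hΩ : r ∣ (Cfsg.Geo.subalgebraNormalizer K).relIndex (Cfsg.Geo.omegaGL Q)) :
    (∀ x ∈ Cfsg.Geo.omegaGL Q,
      (∃ z : F, ((x ^ r : GL ι F) : Matrix ι ι F) = z • (1 : Matrix ι ι F)) →
      (∀ z : F, (x : Matrix ι ι F) ≠ z • (1 : Matrix ι ι F)) →
      ∃ g ∈ Cfsg.Geo.omegaGL Q, g⁻¹ * x * g ∈ Cfsg.Geo.subalgebraNormalizer K) ↔ r = 2 := by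
  obtain ⟨J, δ, hJK, hδ, hJJ, hKgen⟩ := exists_gen h2 K hK
  have hJ : IsJ Q δ J := ⟨hJJ, fun u v => hKf J hJK u v⟩
  constructor
  · intro hall
    by_contra hr2
    by_cases hrp : r = p
    · subst hrp
      exact main_bad_p h2 d hd hcard Q hQ K J δ hδ hJJ hJK hKgen hall
    · exact main_bad_ss h2 d hd hcard Q hQ K J δ hδ hJ hJK hKgen r hr2 hrp hΩ hall
  · rintro rfl
    intro x hxΩ hx2 hxns
    obtain ⟨z, hz⟩ := hx2
    have hxx : (x : Matrix ι ι F) * (x : Matrix ι ι F) = z • (1 : Matrix ι ι F) := by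
      rw [← hz, pow_two]; rfl
    haveI : Nonempty ι := by
      rw [← Fintype.card_pos_iff, hcard]
      omega
    rcases sq_scalar_cases Q hQ x (main_omegaGL_le Q hxΩ) z hxx with rfl | rfl
    · rw [one_smul] at hxx
      exact main_good_invol h2 d hd hcard Q hQ K J δ hδ hJ hJK hKgen x hxΩ hxx hxns
    · rw [neg_one_smul] at hxx
      exact main_good_sq_neg h2 d hd hcard Q hQ K J δ hδ hJ hJK hKgen x hxΩ hxx

end Cfsg.Agent.Lib.Helper44.Oc
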