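import Mathlib
import Cfsg.Prelude.Def_GeometricClasses
import Cfsg.Agent.Lib.Helper44.SLInvExt

set_option autoImplicit false
open scoped MatrixGroups Kronecker
open Matrix Polynomial

/-! TNS-S for S5979 (helper44): adjusting a conjugating element into `SL`. -/

namespace Cfsg.Agent.Lib.Helper44.Tns

universe v

variable {F : Type v} [Field F]

theorem adj_mem_specialLinear_iff {n : ℕ} (x : GL (Fin n) F) :
    x ∈ Cfsg.Geo.specialLinear (Fin n) F ↔ (x : Matrix (Fin n) (Fin n) F).det = 1 := by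
  unfold Cfsg.Geo.specialLinear
  rw [MonoidHom.mem_ker]
  constructor
  · intro h
    have := congrArg (fun u : Fˣ => (u : F)) h
    simpa using this
  · intro h
    apply Units.ext
    simpa using h

/-- TNS-S : adjusting the conjugating element into `SL` -/
theorem exists_SL_conj [Fintype F] {n : ℕ} (H : Subgroup (GL (Fin n) F)) (x : GL (Fin n) F)
    (hx : x ∈ Cfsg.Geo.specialLinear (Fin n) F) (z : F)
    (hxx : (x : Matrix (Fin n) (Fin n) F) * (x : Matrix (Fin n) (Fin n) F)
      = z • (1 : Matrix (Fin n) (Fin n) F))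
    (hns : ∀ c : F, (x : Matrix (Fin n) (Fin n) F) ≠ c • (1 : Matrix (Fin n) (Fin n) F))
    (R : GL (Fin n) F) (hR : R * x * R⁻¹ ∈ H) :
    ∃ g ∈ Cfsg.Geo.specialLinear (Fin n) F, g⁻¹ * x * g ∈ H := by
  have hdet : (x : Matrix (Fin n) (Fin n) F).det = 1 := (adj_mem_specialLinear_iff x).1 hx
  have hn0 : n ≠ 0 := by
    rintro rfl
    exact hns 0 (Subsingleton.elim _ _)
  have hz0 : z ≠ 0 := by
    rintro rfl
    rw [zero_smul] at hxx
    have h1 := congrArg Matrix.det hxx
    haveI : Nonempty (Fin n) := ⟨⟨0, Nat.pos_of_ne_zero hn0⟩⟩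
    rw [Matrix.det_mul, hdet, Matrix.det_zero] at h1
    simp at h1
  let x' : Matrix.SpecialLinearGroup (Fin n) F := ⟨(x : Matrix (Fin n) (Fin n) F), hdet⟩
  have hx' : Matrix.SpecialLinearGroup.toGL x' = x := by
    apply Units.ext
    rw [Matrix.SpecialLinearGroup.coe_GL_coe_matrix]
  obtain ⟨P, hP⟩ := Cfsg.Agent.Lib.Helper44.SLInv.exists_SL_conj_of_GL_conj H x' z hz0 hxx hns R
    (by rw [hx']; exact hR)
  rw [Subgroup.mem_comap, map_mul, map_mul, map_inv, hx'] at hP
  refine ⟨Matrix.SpecialLinearGroup.toGL P, ?_, hP⟩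
  rw [adj_mem_specialLinear_iff, Matrix.SpecialLinearGroup.coe_GL_coe_matrix]
  exact P.2

end Cfsg.Agent.Lib.Helper44.Tns
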