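import Mathlib
import Cfsg.Prelude.Def_GeometricClasses
import Cfsg.Agent.Lib.Helper44.UfDefs
import Cfsg.Agent.Lib.Helper44.TnsAdj
import Cfsg.Agent.Lib.Helper44.SLInvNormB
import Cfsg.Agent.Lib.Helper13.UfDIAGSIM
import Cfsg.Agent.Lib.Helper13.UfNOTSIM
import Cfsg.Agent.Lib.Helper13.UfPERM
import Cfsg.Agent.Lib.Helper25.UfAR3
import Cfsg.Agent.Lib.Helper25.UfTRANS
import Cfsg.Agent.Lib.Helper61.UfU1
import Cfsg.Agent.Lib.Helper65.UfBAD2
import Cfsg.Agent.Lib.Helper74.UfBADA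
import Cfsg.Agent.Lib.Helper75.UfAR1
import Cfsg.Agent.Lib.Helper80.UfHSPOW
import Cfsg.Agent.Lib.Helper80.UfRK
import Cfsg.Agent.Lib.Helper80.UfSLADJ
import Cfsg.Agent.Lib.Helper82.UfDETD
import Cfsg.Agent.Lib.Helper82.UfDIAG
import Cfsg.Agent.Lib.Helper97.UfCOMB
import Cfsg.Agent.Lib.Helper74.UfWLOG
import Cfsg.Agent.Lib.Helper13.UfSPEC
import Cfsg.Agent.Lib.Helper97.UfEXCZ
import Cfsg.Agent.Lib.Helper61.UfSQ
import Cfsg.Agent.Lib.Helper82.UfBADB
import Cfsg.Agent.Lib.Helper4.UfX1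
import Cfsg.Agent.Lib.Helper75.UfIDX
import Cfsg.Agent.Lib.Helper61.UfINV2

set_option autoImplicit false
open scoped MatrixGroups
open Matrix

/-! Assembly for S5982 (helper44). -/

namespace Cfsg.Agent.Lib.Helper44.Uf

universe v

variable {F : Type v} [Field F]

/-- rank is invariant under conjugation by an invertible matrix -/
theorem main_rank_conj {n : ℕ} (R : GL (Fin n) F) (A : Matrix (Fin n) (Fin n) F) :
    ((R : Matrix (Fin n) (Fin n) F) * A * ((R⁻¹ : GL (Fin n) F) : Matrix (Fin n) (Fin n) F)).rank = A.rank := by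
  have hR : IsUnit (R : Matrix (Fin n) (Fin n) F).det :=
    (Matrix.isUnit_iff_isUnit_det _).1 (Units.isUnit R)
  have hR' : IsUnit ((R⁻¹ : GL (Fin n) F) : Matrix (Fin n) (Fin n) F).det :=
    (Matrix.isUnit_iff_isUnit_det _).1 (Units.isUnit R⁻¹)
  rw [Matrix.rank_mul_eq_left_of_isUnit_det _ _ hR', Matrix.rank_mul_eq_right_of_isUnit_det _ _ hR]

theorem main_conj_sub {n : ℕ} (R : GL (Fin n) F) (A : Matrix (Fin n) (Fin n) F) (μ : F) :
    (R : Matrix (Fin n) (Fin n) F) * A * ((R⁻¹ : GL (Fin n) F) : Matrix (Fin n) (Fin n) F)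
      - μ • (1 : Matrix (Fin n) (Fin n) F)
    = (R : Matrix (Fin n) (Fin n) F) * (A - μ • (1 : Matrix (Fin n) (Fin n) F))
      * ((R⁻¹ : GL (Fin n) F) : Matrix (Fin n) (Fin n) F) := by
  have h1 : (R : Matrix (Fin n) (Fin n) F) * ((R⁻¹ : GL (Fin n) F) : Matrix (Fin n) (Fin n) F) = 1 := by
    rw [← Units.val_mul, mul_inv_cancel, Units.val_one]
  rw [mul_sub, sub_mul, Matrix.mul_smul, Matrix.mul_one, Matrix.smul_mul, h1]

/-- spectral symmetry is invariant under conjugation -/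
theorem main_specSym_conj {q₀ n : ℕ} (R : GL (Fin n) F) (A : Matrix (Fin n) (Fin n) F)
    (h : SpecSym q₀ ((R : Matrix (Fin n) (Fin n) F) * A * ((R⁻¹ : GL (Fin n) F) : Matrix (Fin n) (Fin n) F))) :
    SpecSym q₀ A := by
  obtain ⟨c, hc0, hcq, hc⟩ := h
  refine ⟨c, hc0, hcq, fun μ hμ => ?_⟩
  have := hc μ hμ
  rw [main_conj_sub, main_conj_sub, main_rank_conj, main_rank_conj] at this
  exact this

theorem main_two_le_q₀ [Fintype F] {q₀ : ℕ} (hF : Fintype.card F = q₀ ^ 2) : 2 ≤ q₀ := by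
  have h1 : 1 < Fintype.card F := Fintype.one_lt_card
  rw [hF] at h1
  by_contra h
  have : q₀ ≤ 1 := by omega
  have : q₀ ^ 2 ≤ 1 := by
    calc q₀ ^ 2 ≤ 1 ^ 2 := Nat.pow_le_pow_left this 2
      _ = 1 := one_pow 2
  omega

theorem main_val_conj {n : ℕ} (g x : GL (Fin n) F) :
    ((g⁻¹ * x * g : GL (Fin n) F) : Matrix (Fin n) (Fin n) F)
      = ((g⁻¹ : GL (Fin n) F) : Matrix (Fin n) (Fin n) F) * (x : Matrix (Fin n) (Fin n) F)
        * (((g⁻¹)⁻¹ : GL (Fin n) F) : Matrix (Fin n) (Fin n) F) := by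
  rw [inv_inv]; rfl

/-- every bad element contradicts the hypothesis that all elements are good -/
theorem main_not_specSym_false [Fintype F] {n q₀ : ℕ} (hF : Fintype.card F = q₀ ^ 2) (r : ℕ)
    (hall : ∀ x ∈ Cfsg.Geo.specialLinear (Fin n) F,
      (∃ z : F, ((x ^ r : GL (Fin n) F) : Matrix (Fin n) (Fin n) F) = z • (1 : Matrix (Fin n) (Fin n) F)) →
      (∀ z : F, (x : Matrix (Fin n) (Fin n) F) ≠ z • (1 : Matrix (Fin n) (Fin n) F)) →
      ∃ g ∈ Cfsg.Geo.specialLinear (Fin n) F, g⁻¹ * x * g ∈ HS n F q₀)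
    (h : ∃ x : GL (Fin n) F, x ∈ Cfsg.Geo.specialLinear (Fin n) F ∧
      (∃ z : F, ((x ^ r : GL (Fin n) F) : Matrix (Fin n) (Fin n) F) = z • (1 : Matrix (Fin n) (Fin n) F)) ∧
      (∀ z : F, (x : Matrix (Fin n) (Fin n) F) ≠ z • (1 : Matrix (Fin n) (Fin n) F)) ∧
      ¬ SpecSym q₀ (x : Matrix (Fin n) (Fin n) F)) : False := by
  obtain ⟨x, hxSL, hxr, hxns, hbad⟩ := h
  obtain ⟨g, -, hg⟩ := hall x hxSL hxr hxns
  have h1 := specSym_of_mem hF _ hg
  rw [main_val_conj] at h1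
  exact hbad (main_specSym_conj _ _ h1)


theorem main_not_dvd_q₀ [Fintype F] {p : ℕ} [Fact p.Prime] [CharP F p] {q₀ : ℕ}
    (hF : Fintype.card F = q₀ ^ 2) (r : ℕ) [hr : Fact r.Prime] (hrp : r ≠ p) : ¬ r ∣ q₀ := by
  intro h
  obtain ⟨k, -, hk⟩ := FiniteField.card F p
  have h1 : r ∣ p ^ (k : ℕ) := by
    rw [← hk, hF]
    exact dvd_pow h (by norm_num)
  have h2 : r ∣ p := hr.out.dvd_of_dvd_pow h1
  exact hrp ((Nat.prime_dvd_prime_iff_eq hr.out (Fact.out : p.Prime)).1 h2)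

theorem main_cast_ne_zero [Fintype F] {p : ℕ} [Fact p.Prime] [CharP F p]
    (r : ℕ) [hr : Fact r.Prime] (hrp : r ≠ p) : (r : F) ≠ 0 := by
  intro h
  have h2 : p ∣ r := (CharP.cast_eq_zero_iff F p r).1 h
  exact hrp ((Nat.prime_dvd_prime_iff_eq (Fact.out : p.Prime) hr.out).1 h2).symm

/-- the case `r ∣ q₀ - 1` -/
theorem main_bad_odd_one [Fintype F] {n q₀ : ℕ} (hF : Fintype.card F = q₀ ^ 2) (hn : 3 ≤ n) (r : ℕ)
    [hr : Fact r.Prime] (hr2 : r ≠ 2) (hgap : ¬ (n = 6 ∧ r = 3)) (h1 : r ∣ q₀ - 1)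
    (hall : ∀ x ∈ Cfsg.Geo.specialLinear (Fin n) F,
      (∃ z : F, ((x ^ r : GL (Fin n) F) : Matrix (Fin n) (Fin n) F) = z • (1 : Matrix (Fin n) (Fin n) F)) →
      (∀ z : F, (x : Matrix (Fin n) (Fin n) F) ≠ z • (1 : Matrix (Fin n) (Fin n) F)) →
      ∃ g ∈ Cfsg.Geo.specialLinear (Fin n) F, g⁻¹ * x * g ∈ HS n F q₀) :
    (r = 3 ∨ r = 5) ∧ n = r ∧ padicValNat r (q₀ - 1) = 1 := by
  have hq2 := main_two_le_q₀ hF
  by_cases h7 : 7 ≤ n
  · exact (main_not_specSym_false hF r hall (exists_bad_B hF h7 r hr2 h1)).elim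
  by_cases hv : padicValNat r n < padicValNat r (q₀ - 1)
  · exact (main_not_specSym_false hF r hall (exists_bad_A hF hn r hr2 h1 hv)).elim
  rw [not_le] at h7
  rw [not_lt] at hv
  have hv1 : 1 ≤ padicValNat r (q₀ - 1) := one_le_padicValNat_of_dvd (by omega) h1
  have hrn : r ∣ n := dvd_of_one_le_padicValNat (le_trans hv1 hv)
  have hrle : r ≤ n := Nat.le_of_dvd (by omega) hrn
  have hr3 : 3 ≤ r := by
    have := hr.out.two_le
    omega
  have key : ∀ m : ℕ, m.Prime → n = m → r = m ∧ padicValNat r (q₀ - 1) = 1 := by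
    intro m hm hnm
    subst hnm
    have hrm : r = n := (Nat.prime_dvd_prime_iff_eq hr.out hm).1 hrn
    refine ⟨hrm, ?_⟩
    have : padicValNat r n = 1 := by
      rw [← hrm]; exact padicValNat_self
    omega
  interval_cases n
  · obtain ⟨h, h'⟩ := key 3 (by norm_num) rfl
    exact ⟨Or.inl h, h.symm, h'⟩
  · exfalso
    have : r ∣ 2 ^ 2 := by simpa using hrn
    have := hr.out.dvd_of_dvd_pow this
    have := Nat.le_of_dvd (by norm_num) this
    omega
  · obtain ⟨h, h'⟩ := key 5 (by norm_num) rfl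
    exact ⟨Or.inr h, h.symm, h'⟩
  · exfalso
    have h6 : r ∣ 2 * 3 := by simpa using hrn
    rcases (Nat.Prime.dvd_mul hr.out).1 h6 with h | h
    · have := Nat.le_of_dvd (by norm_num) h
      omega
    · have := (Nat.prime_dvd_prime_iff_eq hr.out Nat.prime_three).1 h
      exact hgap ⟨rfl, this⟩


theorem main_natCast_eq_one_iff (r : ℕ) [hr : Fact r.Prime] (m : ℕ) (hm : 1 ≤ m) :
    ((m : ℕ) : ZMod r) = 1 ↔ r ∣ m - 1 := by
  rw [← ZMod.natCast_eq_zero_iff, Nat.cast_sub hm, Nat.cast_one, sub_eq_zero]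

/-- the case `r ∤ q₀ - 1` -/
theorem main_bad_odd_two [Fintype F] {p : ℕ} [Fact p.Prime] [CharP F p] {n q₀ : ℕ}
    (hF : Fintype.card F = q₀ ^ 2) (hn : 3 ≤ n) (r : ℕ)
    [hr : Fact r.Prime] (hr2 : r ≠ 2) (hrp : r ≠ p) (h1 : ¬ r ∣ q₀ - 1)
    (hΩ : r ∣ (HS n F q₀).relIndex (Cfsg.Geo.specialLinear (Fin n) F))
    (hall : ∀ x ∈ Cfsg.Geo.specialLinear (Fin n) F,
      (∃ z : F, ((x ^ r : GL (Fin n) F) : Matrix (Fin n) (Fin n) F) = z • (1 : Matrix (Fin n) (Fin n) F)) →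
      (∀ z : F, (x : Matrix (Fin n) (Fin n) F) ≠ z • (1 : Matrix (Fin n) (Fin n) F)) →
      ∃ g ∈ Cfsg.Geo.specialLinear (Fin n) F, g⁻¹ * x * g ∈ HS n F q₀) : False := by
  have hq2 := main_two_le_q₀ hF
  have hrq : ¬ r ∣ q₀ := main_not_dvd_q₀ hF r hrp
  obtain ⟨j, hj2, hjn, hj⟩ := exists_pow_eq_neg_one_of_dvd_relIndex hF hn r hr2 hrq hΩ
  have hne : (1 : ZMod r) ≠ -1 := by
    intro h
    have h2 : ((2 : ℕ) : ZMod r) = 0 := by
      have h3 : (1 : ZMod r) + 1 = 0 := by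
        nth_rewrite 1 [h]
        exact neg_add_cancel 1
      push_cast
      rw [← h3]; norm_num
    have := (ZMod.natCast_eq_zero_iff 2 r).1 h2
    have := Nat.le_of_dvd (by norm_num) this
    have := hr.out.two_le
    omega
  have hq1 : (q₀ : ZMod r) ≠ 1 := fun h => h1 ((main_natCast_eq_one_iff r q₀ (by omega)).1 h)
  have hq1' : (q₀ : ZMod r) ≠ -1 := by
    intro h
    rw [h, neg_neg, one_pow] at hj
    exact hne hj
  -- `r ∤ |F| - 1`
  have hcard1 : ¬ r ∣ Fintype.card F - 1 := by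
    intro h
    rw [hF] at h
    have h' := (main_natCast_eq_one_iff r (q₀ ^ 2) (Nat.one_le_pow _ _ (by omega))).2 h
    push_cast at h'
    have : ((q₀ : ZMod r) - 1) * ((q₀ : ZMod r) + 1) = 0 := by
      have : ((q₀ : ZMod r) - 1) * ((q₀ : ZMod r) + 1) = (q₀ : ZMod r) ^ 2 - 1 := by ring
      rw [this, h', sub_self]
    rcases mul_eq_zero.1 this with h3 | h3
    · exact hq1 (sub_eq_zero.1 h3)
    · exact hq1' (eq_neg_of_add_eq_zero_left h3)
  set i := orderOf ((q₀ : ZMod r) ^ 2) with hi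
  have hsq : ((q₀ : ZMod r) ^ 2) ^ j = 1 := by
    have : ((q₀ : ZMod r) ^ 2) ^ j = ((-(q₀ : ZMod r)) ^ j) ^ 2 := by
      rw [← pow_mul, ← pow_mul, mul_comm j 2, pow_mul, pow_mul (-(q₀ : ZMod r)), neg_sq]
    rw [this, hj]; ring
  have hij : i ∣ j := orderOf_dvd_of_pow_eq_one hsq
  have hi1 : 1 ≤ i := by
    rcases Nat.eq_zero_or_pos i with h0 | h0
    · rw [h0] at hij
      have := Nat.eq_zero_of_zero_dvd hij
      omega
    · exact h0
  have hin : i ≤ n := (Nat.le_of_dvd (by omega) hij).trans hjn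
  have hri : r ∣ Fintype.card F ^ i - 1 := by
    rw [← main_natCast_eq_one_iff r _ (Nat.one_le_pow _ _ Fintype.card_pos), hF]
    push_cast
    exact pow_orderOf_eq_one _
  obtain ⟨x, hxSL, hxr, hx1, hrank⟩ := exists_small_support r i hr.out hi1 hin hri hcard1
  -- `x` has order `r` modulo scalars
  have hxord : ∃ z : F, ((x ^ r : GL (Fin n) F) : Matrix (Fin n) (Fin n) F)
      = z • (1 : Matrix (Fin n) (Fin n) F) := ⟨1, by rw [hxr, one_smul]; rfl⟩
  have hxns : ∀ z : F, (x : Matrix (Fin n) (Fin n) F) ≠ z • (1 : Matrix (Fin n) (Fin n) F) := by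
    intro z hz
    have hzr : z ^ r = 1 := by
      have h2 : ((x ^ r : GL (Fin n) F) : Matrix (Fin n) (Fin n) F) = (z ^ r) • (1 : Matrix (Fin n) (Fin n) F) := by
        rw [Units.val_pow_eq_pow_val, hz, smul_pow, one_pow]
      rw [hxr, Units.val_one] at h2
      have h3 := congrFun (congrFun h2 ⟨0, by omega⟩) ⟨0, by omega⟩
      simpa using h3.symm
    have hz0 : z ≠ 0 := by
      rintro rfl
      rw [zero_pow hr.out.ne_zero] at hzr
      exact zero_ne_one hzr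
    have hzq : z ^ (Fintype.card F - 1) = 1 := FiniteField.pow_card_sub_one_eq_one z hz0
    have ho1 : orderOf z ∣ r := orderOf_dvd_of_pow_eq_one hzr
    have ho2 : orderOf z ∣ Fintype.card F - 1 := orderOf_dvd_of_pow_eq_one hzq
    rcases (Nat.dvd_prime hr.out).1 ho1 with h | h
    · have hz1 : z = 1 := orderOf_eq_one_iff.1 h
      rw [hz1, one_smul] at hz
      exact hx1 (Units.ext hz)
    · rw [h] at ho2
      exact hcard1 ho2
  obtain ⟨g, -, hg⟩ := hall x hxSL hxord hxns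
  set h := g⁻¹ * x * g with hh
  have hhr : h ^ r = 1 := by
    have hc : ∀ k : ℕ, (g⁻¹ * x * g) ^ k = g⁻¹ * x ^ k * g := by
      intro k
      induction k with
      | zero => simp
      | succ k ih => rw [pow_succ, ih, pow_succ]; group
    rw [hh, hc, hxr, mul_one, inv_mul_cancel]
  have hh1 : h ≠ 1 := by
    intro h'
    apply hx1
    have : x = g * h * g⁻¹ := by rw [hh]; group
    rw [this, h']; group
  have hu := pow_mem_GU hF (by omega) h hg
  have hcop : Nat.Coprime (q₀ - 1) r := ((Nat.Prime.coprime_iff_not_dvd hr.out).2 h1).symm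
  have hur : (h ^ (q₀ - 1)) ^ r = 1 := by rw [← pow_mul, mul_comm, pow_mul, hhr, one_pow]
  have hu1 : h ^ (q₀ - 1) ≠ 1 := by
    intro h'
    have ho1 : orderOf h ∣ r := orderOf_dvd_of_pow_eq_one hhr
    have ho2 : orderOf h ∣ q₀ - 1 := orderOf_dvd_of_pow_eq_one h'
    have : orderOf h ∣ 1 := by
      have := Nat.dvd_gcd ho2 ho1
      rwa [hcop] at this
    exact hh1 (orderOf_eq_one_iff.1 (Nat.dvd_one.1 this))
  have hrk : (((h ^ (q₀ - 1) : GL (Fin n) F) : Matrix (Fin n) (Fin n) F) - 1).rank ≤ i := by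
    have hr' : (h : Matrix (Fin n) (Fin n) F) ^ r = 1 := by
      rw [← Units.val_pow_eq_pow_val, hhr]; rfl
    rw [Units.val_pow_eq_pow_val, rank_pow_sub_one _ r (q₀ - 1) hr' hcop]
    have h3 : (h : Matrix (Fin n) (Fin n) F) - 1
        = ((g⁻¹ : GL (Fin n) F) : Matrix (Fin n) (Fin n) F) * ((x : Matrix (Fin n) (Fin n) F) - 1)
          * (((g⁻¹)⁻¹ : GL (Fin n) F) : Matrix (Fin n) (Fin n) F) := by
      have := main_conj_sub g⁻¹ (x : Matrix (Fin n) (Fin n) F) 1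
      rw [one_smul] at this
      rw [← this, hh, main_val_conj]
    rw [h3, main_rank_conj]
    exact hrank
  have hdvd := dvd_card_GU_rank hF r hr.out (main_cast_ne_zero r hrp) _ hu hur hu1
  obtain ⟨j', hj'1, hj'd, hj'⟩ := exists_pow_eq_one_of_dvd_card_GU hF _ r hrq hdvd
  exact arith_contra r hr2 q₀ j hj j' hj'1 (hj'd.trans hrk) hj'


theorem main_two_eq_zero_iff {p : ℕ} [hp : Fact p.Prime] [CharP F p] : (2 : F) = 0 ↔ p = 2 := by
  constructor
  · intro h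
    have h2 : p ∣ 2 := (CharP.cast_eq_zero_iff F p 2).1 (by exact_mod_cast h)
    exact (Nat.prime_dvd_prime_iff_eq hp.out Nat.prime_two).1 h2
  · rintro rfl
    exact_mod_cast (CharP.cast_eq_zero_iff F 2 2).2 dvd_rfl

theorem main_odd_q₀ [Fintype F] {q₀ : ℕ} (hF : Fintype.card F = q₀ ^ 2) (h2 : (2 : F) ≠ 0) : Odd q₀ := by
  have h := (not_congr (Cfsg.Agent.Lib.Helper44.SLInv.two_eq_zero_iff_even_card (F := F))).1 h2
  rw [hF] at h
  rcases Nat.even_or_odd q₀ with he | ho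
  · exfalso
    apply h
    have : Even (q₀ ^ 2) := (Nat.even_pow' (by norm_num)).2 he
    exact Nat.even_iff.1 this
  · exact ho

/-- `r = 2`: the good direction -/
theorem main_good_two [Fintype F] {p : ℕ} [Fact p.Prime] [CharP F p] {n q₀ : ℕ}
    (hF : Fintype.card F = q₀ ^ 2) (hn : 3 ≤ n)
    (hcond : p = 2 ∨ padicValNat 2 n ≤ padicValNat 2 (q₀ ^ 2 - 1))
    (x : GL (Fin n) F) (hxSL : x ∈ Cfsg.Geo.specialLinear (Fin n) F)
    (hx2 : ∃ z : F, ((x ^ 2 : GL (Fin n) F) : Matrix (Fin n) (Fin n) F) = z • (1 : Matrix (Fin n) (Fin n) F))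
    (hxns : ∀ z : F, (x : Matrix (Fin n) (Fin n) F) ≠ z • (1 : Matrix (Fin n) (Fin n) F)) :
    ∃ g ∈ Cfsg.Geo.specialLinear (Fin n) F, g⁻¹ * x * g ∈ HS n F q₀ := by
  obtain ⟨z, hz⟩ := hx2
  have hxx : (x : Matrix (Fin n) (Fin n) F) * (x : Matrix (Fin n) (Fin n) F)
      = z • (1 : Matrix (Fin n) (Fin n) F) := by
    rw [← hz, pow_two]; rfl
  have hdet : (x : Matrix (Fin n) (Fin n) F).det = 1 :=
    (Cfsg.Agent.Lib.Helper44.Tns.adj_mem_specialLinear_iff x).1 hxSL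
  have hR : ∃ R : GL (Fin n) F, R * x * R⁻¹ ∈ HS n F q₀ := by
    by_cases h2 : (2 : F) = 0
    · exact exists_conj_mem_of_sq_char_two hF h2 x z hxx
    · have hle : padicValNat 2 n ≤ padicValNat 2 (q₀ ^ 2 - 1) := by
        rcases hcond with h | h
        · exact (h2 (main_two_eq_zero_iff.2 h)).elim
        · exact h
      obtain ⟨w, hw⟩ := isSquare_of_val_le hF h2 (by omega) hle _ hdet z hxx
      have hz0 : z ≠ 0 := by
        rintro rfl
        rw [zero_smul] at hxx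
        have h1 := congrArg Matrix.det hxx
        have : Nonempty (Fin n) := ⟨⟨0, by omega⟩⟩
        rw [Matrix.det_mul, hdet, Matrix.det_zero] at h1
        simp at h1
      have hw0 : w ≠ 0 := by
        rintro rfl
        rw [mul_zero] at hw
        exact hz0 hw
      have hodd := main_odd_q₀ hF h2
      have h21 : 2 ∣ Fintype.card F - 1 := by
        rw [hF]
        obtain ⟨k, hk⟩ := hodd
        have : q₀ ^ 2 = 2 * (2 * k * k + 2 * k) + 1 := by rw [hk]; ring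
        omega
      obtain ⟨b, d, hb, hd⟩ := exists_eigenbasis 2 Nat.prime_two h21 (x : Matrix (Fin n) (Fin n) F) w hw0
        (by rw [pow_two, hxx, hw, pow_two])
      obtain ⟨k, hk⟩ := hodd
      have hd' : ∀ i, d i * (d ((id : Fin n → Fin n) i)) ^ q₀ = w ^ (q₀ + 1) := by
        intro i
        have : d i * (d i) ^ q₀ = (d i ^ 2) ^ (k + 1) := by
          rw [← pow_mul, hk]; ring
        rw [id, this, hd i, ← pow_mul, hk]; ring
      exact exists_conj_mem_of_eigenbasis hF b d id (fun _ => rfl) (w ^ (q₀ + 1)) (pow_ne_zero _ hw0) hd' x hb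
  obtain ⟨R, hR⟩ := hR
  exact Cfsg.Agent.Lib.Helper44.Tns.exists_SL_conj (HS n F q₀) x hxSL z hxx hxns R hR

/-- `r = 2`: the bad direction -/
theorem main_bad_two [Fintype F] {n q₀ : ℕ}
    (hF : Fintype.card F = q₀ ^ 2) (hn : 3 ≤ n) (h2 : (2 : F) ≠ 0)
    (hall : ∀ x ∈ Cfsg.Geo.specialLinear (Fin n) F,
      (∃ z : F, ((x ^ 2 : GL (Fin n) F) : Matrix (Fin n) (Fin n) F) = z • (1 : Matrix (Fin n) (Fin n) F)) →
      (∀ z : F, (x : Matrix (Fin n) (Fin n) F) ≠ z • (1 : Matrix (Fin n) (Fin n) F)) →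
      ∃ g ∈ Cfsg.Geo.specialLinear (Fin n) F, g⁻¹ * x * g ∈ HS n F q₀) :
    padicValNat 2 n ≤ padicValNat 2 (q₀ ^ 2 - 1) := by
  by_contra hlt
  rw [not_le] at hlt
  obtain ⟨x, z, hxSL, hxx, hz⟩ := exists_nonsquare_type hF h2 (by omega) hlt
  have hxns : ∀ c : F, (x : Matrix (Fin n) (Fin n) F) ≠ c • (1 : Matrix (Fin n) (Fin n) F) := by
    intro c hc
    apply hz
    rw [hc, Matrix.smul_mul, Matrix.mul_smul, Matrix.mul_one, smul_smul] at hxx
    have h3 := congrFun (congrFun hxx ⟨0, by omega⟩) ⟨0, by omega⟩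
    refine ⟨c, ?_⟩
    simpa using h3.symm
  obtain ⟨g, -, hg⟩ := hall x hxSL ⟨z, by rw [pow_two, ← hxx]; rfl⟩ hxns
  apply hz
  refine isSquare_of_mem_HS hF h2 (by omega) _ hg z ?_
  have h1 : (g⁻¹ * x * g) * (g⁻¹ * x * g) = g⁻¹ * (x * x) * g := by group
  have h3 : ((x * x : GL (Fin n) F) : Matrix (Fin n) (Fin n) F) = z • (1 : Matrix (Fin n) (Fin n) F) := hxx
  rw [← Units.val_mul, h1, Units.val_mul, Units.val_mul, h3, Matrix.mul_smul, Matrix.mul_one,
    Matrix.smul_mul, ← Units.val_mul, inv_mul_cancel, Units.val_one]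


/-- a matrix acting as a fixed scalar on a basis is scalar -/
theorem main_eq_smul_of_basis {n : ℕ} {I : Type} [Fintype I] (x : Matrix (Fin n) (Fin n) F)
    (b : Module.Basis I F (Fin n → F)) (c : F) (h : ∀ i, x *ᵥ b i = c • b i) :
    x = c • (1 : Matrix (Fin n) (Fin n) F) := by
  have h1 : Matrix.toLin' x = Matrix.toLin' (c • (1 : Matrix (Fin n) (Fin n) F)) := by
    apply b.ext
    intro i
    rw [Matrix.toLin'_apply, Matrix.toLin'_apply, h i, Matrix.smul_mulVec, Matrix.one_mulVec]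
  exact Matrix.toLin'.injective h1

/-- the exceptional case: all elements are good -/
theorem main_good_exc [Fintype F] {q₀ : ℕ}
    (hF : Fintype.card F = q₀ ^ 2) (r : ℕ) [hr : Fact r.Prime] (h35 : r = 3 ∨ r = 5)
    (hv : padicValNat r (q₀ - 1) = 1)
    (x : GL (Fin r) F) (hxSL : x ∈ Cfsg.Geo.specialLinear (Fin r) F)
    (hxr : ∃ z : F, ((x ^ r : GL (Fin r) F) : Matrix (Fin r) (Fin r) F) = z • (1 : Matrix (Fin r) (Fin r) F))
    (hxns : ∀ z : F, (x : Matrix (Fin r) (Fin r) F) ≠ z • (1 : Matrix (Fin r) (Fin r) F)) :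
    ∃ g ∈ Cfsg.Geo.specialLinear (Fin r) F, g⁻¹ * x * g ∈ HS r F q₀ := by
  have hq2 := main_two_le_q₀ hF
  have hr2 : r ≠ 2 := by rcases h35 with h | h <;> omega
  have hr1 : r ∣ q₀ - 1 := dvd_of_one_le_padicValNat (by omega)
  obtain ⟨z, hz⟩ := hxr
  have hz1 : z = 1 := eq_one_of_exceptional hF r hr2 hv x hxSL z hz
  have hxr1 : (x : Matrix (Fin r) (Fin r) F) ^ r = ((1 : F) ^ r) • (1 : Matrix (Fin r) (Fin r) F) := by
    rw [← Units.val_pow_eq_pow_val, hz, hz1, one_pow]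
  have hrF : r ∣ Fintype.card F - 1 := by
    rw [hF]
    have : q₀ ^ 2 - 1 = (q₀ - 1) * (q₀ + 1) := by
      obtain ⟨k, rfl⟩ : ∃ k, q₀ = k + 1 := ⟨q₀ - 1, by omega⟩
      rw [Nat.add_sub_cancel]
      have : (k + 1) ^ 2 = k * (k + 1 + 1) + 1 := by ring
      omega
    rw [this]
    exact Dvd.dvd.mul_right hr1 _
  obtain ⟨b, d, hb, hd⟩ := exists_eigenbasis r hr.out hrF (x : Matrix (Fin r) (Fin r) F) 1 one_ne_zero hxr1
  simp only [one_pow] at hd
  have hdet : (x : Matrix (Fin r) (Fin r) F).det = 1 :=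
    (Cfsg.Agent.Lib.Helper44.Tns.adj_mem_specialLinear_iff x).1 hxSL
  have hprod : ∏ i, d i = 1 := by
    rw [← det_eq_prod_of_eigenbasis _ b d hb, hdet]
  have hnc : ∃ i j, d i ≠ d j := by
    by_contra hcon
    push Not at hcon
    have i₀ : Fin r := ⟨0, hr.out.pos⟩
    exact hxns (d i₀) (main_eq_smul_of_basis _ b (d i₀) (fun i => by rw [hb i, hcon i i₀]))
  obtain ⟨ι, c, hι, hc0, hc⟩ := exists_invol_of_exceptional hF r h35 hr1 d hd hprod hnc
  obtain ⟨R, hR⟩ := exists_conj_mem_of_eigenbasis hF b d ι hι c hc0 hc x hb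
  have : Nonempty (Fin r) := ⟨⟨0, hr.out.pos⟩⟩
  exact exists_SL_conj_of_eigenbasis (HS r F q₀) x hxSL b d hb R hR

/-- the theorem for the standard hermitian form -/
theorem main_std [Fintype F] {p : ℕ} [hp : Fact p.Prime] [CharP F p] {n q₀ : ℕ}
    (hF : Fintype.card F = q₀ ^ 2) (hn : 3 ≤ n) (r : ℕ) [hr : Fact r.Prime] (hrp : r = 2 ∨ r ≠ p)
    (hgap : ¬ (n = 6 ∧ r = 3))
    (hΩ : r ∣ (HS n F q₀).relIndex (Cfsg.Geo.specialLinear (Fin n) F)) :
    (∀ x ∈ Cfsg.Geo.specialLinear (Fin n) F,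
      (∃ z : F, ((x ^ r : GL (Fin n) F) : Matrix (Fin n) (Fin n) F) = z • (1 : Matrix (Fin n) (Fin n) F)) →
      (∀ z : F, (x : Matrix (Fin n) (Fin n) F) ≠ z • (1 : Matrix (Fin n) (Fin n) F)) →
      ∃ g ∈ Cfsg.Geo.specialLinear (Fin n) F, g⁻¹ * x * g ∈ HS n F q₀) ↔
    ((r = 2 ∧ (p = 2 ∨ padicValNat 2 n ≤ padicValNat 2 (q₀ ^ 2 - 1))) ∨
      ((r = 3 ∨ r = 5) ∧ n = r ∧ padicValNat r (q₀ - 1) = 1)) := by
  constructor
  · intro hall
    by_cases hr2 : r = 2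
    · subst hr2
      refine Or.inl ⟨rfl, ?_⟩
      by_cases hp2 : p = 2
      · exact Or.inl hp2
      · refine Or.inr (main_bad_two hF hn ?_ hall)
        exact fun h => hp2 (main_two_eq_zero_iff.1 h)
    · have hrp' : r ≠ p := by
        rcases hrp with h | h
        · exact (hr2 h).elim
        · exact h
      refine Or.inr ?_
      by_cases h1 : r ∣ q₀ - 1
      · exact main_bad_odd_one hF hn r hr2 hgap h1 hall
      · exact (main_bad_odd_two hF hn r hr2 hrp' h1 hΩ hall).elim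
  · rintro (⟨rfl, hcond⟩ | ⟨h35, hnr, hv⟩)
    · intro x hxSL hx2 hxns
      exact main_good_two hF hn hcond x hxSL hx2 hxns
    · subst hnr
      intro x hxSL hxr hxns
      exact main_good_exc hF n h35 hv x hxSL hxr hxns

end Cfsg.Agent.Lib.Helper44.Uf
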