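import Mathlib
import Cfsg.Prelude.Def_GeometricClasses
import Cfsg.Agent.Lib.Helper44.UfDefs
import Cfsg.Agent.Lib.Helper44.UfMain
import Cfsg.Agent.Lib.Helper44.SLInvCyc
import Cfsg.Agent.Lib.Helper13.OfSPEC
import Cfsg.Agent.Lib.Helper74.OfBADA
import Cfsg.Agent.Lib.Helper68.OfBADB
import Cfsg.Agent.Lib.Helper97.OfEXCZ
import Cfsg.Agent.Lib.Helper97.OfCOMB
import Cfsg.Agent.Lib.Helper99.OfODDSIM
import Cfsg.Agent.Lib.Helper99.OfPERMQ
import Cfsg.Agent.Lib.Helper17.OfDIAG2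
import Cfsg.Agent.Lib.Helper35.OfNSQ1
import Cfsg.Agent.Lib.Helper53.OfTRANSV
import Cfsg.Agent.Lib.Helper39.OfHSPOW
import Cfsg.Agent.Lib.Helper53.OfDUAL
import Cfsg.Agent.Lib.Helper39.OfF1
import Cfsg.Agent.Lib.Helper13.OfCARDO
import Cfsg.Agent.Lib.Helper45.OfCARDE
import Cfsg.Agent.Lib.Helper53.OfIDX0
import Cfsg.Agent.Lib.Helper53.OfCARDSL
import Cfsg.Agent.Lib.Helper68.OfARO
import Cfsg.Agent.Lib.Helper68.OfARC
import Cfsg.Agent.Lib.Helper45.OfX2
import Cfsg.Agent.Lib.Helper68.OfORB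

set_option autoImplicit false
open scoped MatrixGroups
open Matrix Polynomial

/-! Assembly for S5981 (helper44). -/

namespace Cfsg.Agent.Lib.Helper44.Of

universe v

variable {F : Type v} [Field F]

open Cfsg.Agent.Lib.Helper44.Uf

theorem main_two_ne_zero [Fintype F] (hodd : Odd (Fintype.card F)) : (2 : F) ≠ 0 := by
  intro h
  have := (Cfsg.Agent.Lib.Helper44.SLInv.two_eq_zero_iff_even_card (F := F)).1 h
  obtain ⟨k, hk⟩ := hodd
  omega

/-- every bad element contradicts the hypothesis that all elements are good -/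
theorem main_not_specSym_false {n : ℕ} (Q : (Fin n → F) → F)
    (hQ : Cfsg.Geo.IsNondegenerateQuadraticForm Q) (r : ℕ)
    (hall : ∀ x ∈ Cfsg.Geo.specialLinear (Fin n) F,
      (∃ z : F, ((x ^ r : GL (Fin n) F) : Matrix (Fin n) (Fin n) F) = z • (1 : Matrix (Fin n) (Fin n) F)) →
      (∀ z : F, (x : Matrix (Fin n) (Fin n) F) ≠ z • (1 : Matrix (Fin n) (Fin n) F)) →
      ∃ g ∈ Cfsg.Geo.specialLinear (Fin n) F, g⁻¹ * x * g ∈ Cfsg.Geo.quadSimilarityGroup Q)
    (h : ∃ x : GL (Fin n) F, x ∈ Cfsg.Geo.specialLinear (Fin n) F ∧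
      (∃ z : F, ((x ^ r : GL (Fin n) F) : Matrix (Fin n) (Fin n) F) = z • (1 : Matrix (Fin n) (Fin n) F)) ∧
      (∀ z : F, (x : Matrix (Fin n) (Fin n) F) ≠ z • (1 : Matrix (Fin n) (Fin n) F)) ∧
      ¬ SpecSym 1 (x : Matrix (Fin n) (Fin n) F)) : False := by
  obtain ⟨x, hxSL, hxr, hxns, hbad⟩ := h
  obtain ⟨g, -, hg⟩ := hall x hxSL hxr hxns
  have h1 := specSym_of_mem Q hQ _ hg
  rw [main_val_conj] at h1
  exact hbad (main_specSym_conj _ _ h1)

/-- the case `r ∣ q - 1` -/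
theorem main_bad_odd_one [Fintype F] {n : ℕ} (hn : 3 ≤ n) (Q : (Fin n → F) → F)
    (hQ : Cfsg.Geo.IsNondegenerateQuadraticForm Q) (r : ℕ)
    [hr : Fact r.Prime] (hr2 : r ≠ 2) (hgap : ¬ (n = 6 ∧ r = 3)) (h1 : r ∣ Fintype.card F - 1)
    (hall : ∀ x ∈ Cfsg.Geo.specialLinear (Fin n) F,
      (∃ z : F, ((x ^ r : GL (Fin n) F) : Matrix (Fin n) (Fin n) F) = z • (1 : Matrix (Fin n) (Fin n) F)) →
      (∀ z : F, (x : Matrix (Fin n) (Fin n) F) ≠ z • (1 : Matrix (Fin n) (Fin n) F)) →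
      ∃ g ∈ Cfsg.Geo.specialLinear (Fin n) F, g⁻¹ * x * g ∈ Cfsg.Geo.quadSimilarityGroup Q) :
    (r = 3 ∨ r = 5) ∧ n = r ∧ padicValNat r (Fintype.card F - 1) = 1 := by
  have hq2 : 2 ≤ Fintype.card F := Fintype.one_lt_card
  have hq1 : Fintype.card F - 1 ≠ 0 := by omega
  by_cases h7 : 7 ≤ n
  · exact (main_not_specSym_false Q hQ r hall (exists_bad_B h7 r hr2 h1)).elim
  by_cases hv : padicValNat r n < padicValNat r (Fintype.card F - 1)
  · exact (main_not_specSym_false Q hQ r hall (exists_bad_A hn r hr2 h1 hv)).elim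
  rw [not_le] at h7
  rw [not_lt] at hv
  have hv1 : 1 ≤ padicValNat r (Fintype.card F - 1) := one_le_padicValNat_of_dvd hq1 h1
  have hrn : r ∣ n := dvd_of_one_le_padicValNat (le_trans hv1 hv)
  have hrle : r ≤ n := Nat.le_of_dvd (by omega) hrn
  have hr3 : 3 ≤ r := by
    have := hr.out.two_le
    omega
  have key : ∀ m : ℕ, m.Prime → n = m → r = m ∧ padicValNat r (Fintype.card F - 1) = 1 := by
    intro m hm hnm
    subst hnm
    have hrm : r = n := (Nat.prime_dvd_prime_iff_eq hr.out hm).1 hrn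
    refine ⟨hrm, ?_⟩
    have : padicValNat r n = 1 := by
      rw [← hrm]; exact padicValNat_self
    omega
  interval_cases n
  · obtain ⟨h, h'⟩ := key 3 (by norm_num) rfl
    exact ⟨Or.inl h, h.symm, h'⟩
  · exfalso
    have : r ∣ 2 ^ 2 := by simpa using hrn
    have := hr.out.dvd_of_dvd_pow this
    have := Nat.le_of_dvd (by norm_num) this
    omega
  · obtain ⟨h, h'⟩ := key 5 (by norm_num) rfl
    exact ⟨Or.inr h, h.symm, h'⟩
  · exfalso
    have h6 : r ∣ 2 * 3 := by simpa using hrn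
    rcases (Nat.Prime.dvd_mul hr.out).1 h6 with h | h
    · have := Nat.le_of_dvd (by norm_num) h
      omega
    · have := (Nat.prime_dvd_prime_iff_eq hr.out Nat.prime_three).1 h
      exact hgap ⟨rfl, this⟩


theorem main_conj_pow {G : Type*} [Group G] (g x : G) (k : ℕ) : (g⁻¹ * x * g) ^ k = g⁻¹ * x ^ k * g := by
  induction k with
  | zero => simp
  | succ k ih => rw [pow_succ, ih, pow_succ]; group

/-- a scalar element of order dividing `r` is trivial when `r ∤ q - 1` -/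
theorem main_not_scalar [Fintype F] {n : ℕ} (hn : 1 ≤ n) (r : ℕ) [hr : Fact r.Prime]
    (hcard1 : ¬ r ∣ Fintype.card F - 1) (x : GL (Fin n) F) (hxr : x ^ r = 1) (hx1 : x ≠ 1) :
    ∀ z : F, (x : Matrix (Fin n) (Fin n) F) ≠ z • (1 : Matrix (Fin n) (Fin n) F) := by
  intro z hz
  have hzr : z ^ r = 1 := by
    have h2 : ((x ^ r : GL (Fin n) F) : Matrix (Fin n) (Fin n) F) = (z ^ r) • (1 : Matrix (Fin n) (Fin n) F) := by
      rw [Units.val_pow_eq_pow_val, hz, _root_.smul_pow, one_pow]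
    rw [hxr, Units.val_one] at h2
    have h3 := congrFun (congrFun h2 ⟨0, by omega⟩) ⟨0, by omega⟩
    simpa using h3.symm
  have hz0 : z ≠ 0 := by
    rintro rfl
    rw [zero_pow hr.out.ne_zero] at hzr
    exact zero_ne_one hzr
  have hzq : z ^ (Fintype.card F - 1) = 1 := FiniteField.pow_card_sub_one_eq_one z hz0
  have ho1 : orderOf z ∣ r := orderOf_dvd_of_pow_eq_one hzr
  have ho2 : orderOf z ∣ Fintype.card F - 1 := orderOf_dvd_of_pow_eq_one hzq
  rcases (Nat.dvd_prime hr.out).1 ho1 with h | h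
  · have hz1 : z = 1 := orderOf_eq_one_iff.1 h
    rw [hz1, one_smul] at hz
    exact hx1 (Units.ext hz)
  · rw [h] at ho2
    exact hcard1 ho2

/-- from a good element `x` of order `r` (`r ∤ q - 1`) we get an isometry `u` of order `r`, conjugate to `x ^ (q - 1)` -/
theorem main_exists_isometry [Fintype F] {n : ℕ} (hn : 1 ≤ n) (Q : (Fin n → F) → F)
    (hQ : Cfsg.Geo.IsNondegenerateQuadraticForm Q) (r : ℕ) [hr : Fact r.Prime]
    (hcard1 : ¬ r ∣ Fintype.card F - 1) (x g : GL (Fin n) F) (hxr : x ^ r = 1) (hx1 : x ≠ 1)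
    (hg : g⁻¹ * x * g ∈ Cfsg.Geo.quadSimilarityGroup Q) :
    ∃ u : GL (Fin n) F, u = g⁻¹ * x ^ (Fintype.card F - 1) * g ∧
      (∀ v, Q ((u : Matrix (Fin n) (Fin n) F) *ᵥ v) = Q v) ∧ u ^ r = 1 ∧ u ≠ 1 ∧
      (Nat.Coprime (Fintype.card F - 1) r) := by
  have hcop : Nat.Coprime (Fintype.card F - 1) r := ((Nat.Prime.coprime_iff_not_dvd hr.out).2 hcard1).symm
  refine ⟨g⁻¹ * x ^ (Fintype.card F - 1) * g, rfl, ?_, ?_, ?_, hcop⟩
  · have := pow_mem_isometry hn Q hQ _ hg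
    rw [main_conj_pow] at this
    exact this
  · rw [main_conj_pow, ← pow_mul, mul_comm, pow_mul, hxr, one_pow, mul_one, inv_mul_cancel]
  · intro h'
    have h2 : x ^ (Fintype.card F - 1) = 1 := by
      have : x ^ (Fintype.card F - 1) = g * (g⁻¹ * x ^ (Fintype.card F - 1) * g) * g⁻¹ := by group
      rw [this, h']; group
    have ho1 : orderOf x ∣ r := orderOf_dvd_of_pow_eq_one hxr
    have ho2 : orderOf x ∣ Fintype.card F - 1 := orderOf_dvd_of_pow_eq_one h2
    have : orderOf x ∣ 1 := by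
      have := Nat.dvd_gcd ho2 ho1
      rwa [hcop] at this
    exact hx1 (orderOf_eq_one_iff.1 (Nat.dvd_one.1 this))

/-- `ord_r(q)` odd and at most `n`: the small-support element is bad -/
theorem main_odd_bad [Fintype F] {p : ℕ} [Fact p.Prime] [CharP F p] {n : ℕ} (hn : 3 ≤ n)
    (Q : (Fin n → F) → F) (hQ : Cfsg.Geo.IsNondegenerateQuadraticForm Q) (r : ℕ)
    [hr : Fact r.Prime] (hr2 : r ≠ 2) (hrp : r ≠ p) (hcard1 : ¬ r ∣ Fintype.card F - 1)
    (hio : Odd (orderOf ((Fintype.card F : ℕ) : ZMod r)))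
    (hin : orderOf ((Fintype.card F : ℕ) : ZMod r) ≤ n)
    (hall : ∀ x ∈ Cfsg.Geo.specialLinear (Fin n) F,
      (∃ z : F, ((x ^ r : GL (Fin n) F) : Matrix (Fin n) (Fin n) F) = z • (1 : Matrix (Fin n) (Fin n) F)) →
      (∀ z : F, (x : Matrix (Fin n) (Fin n) F) ≠ z • (1 : Matrix (Fin n) (Fin n) F)) →
      ∃ g ∈ Cfsg.Geo.specialLinear (Fin n) F, g⁻¹ * x * g ∈ Cfsg.Geo.quadSimilarityGroup Q) : False := by
  set i := orderOf ((Fintype.card F : ℕ) : ZMod r) with hi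
  have hi1 : 1 ≤ i := by
    obtain ⟨k, hk⟩ := hio
    omega
  have hri : r ∣ Fintype.card F ^ i - 1 := by
    rw [← main_natCast_eq_one_iff r _ (Nat.one_le_pow _ _ Fintype.card_pos)]
    push_cast
    exact pow_orderOf_eq_one _
  obtain ⟨x, hxSL, hxr, hx1, hrank⟩ := exists_small_support r i hr.out hi1 hin hri hcard1
  have hxord : ∃ z : F, ((x ^ r : GL (Fin n) F) : Matrix (Fin n) (Fin n) F)
      = z • (1 : Matrix (Fin n) (Fin n) F) := ⟨1, by rw [hxr, one_smul]; rfl⟩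
  have hxns := main_not_scalar (by omega) r hcard1 x hxr hx1
  obtain ⟨g, -, hg⟩ := hall x hxSL hxord hxns
  obtain ⟨u, hu, huQ, hur, hu1, hcop⟩ := main_exists_isometry (by omega) Q hQ r hcard1 x g hxr hx1 hg
  -- rank of `u - 1`
  have hrk : ((u : Matrix (Fin n) (Fin n) F) - 1).rank ≤ i := by
    have h3 : (u : Matrix (Fin n) (Fin n) F) - 1
        = ((g⁻¹ : GL (Fin n) F) : Matrix (Fin n) (Fin n) F)
          * ((x : Matrix (Fin n) (Fin n) F) ^ (Fintype.card F - 1) - 1)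
          * (((g⁻¹)⁻¹ : GL (Fin n) F) : Matrix (Fin n) (Fin n) F) := by
      have := main_conj_sub g⁻¹ ((x : Matrix (Fin n) (Fin n) F) ^ (Fintype.card F - 1)) 1
      rw [one_smul] at this
      rw [← this, hu, inv_inv]
      simp [Units.val_mul, Units.val_pow_eq_pow_val]
    have hr' : (x : Matrix (Fin n) (Fin n) F) ^ r = 1 := by
      rw [← Units.val_pow_eq_pow_val, hxr]; rfl
    rw [h3, main_rank_conj, rank_pow_sub_one _ r _ hr' hcop]
    exact hrank
  have hsym := rank_aeval_reverse Q hQ u huQ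
  have hA : (u : Matrix (Fin n) (Fin n) F) ^ r = 1 := by
    rw [← Units.val_pow_eq_pow_val, hur]; rfl
  have hA1 : (u : Matrix (Fin n) (Fin n) F) ≠ 1 := fun h => hu1 (Units.ext h)
  have := two_mul_le_rank_of_odd r hr2 (main_cast_ne_zero r hrp) hio _ hA hA1 hsym
  omega


/-- `ord_r(q)` even dividing `n`: a fixed-point-free element of order `r`; if it is good then `r` divides the number of
nonzero singular vectors -/
theorem main_even_bad [Fintype F] {n : ℕ} (hn : 3 ≤ n)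
    (Q : (Fin n → F) → F) (hQ : Cfsg.Geo.IsNondegenerateQuadraticForm Q) (r : ℕ)
    [hr : Fact r.Prime] (hrq : ¬ r ∣ Fintype.card F) (hcard1 : ¬ r ∣ Fintype.card F - 1)
    (hi2 : 2 ≤ orderOf ((Fintype.card F : ℕ) : ZMod r))
    (hin : orderOf ((Fintype.card F : ℕ) : ZMod r) ∣ n)
    (hall : ∀ x ∈ Cfsg.Geo.specialLinear (Fin n) F,
      (∃ z : F, ((x ^ r : GL (Fin n) F) : Matrix (Fin n) (Fin n) F) = z • (1 : Matrix (Fin n) (Fin n) F)) →
      (∀ z : F, (x : Matrix (Fin n) (Fin n) F) ≠ z • (1 : Matrix (Fin n) (Fin n) F)) →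
      ∃ g ∈ Cfsg.Geo.specialLinear (Fin n) F, g⁻¹ * x * g ∈ Cfsg.Geo.quadSimilarityGroup Q) :
    r ∣ Nat.card {v : Fin n → F // Q v = 0} - 1 := by
  obtain ⟨x, hxSL, hxr, hfpf⟩ := exists_fpf (by omega) r hrq hi2 hin
  have hx1 : x ≠ 1 := by
    intro h
    have h0 := hfpf (Pi.single ⟨0, by omega⟩ 1) (by rw [h, Units.val_one, Matrix.one_mulVec])
    have := congrFun h0 ⟨0, by omega⟩
    simp at this
  have hxord : ∃ z : F, ((x ^ r : GL (Fin n) F) : Matrix (Fin n) (Fin n) F)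
      = z • (1 : Matrix (Fin n) (Fin n) F) := ⟨1, by rw [hxr, one_smul]; rfl⟩
  have hxns := main_not_scalar (by omega) r hcard1 x hxr hx1
  obtain ⟨g, -, hg⟩ := hall x hxSL hxord hxns
  obtain ⟨u, hu, huQ, hur, hu1, hcop⟩ := main_exists_isometry (by omega) Q hQ r hcard1 x g hxr hx1 hg
  have hQ0 : Q 0 = 0 := by
    have := hQ.smul 0 0
    simpa using this
  refine dvd_card_zeros_sub_one Q hQ0 u huQ r hur ?_
  intro v hv
  -- `x ^ (q - 1)` fixes `g v`, hence so does `x`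
  have h1 : ((x ^ (Fintype.card F - 1) : GL (Fin n) F) : Matrix (Fin n) (Fin n) F) *ᵥ
      ((g : Matrix (Fin n) (Fin n) F) *ᵥ v) = (g : Matrix (Fin n) (Fin n) F) *ᵥ v := by
    have h2 : (x ^ (Fintype.card F - 1) : GL (Fin n) F) * g = g * u := by rw [hu]; group
    rw [Matrix.mulVec_mulVec, ← Units.val_mul, h2, Units.val_mul, ← Matrix.mulVec_mulVec, hv]
  -- `x` is a power of `x ^ (q - 1)`
  obtain ⟨l, hl⟩ : ∃ l : ℕ, (x ^ (Fintype.card F - 1)) ^ l = x := by
    obtain ⟨l, -, hl⟩ := Nat.exists_mul_mod_eq_one_of_coprime hcop hr.out.one_lt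
    refine ⟨l, ?_⟩
    rw [← pow_mul, pow_eq_pow_mod _ hxr, hl, pow_one]
  have h3 : (x : Matrix (Fin n) (Fin n) F) *ᵥ ((g : Matrix (Fin n) (Fin n) F) *ᵥ v)
      = (g : Matrix (Fin n) (Fin n) F) *ᵥ v := by
    have h4 : ∀ k : ℕ, (((x ^ (Fintype.card F - 1)) ^ k : GL (Fin n) F) : Matrix (Fin n) (Fin n) F) *ᵥ
        ((g : Matrix (Fin n) (Fin n) F) *ᵥ v) = (g : Matrix (Fin n) (Fin n) F) *ᵥ v := by
      intro k
      induction k with
      | zero => simp
      | succ k ih => rw [pow_succ, Units.val_mul, ← Matrix.mulVec_mulVec, h1, ih]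
    have := h4 l
    rwa [hl] at this
  have h5 := hfpf _ h3
  have h6 : ((g⁻¹ : GL (Fin n) F) : Matrix (Fin n) (Fin n) F) *ᵥ ((g : Matrix (Fin n) (Fin n) F) *ᵥ v) = v := by
    rw [Matrix.mulVec_mulVec, ← Units.val_mul, inv_mul_cancel, Units.val_one, Matrix.one_mulVec]
  rw [← h6, h5, Matrix.mulVec_zero]


/-- the case `r ∤ q - 1` -/
theorem main_bad_odd_two [Fintype F] {p : ℕ} [Fact p.Prime] [CharP F p] (h2 : (2 : F) ≠ 0) {n : ℕ} (hn : 3 ≤ n)
    (Q : (Fin n → F) → F) (hQ : Cfsg.Geo.IsNondegenerateQuadraticForm Q) (r : ℕ)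
    [hr : Fact r.Prime] (hr2 : r ≠ 2) (hrp : r ≠ p) (hcard1 : ¬ r ∣ Fintype.card F - 1)
    (hΩ : r ∣ (Cfsg.Geo.quadSimilarityGroup Q).relIndex (Cfsg.Geo.specialLinear (Fin n) F))
    (hall : ∀ x ∈ Cfsg.Geo.specialLinear (Fin n) F,
      (∃ z : F, ((x ^ r : GL (Fin n) F) : Matrix (Fin n) (Fin n) F) = z • (1 : Matrix (Fin n) (Fin n) F)) →
      (∀ z : F, (x : Matrix (Fin n) (Fin n) F) ≠ z • (1 : Matrix (Fin n) (Fin n) F)) →
      ∃ g ∈ Cfsg.Geo.specialLinear (Fin n) F, g⁻¹ * x * g ∈ Cfsg.Geo.quadSimilarityGroup Q) : False := by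
  have hq2 : 2 ≤ Fintype.card F := Fintype.one_lt_card
  have hrq : ¬ r ∣ Fintype.card F := by
    intro h
    obtain ⟨k, -, hk⟩ := FiniteField.card F p
    rw [hk] at h
    have h3 : r ∣ p := hr.out.dvd_of_dvd_pow h
    exact hrp ((Nat.prime_dvd_prime_iff_eq hr.out (Fact.out : p.Prime)).1 h3)
  have hidx := relIndex_mul_card_dvd Q hQ
  have hdvd : r * Nat.card (Cfsg.isometryGroup F Q) ∣ 2 * Nat.card (Cfsg.Geo.specialLinear (Fin n) F) :=
    dvd_trans (Nat.mul_dvd_mul_right hΩ _) hidx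
  have hS := card_specialLinear_mul (F := F) (n := n) (by omega)
  set i := orderOf ((Fintype.card F : ℕ) : ZMod r) with hi
  -- odd exponents
  have key : ∀ j, Odd j → j ≤ n → r ∣ Fintype.card F ^ j - 1 → False := by
    intro j hjo hjn hj
    have h1 : ((Fintype.card F : ℕ) : ZMod r) ^ j = 1 := by
      have := (main_natCast_eq_one_iff r _ (Nat.one_le_pow j _ Fintype.card_pos)).2 hj
      push_cast at this
      exact this
    have hij : i ∣ j := orderOf_dvd_of_pow_eq_one h1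
    have hj1 : 1 ≤ j := by
      obtain ⟨k, hk⟩ := hjo
      omega
    exact main_odd_bad hn Q hQ r hr2 hrp hcard1 (Odd.of_dvd_nat hjo hij)
      ((Nat.le_of_dvd (by omega) hij).trans hjn) hall
  -- the case where `i ∣ n`
  have keydvd : i ∣ n → (r ∣ Nat.card {v : Fin n → F // Q v = 0} - 1 → False) → False := by
    intro hin hcontra
    have hile : i ≤ n := Nat.le_of_dvd (by omega) hin
    rcases Nat.even_or_odd i with he | ho
    · have hi2 : 2 ≤ i := by
        obtain ⟨k, hk⟩ := he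
        have : i ≠ 0 := by
          intro h0
          rw [h0] at hin
          have := Nat.eq_zero_of_zero_dvd hin
          omega
        omega
      exact hcontra (main_even_bad hn Q hQ r hrq hcard1 hi2 hin hall)
    · exact main_odd_bad hn Q hQ r hr2 hrp hcard1 ho hile hall
  rcases Nat.even_or_odd' n with ⟨m, hm | hm⟩
  · -- `n = 2 m`
    subst hm
    have hm2 : 2 ≤ m := by omega
    rcases card_isometryGroup_of_even h2 rfl (by omega) Q hQ with ⟨hz, hO⟩ | ⟨hz, hO⟩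
    · rw [hO] at hdvd
      rcases arith_even_plus _ r m _ hq2 hr2 hrq hm2 hS hdvd with ⟨j, hjo, -, hjn, hj⟩ | hplus
      · exact key j hjo hjn.le hj
      · -- `r ∣ q ^ m + 1`
        have h1 : ((Fintype.card F : ℕ) : ZMod r) ^ m = -1 := by
          have := (ZMod.natCast_eq_zero_iff _ r).2 hplus
          push_cast at this
          exact eq_neg_of_add_eq_zero_left this
        have h3 : ((Fintype.card F : ℕ) : ZMod r) ^ (2 * m) = 1 := by
          rw [mul_comm, pow_mul, h1]; ring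
        refine keydvd (orderOf_dvd_of_pow_eq_one h3) (fun hN => ?_)
        rw [hz, Nat.add_sub_cancel] at hN
        exact arith_contra_plus _ r m hq2 hr2 hcard1 (by omega) hplus hN
    · rw [hO] at hdvd
      rcases arith_even_minus _ r m _ hq2 hr2 hrq hm2 hS hdvd with ⟨j, hjo, -, hjn, hj⟩ | hminus
      · exact key j hjo hjn.le hj
      · have h1 : ((Fintype.card F : ℕ) : ZMod r) ^ m = 1 := by
          have := (main_natCast_eq_one_iff r _ (Nat.one_le_pow m _ Fintype.card_pos)).2 hminus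
          push_cast at this
          exact this
        have h3 : i ∣ 2 * m := Dvd.dvd.mul_left (orderOf_dvd_of_pow_eq_one h1) 2
        refine keydvd h3 (fun hN => ?_)
        rw [hz, Nat.add_sub_cancel] at hN
        exact arith_contra_minus _ r m hq2 hr2 hcard1 (by omega) hminus hN
  · -- `n = 2 m + 1`
    subst hm
    have hO := card_isometryGroup_of_odd h2 rfl Q hQ
    rw [hO] at hdvd
    obtain ⟨j, hjo, -, hjn, hj⟩ := arith_odd _ r m _ hq2 hr2 hrq (by omega) hS hdvd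
    exact key j hjo hjn hj


/-- `r = 2`: the good direction -/
theorem main_good_two [Fintype F] (h2 : (2 : F) ≠ 0) {n : ℕ} (hn : 3 ≤ n)
    (Q : (Fin n → F) → F) (hQ : Cfsg.Geo.IsNondegenerateQuadraticForm Q)
    (x : GL (Fin n) F) (hxSL : x ∈ Cfsg.Geo.specialLinear (Fin n) F)
    (hx2 : ∃ z : F, ((x ^ 2 : GL (Fin n) F) : Matrix (Fin n) (Fin n) F) = z • (1 : Matrix (Fin n) (Fin n) F))
    (hxns : ∀ z : F, (x : Matrix (Fin n) (Fin n) F) ≠ z • (1 : Matrix (Fin n) (Fin n) F)) :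
    ∃ g ∈ Cfsg.Geo.specialLinear (Fin n) F, g⁻¹ * x * g ∈ Cfsg.Geo.quadSimilarityGroup Q := by
  obtain ⟨z, hz⟩ := hx2
  have hxx : (x : Matrix (Fin n) (Fin n) F) * (x : Matrix (Fin n) (Fin n) F)
      = z • (1 : Matrix (Fin n) (Fin n) F) := by
    rw [← hz, pow_two]; rfl
  have hdet : (x : Matrix (Fin n) (Fin n) F).det = 1 :=
    (Cfsg.Agent.Lib.Helper44.Tns.adj_mem_specialLinear_iff x).1 hxSL
  have hz0 : z ≠ 0 := by
    rintro rfl
    rw [zero_smul] at hxx
    have h1 := congrArg Matrix.det hxx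
    have : Nonempty (Fin n) := ⟨⟨0, by omega⟩⟩
    rw [Matrix.det_mul, hdet, Matrix.det_zero] at h1
    simp at h1
  have hR : ∃ R : GL (Fin n) F, R * x * R⁻¹ ∈ Cfsg.Geo.quadSimilarityGroup Q := by
    by_cases hsq : IsSquare z
    · obtain ⟨w, hw⟩ := hsq
      have hw0 : w ≠ 0 := by
        rintro rfl
        rw [mul_zero] at hw
        exact hz0 hw
      have h21 : 2 ∣ Fintype.card F - 1 := by
        have hne : ¬ Fintype.card F % 2 = 0 := fun he =>
          h2 ((Cfsg.Agent.Lib.Helper44.SLInv.two_eq_zero_iff_even_card (F := F)).2 he)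
        have hpos : 0 < Fintype.card F := Fintype.card_pos
        omega
      obtain ⟨b, d, hb, hd⟩ := exists_eigenbasis 2 Nat.prime_two h21 (x : Matrix (Fin n) (Fin n) F) w hw0
        (by rw [pow_two, hxx, hw, pow_two])
      exact exists_conj_mem_of_eigenbasis_sq h2 Q hQ b d z hz0
        (fun i => by rw [← pow_two, hd i, pow_two, hw]) x hb
    · obtain ⟨m, hnm, -⟩ := sq_det_of_not_isSquare (x : Matrix (Fin n) (Fin n) F) z hxx hsq
      obtain ⟨y, hyQ, hyy⟩ := exists_mem_sq_eq h2 ⟨m, by omega⟩ Q hQ z hz0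
      have hfr : Module.finrank F (Fin n → F) = 2 * m := by
        rw [Module.finrank_fin_fun, hnm]
      obtain ⟨T, hT⟩ := Cfsg.Agent.Lib.Helper44.SLInv.exists_equiv_of_nonsquare z hsq m hfr
        (Matrix.toLin' (x : Matrix (Fin n) (Fin n) F)) (Matrix.toLin' (y : Matrix (Fin n) (Fin n) F))
        (fun w => by
          rw [Matrix.toLin'_apply, Matrix.toLin'_apply, Matrix.mulVec_mulVec, hxx, Matrix.smul_mulVec,
            Matrix.one_mulVec])
        (fun w => by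
          rw [Matrix.toLin'_apply, Matrix.toLin'_apply, Matrix.mulVec_mulVec, hyy, Matrix.smul_mulVec,
            Matrix.one_mulVec])
      refine ⟨Cfsg.Agent.Lib.Helper44.SLInv.glOfEquiv T, ?_⟩
      have h3 := Cfsg.Agent.Lib.Helper44.SLInv.glOfEquiv_conj T (x : Matrix (Fin n) (Fin n) F)
        (y : Matrix (Fin n) (Fin n) F) (fun w => by
          have := hT w
          rwa [Matrix.toLin'_apply, Matrix.toLin'_apply] at this)
      have h4 : Cfsg.Agent.Lib.Helper44.SLInv.glOfEquiv T * x * (Cfsg.Agent.Lib.Helper44.SLInv.glOfEquiv T)⁻¹ = y := by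
        apply Units.ext
        rw [Units.val_mul, Units.val_mul]
        exact h3
      rw [h4]
      exact hyQ
  obtain ⟨R, hR⟩ := hR
  exact Cfsg.Agent.Lib.Helper44.Tns.exists_SL_conj (Cfsg.Geo.quadSimilarityGroup Q) x hxSL z hxx hxns R hR

/-- the exceptional good case -/
theorem main_good_exc [Fintype F] (h2 : (2 : F) ≠ 0) (r : ℕ) [hr : Fact r.Prime] (h35 : r = 3 ∨ r = 5)
    (Q : (Fin r → F) → F) (hQ : Cfsg.Geo.IsNondegenerateQuadraticForm Q)
    (hv : padicValNat r (Fintype.card F - 1) = 1)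
    (x : GL (Fin r) F) (hxSL : x ∈ Cfsg.Geo.specialLinear (Fin r) F)
    (hxr : ∃ z : F, ((x ^ r : GL (Fin r) F) : Matrix (Fin r) (Fin r) F) = z • (1 : Matrix (Fin r) (Fin r) F))
    (hxns : ∀ z : F, (x : Matrix (Fin r) (Fin r) F) ≠ z • (1 : Matrix (Fin r) (Fin r) F)) :
    ∃ g ∈ Cfsg.Geo.specialLinear (Fin r) F, g⁻¹ * x * g ∈ Cfsg.Geo.quadSimilarityGroup Q := by
  have hr2 : r ≠ 2 := by rcases h35 with h | h <;> omega
  have hrF : r ∣ Fintype.card F - 1 := dvd_of_one_le_padicValNat (by omega)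
  obtain ⟨z, hz⟩ := hxr
  have hz1 : z = 1 := eq_one_of_exceptional r hr2 hv x hxSL z hz
  have hxr1 : (x : Matrix (Fin r) (Fin r) F) ^ r = ((1 : F) ^ r) • (1 : Matrix (Fin r) (Fin r) F) := by
    rw [← Units.val_pow_eq_pow_val, hz, hz1, one_pow]
  obtain ⟨b, d, hb, hd⟩ := exists_eigenbasis r hr.out hrF (x : Matrix (Fin r) (Fin r) F) 1 one_ne_zero hxr1
  simp only [one_pow] at hd
  have hdet : (x : Matrix (Fin r) (Fin r) F).det = 1 :=
    (Cfsg.Agent.Lib.Helper44.Tns.adj_mem_specialLinear_iff x).1 hxSL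
  have hprod : ∏ i, d i = 1 := by
    rw [← det_eq_prod_of_eigenbasis _ b d hb, hdet]
  have hnc : ∃ i j, d i ≠ d j := by
    by_contra hcon
    push Not at hcon
    have i₀ : Fin r := ⟨0, hr.out.pos⟩
    exact hxns (d i₀) (main_eq_smul_of_basis _ b (d i₀) (fun i => by rw [hb i, hcon i i₀]))
  obtain ⟨ι, c, hι, hc0, hc⟩ := exists_invol_of_exceptional r h35 d hd hprod hnc
  have hodd : Odd r := hr.out.odd_of_ne_two hr2
  obtain ⟨R, hR⟩ := exists_conj_mem_of_eigenbasis_odd h2 hodd Q hQ b d ι hι c hc0 hc x hb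
  have : Nonempty (Fin r) := ⟨⟨0, hr.out.pos⟩⟩
  exact exists_SL_conj_of_eigenbasis (Cfsg.Geo.quadSimilarityGroup Q) x hxSL b d hb R hR

/-- the theorem -/
theorem of_main [Fintype F] {p : ℕ} [hp : Fact p.Prime] [CharP F p] (h2 : (2 : F) ≠ 0) {n : ℕ} (hn : 3 ≤ n)
    (Q : (Fin n → F) → F) (hQ : Cfsg.Geo.IsNondegenerateQuadraticForm Q) (r : ℕ) [hr : Fact r.Prime]
    (hgap : ¬ (n = 6 ∧ r = 3))
    (hΩ : r ∣ (Cfsg.Geo.quadSimilarityGroup Q).relIndex (Cfsg.Geo.specialLinear (Fin n) F)) :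
    (∀ x ∈ Cfsg.Geo.specialLinear (Fin n) F,
      (∃ z : F, ((x ^ r : GL (Fin n) F) : Matrix (Fin n) (Fin n) F) = z • (1 : Matrix (Fin n) (Fin n) F)) →
      (∀ z : F, (x : Matrix (Fin n) (Fin n) F) ≠ z • (1 : Matrix (Fin n) (Fin n) F)) →
      ∃ g ∈ Cfsg.Geo.specialLinear (Fin n) F, g⁻¹ * x * g ∈ Cfsg.Geo.quadSimilarityGroup Q) ↔
    (r = 2 ∨ ((r = 3 ∨ r = 5) ∧ n = r ∧ padicValNat r (Fintype.card F - 1) = 1)) := by
  constructor
  · intro hall
    by_cases hr2 : r = 2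
    · exact Or.inl hr2
    refine Or.inr ?_
    by_cases hrp : r = p
    · subst hrp
      exfalso
      obtain ⟨x, hxSL, hxp, hxns, hxR⟩ := exists_transvection_not_mem h2 hn Q hQ r
      obtain ⟨g, -, hg⟩ := hall x hxSL ⟨1, by rw [hxp, one_smul]; rfl⟩ hxns
      have := hxR g⁻¹
      rw [inv_inv] at this
      exact this hg
    · by_cases h1 : r ∣ Fintype.card F - 1
      · exact main_bad_odd_one hn Q hQ r hr2 hgap h1 hall
      · exact (main_bad_odd_two h2 hn Q hQ r hr2 hrp h1 hΩ hall).elim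
  · rintro (rfl | ⟨h35, hnr, hv⟩)
    · intro x hxSL hx2 hxns
      exact main_good_two h2 hn Q hQ x hxSL hx2 hxns
    · subst hnr
      intro x hxSL hxr hxns
      exact main_good_exc h2 n h35 Q hQ hv x hxSL hxr hxns

end Cfsg.Agent.Lib.Helper44.Of
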