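import Mathlib
import Cfsg.Prelude.Def_Classical
import Cfsg.Agent.Lib.Helper5.Omega4
import Cfsg.Agent.Lib.Helper37.MinusType
import Cfsg.Agent.Lib.Helper43.OrthCardMinus
import Cfsg.Agent.Lib.Helper44.Minus
import Cfsg.Agent.Lib.Helper44.Unitary
import Cfsg.Agent.Lib.Helper44.QuadBase

set_option autoImplicit false
set_option linter.unusedSimpArgs false
set_option linter.unusedVariables false
set_option linter.unnecessarySeqFocus false
set_option linter.unusedSectionVars false
set_option linter.style.haveILetI false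

/-!
`PΩ⁻₄(q) ≅ PSL₂(q²)`: the group `SL₂(K)`, `|K| = q²`, acts on the four-dimensional `F`-space of
hermitian `2 × 2` matrices over `K` by `X ↦ g X g^*`, preserving `- det`, a form of minus type.
-/

namespace Cfsg.Agent.Lib.Helper44.Om4m

open Matrix
open scoped commutatorElement

/-- the index type of `quadFormMinus 1` -/
abbrev I4 := (Fin 1 ⊕ Fin 1) ⊕ Fin 2

/-- the algebraic data used in the construction -/
structure Data (F K : Type*) [Field F] [Field K] [Algebra F K] (a b : F) where
  frob : K →+* K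
  frob2 : ∀ x, frob (frob x) = x
  frobF : ∀ f : F, frob (algebraMap F K f) = algebraMap F K f
  fixed : ∀ x : K, frob x = x → ∃ f : F, algebraMap F K f = x
  ψ : (Fin 2 → F) ≃ₗ[F] K
  hψ : ∀ z, algebraMap F K (z 0 ^ 2 + a * z 0 * z 1 + b * z 1 ^ 2) = ψ z * frob (ψ z)
  π : K →ₗ[F] F
  hπ : ∀ f, π (algebraMap F K f) = f
  θ : K
  hθ : frob θ ≠ θ

section construction

variable {F K : Type*} [Field F] [Field K] [Algebra F K] {a b : F} (D : Data F K a b)

/-- the hermitian matrix of a vector -/
def toM (v : I4 → F) : Matrix (Fin 2) (Fin 2) K :=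
  !![algebraMap F K (v (.inl (.inl 0))), D.ψ (v ∘ Sum.inr);
     D.frob (D.ψ (v ∘ Sum.inr)), - algebraMap F K (v (.inl (.inr 0)))]

/-- the vector of a matrix -/
def ofM (M : Matrix (Fin 2) (Fin 2) K) : I4 → F :=
  Sum.elim (Sum.elim (fun _ => D.π (M 0 0)) (fun _ => - D.π (M 1 1))) (D.ψ.symm (M 0 1))

/-- the conjugate transpose -/
def hstar (g : Matrix (Fin 2) (Fin 2) K) : Matrix (Fin 2) (Fin 2) K := (g.map D.frob)ᵀ

lemma hstar_apply (g : Matrix (Fin 2) (Fin 2) K) (i j : Fin 2) : hstar D g i j = D.frob (g j i) := rfl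

lemma hstar_mul (A B : Matrix (Fin 2) (Fin 2) K) : hstar D (A * B) = hstar D B * hstar D A := by
  unfold hstar
  rw [Matrix.map_mul, Matrix.transpose_mul]

lemma hstar_hstar (A : Matrix (Fin 2) (Fin 2) K) : hstar D (hstar D A) = A := by
  ext i j
  rw [hstar_apply, hstar_apply, D.frob2]

lemma hstar_one : hstar D (1 : Matrix (Fin 2) (Fin 2) K) = 1 := by
  ext i j
  rw [hstar_apply]
  fin_cases i <;> fin_cases j <;> simp

lemma det_hstar (A : Matrix (Fin 2) (Fin 2) K) : (hstar D A).det = D.frob A.det := by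
  unfold hstar
  rw [Matrix.det_transpose]
  exact (RingHom.map_det D.frob A).symm

lemma ofM_toM (v : I4 → F) : ofM D (toM D v) = v := by
  funext i
  rcases i with (i | i) | i
  · fin_cases i
    simp [ofM, toM, D.hπ]
  · fin_cases i
    simp [ofM, toM, D.hπ]
  · simp only [ofM, toM, Sum.elim_inr]
    have : D.ψ.symm (D.ψ (v ∘ Sum.inr)) = v ∘ Sum.inr := D.ψ.symm_apply_apply _
    simp only [Matrix.of_apply, Matrix.cons_val', Matrix.cons_val_zero, Matrix.cons_val_one,
      Matrix.cons_val_fin_one]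
    rw [this]
    rfl

lemma hstar_toM (v : I4 → F) : hstar D (toM D v) = toM D v := by
  ext i j
  rw [hstar_apply]
  fin_cases i <;> fin_cases j <;> simp [toM, D.frobF, D.frob2]

lemma toM_ofM (M : Matrix (Fin 2) (Fin 2) K) (hM : hstar D M = M) : toM D (ofM D M) = M := by
  have h00 : D.frob (M 0 0) = M 0 0 := by
    have := congrFun (congrFun hM 0) 0
    rwa [hstar_apply] at this
  have h11 : D.frob (M 1 1) = M 1 1 := by
    have := congrFun (congrFun hM 1) 1
    rwa [hstar_apply] at this
  have h10 : D.frob (M 0 1) = M 1 0 := by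
    have := congrFun (congrFun hM 1) 0
    rwa [hstar_apply] at this
  obtain ⟨f0, hf0⟩ := D.fixed _ h00
  obtain ⟨f1, hf1⟩ := D.fixed _ h11
  have e : (ofM D M) ∘ Sum.inr = D.ψ.symm (M 0 1) := by
    funext j
    simp [ofM]
  ext i j
  fin_cases i <;> fin_cases j
  · simp [toM, ofM, ← hf0, D.hπ]
  · simp only [toM, e, LinearEquiv.apply_symm_apply]
    rfl
  · simp only [toM, e, LinearEquiv.apply_symm_apply]
    exact h10
  · simp [toM, ofM, ← hf1, D.hπ]

lemma toM_add (u v : I4 → F) : toM D (u + v) = toM D u + toM D v := by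
  have e : (u + v) ∘ Sum.inr = u ∘ Sum.inr + v ∘ Sum.inr := rfl
  ext i j
  fin_cases i <;> fin_cases j <;> simp [toM, e, map_add] <;> ring

lemma toM_smul (c : F) (v : I4 → F) : toM D (c • v) = c • toM D v := by
  have e : (c • v) ∘ Sum.inr = c • (v ∘ Sum.inr) := rfl
  ext i j
  fin_cases i <;> fin_cases j
  · show algebraMap F K ((c • v) (.inl (.inl 0))) = c • algebraMap F K (v (.inl (.inl 0)))
    rw [Pi.smul_apply, smul_eq_mul, map_mul, Algebra.smul_def]
  · show D.ψ ((c • v) ∘ Sum.inr) = c • D.ψ (v ∘ Sum.inr)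
    rw [e, map_smul]
  · show D.frob (D.ψ ((c • v) ∘ Sum.inr)) = c • D.frob (D.ψ (v ∘ Sum.inr))
    rw [e, map_smul, Algebra.smul_def, map_mul, D.frobF, Algebra.smul_def]
  · show - algebraMap F K ((c • v) (.inl (.inr 0))) = c • (- algebraMap F K (v (.inl (.inr 0))))
    rw [Pi.smul_apply, smul_eq_mul, map_mul, Algebra.smul_def]
    ring

lemma ofM_add (M N : Matrix (Fin 2) (Fin 2) K) : ofM D (M + N) = ofM D M + ofM D N := by
  funext i
  rcases i with (i | i) | i <;> simp [ofM, map_add] <;> ring

lemma ofM_smul (c : F) (M : Matrix (Fin 2) (Fin 2) K) : ofM D (c • M) = c • ofM D M := by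
  funext i
  rcases i with (i | i) | i <;> simp [ofM, map_smul]

lemma det_toM (v : I4 → F) :
    (toM D v).det = - algebraMap F K (Cfsg.quadFormMinus 1 F a b v) := by
  have h := D.hψ (v ∘ Sum.inr)
  simp only [Function.comp_apply] at h
  rw [Matrix.det_fin_two]
  simp only [toM, Matrix.of_apply, Matrix.cons_val', Matrix.cons_val_zero,
    Matrix.cons_val_one, Matrix.cons_val_fin_one]
  rw [← h]
  simp only [Cfsg.quadFormMinus, Finset.univ_unique, Finset.sum_singleton,
    Fin.default_eq_zero, map_add, map_mul]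
  ring

/-- the action of `SL₂(K)` as a linear map -/
noncomputable def lrLin (g : Matrix.SpecialLinearGroup (Fin 2) K) : (I4 → F) →ₗ[F] (I4 → F) where
  toFun v := ofM D (g.1 * toM D v * hstar D g.1)
  map_add' u v := by
    rw [toM_add, mul_add, add_mul, ofM_add]
  map_smul' c v := by
    rw [toM_smul, Matrix.mul_smul, Matrix.smul_mul, ofM_smul]
    rfl

lemma lrLin_apply (g : Matrix.SpecialLinearGroup (Fin 2) K) (v : I4 → F) :
    lrLin D g v = ofM D (g.1 * toM D v * hstar D g.1) := rfl

lemma hstar_conj (g M : Matrix (Fin 2) (Fin 2) K) (hM : hstar D M = M) :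
    hstar D (g * M * hstar D g) = g * M * hstar D g := by
  rw [hstar_mul, hstar_mul, hstar_hstar, hM, Matrix.mul_assoc]

lemma toM_lrLin (g : Matrix.SpecialLinearGroup (Fin 2) K) (v : I4 → F) :
    toM D (lrLin D g v) = g.1 * toM D v * hstar D g.1 := by
  rw [lrLin_apply, toM_ofM D _ (hstar_conj D _ _ (hstar_toM D v))]

lemma lrLin_one : lrLin D (1 : Matrix.SpecialLinearGroup (Fin 2) K) = 1 := by
  apply LinearMap.ext
  intro v
  rw [lrLin_apply]
  simp [hstar_one, ofM_toM]

lemma lrLin_mul (g h : Matrix.SpecialLinearGroup (Fin 2) K) :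
    lrLin D (g * h) = lrLin D g * lrLin D h := by
  apply LinearMap.ext
  intro v
  rw [Module.End.mul_apply, lrLin_apply D g, toM_lrLin, lrLin_apply]
  congr 1
  rw [Matrix.SpecialLinearGroup.coe_mul, hstar_mul]
  simp only [Matrix.mul_assoc]

/-- the action as a monoid hom to endomorphisms -/
noncomputable def lrEnd : Matrix.SpecialLinearGroup (Fin 2) K →* Module.End F (I4 → F) where
  toFun := lrLin D
  map_one' := lrLin_one D
  map_mul' := lrLin_mul D

/-- the action as a monoid hom to `GL₄` -/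
noncomputable def lrGL : Matrix.SpecialLinearGroup (Fin 2) K →* GL I4 F :=
  (((LinearMap.toMatrixAlgEquiv' (R := F) (n := I4)).toMulEquiv.toMonoidHom).comp
    (lrEnd D)).toHomUnits

lemma lrGL_mulVec (g : Matrix.SpecialLinearGroup (Fin 2) K) (v : I4 → F) :
    ((lrGL D g : GL I4 F) : Matrix I4 I4 F) *ᵥ v = lrLin D g v := by
  unfold lrGL
  rw [MonoidHom.coe_toHomUnits]
  simp only [MonoidHom.coe_comp, Function.comp_apply]
  change (LinearMap.toMatrix' (lrLin D g)) *ᵥ v = _
  rw [LinearMap.toMatrix'_mulVec]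

lemma quadFormMinus_lrLin (g : Matrix.SpecialLinearGroup (Fin 2) K) (v : I4 → F) :
    Cfsg.quadFormMinus 1 F a b (lrLin D g v) = Cfsg.quadFormMinus 1 F a b v := by
  apply (algebraMap F K).injective
  have h1 := det_toM D (lrLin D g v)
  rw [toM_lrLin, Matrix.det_mul, Matrix.det_mul, det_toM, det_hstar, g.2, map_one, one_mul,
    mul_one] at h1
  exact neg_injective h1.symm

lemma lrGL_mem (g : Matrix.SpecialLinearGroup (Fin 2) K) :
    lrGL D g ∈ Cfsg.isometryGroup F (Cfsg.quadFormMinus 1 F a b) := by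
  intro u v
  change Cfsg.quadFormMinus 1 F a b (((lrGL D g : GL I4 F) : Matrix I4 I4 F) *ᵥ u) = _
  rw [lrGL_mulVec, quadFormMinus_lrLin D g]

/-- the action as a hom `SL₂(K) → O⁻₄(F)` -/
noncomputable def lrO : Matrix.SpecialLinearGroup (Fin 2) K →*
    Cfsg.isometryGroup F (Cfsg.quadFormMinus 1 F a b) :=
  (lrGL D).codRestrict _ (fun g => lrGL_mem D g)

lemma lrO_val (g : Matrix.SpecialLinearGroup (Fin 2) K) : (lrO D g).1 = lrGL D g := rfl

end construction


section perfect

variable {K : Type*} [Field K]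

/-- transvections of `SL₂(K)` are commutators as soon as some `l ≠ 0` has `l² ≠ 1` -/
theorem transvection_mem_commutator_SL2 {l : K} (hl0 : l ≠ 0) (hl1 : l ^ 2 ≠ 1) {i j : Fin 2}
    (hij : i ≠ j) (c : K) :
    Matrix.SpecialLinearGroup.transvection hij c ∈
      commutator (Matrix.SpecialLinearGroup (Fin 2) K) := by
  let h : Matrix.SpecialLinearGroup (Fin 2) K :=
    ⟨!![l, 0; 0, l⁻¹], by simp [Matrix.det_fin_two, hl0]⟩
  have hl1' : l ^ 2 - 1 ≠ 0 := sub_ne_zero.2 hl1
  have hl1'' : 1 - l ^ 2 ≠ 0 := sub_ne_zero.2 (Ne.symm hl1)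
  fin_cases i <;> fin_cases j
  · exact absurd rfl hij
  · have : ⁅h, Matrix.SpecialLinearGroup.transvection hij (c / (l ^ 2 - 1))⁆ =
        Matrix.SpecialLinearGroup.transvection hij c := by
      apply Cfsg.Agent.Lib.Helper5.comm_eq_of_mul_eq
      apply Subtype.ext
      simp only [Matrix.SpecialLinearGroup.coe_mul, Matrix.SpecialLinearGroup.transvection_coe]
      ext k m
      fin_cases k <;> fin_cases m <;>
        simp [h, Matrix.transvection, Matrix.mul_apply, Fin.sum_univ_two, Matrix.single_apply,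
          Matrix.one_apply] <;> field_simp <;> ring
    rw [← this]
    exact Subgroup.commutator_mem_commutator (Subgroup.mem_top _) (Subgroup.mem_top _)
  · have : ⁅h, Matrix.SpecialLinearGroup.transvection hij (c * l ^ 2 / (1 - l ^ 2))⁆ =
        Matrix.SpecialLinearGroup.transvection hij c := by
      apply Cfsg.Agent.Lib.Helper5.comm_eq_of_mul_eq
      apply Subtype.ext
      simp only [Matrix.SpecialLinearGroup.coe_mul, Matrix.SpecialLinearGroup.transvection_coe]
      ext k m
      fin_cases k <;> fin_cases m <;>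
        simp [h, Matrix.transvection, Matrix.mul_apply, Fin.sum_univ_two, Matrix.single_apply,
          Matrix.one_apply] <;> field_simp <;> ring
    rw [← this]
    exact Subgroup.commutator_mem_commutator (Subgroup.mem_top _) (Subgroup.mem_top _)
  · exact absurd rfl hij

/-- `SL₂(K)` is perfect as soon as some `l ≠ 0` has `l² ≠ 1` -/
theorem commutator_SL2_eq_top {l : K} (hl0 : l ≠ 0) (hl1 : l ^ 2 ≠ 1) :
    commutator (Matrix.SpecialLinearGroup (Fin 2) K) = ⊤ :=
  Cfsg.Agent.Lib.Helper5.eq_top_of_transvection_mem _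
    (fun i j hij c => transvection_mem_commutator_SL2 hl0 hl1 hij c)

/-- a subgroup of index two contains the commutator subgroup -/
lemma commutator_le_of_index_two {G : Type*} [Group G] (R : Subgroup G) (h : R.index = 2) :
    commutator G ≤ R := by
  haveI : R.Normal := Subgroup.normal_of_index_eq_two h
  have hc : Nat.card (G ⧸ R) = 2 := h
  haveI : Fact (Nat.Prime 2) := ⟨Nat.prime_two⟩
  haveI : IsCyclic (G ⧸ R) := isCyclic_of_prime_card hc
  letI : CommGroup (G ⧸ R) := IsCyclic.commGroup
  have := Abelianization.commutator_subset_ker (QuotientGroup.mk' R)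
  rwa [QuotientGroup.ker_mk'] at this

/-- homomorphisms map the commutator subgroup into the commutator subgroup -/
lemma map_mem_commutator {G H : Type*} [Group G] [Group H] (f : G →* H) {g : G}
    (hg : g ∈ commutator G) : f g ∈ commutator H := by
  rw [commutator_def] at hg ⊢
  have h1 := Subgroup.mem_map_of_mem f hg
  rw [Subgroup.map_commutator] at h1
  exact Subgroup.commutator_mono le_top le_top h1

end perfect

section omega

variable {F K : Type*} [Field F] [Field K] [Algebra F K] {a b : F} (D : Data F K a b)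

lemma lrO_mem_Omega {l : K} (hl0 : l ≠ 0) (hl1 : l ^ 2 ≠ 1)
    (g : Matrix.SpecialLinearGroup (Fin 2) K) :
    lrO D g ∈ Cfsg.Omega F (Cfsg.quadFormMinus 1 F a b) := by
  apply map_mem_commutator
  rw [commutator_SL2_eq_top hl0 hl1]
  trivial

/-- the action `SL₂(K) → Ω⁻₄(F)` -/
noncomputable def lrOmega {l : K} (hl0 : l ≠ 0) (hl1 : l ^ 2 ≠ 1) :
    Matrix.SpecialLinearGroup (Fin 2) K →* Cfsg.Omega F (Cfsg.quadFormMinus 1 F a b) :=
  (lrO D).codRestrict _ (lrO_mem_Omega D hl0 hl1)

lemma lrGL_eq_one_iff (g : Matrix.SpecialLinearGroup (Fin 2) K) :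
    lrGL D g = 1 ↔ ∀ v, lrLin D g v = v := by
  constructor
  · intro h v
    rw [← lrGL_mulVec, h, Units.val_one, Matrix.one_mulVec]
  · intro h
    apply Units.ext
    change ((lrGL D g : GL I4 F) : Matrix I4 I4 F) = 1
    apply Matrix.toLin'.injective
    apply LinearMap.ext
    intro v
    rw [Matrix.toLin'_apply, lrGL_mulVec, h, Matrix.toLin'_one, LinearMap.id_apply]

lemma hstar_smul (c : K) (A : Matrix (Fin 2) (Fin 2) K) :
    hstar D (c • A) = D.frob c • hstar D A := by
  ext i j
  rw [hstar_apply, Matrix.smul_apply, Matrix.smul_apply, hstar_apply, smul_eq_mul, smul_eq_mul,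
    map_mul]

lemma lrLin_eq_self_iff (g : Matrix.SpecialLinearGroup (Fin 2) K) :
    (∀ v, lrLin D g v = v) ↔ g ∈ Subgroup.center (Matrix.SpecialLinearGroup (Fin 2) K) := by
  constructor
  · intro h
    have key : ∀ M : Matrix (Fin 2) (Fin 2) K, hstar D M = M → g.1 * M * hstar D g.1 = M := by
      intro M hM
      have h1 := congrArg (toM D) (h (ofM D M))
      rw [toM_lrLin, toM_ofM D M hM] at h1
      exact h1
    have h1 : g.1 * hstar D g.1 = 1 := by
      have := key 1 (hstar_one D)
      rwa [Matrix.mul_one] at this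
    have h1' : hstar D g.1 * g.1 = 1 := mul_eq_one_comm.mp h1
    have key2 : ∀ M : Matrix (Fin 2) (Fin 2) K, hstar D M = M → g.1 * M = M * g.1 := by
      intro M hM
      have h2 := key M hM
      calc g.1 * M = g.1 * M * (hstar D g.1 * g.1) := by rw [h1', Matrix.mul_one]
        _ = (g.1 * M * hstar D g.1) * g.1 := by simp only [Matrix.mul_assoc]
        _ = M * g.1 := by rw [h2]
    have hS : hstar D !![(0 : K), 1; 1, 0] = !![(0 : K), 1; 1, 0] := by
      ext i j
      rw [hstar_apply]
      fin_cases i <;> fin_cases j <;> simp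
    have hT : hstar D !![(0 : K), D.θ; D.frob D.θ, 0] = !![(0 : K), D.θ; D.frob D.θ, 0] := by
      ext i j
      rw [hstar_apply]
      fin_cases i <;> fin_cases j <;> simp [D.frob2]
    obtain ⟨p, r, s, t, hg⟩ : ∃ p r s t : K, g.1 = !![p, r; s, t] :=
      ⟨_, _, _, _, Matrix.eta_fin_two g.1⟩
    have eS := key2 _ hS
    have eT := key2 _ hT
    rw [hg] at eS eT
    have e1 := congrFun (congrFun eS 0) 0
    have e2 := congrFun (congrFun eS 0) 1
    have e3 := congrFun (congrFun eT 0) 0
    simp [Matrix.mul_apply, Fin.sum_univ_two] at e1 e2 e3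
    -- e1 : r = s, e2 : p = t, e3 : r * frob θ = θ * s
    have hr : r = 0 := by
      have h3 : r * (D.frob D.θ - D.θ) = 0 := by
        rw [← e1] at e3
        linear_combination e3
      rcases mul_eq_zero.mp h3 with h4 | h4
      · exact h4
      · exact absurd (sub_eq_zero.mp h4) D.hθ
    have hs : s = 0 := by rw [← e1, hr]
    rw [Matrix.SpecialLinearGroup.mem_center_iff]
    have hdet := g.2
    rw [hg, Matrix.det_fin_two] at hdet
    simp at hdet
    refine ⟨p, ?_, ?_⟩
    · simp only [Fintype.card_fin]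
      rw [hr, hs, ← e2] at hdet
      linear_combination hdet
    · rw [hg]
      ext i j
      fin_cases i <;> fin_cases j <;> simp [Matrix.scalar_apply, Matrix.diagonal_apply]
      · exact hr.symm
      · exact hs.symm
      · exact e2
  · intro hc v
    obtain ⟨r, hr, hr2⟩ := Matrix.SpecialLinearGroup.mem_center_iff.1 hc
    simp only [Fintype.card_fin] at hr
    have hfr : D.frob r = r := by
      have h3 : (r - 1) * (r + 1) = 0 := by linear_combination hr
      rcases mul_eq_zero.mp h3 with h4 | h4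
      · have : r = 1 := by linear_combination h4
        rw [this, map_one]
      · have : r = -1 := by linear_combination h4
        rw [this, map_neg, map_one]
    have hg : g.1 = r • (1 : Matrix (Fin 2) (Fin 2) K) := by
      rw [← hr2]
      ext i j
      simp [Matrix.scalar_apply, Matrix.diagonal_apply, Matrix.one_apply]
    rw [lrLin_apply, hg, hstar_smul, hstar_one, hfr, Matrix.smul_mul, Matrix.one_mul,
      Matrix.mul_smul, Matrix.mul_one, smul_smul, ← pow_two, hr, one_smul, ofM_toM]

lemma ker_lrOmega {l : K} (hl0 : l ≠ 0) (hl1 : l ^ 2 ≠ 1) :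
    (lrOmega D hl0 hl1).ker = Subgroup.center (Matrix.SpecialLinearGroup (Fin 2) K) := by
  ext g
  rw [MonoidHom.mem_ker, ← lrLin_eq_self_iff D g, ← lrGL_eq_one_iff]
  constructor
  · intro h
    have := congrArg (fun x => ((x : Cfsg.Omega F (Cfsg.quadFormMinus 1 F a b)) :
      Cfsg.isometryGroup F (Cfsg.quadFormMinus 1 F a b)).1) h
    exact this
  · intro h
    apply Subtype.ext
    apply Subtype.ext
    exact h

end omega


section count

variable {F K : Type*} [Field F] [Fintype F] [Field K] [Fintype K] [Algebra F K] {a b : F}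
  (D : Data F K a b)

lemma index_omega_odd (h2 : (2 : F) ≠ 0)
    (hab : ∀ z₁ z₂ : F, z₁ ^ 2 + a * z₁ * z₂ + b * z₂ ^ 2 = 0 → z₁ = 0 ∧ z₂ = 0) :
    (Cfsg.Omega F (Cfsg.quadFormMinus 1 F a b)).index = 4 := by
  apply Cfsg.Agent.Lib.Helper37.index_omega_eq_four
    (G := Cfsg.Agent.Lib.Helper37.gramM 1 F a b)
    ⟨h2, Cfsg.Agent.Lib.Helper37.gramM_isSymm 1 F a b, Cfsg.Agent.Lib.Helper37.gramM_self 1 F a b⟩
  · rw [Cfsg.Agent.Lib.Helper37.gramM_det]
    have hns := Cfsg.Agent.Lib.Helper37.disc_nonsquare h2 a b hab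
    intro h0
    apply hns
    have : a ^ 2 - 4 * b = 0 := by
      have h1 : ((-1 : F)) ^ (1 + 1) = 1 := by norm_num
      rw [h1, one_mul] at h0
      exact h0
    rw [this]
    exact ⟨0, by simp⟩
  · simp

lemma lrOmega_surjective {q : ℕ} (hF : Fintype.card F = q) (hK : Fintype.card K = q ^ 2)
    (hab : ∀ z₁ z₂ : F, z₁ ^ 2 + a * z₁ * z₂ + b * z₂ ^ 2 = 0 → z₁ = 0 ∧ z₂ = 0)
    {l : K} (hl0 : l ≠ 0) (hl1 : l ^ 2 ≠ 1) :
    Function.Surjective (lrOmega D hl0 hl1) := by
  classical
  have hq : 2 ≤ q := by rw [← hF]; exact Fintype.one_lt_card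
  set Q := q ^ 2 with hQ
  have hQ4 : 4 ≤ Q := by rw [hQ]; nlinarith
  have hn : Nat.card (Matrix.SpecialLinearGroup (Fin 2) K) = Q * (Q ^ 2 - 1) := by
    rw [Cfsg.Agent.Lib.Helper38.card_SL2, hK]
  have hPz := Subgroup.card_eq_card_quotient_mul_card_subgroup
    (Subgroup.center (Matrix.SpecialLinearGroup (Fin 2) K))
  have hP := Cfsg.Agent.S0243.result (F := K) (q := Q) hK 2 le_rfl
  rw [Fin.prod_univ_two] at hP
  simp only [Fin.val_zero, Fin.val_one, pow_zero, pow_one] at hP
  have hO := Cfsg.Agent.Lib.Helper43.card_isometryGroup_minus (F := F) (m := 1) (a := a) (b := b) hab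
  rw [hF] at hO
  simp only [Finset.prod_range_one, zero_add, mul_one, show (1 + 1) * 1 = 2 from rfl,
    show 1 + 1 = 2 from rfl, show 2 * 1 = 2 from rfl] at hO
  have hidx := Subgroup.card_mul_index (Cfsg.Omega F (Cfsg.quadFormMinus 1 F a b))
  have hker : Nat.card (lrOmega D hl0 hl1).ker =
      Nat.card (Subgroup.center (Matrix.SpecialLinearGroup (Fin 2) K)) := by
    rw [ker_lrOmega]
  have hrange := Subgroup.card_mul_index (lrOmega D hl0 hl1).ker
  rw [Subgroup.index_ker, hker, hn] at hrange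
  set P := Nat.card (Matrix.ProjectiveSpecialLinearGroup (Fin 2) K) with hPdef
  set z := Nat.card (Subgroup.center (Matrix.SpecialLinearGroup (Fin 2) K)) with hz
  set R := Nat.card (lrOmega D hl0 hl1).range with hR
  set W := Nat.card (Cfsg.Omega F (Cfsg.quadFormMinus 1 F a b)) with hW
  rw [hn] at hPz
  have hPz' : Q * (Q ^ 2 - 1) = P * z := hPz
  have e3 : Q ^ 2 - Q = Q * (Q - 1) := by
    obtain ⟨k, hk⟩ : ∃ k, Q = k + 1 := ⟨Q - 1, by omega⟩
    rw [hk]
    simp only [Nat.add_sub_cancel]
    apply Nat.sub_eq_of_eq_add; ring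
  rw [e3] at hP
  have hQ1 : 0 < Q - 1 := by omega
  have hnpos : 0 < Q * (Q ^ 2 - 1) := by
    apply Nat.mul_pos (by omega)
    have : 16 ≤ Q ^ 2 := by nlinarith
    omega
  have hPpos : 0 < P := by
    rcases Nat.eq_zero_or_pos P with h | h
    · rw [h, zero_mul] at hPz'; omega
    · exact h
  -- the order of the orthogonal group is twice the order of `SL₂(K)`
  have hO2 : Nat.card (Cfsg.isometryGroup F (Cfsg.quadFormMinus 1 F a b)) =
      2 * (Q * (Q ^ 2 - 1)) := by
    rw [hO]
    have e4 : (Q + 1) * (Q - 1) = Q ^ 2 - 1 := by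
      obtain ⟨k, hk⟩ : ∃ k, Q = k + 1 := ⟨Q - 1, by omega⟩
      rw [hk]
      simp only [Nat.add_sub_cancel]
      symm
      apply Nat.sub_eq_of_eq_add; ring
    rw [← e4]
    ring
  have hRW : R = W := by
    by_cases h2 : (2 : F) = 0
    · -- even
      have heven : q % 2 = 0 := by
        by_contra hc
        have : q % 2 = 1 := by omega
        rw [← hF] at this
        exact (Cfsg.Agent.Lib.Helper43.two_ne_zero_iff_odd_card.2 this) h2
      have hQeven : Q % 2 = 0 := by
        rw [hQ, pow_two, Nat.mul_mod, heven]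
      have hgcd : Nat.gcd 2 (Q - 1) = 1 := by
        have : (Q - 1) % 2 = 1 := by omega
        exact (Nat.Prime.coprime_iff_not_dvd Nat.prime_two).2 (by omega)
      rw [hgcd, one_mul] at hP
      have hP' : P = Q * (Q ^ 2 - 1) := by
        apply Nat.eq_of_mul_eq_mul_left hQ1
        rw [hP]; ring
      have hz1 : z = 1 := by
        rw [← hP'] at hPz'
        have : P * 1 = P * z := by rw [mul_one]; exact hPz'
        exact (Nat.eq_of_mul_eq_mul_left hPpos this).symm
      rw [hz1, one_mul] at hrange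
      -- the range of `lrO` has index two, hence contains `Ω`
      have hrO : Nat.card (lrO D).range = Q * (Q ^ 2 - 1) := by
        have e5 : (lrOmega D hl0 hl1).range.map (Subgroup.subtype _) = (lrO D).range := by
          ext x
          constructor
          · rintro ⟨y, ⟨g, rfl⟩, rfl⟩
            exact ⟨g, rfl⟩
          · rintro ⟨g, rfl⟩
            exact ⟨lrOmega D hl0 hl1 g, ⟨g, rfl⟩, rfl⟩
        rw [← e5, Subgroup.card_subtype (Cfsg.Omega F (Cfsg.quadFormMinus 1 F a b)), ← hR, hrange]
      have hidx2 : (lrO D).range.index = 2 := by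
        have h5 := Subgroup.card_mul_index (lrO D).range
        rw [hrO, hO2] at h5
        have h6 : Q * (Q ^ 2 - 1) * (lrO D).range.index = Q * (Q ^ 2 - 1) * 2 := by
          rw [h5]; ring
        exact Nat.eq_of_mul_eq_mul_left hnpos h6
      have hle := commutator_le_of_index_two _ hidx2
      have hWle : W ≤ Q * (Q ^ 2 - 1) := by
        rw [← hrO]
        exact Subgroup.card_le_of_le hle
      have hRle : R ≤ W := Subgroup.card_le_card_group _
      omega
    · -- odd
      have hi := index_omega_odd h2 hab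
      rw [hi, hO2] at hidx
      have hodd : q % 2 = 1 := by
        rw [← hF]
        exact Cfsg.Agent.Lib.Helper43.two_ne_zero_iff_odd_card.1 h2
      have hQodd : Q % 2 = 1 := by
        rw [hQ, pow_two, Nat.mul_mod, hodd]
      have hgcd : Nat.gcd 2 (Q - 1) = 2 := by
        apply Nat.gcd_eq_left
        omega
      rw [hgcd] at hP
      have hP' : 2 * P = Q * (Q ^ 2 - 1) := by
        apply Nat.eq_of_mul_eq_mul_left hQ1
        calc (Q - 1) * (2 * P) = 2 * ((Q - 1) * P) := by ring
          _ = (Q ^ 2 - 1) * (Q * (Q - 1)) := hP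
          _ = _ := by ring
      have hz2 : z = 2 := by
        rw [← hP'] at hPz'
        have : P * 2 = P * z := by rw [← hPz']; ring
        exact (Nat.eq_of_mul_eq_mul_left hPpos this).symm
      rw [hz2] at hrange
      omega
  have htop : (lrOmega D hl0 hl1).range = ⊤ := Subgroup.eq_top_of_card_eq _ hRW
  exact MonoidHom.range_eq_top.1 htop

end count


section final

variable {F K : Type*} [Field F] [Fintype F] [Field K] [Fintype K]

/-- existence of the algebraic data -/
theorem exists_data [Algebra F K] {q : ℕ} (hF : Fintype.card F = q) (hK : Fintype.card K = q ^ 2)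
    (a b : F) (hab : ∀ z₁ z₂ : F, z₁ ^ 2 + a * z₁ * z₂ + b * z₂ ^ 2 = 0 → z₁ = 0 ∧ z₂ = 0) :
    Nonempty (Data F K a b) := by
  classical
  have hq : 2 ≤ q := by rw [← hF]; exact Fintype.one_lt_card
  obtain ⟨frob, hfrob⟩ := exists_frob hK
  obtain ⟨ψ, hψ⟩ := exists_binary_coords hF hK a b hab
  have hfixed : ∀ x : K, frob x = x → ∃ f : F, algebraMap F K f = x := by
    intro x hx
    have h1 : x ^ Fintype.card F = x := by rw [hF, ← hfrob, hx]
    exact mem_range_of_pow_card_eq x h1
  obtain ⟨π, hπ⟩ := LinearMap.exists_leftInverse_of_injective (Algebra.linearMap F K)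
    (LinearMap.ker_eq_bot.mpr (algebraMap F K).injective)
  obtain ⟨θ, hθ⟩ : ∃ θ : K, frob θ ≠ θ := by
    by_contra hcon
    push Not at hcon
    have hsurj : Function.Surjective (algebraMap F K) := fun x => hfixed x (hcon x)
    have h1 := Fintype.card_le_of_surjective _ hsurj
    rw [hF, hK] at h1
    nlinarith
  refine ⟨⟨frob, ?_, ?_, hfixed, ψ, ?_, π, ?_, θ, hθ⟩⟩
  · intro x
    rw [hfrob, hfrob, pow_q_sq hK]
  · intro f
    rw [hfrob, algebraMap_pow_card hF]
  · intro z
    rw [← hψ z, norm_eq_mul_pow hF hK, hfrob]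
  · intro f
    have := congrArg (fun g => g f) hπ
    exact this

/-- an element `l ≠ 0` with `l² ≠ 1` in a field with at least four elements -/
theorem exists_sq_ne_one (hK : 4 ≤ Fintype.card K) : ∃ l : K, l ≠ 0 ∧ l ^ 2 ≠ 1 := by
  classical
  by_contra hcon
  push Not at hcon
  have hsub : (Finset.univ : Finset K) ⊆ {0, 1, -1} := by
    intro x _
    by_cases hx : x = 0
    · simp [hx]
    · have h1 := hcon x hx
      have h3 : (x - 1) * (x + 1) = 0 := by linear_combination h1
      rcases mul_eq_zero.mp h3 with h4 | h4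
      · have : x = 1 := by linear_combination h4
        simp [this]
      · have : x = -1 := by linear_combination h4
        simp [this]
  have : Fintype.card K ≤ 3 := by
    calc Fintype.card K = (Finset.univ : Finset K).card := rfl
      _ ≤ ({0, 1, -1} : Finset K).card := Finset.card_le_card hsub
      _ ≤ 3 := Finset.card_le_three
  omega

/-- `PΩ⁻₄(q) ≅ PSL₂(q²)`. -/
theorem pomega4m_equiv {q : ℕ} (hF : Fintype.card F = q) (hK : Fintype.card K = q ^ 2) (a b : F)
    (hab : ∀ z₁ z₂ : F, z₁ ^ 2 + a * z₁ * z₂ + b * z₂ ^ 2 = 0 → z₁ = 0 ∧ z₂ = 0) :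
    Nonempty (Cfsg.POmega F (Cfsg.quadFormMinus 1 F a b) ≃*
      Matrix.ProjectiveSpecialLinearGroup (Fin 2) K) := by
  classical
  have hq : 2 ≤ q := by rw [← hF]; exact Fintype.one_lt_card
  obtain ⟨j⟩ := exists_ringHom_of_card_sq hF hK
  letI : Algebra F K := j.toAlgebra
  obtain ⟨D⟩ := exists_data hF hK a b hab
  obtain ⟨l, hl0, hl1⟩ := exists_sq_ne_one (K := K) (by rw [hK]; nlinarith)
  have hsurj := lrOmega_surjective D hF hK hab hl0 hl1
  let toPOmega : Matrix.SpecialLinearGroup (Fin 2) K →* Cfsg.POmega F (Cfsg.quadFormMinus 1 F a b) :=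
    (QuotientGroup.mk' _).comp (lrOmega D hl0 hl1)
  let toPSL : Matrix.SpecialLinearGroup (Fin 2) K →* Matrix.ProjectiveSpecialLinearGroup (Fin 2) K :=
    QuotientGroup.mk' _
  have hs1 : Function.Surjective toPOmega :=
    (QuotientGroup.mk'_surjective _).comp hsurj
  have hs2 : Function.Surjective toPSL := QuotientGroup.mk'_surjective _
  have hker2 : toPSL.ker = Subgroup.center (Matrix.SpecialLinearGroup (Fin 2) K) :=
    QuotientGroup.ker_mk' _
  have hker : toPOmega.ker = toPSL.ker := by
    ext g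
    rw [hker2, MonoidHom.mem_ker]
    change QuotientGroup.mk' _ (lrOmega D hl0 hl1 g) = 1 ↔ _
    rw [QuotientGroup.mk'_apply, QuotientGroup.eq_one_iff,
      Cfsg.Agent.Lib.Helper5.Om4.map_mem_center_iff _ hsurj, ker_lrOmega]
    constructor
    · intro h
      -- the image of `g` in `PSL₂` is central, hence trivial
      have h1 : toPSL g ∈ Subgroup.center (Matrix.ProjectiveSpecialLinearGroup (Fin 2) K) := by
        rw [Cfsg.Agent.Lib.Helper5.Om4.map_mem_center_iff _ hs2, hker2]
        exact h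
      rw [Cfsg.Agent.Lib.Helper5.center_PSL2_eq_bot, Subgroup.mem_bot] at h1
      have h2 : g ∈ toPSL.ker := h1
      rwa [hker2] at h2
    · intro h x
      have : ⁅g, x⁆ = 1 := by
        rw [commutatorElement_eq_one_iff_mul_comm]
        exact ((Subgroup.mem_center_iff.1 h) x).symm
      rw [this]
      exact Subgroup.one_mem _
  exact ⟨((QuotientGroup.quotientKerEquivOfSurjective _ hs1).symm.trans
    (QuotientGroup.quotientMulEquivOfEq hker)).trans
    (QuotientGroup.quotientKerEquivOfSurjective _ hs2)⟩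

end final

end Cfsg.Agent.Lib.Helper44.Om4m
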