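import Cfsg.Agent.Lib.Helper44.CharTwoSym

set_option autoImplicit false
set_option linter.unusedSectionVars false

/-!
The number of orthonormal frames of the standard dot product on `F^n`, `F` a finite field of
characteristic two (the order of the group of matrices `P` with `P Pᵀ = 1`).
-/

namespace Cfsg.Agent.Lib.Helper44

open Matrix Module

universe u v

section frames

variable {F : Type v} [Field F]

/-- orthonormal families of length `n` for a bilinear form -/
abbrev Frames {U : Type u} [AddCommGroup U] [Module F U] (β : LinearMap.BilinForm F U) (n : ℕ) :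
    Type u :=
  {e : Fin n → U // ∀ i j, β (e i) (e j) = if i = j then 1 else 0}

/-- the dot product as a bilinear form -/
noncomputable def dotB (F : Type v) [Field F] (n : ℕ) : LinearMap.BilinForm F (Fin n → F) :=
  Matrix.toBilin' 1

theorem dotB_apply (n : ℕ) (x y : Fin n → F) : dotB F n x y = x ⬝ᵥ y := by
  unfold dotB
  rw [Matrix.toBilin'_apply', one_mulVec]

theorem dotB_isSymm (n : ℕ) : (dotB F n).IsSymm := by
  refine ⟨fun x y => ?_⟩
  show dotB F n x y = dotB F n y x
  rw [dotB_apply, dotB_apply, dotProduct_comm]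

theorem dotB_nondegenerate (n : ℕ) : (dotB F n).Nondegenerate := by
  have hleft : (dotB F n).SeparatingLeft := by
    intro x hx
    funext i
    have := hx (Pi.single i 1)
    rw [dotB_apply, dotProduct_single_one] at this
    exact this
  refine ⟨hleft, ?_⟩
  intro y hy
  apply hleft y
  intro x
  rw [(dotB_isSymm n).eq]
  exact hy x

/-- transport of frames along an isometry -/
theorem card_frames_congr {U U' : Type u} [AddCommGroup U] [Module F U] [AddCommGroup U']
    [Module F U'] (β : LinearMap.BilinForm F U) (β' : LinearMap.BilinForm F U')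
    (Θ : U ≃ₗ[F] U') (hΘ : ∀ x y, β' (Θ x) (Θ y) = β x y) (n : ℕ) :
    Nat.card (Frames β n) = Nat.card (Frames β' n) := by
  apply Nat.card_congr
  refine
    { toFun := fun e => ⟨fun i => Θ (e.1 i), fun i j => by rw [hΘ]; exact e.2 i j⟩
      invFun := fun e => ⟨fun i => Θ.symm (e.1 i), fun i j => by
        rw [← hΘ, Θ.apply_symm_apply, Θ.apply_symm_apply]; exact e.2 i j⟩
      left_inv := fun e => Subtype.ext (funext fun i => Θ.symm_apply_apply _)
      right_inv := fun e => Subtype.ext (funext fun i => Θ.apply_symm_apply _) }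

/-- coordinates from an orthonormal frame of full size -/
theorem exists_frame_coords {U : Type u} [AddCommGroup U] [Module F U] [FiniteDimensional F U]
    (β : LinearMap.BilinForm F U) (n : ℕ) (hfr : finrank F U = n) (e : Fin n → U)
    (he : ∀ i j, β (e i) (e j) = if i = j then 1 else 0) :
    ∃ Θ : U ≃ₗ[F] (Fin n → F), ∀ x y, dotB F n (Θ x) (Θ y) = β x y := by
  classical
  obtain ⟨-, hexp⟩ := dual_family_expansion β (by rw [hfr, Fintype.card_fin]) e e he
  let L : U →ₗ[F] (Fin n → F) := LinearMap.pi (fun k => β.flip (e k))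
  have hL : ∀ u k, L u k = β u (e k) := fun u k => rfl
  have hinj : Function.Injective L := by
    rw [← LinearMap.ker_eq_bot, LinearMap.ker_eq_bot']
    intro u hu
    rw [hexp u]
    apply Finset.sum_eq_zero
    intro k _
    rw [← hL, hu, Pi.zero_apply, zero_smul]
  have hsurj : Function.Surjective L :=
    (LinearMap.injective_iff_surjective_of_finrank_eq_finrank
      (by rw [hfr, Module.finrank_fintype_fun_eq_card, Fintype.card_fin])).mp hinj
  refine ⟨LinearEquiv.ofBijective L ⟨hinj, hsurj⟩, ?_⟩
  intro x y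
  show dotB F n (L x) (L y) = β x y
  rw [dotB_apply]
  conv_rhs => rw [hexp y]
  rw [map_sum]
  refine Finset.sum_congr rfl fun k _ => ?_
  rw [map_smul, smul_eq_mul, hL, hL, mul_comm]

/-- the frames with a given first vector of norm one are the frames of its orthogonal
complement -/
theorem card_frames_fiber {U : Type u} [AddCommGroup U] [Module F U]
    (β : LinearMap.BilinForm F U) (hs : β.IsSymm) (n : ℕ) (v : U) (hv : β v v = 1) :
    Nat.card {e : Frames β (n + 1) // e.1 0 = v} =
      Nat.card (Frames (β.restrict (LinearMap.ker (β v))) n) := by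
  apply Nat.card_congr
  refine
    { toFun := fun e => ⟨fun i => ⟨e.1.1 i.succ, ?_⟩, ?_⟩
      invFun := fun e' => ⟨⟨Fin.cons v (fun i => ((e'.1 i : LinearMap.ker (β v)) : U)), ?_⟩, ?_⟩
      left_inv := ?_
      right_inv := ?_ }
  · have h0 : e.1.1 0 = v := e.2
    have h1 := e.1.2 0 i.succ
    rw [h0, if_neg (Fin.succ_ne_zero i).symm] at h1
    exact LinearMap.mem_ker.mpr h1
  · intro i j
    have := e.1.2 i.succ j.succ
    simp only [Fin.succ_inj] at this
    exact this
  · intro i j
    have hk : ∀ i, β v ((e'.1 i : LinearMap.ker (β v)) : U) = 0 := fun i =>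
      LinearMap.mem_ker.mp (e'.1 i).2
    refine Fin.cases ?_ (fun i' => ?_) i <;> refine Fin.cases ?_ (fun j' => ?_) j
    · simp [hv]
    · simpa [Fin.cons_succ, Fin.cons_zero, (Fin.succ_ne_zero j').symm] using hk j'
    · have h3 : β ((e'.1 i' : LinearMap.ker (β v)) : U) v = 0 := by rw [hs.eq]; exact hk i'
      simpa [Fin.cons_succ, Fin.cons_zero, Fin.succ_ne_zero i'] using h3
    · have h3 := e'.2 i' j'
      simpa [Fin.cons_succ, Fin.succ_inj] using h3
  · rfl
  · intro e
    apply Subtype.ext
    apply Subtype.ext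
    funext i
    refine Fin.cases ?_ (fun i' => ?_) i
    · simp [e.2]
    · simp
  · intro e'
    apply Subtype.ext
    funext i
    apply Subtype.ext
    simp

end frames

section count

variable {F : Type v} [Field F] [Fintype F] [CharP F 2]

/-- the number of orthonormal frames of the dot product on `F^n` -/
noncomputable def frameCount (F : Type v) [Field F] (n : ℕ) : ℕ := Nat.card (Frames (dotB F n) n)

/-- in characteristic two the norm of a vector is the square of its coordinate sum -/
theorem dot_self_char_two {n : ℕ} (v : Fin n → F) : v ⬝ᵥ v = (∑ i, v i) ^ 2 := by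
  rw [sum_pow_char 2]
  unfold dotProduct
  refine Finset.sum_congr rfl fun i _ => ?_
  rw [pow_two]

theorem sq_eq_one_char_two (a : F) : a ^ 2 = 1 ↔ a = 1 := by
  constructor
  · intro h
    have h1 : (a - 1) ^ 2 = 0 := by
      have h2 : (2 : F) = 0 := two_eq_zero_of_charP
      linear_combination h - (a - 1) * h2
    exact sub_eq_zero.mp (pow_eq_zero_iff (two_ne_zero) |>.mp h1)
  · rintro rfl
    exact one_pow 2

theorem natCast_char_two (k : ℕ) : (k : F) = if Odd k then 1 else 0 := by
  have h2 : (2 : F) = 0 := two_eq_zero_of_charP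
  by_cases hk : Odd k
  · rw [if_pos hk]
    obtain ⟨j, rfl⟩ := hk
    push_cast
    rw [h2, zero_mul, zero_add]
  · rw [if_neg hk]
    obtain ⟨j, rfl⟩ := Nat.not_odd_iff_even.mp hk
    push_cast
    linear_combination (j : F) * h2

/-- first vectors of orthonormal frames whose orthogonal complement still has frames -/
def IsGoodVec (n : ℕ) (v : Fin (n + 1) → F) : Prop :=
  v ⬝ᵥ v = 1 ∧ (0 < n → ∃ u, v ⬝ᵥ u = 0 ∧ u ⬝ᵥ u ≠ 0)

theorem isGoodVec_iff (n : ℕ) (v : Fin (n + 1) → F) :
    IsGoodVec n v ↔ ∑ i, v i = 1 ∧ (0 < n → v ≠ fun _ => 1) := by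
  have h2 : (2 : F) = 0 := two_eq_zero_of_charP
  unfold IsGoodVec
  rw [dot_self_char_two, sq_eq_one_char_two]
  constructor
  · rintro ⟨h1, hg⟩
    refine ⟨h1, fun hn hv => ?_⟩
    obtain ⟨u, hu1, hu2⟩ := hg hn
    apply hu2
    rw [dot_self_char_two]
    have : ∑ i, u i = 0 := by
      rw [hv] at hu1
      simpa [dotProduct] using hu1
    rw [this]
    exact zero_pow two_ne_zero
  · rintro ⟨h1, hg⟩
    refine ⟨h1, fun hn => ?_⟩
    have hne := hg hn
    have hex : ∃ i j, v i ≠ v j := by
      by_contra hcon
      push Not at hcon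
      apply hne
      have hc : ∀ i, v i = v 0 := fun i => hcon i 0
      have h3 : ((n + 1 : ℕ) : F) * v 0 = 1 := by
        rw [← h1, Finset.sum_congr rfl (fun i _ => hc i), Finset.sum_const, Finset.card_univ,
          Fintype.card_fin, nsmul_eq_mul]
      rw [natCast_char_two] at h3
      by_cases hodd : Odd (n + 1)
      · rw [if_pos hodd, one_mul] at h3
        funext i
        rw [hc i, h3]
      · rw [if_neg hodd, zero_mul] at h3
        exact absurd h3 zero_ne_one
    obtain ⟨i, j, hij⟩ := hex
    refine ⟨Pi.single i (v j) + Pi.single j (v i), ?_, ?_⟩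
    · rw [dotProduct_add, dotProduct_single, dotProduct_single]
      linear_combination (v i * v j) * h2
    · rw [dot_self_char_two]
      apply pow_ne_zero
      have hij' : i ≠ j := fun h => hij (by rw [h])
      have hsum : ∑ k, (Pi.single i (v j) + Pi.single j (v i) : Fin (n + 1) → F) k =
          v j + v i := by
        simp only [Pi.add_apply, Finset.sum_add_distrib, Finset.sum_pi_single', Finset.mem_univ,
          if_true]
      rw [hsum]
      intro h0
      apply hij
      linear_combination h0 - v j * h2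

/-- vectors with coordinate sum one -/
theorem card_sum_eq_one (n : ℕ) :
    Nat.card {v : Fin (n + 1) → F // ∑ i, v i = 1} = Fintype.card F ^ n := by
  have e : (Fin n → F) ≃ {v : Fin (n + 1) → F // ∑ i, v i = 1} :=
    { toFun := fun w => ⟨Fin.cons (1 - ∑ i, w i) w, by
        rw [Fin.sum_univ_succ]
        simp⟩
      invFun := fun v => Fin.tail v.1
      left_inv := fun w => by simp
      right_inv := fun v => by
        apply Subtype.ext
        have h1 := v.2
        rw [Fin.sum_univ_succ] at h1
        have h2 : 1 - ∑ i, Fin.tail v.1 i = v.1 0 := by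
          have h3 : ∑ i, Fin.tail v.1 i = ∑ i : Fin n, v.1 i.succ := rfl
          rw [h3]
          linear_combination (-1 : F) * h1
        show Fin.cons (1 - ∑ i, Fin.tail v.1 i) (Fin.tail v.1) = v.1
        rw [h2]
        exact Fin.cons_self_tail v.1 }
  rw [← Nat.card_congr e, Nat.card_eq_fintype_card, Fintype.card_fun, Fintype.card_fin]

/-- the number of good first vectors -/
theorem card_goodVec (n : ℕ) :
    Nat.card {v : Fin (n + 1) → F // IsGoodVec n v} =
      Fintype.card F ^ n - (if 0 < n ∧ Odd (n + 1) then 1 else 0) := by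
  classical
  have hcs := card_sum_eq_one (F := F) n
  rw [Nat.card_eq_fintype_card, Fintype.card_subtype] at hcs
  rw [Nat.card_eq_fintype_card, Fintype.card_subtype]
  by_cases hc : 0 < n ∧ Odd (n + 1)
  · rw [if_pos hc]
    have hfilter : (Finset.univ.filter fun v : Fin (n + 1) → F => IsGoodVec n v) =
        (Finset.univ.filter fun v : Fin (n + 1) → F => ∑ i, v i = 1).erase (fun _ => 1) := by
      ext v
      rw [Finset.mem_filter, Finset.mem_erase, Finset.mem_filter, isGoodVec_iff]
      constructor
      · rintro ⟨-, h1, h2⟩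
        exact ⟨h2 hc.1, Finset.mem_univ _, h1⟩
      · rintro ⟨h2, -, h1⟩
        exact ⟨Finset.mem_univ _, h1, fun _ => h2⟩
    have hmem : (fun _ => 1 : Fin (n + 1) → F) ∈
        (Finset.univ.filter fun v : Fin (n + 1) → F => ∑ i, v i = 1) := by
      rw [Finset.mem_filter]
      refine ⟨Finset.mem_univ _, ?_⟩
      rw [Finset.sum_const, Finset.card_univ, Fintype.card_fin, nsmul_eq_mul, mul_one,
        natCast_char_two, if_pos hc.2]
    rw [hfilter, Finset.card_erase_of_mem hmem, hcs]
  · rw [if_neg hc, Nat.sub_zero, ← hcs]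
    congr 1
    ext v
    rw [Finset.mem_filter, Finset.mem_filter, isGoodVec_iff]
    constructor
    · rintro ⟨-, h1, -⟩
      exact ⟨Finset.mem_univ _, h1⟩
    · rintro ⟨-, h1⟩
      refine ⟨Finset.mem_univ _, h1, fun hn hv => ?_⟩
      apply hc
      refine ⟨hn, ?_⟩
      rw [hv, Finset.sum_const, Finset.card_univ, Fintype.card_fin, nsmul_eq_mul, mul_one,
        natCast_char_two] at h1
      by_contra hodd
      rw [if_neg hodd] at h1
      exact zero_ne_one h1

/-- the frames of the orthogonal complement of a vector of norm one -/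
theorem card_perp_frames (n : ℕ) (v : Fin (n + 1) → F) (hv : v ⬝ᵥ v = 1) :
    ((0 < n → ∃ u, v ⬝ᵥ u = 0 ∧ u ⬝ᵥ u ≠ 0) →
      Nat.card (Frames ((dotB F (n + 1)).restrict (LinearMap.ker (dotB F (n + 1) v))) n) =
        frameCount F n) ∧
    (¬ (0 < n → ∃ u, v ⬝ᵥ u = 0 ∧ u ⬝ᵥ u ≠ 0) →
      Nat.card (Frames ((dotB F (n + 1)).restrict (LinearMap.ker (dotB F (n + 1) v))) n) = 0) := by
  classical
  have hv' : dotB F (n + 1) v v = 1 := by rw [dotB_apply]; exact hv
  obtain ⟨hfrU, hndU⟩ := perp_norm_one (dotB F (n + 1)) (dotB_isSymm _) (dotB_nondegenerate _) v hv'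
  rw [Module.finrank_fintype_fun_eq_card, Fintype.card_fin] at hfrU
  constructor
  · intro hg
    have hna : 0 < n → ∃ w : LinearMap.ker (dotB F (n + 1) v),
        ((dotB F (n + 1)).restrict (LinearMap.ker (dotB F (n + 1) v))) w w ≠ 0 := by
      intro hn
      obtain ⟨u, hu1, hu2⟩ := hg hn
      refine ⟨⟨u, ?_⟩, ?_⟩
      · rw [LinearMap.mem_ker, dotB_apply]
        exact hu1
      · show dotB F (n + 1) u u ≠ 0
        rw [dotB_apply]
        exact hu2
    obtain ⟨e, he⟩ := orthonormal_family_char_two n _
      ((dotB F (n + 1)).restrict (LinearMap.ker (dotB F (n + 1) v)))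
      ((dotB_isSymm _).restrict _) hndU hna (by omega)
    obtain ⟨Θ, hΘ⟩ := exists_frame_coords
      ((dotB F (n + 1)).restrict (LinearMap.ker (dotB F (n + 1) v))) n (by omega) e he
    exact card_frames_congr _ (dotB F n) Θ hΘ n
  · intro hg
    push Not at hg
    obtain ⟨hn, hall⟩ := hg
    rw [Nat.card_eq_zero]
    left
    constructor
    intro e
    have h1 := e.2 ⟨0, hn⟩ ⟨0, hn⟩
    rw [if_pos rfl] at h1
    have h2 : dotB F (n + 1) (e.1 ⟨0, hn⟩ : Fin (n + 1) → F) (e.1 ⟨0, hn⟩ : Fin (n + 1) → F) = 1 :=
      h1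
    have h3 : dotB F (n + 1) v (e.1 ⟨0, hn⟩ : Fin (n + 1) → F) = 0 :=
      LinearMap.mem_ker.mp (e.1 ⟨0, hn⟩).2
    rw [dotB_apply] at h2 h3
    rw [hall _ h3] at h2
    exact zero_ne_one h2

/-- the recursion for the number of orthonormal frames -/
theorem frameCount_succ (n : ℕ) :
    frameCount F (n + 1) = Nat.card {v : Fin (n + 1) → F // IsGoodVec n v} * frameCount F n := by
  classical
  unfold frameCount
  have e := Equiv.sigmaFiberEquiv
    (fun e : Frames (dotB F (n + 1)) (n + 1) => (e.1 0 : Fin (n + 1) → F))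
  rw [← Nat.card_congr e, Nat.card_sigma]
  have hfib : ∀ v : Fin (n + 1) → F,
      Nat.card {e : Frames (dotB F (n + 1)) (n + 1) // e.1 0 = v} =
        if IsGoodVec n v then Nat.card (Frames (dotB F n) n) else 0 := by
    intro v
    by_cases hv : v ⬝ᵥ v = 1
    · rw [card_frames_fiber (dotB F (n + 1)) (dotB_isSymm _) n v (by rw [dotB_apply]; exact hv)]
      by_cases hg : 0 < n → ∃ u, v ⬝ᵥ u = 0 ∧ u ⬝ᵥ u ≠ 0
      · rw [if_pos ⟨hv, hg⟩, (card_perp_frames n v hv).1 hg]
        rfl
      · rw [if_neg (fun h : IsGoodVec n v => hg h.2), (card_perp_frames n v hv).2 hg]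
    · rw [if_neg (fun h : IsGoodVec n v => hv h.1), Nat.card_eq_zero]
      left
      constructor
      rintro ⟨e, he⟩
      apply hv
      have h1 := e.2 0 0
      rw [if_pos rfl, dotB_apply, he] at h1
      exact h1
  simp only [hfib]
  rw [Finset.sum_ite, Finset.sum_const_zero, add_zero, Finset.sum_const, smul_eq_mul]
  congr 1
  rw [Nat.card_eq_fintype_card, Fintype.card_subtype]

theorem frameCount_zero : frameCount F 0 = 1 := by
  unfold frameCount
  have : Unique (Frames (dotB F 0) 0) :=
    { default := ⟨Fin.elim0, fun i => i.elim0⟩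
      uniq := fun e => Subtype.ext (funext fun i => i.elim0) }
  exact Nat.card_unique

theorem frameCount_one : frameCount F 1 = 1 := by
  rw [frameCount_succ, card_goodVec, frameCount_zero]
  simp

/-- the number of orthonormal frames in odd dimension -/
theorem frameCount_odd (j : ℕ) :
    frameCount F (2 * j + 1) =
      Fintype.card F ^ (j ^ 2) * ∏ i ∈ Finset.range j, (Fintype.card F ^ (2 * (i + 1)) - 1) := by
  induction j with
  | zero => simp [frameCount_one]
  | succ j ih =>
    have h1 : 2 * (j + 1) + 1 = (2 * j + 2) + 1 := by ring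
    rw [h1, frameCount_succ, frameCount_succ, card_goodVec, card_goodVec, ih,
      Finset.prod_range_succ]
    have hodd : Odd (2 * j + 2 + 1) := ⟨j + 1, by ring⟩
    have hnodd : ¬ Odd (2 * j + 1 + 1) := by
      rw [Nat.not_odd_iff_even]
      exact ⟨j + 1, by ring⟩
    rw [if_pos ⟨by omega, hodd⟩, if_neg (fun h => hnodd h.2), Nat.sub_zero]
    have hexp : (j + 1) ^ 2 = j ^ 2 + (2 * j + 1) := by ring
    rw [hexp, pow_add]
    have h2 : 2 * (j + 1) = 2 * j + 2 := by ring
    rw [h2]
    ring_nf

/-- the number of orthonormal frames in even positive dimension -/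
theorem frameCount_even (j : ℕ) :
    frameCount F (2 * j + 2) = Fintype.card F ^ (2 * j + 1) * frameCount F (2 * j + 1) := by
  rw [frameCount_succ, card_goodVec]
  have hnodd : ¬ Odd (2 * j + 1 + 1) := by
    rw [Nat.not_odd_iff_even]
    exact ⟨j + 1, by ring⟩
  rw [if_neg (fun h => hnodd h.2), Nat.sub_zero]

/-- matrices with `P Pᵀ = 1` are the orthonormal frames (rows) -/
theorem card_orthogonal_matrices (n : ℕ) :
    Nat.card {P : Matrix (Fin n) (Fin n) F // P * Pᵀ = 1} = frameCount F n := by
  unfold frameCount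
  apply Nat.card_congr
  refine
    { toFun := fun P => ⟨fun i => P.1 i, fun i j => ?_⟩
      invFun := fun e => ⟨Matrix.of e.1, ?_⟩
      left_inv := fun P => rfl
      right_inv := fun e => rfl }
  · rw [dotB_apply]
    have := congrFun (congrFun P.2 i) j
    rw [Matrix.one_apply] at this
    exact this
  · ext i j
    rw [Matrix.one_apply, ← e.2 i j, dotB_apply]
    rfl

end count

end Cfsg.Agent.Lib.Helper44
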