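import Cfsg.Agent.Lib.Helper44.OrthInvCountA
import Cfsg.Agent.Lib.Helper43.OrthCardForms

set_option autoImplicit false

/-!
The number of frames of vectors of norm one in the hyperbolic quadratic space of dimension `2m`
over a finite field of characteristic two, in the form
`|frames of length t+1| · 2 q^(t(t+1)/2 + 2tr) |Sp_2r(q)| = |O⁺_2m(q)|`, `m = t + 1 + r`.
-/

namespace Cfsg.Agent.Lib.Helper44.OrthInv

open Module QuadraticMap Cfsg.Agent.Lib.Helper8 Cfsg.Agent.Lib.Helper43

/-- the order of `Sp_2r(q)` -/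
def spOrd (q r : ℕ) : ℕ := q ^ (r ^ 2) * ∏ i ∈ Finset.range r, (q ^ (2 * (i + 1)) - 1)

theorem spOrd_succ (q r : ℕ) :
    spOrd q (r + 1) = q ^ (2 * r + 1) * (q ^ (2 * (r + 1)) - 1) * spOrd q r := by
  unfold spOrd
  rw [Finset.prod_range_succ]
  have h : (r + 1) ^ 2 = r ^ 2 + (2 * r + 1) := by ring
  rw [h, pow_add]
  ring

/-- triangular numbers -/
def tri : ℕ → ℕ
  | 0 => 0
  | t + 1 => tri t + (t + 1)

theorem tri_zero : tri 0 = 0 := rfl

theorem tri_succ (t : ℕ) : tri (t + 1) = tri t + (t + 1) := rfl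

theorem two_mul_tri (t : ℕ) : 2 * tri t = t * (t + 1) := by
  induction t with
  | zero => rfl
  | succ t ih =>
    rw [tri_succ, mul_add, ih]
    ring

theorem tri_eq (t : ℕ) : tri t = t * (t + 1) / 2 := by
  rw [← two_mul_tri, Nat.mul_div_cancel_left _ two_pos]

section plusA

universe u

variable {F : Type u} [Field F] [Fintype F] [CharP F 2]

theorem finrank_plus (m : ℕ) : finrank F (Fin m ⊕ Fin m → F) = m + m := by
  rw [Module.finrank_fintype_fun_eq_card, Fintype.card_sum, Fintype.card_fin]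

omit [CharP F 2] in
/-- the number of singular vectors of the hyperbolic space -/
theorem card_zeros_plus (m : ℕ) :
    Nat.card {v : Fin m ⊕ Fin m → F // plusForm m F v = 0} = ZZ (Fintype.card F) 0 1 m := by
  have hQ₁ : (polarBilin (0 : QuadraticForm F (Fin 0 → F))).Nondegenerate :=
    ⟨fun x _ => Subsingleton.elim _ _, fun x _ => Subsingleton.elim _ _⟩
  obtain ⟨-, h2, -⟩ := card_OG_family (0 : QuadraticForm F (Fin 0 → F)) hQ₁ m _
    (plusForm m F) _ _ _ (plus_family m F)
  rw [h2]
  have hn : finrank F (Fin 0 → F) = 0 := by simp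
  have hz : Nat.card {x : Fin 0 → F // (0 : QuadraticForm F (Fin 0 → F)) x = 0} = 1 := by
    rw [Nat.card_eq_one_iff_unique]
    exact ⟨⟨fun x y => Subtype.ext (Subsingleton.elim _ _)⟩, ⟨⟨0, by simp⟩⟩⟩
  rw [hn, hz]

/-- the number of vectors of norm one of the hyperbolic space -/
theorem card_norm_one_plus (r : ℕ) :
    Nat.card {v : Fin (r + 1) ⊕ Fin (r + 1) → F // plusForm (r + 1) F v = 1} =
      Fintype.card F ^ r * (Fintype.card F ^ (r + 1) - 1) := by
  have h1 := card_norm_one_add_zeros (plusForm (r + 1) F)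
  rw [card_zeros_plus, ZZ_plus _ Fintype.card_pos, finrank_plus] at h1
  set q := Fintype.card F with hq
  have hq1 : 1 ≤ q := Fintype.card_pos
  have hq2 : 2 ≤ q := by
    rw [hq]
    exact Fintype.one_lt_card
  have hp1 : 1 ≤ q ^ (r + 1) := Nat.one_le_pow _ _ hq1
  have hpos : 0 < q - 1 := by omega
  apply Nat.eq_of_mul_eq_mul_left hpos
  zify [hq1, hp1] at h1 ⊢
  have e1 : ((q : ℤ)) ^ (r + 1 + (r + 1)) = (q : ℤ) ^ (r + 1) * (q : ℤ) ^ (r + 1) := pow_add _ _ _
  have e2 : ((q : ℤ)) ^ (r + 1) = (q : ℤ) ^ r * q := pow_succ _ _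
  rw [e1] at h1
  linear_combination h1 + ((q : ℤ) ^ r * q - (q : ℤ) ^ r - (q:ℤ) ^ (r + 1) - 1 + q) * e2

/-- the extensions of the empty family are the vectors of the prescribed norm -/
theorem card_ext_empty {V : Type u} [AddCommGroup V] [Module F V] (Q : QuadraticForm F V)
    (w : Fin 0 → V) : Nat.card (Ext Q 1 w) = Nat.card {v : V // Q v = 1} := by
  apply Nat.card_congr
  apply Equiv.subtypeEquivRight
  intro v
  constructor
  · intro h
    exact h.1
  · intro h
    refine ⟨h, fun a => a.elim0, ?_⟩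
    have : Set.range w = ∅ := Set.range_eq_empty w
    rw [this, Submodule.span_empty, Submodule.mem_bot]
    intro h0
    rw [h0, QuadraticMap.map_zero] at h
    exact zero_ne_one h

/-- the number of frames of vectors of norm one, against the order of the orthogonal group -/
theorem card_fr_one_plus : ∀ (t r m : ℕ), m = t + 1 + r →
    Nat.card (Fr (plusForm m F) 1 (t + 1)) *
        (2 * Fintype.card F ^ (tri t + 2 * t * r) * spOrd (Fintype.card F) r) =
      Nat.card (Cfsg.isometryGroup F (Cfsg.quadFormPlus m F)) := by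
  intro t
  induction t with
  | zero =>
    intro r m hm
    have hm' : m = r + 1 := by omega
    subst hm'
    haveI : Finite (Fin (r + 1) ⊕ Fin (r + 1) → F) := inferInstance
    rw [card_fr_succ (plusForm (r + 1) F) 1 0
      (Fintype.card F ^ r * (Fintype.card F ^ (r + 1) - 1))
      (fun w => by rw [card_ext_empty, card_norm_one_plus]), card_fr_zero,
      card_isometryGroup_plus (F := F) r]
    unfold spOrd
    have h : (r + 1) * r = r + r ^ 2 := by ring
    rw [h, pow_add, tri_zero]
    simp only [Nat.mul_zero, Nat.zero_mul, Nat.add_zero, pow_zero]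
    ring
  | succ t ih =>
    intro r m hm
    have ih' := ih (r + 1) m (by omega)
    rw [← ih']
    set q := Fintype.card F with hq
    have hq1 : 1 ≤ q := Fintype.card_pos
    haveI : Finite (Fin m ⊕ Fin m → F) := inferInstance
    have hc : ∀ w : Fr (plusForm m F) 1 (t + 1),
        Nat.card (Ext (plusForm m F) 1 w.1) = q ^ t * (q ^ (2 * (r + 1)) - 1) := by
      intro w
      have h1 := card_ext_one (plusForm m F) (plusForm_nondegenerate m F) w.1 w.2.2.2 w.2.1
        w.2.2.1
      rw [finrank_plus, ← hq] at h1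
      have he : m + m - (t + 1) = t + 1 + (2 * (r + 1)) := by omega
      rw [he, pow_add] at h1
      have hp1 : 1 ≤ q ^ (2 * (r + 1)) := Nat.one_le_pow _ _ hq1
      apply Nat.eq_of_mul_eq_mul_right (show 0 < q by omega)
      zify [hp1] at h1 ⊢
      have e2 : ((q : ℤ)) ^ (t + 1) = (q : ℤ) ^ t * q := pow_succ _ _
      linear_combination h1 + (1 - (q : ℤ) ^ (2 * (r + 1))) * e2
    rw [card_fr_succ (plusForm m F) 1 (t + 1) _ hc, spOrd_succ, tri_succ]
    have e1 : tri t + (t + 1) + 2 * (t + 1) * r + t = tri t + 2 * t * (r + 1) + (2 * r + 1) := by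
      ring
    have e3 : q ^ (tri t + (t + 1) + 2 * (t + 1) * r) * q ^ t =
        q ^ (tri t + 2 * t * (r + 1)) * q ^ (2 * r + 1) := by
      rw [← pow_add, ← pow_add, e1]
    calc Nat.card (Fr (plusForm m F) 1 (t + 1)) * (q ^ t * (q ^ (2 * (r + 1)) - 1)) *
          (2 * q ^ (tri t + (t + 1) + 2 * (t + 1) * r) * spOrd q r)
        = Nat.card (Fr (plusForm m F) 1 (t + 1)) * (2 * (q ^ (tri t + (t + 1) + 2 * (t + 1) * r)
            * q ^ t) * (q ^ (2 * (r + 1)) - 1) * spOrd q r) := by ring
      _ = Nat.card (Fr (plusForm m F) 1 (t + 1)) * (2 * q ^ (tri t + 2 * t * (r + 1)) *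
            (q ^ (2 * r + 1) * (q ^ (2 * (r + 1)) - 1) * spOrd q r)) := by
          rw [e3]
          ring

end plusA

end Cfsg.Agent.Lib.Helper44.OrthInv
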