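import Cfsg.Agent.Lib.Helper44.OrthInvCountB
import Cfsg.Agent.Lib.Helper44.OrthInvPlusA

set_option autoImplicit false

/-!
The number of totally singular frames in the hyperbolic quadratic space of dimension `2m` over a
finite field of characteristic two, in the form
`|frames of length s| · q^(s(s-1)/2 + 2rs) |O⁺_2r(q)| = |O⁺_2m(q)|`, `m = s + r`.
-/

namespace Cfsg.Agent.Lib.Helper44.OrthInv

open Module QuadraticMap Cfsg.Agent.Lib.Helper8 Cfsg.Agent.Lib.Helper43

/-- the order of `O⁺_2r(q)` (one for `r = 0`) -/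
def oplusOrd (q : ℕ) : ℕ → ℕ
  | 0 => 1
  | r + 1 => 2 * q ^ ((r + 1) * r) * (q ^ (r + 1) - 1) *
      ∏ i ∈ Finset.range r, (q ^ (2 * (i + 1)) - 1)

theorem oplusOrd_zero (q : ℕ) : oplusOrd q 0 = 1 := rfl

theorem oplusOrd_succ' (q r : ℕ) : oplusOrd q (r + 1) =
    2 * q ^ ((r + 1) * r) * (q ^ (r + 1) - 1) * ∏ i ∈ Finset.range r, (q ^ (2 * (i + 1)) - 1) :=
  rfl

theorem oplusOrd_succ (q : ℕ) (hq : 1 ≤ q) (r : ℕ) :
    oplusOrd q (r + 1) = q ^ (2 * r) * (q ^ (r + 1) - 1) * (q ^ r + 1) * oplusOrd q r := by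
  cases r with
  | zero =>
    rw [oplusOrd_succ', oplusOrd_zero]
    simp
    ring
  | succ r =>
    rw [oplusOrd_succ', oplusOrd_succ', Finset.prod_range_succ]
    have h1 : q ^ (2 * (r + 1)) - 1 = (q ^ (r + 1) - 1) * (q ^ (r + 1) + 1) := by
      have : q ^ (2 * (r + 1)) = (q ^ (r + 1)) ^ 2 := by rw [← pow_mul, mul_comm]
      rw [this]
      exact sq_sub_one_nat _ (Nat.one_le_pow _ _ hq)
    have h2 : (r + 1 + 1) * (r + 1) = 2 * (r + 1) + (r + 1) * r := by ring
    rw [h1, h2, pow_add]
    ring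

/-- `s (s - 1) / 2` -/
def pretri : ℕ → ℕ
  | 0 => 0
  | s + 1 => pretri s + s

theorem pretri_zero : pretri 0 = 0 := rfl

theorem pretri_succ (s : ℕ) : pretri (s + 1) = pretri s + s := rfl

theorem two_mul_pretri (s : ℕ) : 2 * pretri s + s = s * s := by
  induction s with
  | zero => rfl
  | succ s ih =>
    rw [pretri_succ]
    nlinarith

section plusB

universe u

variable {F : Type u} [Field F] [Fintype F] [CharP F 2]

/-- the number of extensions of a totally singular frame -/
theorem card_ext_zero (m k r : ℕ) (hm : m = k + r) (w : Fin k → (Fin m ⊕ Fin m → F))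
    (hw : LinearIndependent F w) (hq : ∀ a, plusForm m F (w a) = 0)
    (ho : ∀ a b, polar (plusForm m F) (w a) (w b) = 0) :
    Nat.card (Ext (plusForm m F) 0 w) + Fintype.card F ^ k =
      Fintype.card F ^ k * ZZ (Fintype.card F) 0 1 r := by
  haveI : Finite (Fin m ⊕ Fin m → F) := inferInstance
  obtain ⟨-, h1⟩ := card_sing_perp k (Fin m ⊕ Fin m → F) (plusForm m F)
    (plusForm_nondegenerate m F) m (by rw [finrank_plus]; ring) (card_zeros_plus m) w hw hq ho
  have hr : m - k = r := by omega
  rw [hr] at h1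
  rw [← h1, card_subtype_split (fun v : Fin m ⊕ Fin m → F => plusForm m F v = 0 ∧
    ∀ a, polar (plusForm m F) (w a) v = 0) (fun v => v ∈ Submodule.span F (Set.range w))]
  have hB : Nat.card {v : Fin m ⊕ Fin m → F // (plusForm m F v = 0 ∧
      ∀ a, polar (plusForm m F) (w a) v = 0) ∧ v ∈ Submodule.span F (Set.range w)} =
      Fintype.card F ^ k := by
    have h3 := Module.natCard_eq_pow_finrank (K := F) (V := ↥(Submodule.span F (Set.range w)))
    rw [finrank_span_eq_card hw, Fintype.card_fin, Nat.card_eq_fintype_card (α := F)] at h3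
    rw [← h3]
    apply Nat.card_congr
    apply Equiv.subtypeEquivRight
    intro v
    constructor
    · intro h
      exact h.2
    · intro h
      refine ⟨?_, h⟩
      rw [Submodule.mem_span_range_iff_exists_fun] at h
      obtain ⟨c, rfl⟩ := h
      constructor
      · rw [Cfsg.Agent.Lib.Helper8.quad_sum_orth (plusForm m F) Finset.univ c w ho]
        apply Finset.sum_eq_zero
        intro a _
        rw [hq, mul_zero]
      · intro a
        rw [Cfsg.Agent.Lib.Helper8.polar_sum_smul_right]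
        apply Finset.sum_eq_zero
        intro b _
        rw [ho, mul_zero]
  have hE : Nat.card {v : Fin m ⊕ Fin m → F // (plusForm m F v = 0 ∧
      ∀ a, polar (plusForm m F) (w a) v = 0) ∧ ¬ v ∈ Submodule.span F (Set.range w)} =
      Nat.card (Ext (plusForm m F) 0 w) := by
    apply Nat.card_congr
    apply Equiv.subtypeEquivRight
    intro v
    constructor
    · rintro ⟨⟨h1, h2⟩, h3⟩
      exact ⟨h1, h2, h3⟩
    · rintro ⟨h1, h2, h3⟩
      exact ⟨⟨h1, h2⟩, h3⟩
  rw [hB, hE]
  ring

/-- the number of totally singular frames, against the order of the orthogonal group -/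
theorem card_fr_zero_plus : ∀ (s r m : ℕ), m = s + r → 1 ≤ m →
    Nat.card (Fr (plusForm m F) 0 s) *
        (Fintype.card F ^ (pretri s + 2 * r * s) * oplusOrd (Fintype.card F) r) =
      Nat.card (Cfsg.isometryGroup F (Cfsg.quadFormPlus m F)) := by
  intro s
  induction s with
  | zero =>
    intro r m hm hm1
    obtain ⟨r', hr'⟩ : ∃ r', r = r' + 1 := ⟨r - 1, by omega⟩
    have hm' : m = r' + 1 := by omega
    subst hm'
    subst hr'
    rw [card_fr_zero, card_isometryGroup_plus (F := F) r', oplusOrd_succ', pretri_zero]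
    simp
  | succ s ih =>
    intro r m hm hm1
    have ih' := ih (r + 1) m (by omega) hm1
    rw [← ih']
    set q := Fintype.card F with hq
    have hq1 : 1 ≤ q := Fintype.card_pos
    haveI : Finite (Fin m ⊕ Fin m → F) := inferInstance
    have hc : ∀ w : Fr (plusForm m F) 0 s,
        Nat.card (Ext (plusForm m F) 0 w.1) = q ^ s * ((q ^ (r + 1) - 1) * (q ^ r + 1)) := by
      intro w
      have h1 := card_ext_zero m s (r + 1) (by omega) w.1 w.2.2.2 w.2.1 w.2.2.1
      rw [← hq, ZZ_plus q hq1 r, mul_add, mul_one] at h1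
      exact Nat.add_right_cancel h1
    rw [card_fr_succ (plusForm m F) 0 s _ hc, oplusOrd_succ q hq1 r, pretri_succ]
    have e1 : s + (pretri s + s + 2 * r * (s + 1)) = pretri s + 2 * (r + 1) * s + 2 * r := by ring
    have e3 : q ^ s * q ^ (pretri s + s + 2 * r * (s + 1)) =
        q ^ (pretri s + 2 * (r + 1) * s) * q ^ (2 * r) := by
      rw [← pow_add, ← pow_add, e1]
    calc Nat.card (Fr (plusForm m F) 0 s) * (q ^ s * ((q ^ (r + 1) - 1) * (q ^ r + 1))) *
          (q ^ (pretri s + s + 2 * r * (s + 1)) * oplusOrd q r)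
        = Nat.card (Fr (plusForm m F) 0 s) * ((q ^ s * q ^ (pretri s + s + 2 * r * (s + 1))) *
            ((q ^ (r + 1) - 1) * (q ^ r + 1)) * oplusOrd q r) := by ring
      _ = Nat.card (Fr (plusForm m F) 0 s) * (q ^ (pretri s + 2 * (r + 1) * s) *
            (q ^ (2 * r) * (q ^ (r + 1) - 1) * (q ^ r + 1) * oplusOrd q r)) := by
          rw [e3]
          ring

end plusB

end Cfsg.Agent.Lib.Helper44.OrthInv
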