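import Cfsg.Agent.Lib.Helper44.OrthInvNonalt
import Cfsg.Agent.Lib.Helper44.OrthInvPlusB
import Cfsg.Agent.Lib.Helper5.SympCard

set_option autoImplicit false

/-!
Centralizers of involutions of alternating type in orthogonal groups of characteristic two.
-/

namespace Cfsg.Agent.Lib.Helper44.OrthInv

open Matrix Module QuadraticMap Cfsg.Agent.Lib.Helper8

section alt

universe u

variable {ι : Type} [Fintype ι] [DecidableEq ι] {F : Type u} [Field F] [Fintype F] [CharP F 2]

omit [Fintype ι] [DecidableEq ι] [Fintype F] [CharP F 2] in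
/-- reindexing the frames of shape `swap` -/
theorem card_isFr_swap (Q : QuadraticForm F (ι → F)) (N : ℕ) :
    Nat.card {w : Fin N ⊕ Fin N → ι → F //
      IsFr Q (Sum.swap : Fin N ⊕ Fin N → Fin N ⊕ Fin N) w} = Nat.card (Fr Q 0 (N + N)) := by
  apply Nat.card_congr
  refine Equiv.subtypeEquiv (Equiv.arrowCongr finSumFinEquiv (Equiv.refl (ι → F))) ?_
  intro w
  have hsw : ∀ a : Fin N ⊕ Fin N, Sum.swap a ≠ a := by
    intro a
    cases a <;> simp
  have hval : ∀ b, (Equiv.arrowCongr finSumFinEquiv (Equiv.refl (ι → F))) w b =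
      w (finSumFinEquiv.symm b) := fun b => rfl
  constructor
  · rintro ⟨h1, h2, h3⟩
    refine ⟨fun b => ?_, fun a b => ?_, ?_⟩
    · rw [hval, h1, if_neg (hsw _)]
    · rw [hval, hval]
      exact h2 _ _
    · exact h3.comp _ finSumFinEquiv.symm.injective
  · rintro ⟨h1, h2, h3⟩
    refine ⟨fun a => ?_, fun a b => ?_, ?_⟩
    · rw [if_neg (hsw a)]
      have := h1 (finSumFinEquiv a)
      rw [hval, Equiv.symm_apply_apply] at this
      exact this
    · have := h2 (finSumFinEquiv a) (finSumFinEquiv b)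
      rw [hval, hval, Equiv.symm_apply_apply, Equiv.symm_apply_apply] at this
      exact this
    · have h4 := h3.comp _ finSumFinEquiv.injective
      have h5 : (Equiv.arrowCongr finSumFinEquiv (Equiv.refl (ι → F))) w ∘ finSumFinEquiv = w := by
        funext a
        show w (finSumFinEquiv.symm (finSumFinEquiv a)) = w a
        rw [Equiv.symm_apply_apply]
      rw [h5] at h4
      exact h4

/-- the centralizer of an involution of alternating type, counted against the frames -/
theorem card_centralizer_alt' (Q : QuadraticForm F (ι → F))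
    (hQ : (QuadraticMap.polarBilin Q).Nondegenerate)
    (x : ↥(Cfsg.isometryGroup F ⇑Q)) (hx : x * x = 1) (s : ℕ) (hs : (gm Q x - 1).rank = s)
    (halt : ∀ v, Q ((gm Q x - 1) *ᵥ v) = 0) :
    ∃ N, s = N + N ∧
      Nat.card (Subgroup.centralizer ({x} : Set ↥(Cfsg.isometryGroup F ⇑Q))) *
          Nat.card (Fr Q 0 s) =
        Nat.card ↥(Cfsg.isometryGroup F ⇑Q) * spOrd (Fintype.card F) N ∧
      ∃ w : Fin N ⊕ Fin N → ι → F, IsFr Q (Sum.swap : Fin N ⊕ Fin N → Fin N ⊕ Fin N) w ∧
        Describes Q (Sum.swap : Fin N ⊕ Fin N → Fin N ⊕ Fin N) w (gm Q x) := by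
  classical
  have h2 : (2 : F) = 0 := two_eq_zero_of_charP
  have ht := isInvIso_of_sq Q x hx
  obtain ⟨N, w, hw⟩ := exists_frame_alt h2 hQ ht
    (fun z => by rw [nilPart_toLin']; exact halt z)
  have hs' : s = N + N := by
    have h1 := hw.finrank_range
    rw [Cfsg.Agent.Lib.Helper44.OrthInv.finrank_range_nilPart, hs, Fintype.card_sum,
      Fintype.card_fin] at h1
    exact h1
  have hfr : IsFr Q (Sum.swap : Fin N ⊕ Fin N → Fin N ⊕ Fin N) w := ⟨hw.quad, hw.orth, hw.indep⟩
  have hdesc : Describes Q (Sum.swap : Fin N ⊕ Fin N → Fin N ⊕ Fin N) w (gm Q x) := by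
    intro z
    have h1 := hw.formula z
    rw [nilPart_toLin', sub_mulVec, one_mulVec] at h1
    rw [← h1]
    abel
  refine ⟨N, hs', ?_, w, hfr, hdesc⟩
  have hsw : ∀ a : Fin N ⊕ Fin N, Sum.swap a ≠ a := by
    intro a
    cases a <;> simp
  have hq0 : ∀ a, Q (w a) = 0 := fun a => by
    rw [hfr.1 a]
    exact if_neg (hsw a)
  have hT1 := card_centralizer_mul_card_frames hQ
    (Sum.swap : Fin N ⊕ Fin N → Fin N ⊕ Fin N) x w hfr hdesc
  have hquad : ∀ P : Matrix (Fin N ⊕ Fin N) (Fin N ⊕ Fin N) F,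
      P * permMat F (Sum.swap : Fin N ⊕ Fin N → Fin N ⊕ Fin N) * Pᵀ =
        permMat F (Sum.swap : Fin N ⊕ Fin N → Fin N ⊕ Fin N) →
      ∀ k, ∑ l, P l k * P l k * Q (w l) = Q (w k) := by
    intro P _ k
    rw [hq0 k]
    apply Finset.sum_eq_zero
    intro l _
    rw [hq0 l, mul_zero]
  have hT3 := card_describing_frames hQ (Sum.swap : Fin N ⊕ Fin N → Fin N ⊕ Fin N)
    Sum.swap_swap (gm Q x) w hfr hdesc hquad
  have hP : Nat.card {P : Matrix (Fin N ⊕ Fin N) (Fin N ⊕ Fin N) F //
      P * permMat F (Sum.swap : Fin N ⊕ Fin N → Fin N ⊕ Fin N) * Pᵀ =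
        permMat F (Sum.swap : Fin N ⊕ Fin N → Fin N ⊕ Fin N)} =
      spOrd (Fintype.card F) N := by
    unfold spOrd
    rw [← Cfsg.Agent.Lib.Helper5.card_symplecticGroup_fin (F := F) N]
    apply Nat.card_congr
    apply Equiv.subtypeEquivRight
    intro P
    rw [permMat_swap, SymplecticGroup.mem_iff]
  rw [hT3, hP, card_isFr_swap, ← hs'] at hT1
  exact hT1

end alt

end Cfsg.Agent.Lib.Helper44.OrthInv
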