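import Cfsg.Agent.Lib.Helper44.OrthCharTwo
import Cfsg.Agent.Lib.Helper8.InvolCount

set_option autoImplicit false

/-!
Counting frames in a quadratic space over a finite field of characteristic two: the recursion
`|frames of length k+1| = |frames of length k| · |extensions|`, and the number of extensions of a
frame of vectors of norm one.
-/

namespace Cfsg.Agent.Lib.Helper44.OrthInv

open Module QuadraticMap

universe u v

section countA

variable {F : Type u} [Field F] [Fintype F] [CharP F 2] {V : Type v} [AddCommGroup V]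
  [Module F V] [FiniteDimensional F V]
variable (Q : QuadraticForm F V)

/-- frames of norm `ε` of length `k` -/
abbrev Fr (ε : F) (k : ℕ) : Type v :=
  {w : Fin k → V // (∀ a, Q (w a) = ε) ∧ (∀ a b, polar Q (w a) (w b) = 0) ∧
    LinearIndependent F w}

/-- the extensions of a family by one more vector -/
abbrev Ext (ε : F) {k : ℕ} (w : Fin k → V) : Type v :=
  {v : V // Q v = ε ∧ (∀ a, polar Q (w a) v = 0) ∧ v ∉ Submodule.span F (Set.range w)}

omit [Fintype F] [FiniteDimensional F V] in
theorem polar_self_char_two (v : V) : polar Q v v = 0 := by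
  rw [QuadraticMap.polar_self]
  have h2 : (2 : F) = 0 := two_eq_zero_of_charP
  rw [show (2 : ℕ) • Q v = (2 : F) * Q v by rw [nsmul_eq_mul]; norm_cast, h2, zero_mul]

omit [Fintype F] [FiniteDimensional F V] in
/-- the frames with a given tail are the extensions of the tail -/
theorem card_fr_fiber (ε : F) (k : ℕ) (w : Fr Q ε k) :
    Nat.card {w' : Fr Q ε (k + 1) // Fin.tail w'.1 = w.1} = Nat.card (Ext Q ε w.1) := by
  apply Nat.card_congr
  refine
    { toFun := fun w' => ⟨w'.1.1 0, w'.1.2.1 0, ?_, ?_⟩
      invFun := fun v => ⟨⟨Fin.cons v.1 w.1, ?_, ?_, ?_⟩, ?_⟩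
      left_inv := ?_
      right_inv := ?_ }
  · intro a
    have h := w'.1.2.2.1 a.succ 0
    have ht : w'.1.1 a.succ = w.1 a := congrFun w'.2 a
    rw [ht] at h
    exact h
  · have h := w'.1.2.2.2
    rw [← Fin.cons_self_tail w'.1.1, linearIndependent_finCons, w'.2] at h
    exact h.2
  · intro a
    refine Fin.cases ?_ (fun a' => ?_) a
    · rw [Fin.cons_zero]
      exact v.2.1
    · rw [Fin.cons_succ]
      exact w.2.1 a'
  · intro a b
    refine Fin.cases ?_ (fun a' => ?_) a <;> refine Fin.cases ?_ (fun b' => ?_) b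
    · rw [Fin.cons_zero]
      exact polar_self_char_two Q _
    · rw [Fin.cons_zero, Fin.cons_succ, polar_comm]
      exact v.2.2.1 b'
    · rw [Fin.cons_zero, Fin.cons_succ]
      exact v.2.2.1 a'
    · rw [Fin.cons_succ, Fin.cons_succ]
      exact w.2.2.1 a' b'
  · rw [linearIndependent_finCons]
    exact ⟨w.2.2.2, v.2.2.2⟩
  · funext a
    rfl
  · intro w'
    apply Subtype.ext
    apply Subtype.ext
    show Fin.cons (w'.1.1 0) w.1 = w'.1.1
    funext a
    refine Fin.cases ?_ (fun a' => ?_) a
    · rfl
    · rw [Fin.cons_succ]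
      exact (congrFun w'.2 a').symm
  · intro v
    apply Subtype.ext
    rfl

omit [FiniteDimensional F V] in
/-- the recursion for the number of frames -/
theorem card_fr_succ [Finite V] (ε : F) (k c : ℕ) (hc : ∀ w : Fr Q ε k, Nat.card (Ext Q ε w.1) = c) :
    Nat.card (Fr Q ε (k + 1)) = Nat.card (Fr Q ε k) * c := by
  classical
  have hfin1 : Finite (Fr Q ε k) := inferInstance
  have hfin2 : Finite (Fr Q ε (k + 1)) := inferInstance
  have : Fintype (Fr Q ε k) := Fintype.ofFinite _
  have e := Equiv.sigmaFiberEquiv (fun w' : Fr Q ε (k + 1) => (⟨Fin.tail w'.1,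
    fun a => w'.2.1 a.succ, fun a b => w'.2.2.1 a.succ b.succ, by
      have h := w'.2.2.2
      rw [← Fin.cons_self_tail w'.1, linearIndependent_finCons] at h
      exact h.1⟩ : Fr Q ε k))
  rw [← Nat.card_congr e, Nat.card_sigma]
  have hfib : ∀ w : Fr Q ε k, Nat.card {w' : Fr Q ε (k + 1) // (⟨Fin.tail w'.1,
    fun a => w'.2.1 a.succ, fun a b => w'.2.2.1 a.succ b.succ, by
      have h := w'.2.2.2
      rw [← Fin.cons_self_tail w'.1, linearIndependent_finCons] at h
      exact h.1⟩ : Fr Q ε k) = w} = c := by
    intro w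
    rw [← hc w, ← card_fr_fiber Q ε k w]
    apply Nat.card_congr
    apply Equiv.subtypeEquivRight
    intro w'
    constructor
    · intro h
      exact congrArg Subtype.val h
    · intro h
      exact Subtype.ext h
  simp only [hfib]
  rw [Finset.sum_const, smul_eq_mul, Finset.card_univ, Nat.card_eq_fintype_card]

omit [FiniteDimensional F V] in
theorem card_fr_zero (ε : F) : Nat.card (Fr Q ε 0) = 1 := by
  have : Unique (Fr Q ε 0) :=
    { default := ⟨Fin.elim0, fun a => a.elim0, fun a => a.elim0, linearIndependent_empty_type⟩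
      uniq := fun e => Subtype.ext (funext fun i => i.elim0) }
  exact Nat.card_unique

/-- the orthogonal complement of a linearly independent family has the expected size -/
theorem card_perp_family (hQ : (QuadraticMap.polarBilin Q).Nondegenerate) {k : ℕ}
    (w : Fin k → V) (hw : LinearIndependent F w) :
    Nat.card {v : V // ∀ a, polar Q (w a) v = 0} = Fintype.card F ^ (finrank F V - k) := by
  have h1 := LinearMap.BilinForm.finrank_orthogonal hQ (Submodule.span F (Set.range w))
  rw [finrank_span_eq_card hw, Fintype.card_fin] at h1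
  have h2 := Module.natCard_eq_pow_finrank (K := F)
    (V := ↥(LinearMap.BilinForm.orthogonal (QuadraticMap.polarBilin Q)
      (Submodule.span F (Set.range w))))
  rw [h1, Nat.card_eq_fintype_card (α := F)] at h2
  rw [← h2]
  apply Nat.card_congr
  apply Equiv.subtypeEquivRight
  intro v
  rw [LinearMap.BilinForm.mem_orthogonal_iff]
  constructor
  · intro h n hn
    induction hn using Submodule.span_induction with
    | mem x hx =>
      obtain ⟨a, rfl⟩ := hx
      exact h a
    | zero => exact polar_zero_left Q v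
    | add x y _ _ hx hy =>
      show polar Q (x + y) v = 0
      rw [polar_add_left]
      have hx' : polar Q x v = 0 := hx
      have hy' : polar Q y v = 0 := hy
      rw [hx', hy', add_zero]
    | smul c x _ hx =>
      show polar Q (c • x) v = 0
      rw [polar_smul_left]
      have hx' : polar Q x v = 0 := hx
      rw [hx', smul_zero]
  · intro h a
    exact h (w a) (Submodule.subset_span ⟨a, rfl⟩)

/-- square roots in a finite field of characteristic two -/
noncomputable def sqf (a : F) : F := Classical.choose (exists_sq_char_two a)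

theorem sqf_mul_self (a : F) : sqf a * sqf a = a := Classical.choose_spec (exists_sq_char_two a)

omit [Fintype F] in
theorem eq_of_mul_self_eq (c d : F) (h : c * c = d * d) : c = d := by
  have h2 : (2 : F) = 0 := two_eq_zero_of_charP
  have h1 : (c - d) * (c - d) = 0 := by
    linear_combination h - (c * d) * h2 + (d * d) * h2
  have := mul_self_eq_zero.1 h1
  exact sub_eq_zero.1 this

theorem sqf_mul_self' (c : F) : sqf (c * c) = c := eq_of_mul_self_eq _ _ (sqf_mul_self _)

omit [Fintype F] [FiniteDimensional F V] in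
theorem quad_add_smul (v w₀ : V) (c : F) (h0 : polar Q w₀ v = 0) :
    Q (v + c • w₀) = Q v + c * c * Q w₀ := by
  rw [QuadraticMap.map_add Q v (c • w₀), QuadraticMap.map_smul, polar_smul_right, polar_comm, h0, smul_zero,
    add_zero, smul_eq_mul]

omit [Fintype F] [FiniteDimensional F V] in
theorem smul_add_smul_self (c : F) (w₀ : V) : c • w₀ + c • w₀ = 0 := by
  rw [← add_smul, add_self_char_two, zero_smul]

/-- the vectors of norm one orthogonal to a family containing a vector of norm one -/
theorem card_norm_one_perp (hQ : (QuadraticMap.polarBilin Q).Nondegenerate) {k : ℕ}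
    (w : Fin (k + 1) → V) (hw : LinearIndependent F w) (hq : Q (w 0) = 1)
    (ho : ∀ a, polar Q (w a) (w 0) = 0) :
    Nat.card {v : V // Q v = 1 ∧ ∀ a, polar Q (w a) v = 0} * Fintype.card F =
      Fintype.card F ^ (finrank F V - (k + 1)) := by
  rw [← card_perp_family Q hQ w hw, ← Nat.card_eq_fintype_card (α := F), ← Nat.card_prod]
  apply Nat.card_congr
  refine
    { toFun := fun p => ⟨p.1.1 + p.2 • w 0, fun a => ?_⟩
      invFun := fun u => (⟨u.1 + sqf (1 + Q u.1) • w 0, ?_, fun a => ?_⟩, sqf (1 + Q u.1))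
      left_inv := ?_
      right_inv := ?_ }
  · rw [polar_add_right, polar_smul_right, p.1.2.2 a, ho a, smul_zero, add_zero]
  · rw [quad_add_smul Q _ _ _ (u.2 0), hq, mul_one, sqf_mul_self, ← add_assoc, add_comm (Q u.1),
      add_assoc, add_self_char_two, add_zero]
  · rw [polar_add_right, polar_smul_right, u.2 a, ho a, smul_zero, add_zero]
  · rintro ⟨⟨v, hv1, hvp⟩, c⟩
    have hQv : Q (v + c • w 0) = 1 + c * c := by
      rw [quad_add_smul Q _ _ _ (hvp 0), hq, mul_one, hv1]
    have hs : sqf (1 + Q (v + c • w 0)) = c := by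
      rw [hQv, ← add_assoc, add_self_char_two, zero_add]
      exact sqf_mul_self' c
    apply Prod.ext
    · apply Subtype.ext
      show v + c • w 0 + sqf (1 + Q (v + c • w 0)) • w 0 = v
      rw [hs, add_assoc, smul_add_smul_self, add_zero]
    · exact hs
  · rintro ⟨u, hu⟩
    apply Subtype.ext
    show u + sqf (1 + Q u) • w 0 + sqf (1 + Q u) • w 0 = u
    rw [add_assoc, smul_add_smul_self, add_zero]

omit [FiniteDimensional F V] in
/-- the vectors of norm one in the span of a frame of vectors of norm one -/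
theorem card_norm_one_span {k : ℕ} (w : Fin (k + 1) → V) (hw : LinearIndependent F w)
    (hq : ∀ a, Q (w a) = 1) (ho : ∀ a b, polar Q (w a) (w b) = 0) :
    Nat.card {v : V // Q v = 1 ∧ v ∈ Submodule.span F (Set.range w)} = Fintype.card F ^ k := by
  haveI : Fact (Nat.Prime 2) := ⟨Nat.prime_two⟩
  have hQc : ∀ c : Fin (k + 1) → F, Q (∑ a, c a • w a) = (∑ a, c a) ^ 2 := by
    intro c
    rw [Cfsg.Agent.Lib.Helper8.quad_sum_orth Q Finset.univ c w ho, sum_pow_char 2]
    refine Finset.sum_congr rfl fun a _ => ?_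
    rw [hq, mul_one, pow_two]
  rw [← card_sum_eq_one k]
  symm
  apply Nat.card_congr
  refine Equiv.ofBijective (fun c => (⟨∑ a, c.1 a • w a, ?_, ?_⟩ :
    {v : V // Q v = 1 ∧ v ∈ Submodule.span F (Set.range w)})) ⟨?_, ?_⟩
  · rw [hQc, c.2, one_pow]
  · rw [Submodule.mem_span_range_iff_exists_fun]
    exact ⟨c.1, rfl⟩
  · rintro ⟨c, hc⟩ ⟨c', hc'⟩ h
    have h1 : ∑ a, c a • w a = ∑ a, c' a • w a := congrArg Subtype.val h
    have h0 : ∑ a, (c a - c' a) • w a = 0 := by
      simp only [sub_smul, Finset.sum_sub_distrib]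
      exact sub_eq_zero.2 h1
    have := Fintype.linearIndependent_iff.1 hw (fun a => c a - c' a) h0
    apply Subtype.ext
    funext a
    exact sub_eq_zero.1 (this a)
  · rintro ⟨v, hv1, hvs⟩
    rw [Submodule.mem_span_range_iff_exists_fun] at hvs
    obtain ⟨c, hc⟩ := hvs
    have h1 : (∑ a, c a) ^ 2 = 1 := by rw [← hQc, hc, hv1]
    exact ⟨⟨c, (sq_eq_one_char_two _).1 h1⟩, Subtype.ext hc⟩

theorem card_subtype_split {α : Type*} [Finite α] (P S : α → Prop) :
    Nat.card {x // P x} = Nat.card {x // P x ∧ S x} + Nat.card {x // P x ∧ ¬ S x} := by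
  classical
  rw [← Nat.card_sum]
  apply Nat.card_congr
  exact ((Equiv.sumCompl (fun y : {x // P x} => S y.1)).symm.trans
    (Equiv.sumCongr (Equiv.subtypeSubtypeEquivSubtypeInter P S)
      (Equiv.subtypeSubtypeEquivSubtypeInter P (fun x => ¬ S x))))

/-- the number of extensions of a frame of vectors of norm one -/
theorem card_ext_one (hQ : (QuadraticMap.polarBilin Q).Nondegenerate) {k : ℕ}
    (w : Fin (k + 1) → V) (hw : LinearIndependent F w)
    (hq : ∀ a, Q (w a) = 1) (ho : ∀ a b, polar Q (w a) (w b) = 0) :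
    Nat.card (Ext Q 1 w) * Fintype.card F + Fintype.card F ^ (k + 1) =
      Fintype.card F ^ (finrank F V - (k + 1)) := by
  haveI : Finite V := Module.finite_of_finite F
  rw [← card_norm_one_perp Q hQ w hw (hq 0) (fun a => ho a 0),
    card_subtype_split (fun v : V => Q v = 1 ∧ ∀ a, polar Q (w a) v = 0)
      (fun v => v ∈ Submodule.span F (Set.range w))]
  have hB : Nat.card {v : V // (Q v = 1 ∧ ∀ a, polar Q (w a) v = 0) ∧
      v ∈ Submodule.span F (Set.range w)} = Fintype.card F ^ k := by
    rw [← card_norm_one_span Q w hw hq ho]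
    apply Nat.card_congr
    apply Equiv.subtypeEquivRight
    intro v
    constructor
    · rintro ⟨⟨h1, -⟩, h3⟩
      exact ⟨h1, h3⟩
    · rintro ⟨h1, h3⟩
      refine ⟨⟨h1, fun a => ?_⟩, h3⟩
      rw [Submodule.mem_span_range_iff_exists_fun] at h3
      obtain ⟨c, rfl⟩ := h3
      rw [Cfsg.Agent.Lib.Helper8.polar_sum_smul_right]
      apply Finset.sum_eq_zero
      intro b _
      rw [ho, mul_zero]
  have hE : Nat.card {v : V // (Q v = 1 ∧ ∀ a, polar Q (w a) v = 0) ∧
      ¬ v ∈ Submodule.span F (Set.range w)} = Nat.card (Ext Q 1 w) := by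
    apply Nat.card_congr
    apply Equiv.subtypeEquivRight
    intro v
    constructor
    · rintro ⟨⟨h1, h2⟩, h3⟩
      exact ⟨h1, h2, h3⟩
    · rintro ⟨h1, h2, h3⟩
      exact ⟨⟨h1, h2⟩, h3⟩
  rw [hB, hE, pow_succ]
  ring

/-- the vectors of norm one and the singular vectors -/
theorem card_norm_one_add_zeros :
    (Fintype.card F - 1) * Nat.card {v : V // Q v = 1} + Nat.card {v : V // Q v = 0} =
      Fintype.card F ^ finrank F V := by
  classical
  haveI : Finite V := Module.finite_of_finite F
  have hV := Module.natCard_eq_pow_finrank (K := F) (V := V)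
  rw [Nat.card_eq_fintype_card (α := F)] at hV
  rw [← hV, ← Nat.card_congr (Equiv.sigmaFiberEquiv (fun v : V => Q v)), Nat.card_sigma]
  have hfib : ∀ c : F, c ≠ 0 → Nat.card {v : V // Q v = c} = Nat.card {v : V // Q v = 1} := by
    intro c hc
    have hs0 : sqf c ≠ 0 := by
      intro h0
      apply hc
      rw [← sqf_mul_self c, h0, mul_zero]
    apply Nat.card_congr
    refine
      { toFun := fun v => ⟨(sqf c)⁻¹ • v.1, ?_⟩
        invFun := fun u => ⟨sqf c • u.1, ?_⟩
        left_inv := ?_
        right_inv := ?_ }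
    · rw [QuadraticMap.map_smul, v.2, smul_eq_mul]
      nth_rewrite 3 [← sqf_mul_self c]
      field_simp
    · rw [QuadraticMap.map_smul, u.2, smul_eq_mul, mul_one, sqf_mul_self]
    · intro v
      apply Subtype.ext
      show sqf c • (sqf c)⁻¹ • v.1 = v.1
      rw [smul_smul, mul_inv_cancel₀ hs0, one_smul]
    · intro u
      apply Subtype.ext
      show (sqf c)⁻¹ • sqf c • u.1 = u.1
      rw [smul_smul, inv_mul_cancel₀ hs0, one_smul]
  rw [← Finset.add_sum_erase Finset.univ _ (Finset.mem_univ (0 : F))]
  rw [Finset.sum_congr rfl (fun c hc => hfib c (Finset.ne_of_mem_erase hc)), Finset.sum_const,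
    smul_eq_mul, Finset.card_erase_of_mem (Finset.mem_univ _), Finset.card_univ]
  ring

end countA

end Cfsg.Agent.Lib.Helper44.OrthInv
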