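import Cfsg.Agent.Lib.Helper44.OrthInvCountA
import Cfsg.Agent.Lib.Helper43.OrthCardForms

set_option autoImplicit false

/-!
Counting the singular vectors orthogonal to a totally singular frame, by induction along
hyperbolic pairs.
-/

namespace Cfsg.Agent.Lib.Helper44.OrthInv

open Module QuadraticMap Cfsg.Agent.Lib.Helper43

universe u v

section dual

variable {F : Type u} [Field F] {V : Type v} [AddCommGroup V] [Module F V]

/-- a dual family of a linearly independent family, in an abstract quadratic space -/
theorem exists_dual_family' {κ : Type} [Fintype κ] [DecidableEq κ] (Q : QuadraticForm F V)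
    (hQ : (QuadraticMap.polarBilin Q).Nondegenerate) (w : κ → V) (hw : LinearIndependent F w) :
    ∃ d : κ → V, ∀ a b, polar Q (d a) (w b) = if a = b then 1 else 0 := by
  classical
  let L : V →ₗ[F] (κ → F) :=
    LinearMap.pi (fun b => (QuadraticMap.polarBilin Q).flip (w b))
  have hL : ∀ v b, L v b = polar Q v (w b) := fun v b => rfl
  have hsurj : LinearMap.range L = ⊤ := by
    by_contra hne
    obtain ⟨f, hf0, hfle⟩ := (LinearMap.range L).exists_le_ker_of_lt_top (lt_top_iff_ne_top.2 hne)
    apply hf0
    set c : κ → F := fun b => f (fun j => if b = j then 1 else 0) with hc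
    have hfx : ∀ x : κ → F, f x = ∑ b, x b * c b := by
      intro x
      rw [LinearMap.pi_apply_eq_sum_univ f x]
      rfl
    have hzero : ∑ b, c b • w b = 0 := by
      apply hQ.2
      intro v
      have h1 : f (L v) = 0 := hfle ⟨v, rfl⟩
      rw [hfx] at h1
      show polar Q v (∑ b, c b • w b) = 0
      rw [Cfsg.Agent.Lib.Helper8.polar_sum_smul_right]
      rw [← h1]
      refine Finset.sum_congr rfl fun b _ => ?_
      rw [hL, mul_comm]
    have hc0 := Fintype.linearIndependent_iff.1 hw c hzero
    refine LinearMap.ext fun x => ?_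
    rw [hfx, LinearMap.zero_apply]
    apply Finset.sum_eq_zero
    intro b _
    rw [hc0 b, mul_zero]
  have hs : Function.Surjective L := LinearMap.range_eq_top.1 hsurj
  choose d hd using fun a : κ => hs (Pi.single a 1)
  refine ⟨d, fun a b => ?_⟩
  rw [← hL, hd, Pi.single_apply]
  by_cases h : a = b
  · rw [if_pos h, if_pos h.symm]
  · rw [if_neg h, if_neg (Ne.symm h)]

end dual

section countB

variable {F : Type u} [Field F] [Fintype F] [CharP F 2]

/-- the singular vectors orthogonal to a totally singular frame -/
theorem card_sing_perp : ∀ (k : ℕ) (V : Type v) [AddCommGroup V] [Module F V]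
    [FiniteDimensional F V] (Q : QuadraticForm F V)
    (_ : (QuadraticMap.polarBilin Q).Nondegenerate) (n : ℕ) (_ : finrank F V = 2 * n)
    (_ : Nat.card {v : V // Q v = 0} = ZZ (Fintype.card F) 0 1 n)
    (w : Fin k → V) (_ : LinearIndependent F w) (_ : ∀ a, Q (w a) = 0)
    (_ : ∀ a b, polar Q (w a) (w b) = 0),
    k ≤ n ∧ Nat.card {v : V // Q v = 0 ∧ ∀ a, polar Q (w a) v = 0} =
      Fintype.card F ^ k * ZZ (Fintype.card F) 0 1 (n - k) := by
  intro k
  induction k with
  | zero =>
    intro V _ _ _ Q hQ n hfin hZ w hw hq ho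
    refine ⟨Nat.zero_le _, ?_⟩
    rw [pow_zero, one_mul, Nat.sub_zero, ← hZ]
    apply Nat.card_congr
    apply Equiv.subtypeEquivRight
    intro v
    constructor
    · intro h
      exact h.1
    · intro h
      exact ⟨h, fun a => a.elim0⟩
  | succ k ih =>
    intro V _ _ _ Q hQ n hfin hZ w hw hq ho
    classical
    have h2 : (2 : F) = 0 := two_eq_zero_of_charP
    obtain ⟨d, hd⟩ := exists_dual_family' Q hQ w hw
    set e := w 0 with he
    set z := d 0 with hz
    set f := z + Q z • e with hf
    have hze : polar Q z e = 1 := by rw [he, hz, hd, if_pos rfl]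
    have hQe : Q e = 0 := hq 0
    have hee : polar Q e e = 0 := polar_self_char_two Q e
    have hpair : IsHypPair Q e f := by
      refine ⟨hQe, ?_, ?_⟩
      · rw [hf, QuadraticMap.map_add Q z (Q z • e), QuadraticMap.map_smul, hQe, polar_smul_right,
          hze, smul_eq_mul, smul_eq_mul, mul_zero, add_zero, mul_one, add_self_char_two]
      · rw [hf, polar_add_right, polar_smul_right, hee, smul_zero, add_zero, polar_comm, hze]
    have hwf : ∀ a : Fin k, polar Q (w a.succ) f = 0 := by
      intro a
      rw [hf, polar_add_right, polar_smul_right, ho, smul_zero, add_zero, polar_comm, hz, hd,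
        if_neg (Fin.succ_ne_zero a).symm]
    have hfr := finrank_perp2 Q e f hpair.qe hpair.qf hpair.ef
    have hn1 : 1 ≤ n := by omega
    have hQ' : (polarBilin (Q.comp (perp2 Q e f).subtype)).Nondegenerate :=
      nondegenerate_comp_subtype Q _ (perp2_separating Q hQ e f hpair.qe hpair.qf hpair.ef)
    have hfin' : finrank F (perp2 Q e f) = 2 * (n - 1) := by omega
    have hstep := card_zeros_step Q e f hpair
    have hZ' : Nat.card {v : perp2 Q e f // (Q.comp (perp2 Q e f).subtype) v = 0} =
        ZZ (Fintype.card F) 0 1 (n - 1) := by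
      have h1 : n = (n - 1) + 1 := by omega
      rw [hZ, hfin'] at hstep
      nth_rewrite 1 [h1] at hstep
      rw [ZZ_succ, Nat.add_zero] at hstep
      have h3 := Nat.add_right_cancel hstep
      have hq0 : 0 < Fintype.card F := Fintype.card_pos
      exact (Nat.eq_of_mul_eq_mul_left hq0 h3).symm
    let w' : Fin k → perp2 Q e f := fun a => ⟨w a.succ, by
      rw [mem_perp2]
      refine ⟨ho 0 a.succ, ?_⟩
      rw [polar_comm]
      exact hwf a⟩
    have hw' : LinearIndependent F w' := by
      apply LinearIndependent.of_comp (perp2 Q e f).subtype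
      have : (perp2 Q e f).subtype ∘ w' = Fin.tail w := rfl
      rw [this]
      have h3 := hw
      rw [← Fin.cons_self_tail w, linearIndependent_finCons] at h3
      exact h3.1
    have hpol' : ∀ u v : perp2 Q e f, polar (Q.comp (perp2 Q e f).subtype) u v =
        polar Q (u : V) (v : V) := by
      intro u v
      rfl
    obtain ⟨hkn, hcard⟩ := ih (perp2 Q e f) (Q.comp (perp2 Q e f).subtype) hQ' (n - 1) hfin' hZ'
      w' hw' (fun a => hq a.succ) (fun a b => by rw [hpol']; exact ho a.succ b.succ)
    refine ⟨by omega, ?_⟩
    have hexp : n - 1 - k = n - (k + 1) := by omega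
    suffices key : Nat.card {v : V // Q v = 0 ∧ ∀ a, polar Q (w a) v = 0} =
        Nat.card {v : perp2 Q e f // (Q.comp (perp2 Q e f).subtype) v = 0 ∧
          ∀ a, polar (Q.comp (perp2 Q e f).subtype) (w' a) v = 0} * Nat.card F by
      rw [key, hcard, ← hexp, pow_succ, Nat.card_eq_fintype_card (α := F)]
      ring
    rw [← Nat.card_prod]
    apply Nat.card_congr
    refine
      { toFun := fun v => (⟨hpair.proj v.1, ?_, fun a => ?_⟩, polar Q f v.1)
        invFun := fun p => ⟨p.2 • e + (0 : F) • f + (p.1.1 : V), ?_, fun a => ?_⟩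
        left_inv := ?_
        right_inv := ?_ }
    · have h1 := hpair.q_eq v.1
      have h3 : polar Q e v.1 = 0 := v.2.2 0
      rw [v.2.1, h3, mul_zero, zero_add] at h1
      exact h1.symm
    · rw [hpol']
      show polar Q (w a.succ) (hpair.proj v.1 : V) = 0
      rw [hpair.proj_coe, polar_sub_right, polar_sub_right, polar_smul_right, polar_smul_right,
        v.2.2 a.succ, ho a.succ 0, hwf a]
      simp
    · rw [hpair.q_comb, mul_zero, zero_add]
      exact p.1.2.1
    · refine Fin.cases ?_ (fun a' => ?_) a
      · exact hpair.polar_e_comb _ _ _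
      · rw [polar_add_right, polar_add_right, polar_smul_right, polar_smul_right, ho a'.succ 0,
          hwf a']
        have h3 := p.1.2.2 a'
        rw [hpol'] at h3
        rw [h3]
        simp
    · rintro ⟨v, hv0, hvp⟩
      apply Subtype.ext
      show polar Q f v • e + (0 : F) • f + (hpair.proj v : V) = v
      have h3 : polar Q e v = 0 := hvp 0
      have h4 := hpair.decomp v
      rw [h3] at h4
      exact h4.symm
    · rintro ⟨⟨v', hv'0, hv'p⟩, a⟩
      apply Prod.ext
      · apply Subtype.ext
        exact hpair.proj_comb a 0 v'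
      · exact hpair.polar_f_comb a 0 v'

end countB

end Cfsg.Agent.Lib.Helper44.OrthInv
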