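import Cfsg.Agent.Lib.Helper44.OrthInvFrames

set_option autoImplicit false

/-!
The frames describing a fixed involution are parametrised by the matrices `P` with
`P S Pᵀ = S`, `S` the permutation matrix of the shape `σ`.
-/

namespace Cfsg.Agent.Lib.Helper44.OrthInv

open Matrix Module QuadraticMap

variable {ι : Type} [Fintype ι] [DecidableEq ι] {F : Type*} [Field F]
variable {Q : QuadraticForm F (ι → F)} {κ : Type} [Fintype κ] [DecidableEq κ]

/-- linear combinations of a family -/
def comb (w : κ → ι → F) (c : κ → F) : ι → F := ∑ k, c k • w k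

/-- the family with coordinate matrix `P` with respect to `w` -/
def famOf (w : κ → ι → F) (P : Matrix κ κ F) : κ → ι → F := fun k => ∑ l, P l k • w l

omit [Fintype ι] [DecidableEq ι] [DecidableEq κ] in
theorem comb_famOf (w : κ → ι → F) (P : Matrix κ κ F) (c : κ → F) :
    comb (famOf w P) c = comb w (P *ᵥ c) := by
  unfold comb famOf
  simp only [Finset.smul_sum, smul_smul]
  rw [Finset.sum_comm]
  refine Finset.sum_congr rfl fun l _ => ?_
  rw [← Finset.sum_smul]
  congr 1
  show ∑ k, c k * P l k = ∑ k, P l k * c k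
  exact Finset.sum_congr rfl fun k _ => mul_comm _ _

omit [Fintype ι] [DecidableEq ι] [DecidableEq κ] in
theorem polar_comb (w : κ → ι → F) (c : κ → F) (z : ι → F) :
    polar Q z (comb w c) = ∑ l, c l * polar Q z (w l) := by
  unfold comb
  exact Cfsg.Agent.Lib.Helper8.polar_sum_smul_right Q Finset.univ c w z

omit [Fintype ι] [DecidableEq ι] [DecidableEq κ] in
theorem polar_famOf (w : κ → ι → F) (P : Matrix κ κ F) (z : ι → F) :
    (fun j => polar Q z (famOf w P j)) = Pᵀ *ᵥ (fun l => polar Q z (w l)) := by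
  funext j
  show polar Q z (comb w (fun l => P l j)) = ∑ l, Pᵀ j l * polar Q z (w l)
  rw [polar_comb]
  rfl

omit [Fintype ι] [DecidableEq ι] in
theorem sum_polar_famOf (σ : κ → κ) (hσ : ∀ k, σ (σ k) = k) (w : κ → ι → F) (P : Matrix κ κ F)
    (z : ι → F) :
    ∑ a, polar Q z (famOf w P (σ a)) • famOf w P a =
      comb w ((P * permMat F σ * Pᵀ) *ᵥ (fun l => polar Q z (w l))) := by
  have h1 : ∑ a, polar Q z (famOf w P (σ a)) • famOf w P a =
      comb (famOf w P) (permMat F σ *ᵥ (fun j => polar Q z (famOf w P j))) := by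
    rw [permMat_mulVec σ hσ]
    rfl
  rw [h1, comb_famOf, polar_famOf, mulVec_mulVec, mulVec_mulVec]

omit [Fintype ι] [DecidableEq ι] in
theorem sum_polar_eq_comb (σ : κ → κ) (hσ : ∀ k, σ (σ k) = k) (w : κ → ι → F) (z : ι → F) :
    ∑ a, polar Q z (w (σ a)) • w a = comb w (permMat F σ *ᵥ (fun l => polar Q z (w l))) := by
  rw [permMat_mulVec σ hσ]
  rfl

omit [Fintype ι] [DecidableEq ι] [DecidableEq κ] in
theorem comb_injective (w : κ → ι → F) (hw : LinearIndependent F w) :
    Function.Injective (comb w) := by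
  intro c c' h
  have h0 : ∑ k, (c k - c' k) • w k = 0 := by
    simp only [sub_smul, Finset.sum_sub_distrib]
    exact sub_eq_zero.2 h
  have := Fintype.linearIndependent_iff.1 hw (fun k => c k - c' k) h0
  funext k
  exact sub_eq_zero.1 (this k)

omit [Fintype ι] [DecidableEq ι] in
/-- every coefficient vector is the vector of pairings of some `z` with the family -/
theorem exists_pairing (w d : κ → ι → F)
    (hd : ∀ a b, polar Q (d a) (w b) = if a = b then 1 else 0) (u : κ → F) :
    ∃ z, (fun l => polar Q z (w l)) = u := by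
  refine ⟨comb d u, ?_⟩
  funext l
  rw [polar_comm, polar_comb]
  rw [Finset.sum_eq_single l]
  · rw [polar_comm, hd, if_pos rfl, mul_one]
  · intro b _ hb
    rw [polar_comm, hd, if_neg hb, mul_zero]
  · intro h
    exact absurd (Finset.mem_univ l) h

/-- the frames describing a given matrix, counted -/
theorem card_describing_frames (hQ : (QuadraticMap.polarBilin Q).Nondegenerate) (σ : κ → κ)
    (hσ : ∀ k, σ (σ k) = k) (X : Matrix ι ι F) (w₀ : κ → ι → F) (hw₀ : IsFr Q σ w₀)
    (hx : Describes Q σ w₀ X)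
    (hquad : ∀ P : Matrix κ κ F, P * permMat F σ * Pᵀ = permMat F σ →
      ∀ k, ∑ l, P l k * P l k * Q (w₀ l) = Q (w₀ k)) :
    Nat.card {w : κ → ι → F // IsFr Q σ w ∧ Describes Q σ w X} =
      Nat.card {P : Matrix κ κ F // P * permMat F σ * Pᵀ = permMat F σ} := by
  classical
  obtain ⟨d₀, hd₀⟩ := exists_dual_family hQ w₀ hw₀.2.2
  have hSS : permMat F σ * permMat F σ = 1 := permMat_mul_self σ hσ
  -- the family attached to a matrix
  have hfr : ∀ P : Matrix κ κ F, P * permMat F σ * Pᵀ = permMat F σ →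
      IsFr Q σ (famOf w₀ P) ∧ Describes Q σ (famOf w₀ P) X := by
    intro P hP
    refine ⟨⟨fun k => ?_, fun a b => ?_, ?_⟩, fun z => ?_⟩
    · show Q (∑ l, P l k • w₀ l) = _
      rw [Cfsg.Agent.Lib.Helper8.quad_sum_orth Q Finset.univ (fun l => P l k) w₀ hw₀.2.1,
        hquad P hP k]
      exact hw₀.1 k
    · show polar Q (famOf w₀ P a) (comb w₀ (fun l => P l b)) = 0
      rw [polar_comb]
      apply Finset.sum_eq_zero
      intro l _
      rw [polar_comm]
      show P l b * polar Q (w₀ l) (comb w₀ (fun l' => P l' a)) = 0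
      rw [polar_comb, Finset.sum_eq_zero, mul_zero]
      intro l' _
      rw [hw₀.2.1, mul_zero]
    · rw [Fintype.linearIndependent_iff]
      intro c hc
      have h1 : comb w₀ (P *ᵥ c) = comb w₀ 0 := by
        rw [← comb_famOf]
        show ∑ k, c k • famOf w₀ P k = ∑ k, (0 : κ → F) k • w₀ k
        rw [hc]
        simp
      have h2 : P *ᵥ c = 0 := comb_injective w₀ hw₀.2.2 h1
      have h3 : P * (permMat F σ * Pᵀ * permMat F σ) = 1 := by
        rw [← Matrix.mul_assoc, ← Matrix.mul_assoc, hP, hSS]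
      have h4 : (permMat F σ * Pᵀ * permMat F σ) * P = 1 := mul_eq_one_comm.1 h3
      have h5 : c = (permMat F σ * Pᵀ * permMat F σ) *ᵥ (P *ᵥ c) := by
        rw [mulVec_mulVec, h4, one_mulVec]
      intro k
      rw [h5, h2, mulVec_zero]
      rfl
    · rw [hx z, sum_polar_famOf σ hσ, hP, sum_polar_eq_comb σ hσ]
  symm
  apply Nat.card_congr
  refine Equiv.ofBijective
    (fun P => (⟨famOf w₀ P.1, hfr P.1 P.2⟩ : {w : κ → ι → F // IsFr Q σ w ∧ Describes Q σ w X}))
    ⟨?_, ?_⟩
  · rintro ⟨P, hP⟩ ⟨P', hP'⟩ h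
    have h1 : famOf w₀ P = famOf w₀ P' := congrArg Subtype.val h
    apply Subtype.ext
    ext l k
    have h2 : comb w₀ (fun l => P l k) = comb w₀ (fun l => P' l k) := congrFun h1 k
    exact congrFun (comb_injective w₀ hw₀.2.2 h2) l
  · rintro ⟨w, hw, hwX⟩
    obtain ⟨d, hd⟩ := exists_dual_family hQ w hw.2.2
    have hsame : ∀ z, ∑ a, polar Q z (w (σ a)) • w a = ∑ a, polar Q z (w₀ (σ a)) • w₀ a := by
      intro z
      have h1 := hwX z
      rw [hx z] at h1
      exact (add_left_cancel h1).symm
    set P : Matrix κ κ F := fun a k => polar Q (d (σ k)) (w₀ (σ a)) with hPdef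
    have hwP : w = famOf w₀ P := by
      funext k
      have h1 := hsame (d (σ k))
      rw [Finset.sum_eq_single k] at h1
      · rw [hd, if_pos rfl, one_smul] at h1
        rw [h1]
        rfl
      · intro b _ hb
        rw [hd, if_neg, zero_smul]
        intro hkb
        apply hb
        have := congrArg σ hkb
        rw [hσ, hσ] at this
        exact this.symm
      · intro h
        exact absurd (Finset.mem_univ k) h
    have hP : P * permMat F σ * Pᵀ = permMat F σ := by
      rw [Matrix.ext_iff_mulVec]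
      intro u
      obtain ⟨z, hz⟩ := exists_pairing w₀ d₀ hd₀ u
      apply comb_injective w₀ hw₀.2.2
      rw [← hz, ← sum_polar_famOf σ hσ, ← hwP, hsame z, sum_polar_eq_comb σ hσ]
    exact ⟨⟨P, hP⟩, Subtype.ext hwP.symm⟩

end Cfsg.Agent.Lib.Helper44.OrthInv
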