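import Cfsg.Agent.Lib.Helper44.SympInvolutionCount
import Cfsg.Agent.Lib.Helper13.SpParabolic

set_option autoImplicit false
set_option linter.unusedSectionVars false

/-!
Centralizers of the standard involutions `stdInvMat ι σ` of the symplectic group in characteristic
two: the centralizer acts on the frames of the image of `t - 1`; the orbit of the standard frame
is parametrized by the matrices `P` with `P S Pᵀ = S` and its stabilizer is the pointwise
stabilizer of the first basis vectors.
-/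

namespace Cfsg.Agent.Lib.Helper44

open Matrix Module

section cent

variable {F : Type*} [Field F] {m : ℕ} {κ : Type*} [Fintype κ] [DecidableEq κ]

local notation "ff" => Cfsg.sympForm m F

/-- dual vectors `e_(inr (ι k))` of the standard isotropic vectors -/
def dualVec (F : Type*) [Field F] {m : ℕ} (ι : κ → Fin m) (k : κ) : Fin m ⊕ Fin m → F :=
  Pi.single (Sum.inr (ι k)) 1

theorem dualVec_stdVec (ι : κ → Fin m) (hι : Function.Injective ι) (j k : κ) :
    ff (dualVec F ι j) (stdVec F ι k) = if j = k then 1 else 0 := by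
  unfold dualVec
  rw [sympForm_single_inr_stdVec]
  by_cases h : j = k
  · rw [if_pos h, if_pos (congrArg ι h)]
  · rw [if_neg h, if_neg (fun h' => h (hι h'))]

/-- analysis: pairings with the standard isotropic vectors -/
def phi (ι : κ → Fin m) (x : Fin m ⊕ Fin m → F) : κ → F := fun k => ff x (stdVec F ι k)

/-- synthesis: linear combinations of the standard isotropic vectors -/
def psi (ι : κ → Fin m) (a : κ → F) : Fin m ⊕ Fin m → F := ∑ k, a k • stdVec F ι k

/-- the symmetric permutation matrix of an involution `σ` -/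
def permMat (F : Type*) [Field F] (σ : κ → κ) : Matrix κ κ F := fun j k => if j = σ k then 1 else 0

theorem permMat_mulVec (σ : κ → κ) (hσ : ∀ k, σ (σ k) = k) (a : κ → F) :
    permMat F σ *ᵥ a = fun j => a (σ j) := by
  funext j
  show ∑ k, permMat F σ j k * a k = a (σ j)
  unfold permMat
  rw [Finset.sum_eq_single (σ j)]
  · rw [if_pos (hσ j).symm, one_mul]
  · intro k _ hk
    rw [if_neg, zero_mul]
    intro h
    apply hk
    rw [h, hσ]
  · intro h
    exact absurd (Finset.mem_univ _) h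

theorem permMat_mul_self (σ : κ → κ) (hσ : ∀ k, σ (σ k) = k) :
    permMat F σ * permMat F σ = 1 := by
  rw [Matrix.ext_iff_mulVec]
  intro a
  rw [← mulVec_mulVec, permMat_mulVec σ hσ, permMat_mulVec σ hσ, one_mulVec]
  funext j
  show a (σ (σ j)) = a j
  rw [hσ]

theorem psi_injective (ι : κ → Fin m) (hι : Function.Injective ι) :
    Function.Injective (psi (F := F) ι) := by
  intro a b hab
  have hli := stdVec_linearIndependent (F := F) ι hι
  rw [Fintype.linearIndependent_iff] at hli
  have h1 : ∑ k, (a k - b k) • stdVec F ι k = 0 := by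
    simp only [sub_smul, Finset.sum_sub_distrib]
    exact sub_eq_zero.mpr hab
  funext k
  exact sub_eq_zero.mp (hli _ h1 k)

theorem phi_sum_dualVec (ι : κ → Fin m) (hι : Function.Injective ι) (a : κ → F) :
    phi ι (∑ j, a j • dualVec F ι j) = a := by
  funext k
  unfold phi
  rw [sympForm_sum_smul_left]
  simp only [dualVec_stdVec ι hι, mul_ite, mul_one, mul_zero]
  simp

theorem sympForm_psi_psi (ι : κ → Fin m) (a b : κ → F) : ff (psi ι a) (psi ι b) = 0 := by
  unfold psi
  rw [sympForm_sum_smul_left]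
  apply Finset.sum_eq_zero
  intro k _
  rw [sympForm_sum_smul_right]
  simp only [stdVec_gram, mul_zero, Finset.sum_const_zero]

theorem stdInvMat_mulVec' (ι : κ → Fin m) (σ : κ → κ) (hσ : ∀ k, σ (σ k) = k)
    (x : Fin m ⊕ Fin m → F) :
    stdInvMat F ι σ *ᵥ x = x + psi ι (permMat F σ *ᵥ phi ι x) := by
  rw [stdInvMat_mulVec, permMat_mulVec σ hσ]
  rfl

/-- transport of `psi` and `phi` by a symplectic matrix moving the standard frame to the frame
with coordinate matrix `P` -/
theorem frame_transport (ι : κ → Fin m) (H : Matrix (Fin m ⊕ Fin m) (Fin m ⊕ Fin m) F)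
    (hH : H ∈ Matrix.symplecticGroup (Fin m) F) (P : Matrix κ κ F)
    (hP : ∀ k, H *ᵥ stdVec F ι k = psi ι (Pᵀ k)) :
    (∀ a, H *ᵥ psi ι a = psi ι (P *ᵥ a)) ∧ ∀ x, phi ι x = Pᵀ *ᵥ phi ι (H *ᵥ x) := by
  constructor
  · intro a
    unfold psi
    rw [mulVec_sum]
    simp only [mulVec_smul, hP]
    unfold psi
    simp only [Finset.smul_sum, smul_smul]
    rw [Finset.sum_comm]
    refine Finset.sum_congr rfl fun l _ => ?_
    rw [← Finset.sum_smul]
    congr 1
    show ∑ k, a k * Pᵀ k l = ∑ k, P l k * a k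
    refine Finset.sum_congr rfl fun k _ => ?_
    rw [Matrix.transpose_apply, mul_comm]
  · intro x
    funext k
    show ff x (stdVec F ι k) = _
    rw [← Helper13.preserves_of_mem_symplectic m H hH x (stdVec F ι k), hP]
    unfold psi
    rw [sympForm_sum_smul_right]
    rfl

/-- a symplectic matrix moving the standard frame to a frame with coordinate matrix `P`,
`P S Pᵀ = S`, commutes with the standard involution -/
theorem comm_of_frame (ι : κ → Fin m) (σ : κ → κ) (hσ : ∀ k, σ (σ k) = k)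
    (H : Matrix (Fin m ⊕ Fin m) (Fin m ⊕ Fin m) F)
    (hH : H ∈ Matrix.symplecticGroup (Fin m) F) (P : Matrix κ κ F)
    (hP : ∀ k, H *ᵥ stdVec F ι k = psi ι (Pᵀ k))
    (hPS : P * permMat F σ * Pᵀ = permMat F σ) :
    H * stdInvMat F ι σ = stdInvMat F ι σ * H := by
  obtain ⟨h1, h2⟩ := frame_transport ι H hH P hP
  rw [Matrix.ext_iff_mulVec]
  intro x
  rw [← mulVec_mulVec, ← mulVec_mulVec, stdInvMat_mulVec' ι σ hσ, stdInvMat_mulVec' ι σ hσ,
    mulVec_add, h1, h2 x, mulVec_mulVec, mulVec_mulVec, hPS]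

/-- a symplectic matrix commuting with the standard involution moves the standard frame to a
frame with coordinate matrix `P`, `P S Pᵀ = S` -/
theorem frame_of_comm (ι : κ → Fin m) (hι : Function.Injective ι) (σ : κ → κ)
    (hσ : ∀ k, σ (σ k) = k) (h : Matrix.symplecticGroup (Fin m) F)
    (hcomm : (h : Matrix (Fin m ⊕ Fin m) (Fin m ⊕ Fin m) F) * stdInvMat F ι σ =
      stdInvMat F ι σ * (h : Matrix (Fin m ⊕ Fin m) (Fin m ⊕ Fin m) F)) :
    ∃ P : Matrix κ κ F, P * permMat F σ * Pᵀ = permMat F σ ∧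
      ∀ k, (h : Matrix (Fin m ⊕ Fin m) (Fin m ⊕ Fin m) F) *ᵥ stdVec F ι k = psi ι (Pᵀ k) := by
  set H := (h : Matrix (Fin m ⊕ Fin m) (Fin m ⊕ Fin m) F) with hHdef
  have hcx : ∀ x, H *ᵥ psi ι (permMat F σ *ᵥ phi ι x) =
      psi ι (permMat F σ *ᵥ phi ι (H *ᵥ x)) := by
    intro x
    have h1 := congrArg (fun M => M *ᵥ x) hcomm
    simp only [← mulVec_mulVec, stdInvMat_mulVec' ι σ hσ, mulVec_add] at h1
    exact add_left_cancel h1
  have hphid : ∀ a, phi ι (dualVec F ι a) = Pi.single a 1 := by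
    intro a
    funext k
    show ff (dualVec F ι a) (stdVec F ι k) = _
    rw [dualVec_stdVec ι hι, Pi.single_apply]
    by_cases hak : a = k
    · rw [if_pos hak, if_pos hak.symm]
    · rw [if_neg hak, if_neg (Ne.symm hak)]
  have hc : ∀ j, stdVec F ι j = psi ι (permMat F σ *ᵥ phi ι (dualVec F ι (σ j))) := by
    intro j
    rw [hphid, permMat_mulVec σ hσ]
    unfold psi
    rw [Finset.sum_eq_single j]
    · show stdVec F ι j = (Pi.single (σ j) (1 : F) : κ → F) (σ j) • stdVec F ι j
      rw [Pi.single_eq_same, one_smul]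
    · intro k _ hk
      show (Pi.single (σ j) (1 : F) : κ → F) (σ k) • stdVec F ι k = 0
      rw [Pi.single_apply, if_neg, zero_smul]
      intro h'
      apply hk
      rw [← hσ k, h', hσ]
    · intro h'
      exact absurd (Finset.mem_univ _) h'
  set P : Matrix κ κ F := fun l j => (permMat F σ *ᵥ phi ι (H *ᵥ dualVec F ι (σ j))) l with hPdef
  have hP : ∀ k, H *ᵥ stdVec F ι k = psi ι (Pᵀ k) := by
    intro k
    conv_lhs => rw [hc k]
    rw [hcx]
    rfl
  refine ⟨P, ?_, hP⟩
  obtain ⟨h1, h2⟩ := frame_transport ι H h.2 P hP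
  have hHinv : H * ((h⁻¹ : Matrix.symplecticGroup (Fin m) F) :
      Matrix (Fin m ⊕ Fin m) (Fin m ⊕ Fin m) F) = 1 := congrArg Subtype.val (mul_inv_cancel h)
  rw [Matrix.ext_iff_mulVec]
  intro a
  set x := ((h⁻¹ : Matrix.symplecticGroup (Fin m) F) :
      Matrix (Fin m ⊕ Fin m) (Fin m ⊕ Fin m) F) *ᵥ (∑ j, a j • dualVec F ι j) with hx
  have hHx : H *ᵥ x = ∑ j, a j • dualVec F ι j := by
    rw [hx, mulVec_mulVec, hHinv, one_mulVec]
  have h3 := hcx x
  rw [h1, h2 x, hHx, phi_sum_dualVec ι hι, mulVec_mulVec, mulVec_mulVec] at h3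
  exact psi_injective ι hι h3

/-- every matrix `P` with `P S Pᵀ = S` is the coordinate matrix of the image of the standard frame
under a symplectic matrix -/
theorem exists_frame_map (ι : κ → Fin m) (hι : Function.Injective ι) (σ : κ → κ)
    (hσ : ∀ k, σ (σ k) = k) (P : Matrix κ κ F) (hPS : P * permMat F σ * Pᵀ = permMat F σ) :
    ∃ h : Matrix.symplecticGroup (Fin m) F,
      ∀ k, (h : Matrix (Fin m ⊕ Fin m) (Fin m ⊕ Fin m) F) *ᵥ stdVec F ι k = psi ι (Pᵀ k) := by
  have hinv : P * (permMat F σ * Pᵀ * permMat F σ) = 1 := by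
    rw [← Matrix.mul_assoc, ← Matrix.mul_assoc, hPS, permMat_mul_self σ hσ]
  have hPinj : Function.Injective P.mulVec := by
    intro a b hab
    have h1 : (permMat F σ * Pᵀ * permMat F σ) * P = 1 := mul_eq_one_comm.mp hinv
    have h2 := congrArg (fun v => (permMat F σ * Pᵀ * permMat F σ) *ᵥ v) hab
    simp only [mulVec_mulVec, h1, one_mulVec] at h2
    exact h2
  have hsum : ∀ a : κ → F, ∑ k, a k • psi ι (Pᵀ k) = psi ι (P *ᵥ a) := by
    intro a
    unfold psi
    simp only [Finset.smul_sum, smul_smul]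
    rw [Finset.sum_comm]
    refine Finset.sum_congr rfl fun l _ => ?_
    rw [← Finset.sum_smul]
    congr 1
    show ∑ k, a k * Pᵀ k l = ∑ k, P l k * a k
    refine Finset.sum_congr rfl fun k _ => ?_
    rw [Matrix.transpose_apply, mul_comm]
  have hli : LinearIndependent F (fun k => psi (F := F) ι (Pᵀ k)) := by
    rw [Fintype.linearIndependent_iff]
    intro a ha k
    rw [hsum] at ha
    have h0 : psi (F := F) ι (P *ᵥ a) = psi ι 0 := by
      rw [ha]
      unfold psi
      simp
    have h1 : P *ᵥ a = P *ᵥ 0 := by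
      rw [mulVec_zero]
      exact psi_injective ι hι h0
    exact congrFun (hPinj h1) k
  exact exists_sp_frame_fintype (stdVec F ι) (fun k => psi ι (Pᵀ k))
    (stdVec_linearIndependent ι hι) hli (by
      intro i j
      rw [sympForm_psi_psi, stdVec_gram])

/-- the standard involution as an element of the symplectic group -/
def stdInvElt (F : Type*) [Field F] {m : ℕ} (ι : κ → Fin m) (σ : κ → κ)
    (hσ : ∀ k, σ (σ k) = k) : Matrix.symplecticGroup (Fin m) F :=
  ⟨stdInvMat F ι σ, Helper13.mem_symplectic_of_preserves m _ (stdInvMat_preserves ι σ hσ)⟩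

theorem mem_centralizer_stdInvElt (ι : κ → Fin m) (σ : κ → κ) (hσ : ∀ k, σ (σ k) = k)
    (h : Matrix.symplecticGroup (Fin m) F) :
    h ∈ Subgroup.centralizer ({stdInvElt F ι σ hσ} : Set (Matrix.symplecticGroup (Fin m) F)) ↔
      (h : Matrix (Fin m ⊕ Fin m) (Fin m ⊕ Fin m) F) * stdInvMat F ι σ =
        stdInvMat F ι σ * (h : Matrix (Fin m ⊕ Fin m) (Fin m ⊕ Fin m) F) := by
  rw [Subgroup.mem_centralizer_singleton_iff]
  constructor
  · intro h1
    exact (congrArg Subtype.val h1)
  · intro h1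
    exact Subtype.ext h1

/-- the order of the centralizer of a standard involution -/
theorem card_centralizer_stdInvElt [Fintype F] (ι : κ → Fin m) (hι : Function.Injective ι)
    (σ : κ → κ) (hσ : ∀ k, σ (σ k) = k) (s : ℕ)
    (hs : ∀ i : Fin m, (i : ℕ) < s ↔ ∃ k, ι k = i) :
    Nat.card (Subgroup.centralizer
      ({stdInvElt F ι σ hσ} : Set (Matrix.symplecticGroup (Fin m) F))) =
    Nat.card {P : Matrix κ κ F // P * permMat F σ * Pᵀ = permMat F σ} *
      Nat.card (Helper13.fixFirst F m s) := by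
  classical
  rw [Helper13.card_subgroup_eq_orbit_mul_stab (Subgroup.centralizer
    ({stdInvElt F ι σ hσ} : Set (Matrix.symplecticGroup (Fin m) F)))
    (stdVec F ι : κ → (Fin m ⊕ Fin m → F))]
  have hsmul : ∀ (h : Matrix.symplecticGroup (Fin m) F) (k : κ),
      (h • (stdVec F ι : κ → (Fin m ⊕ Fin m → F))) k =
        (h : Matrix (Fin m ⊕ Fin m) (Fin m ⊕ Fin m) F) *ᵥ stdVec F ι k := fun h k => rfl
  congr 1
  · -- the orbit
    symm
    apply Nat.card_congr
    refine Equiv.ofBijective (fun P => ⟨fun k => psi ι (P.1ᵀ k), ?_⟩) ⟨?_, ?_⟩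
    · obtain ⟨h, hh⟩ := exists_frame_map ι hι σ hσ P.1 P.2
      refine ⟨h, ?_, ?_⟩
      · rw [mem_centralizer_stdInvElt]
        exact comm_of_frame ι σ hσ _ h.2 P.1 hh P.2
      · funext k
        rw [hsmul, hh]
    · intro P P' hPP
      apply Subtype.ext
      have h1 : ∀ k, psi (F := F) ι (P.1ᵀ k) = psi ι (P'.1ᵀ k) := fun k =>
        congrFun (congrArg Subtype.val hPP) k
      ext l k
      have h2 := congrFun (psi_injective ι hι (h1 k)) l
      exact h2
    · rintro ⟨y, h, hh, rfl⟩
      rw [mem_centralizer_stdInvElt] at hh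
      obtain ⟨P, hPS, hP⟩ := frame_of_comm ι hι σ hσ h hh
      refine ⟨⟨P, hPS⟩, ?_⟩
      apply Subtype.ext
      funext k
      show psi ι (Pᵀ k) = (h • (stdVec F ι : κ → (Fin m ⊕ Fin m → F))) k
      rw [hsmul, hP]
  · -- the stabilizer
    apply Nat.card_congr
    refine (Equiv.subtypeEquivRight ?_)
    intro h
    rw [Helper13.mem_fixFirst]
    constructor
    · rintro ⟨-, h2⟩ i hi
      obtain ⟨k, rfl⟩ := (hs i).mp hi
      have := congrFun h2 k
      rw [hsmul] at this
      exact this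
    · intro h1
      have h2 : ∀ k, (h : Matrix (Fin m ⊕ Fin m) (Fin m ⊕ Fin m) F) *ᵥ stdVec F ι k =
          stdVec F ι k := fun k => h1 (ι k) ((hs (ι k)).mpr ⟨k, rfl⟩)
      refine ⟨?_, ?_⟩
      · rw [mem_centralizer_stdInvElt]
        apply comm_of_frame ι σ hσ _ h.2 1
        · intro k
          rw [h2]
          unfold psi
          rw [Finset.sum_eq_single k]
          · rw [Matrix.transpose_apply, Matrix.one_apply_eq, one_smul]
          · intro l _ hl
            rw [Matrix.transpose_apply, Matrix.one_apply_ne hl, zero_smul]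
          · intro h'
            exact absurd (Finset.mem_univ _) h'
        · rw [Matrix.one_mul, Matrix.transpose_one, Matrix.mul_one]
      · funext k
        rw [hsmul, h2]

/-- conjugate elements have centralizers of the same order -/
theorem card_centralizer_of_isConj {G : Type*} [Group G] (a b : G) (h : IsConj a b) :
    Nat.card (Subgroup.centralizer ({a} : Set G)) = Nat.card (Subgroup.centralizer ({b} : Set G)) := by
  obtain ⟨g, hg⟩ := isConj_iff.mp h
  apply Nat.card_congr
  refine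
    { toFun := fun x => ⟨g * x.1 * g⁻¹, ?_⟩
      invFun := fun x => ⟨g⁻¹ * x.1 * g, ?_⟩
      left_inv := fun x => Subtype.ext (by group)
      right_inv := fun x => Subtype.ext (by group) }
  · have hx := Subgroup.mem_centralizer_singleton_iff.mp x.2
    rw [Subgroup.mem_centralizer_singleton_iff, ← hg]
    calc g * x.1 * g⁻¹ * (g * a * g⁻¹) = g * (x.1 * a) * g⁻¹ := by group
      _ = g * (a * x.1) * g⁻¹ := by rw [hx]
      _ = g * a * g⁻¹ * (g * x.1 * g⁻¹) := by group
  · have hx : x.1 * (g * a * g⁻¹) = (g * a * g⁻¹) * x.1 := by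
      rw [hg]
      exact Subgroup.mem_centralizer_singleton_iff.mp x.2
    rw [Subgroup.mem_centralizer_singleton_iff]
    calc g⁻¹ * x.1 * g * a = g⁻¹ * (x.1 * (g * a * g⁻¹)) * g := by group
      _ = g⁻¹ * ((g * a * g⁻¹) * x.1) * g := by rw [hx]
      _ = a * (g⁻¹ * x.1 * g) := by group

/-- the embedding of `Fin N ⊕ Fin N` onto the first `N + N` indices -/
def altEmb {N : ℕ} (hNm : N + N ≤ m) (k : Fin N ⊕ Fin N) : Fin m :=
  Fin.castLE hNm (finSumFinEquiv k)

theorem altEmb_injective {N : ℕ} (hNm : N + N ≤ m) : Function.Injective (altEmb hNm) :=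
  fun _ _ h => finSumFinEquiv.injective (Fin.castLE_injective hNm h)

theorem altEmb_range {N : ℕ} (hNm : N + N ≤ m) (i : Fin m) :
    (i : ℕ) < N + N ↔ ∃ k, altEmb hNm k = i := by
  constructor
  · intro hi
    refine ⟨finSumFinEquiv.symm ⟨i, hi⟩, ?_⟩
    unfold altEmb
    rw [Equiv.apply_symm_apply]
    exact Fin.ext rfl
  · rintro ⟨k, rfl⟩
    exact (finSumFinEquiv k).2

theorem castLE_range {s : ℕ} (hsm : s ≤ m) (i : Fin m) :
    (i : ℕ) < s ↔ ∃ k, Fin.castLE hsm k = i := by
  constructor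
  · intro hi
    exact ⟨⟨i, hi⟩, Fin.ext rfl⟩
  · rintro ⟨k, rfl⟩
    exact k.2

theorem permMat_swap [CharP F 2] (N : ℕ) :
    permMat F (Sum.swap : Fin N ⊕ Fin N → Fin N ⊕ Fin N) = Matrix.J (Fin N) F := by
  have hneg : (-1 : F) = 1 := by
    have h2 : (2 : F) = 0 := two_eq_zero_of_charP
    linear_combination (-1 : F) * h2
  ext j k
  unfold permMat Matrix.J
  rcases j with i | i <;> rcases k with i' | i'
  · simp
  · have hnegx : ∀ x : F, -x = x := fun x => by linear_combination x * hneg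
    simp [Matrix.one_apply, hnegx]
  · simp [Matrix.one_apply]
  · simp

/-- the order of the centralizer of a standard involution of alternating type -/
theorem card_centralizer_alt [Fintype F] [CharP F 2] (N : ℕ) (hNm : N + N ≤ m) :
    Nat.card (Subgroup.centralizer
      ({stdInvElt F (altEmb hNm) Sum.swap Sum.swap_swap} :
        Set (Matrix.symplecticGroup (Fin m) F))) =
    Nat.card (Matrix.symplecticGroup (Fin N) F) * Nat.card (Helper13.fixFirst F m (N + N)) := by
  rw [card_centralizer_stdInvElt (altEmb hNm) (altEmb_injective hNm) Sum.swap Sum.swap_swap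
    (N + N) (altEmb_range hNm)]
  congr 1
  apply Nat.card_congr
  refine Equiv.subtypeEquivRight ?_
  intro P
  rw [permMat_swap, SymplecticGroup.mem_iff]

/-- the value of `f(v, t v)` for the standard involution with `σ = swap` -/
theorem stdInvMat_swap_alt [CharP F 2] {N : ℕ} (ι : Fin N ⊕ Fin N → Fin m)
    (v : Fin m ⊕ Fin m → F) : ff v (stdInvMat F ι Sum.swap *ᵥ v) = 0 := by
  rw [stdInvMat_self, Fintype.sum_sum_type]
  simp only [Sum.swap_inl, Sum.swap_inr]
  rw [← Finset.sum_add_distrib]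
  apply Finset.sum_eq_zero
  intro i _
  rw [mul_comm (ff v (stdVec F ι (Sum.inl i)))]
  exact add_self_char_two _

/-- the value of `f(v, t v)` for the standard involution with `σ = id` at a dual vector -/
theorem stdInvMat_id_nonalt {s : ℕ} (ι : Fin s → Fin m) (hι : Function.Injective ι) (k₀ : Fin s) :
    ff (dualVec F ι k₀) (stdInvMat F ι id *ᵥ dualVec F ι k₀) ≠ 0 := by
  rw [stdInvMat_self]
  simp only [id, dualVec_stdVec ι hι]
  rw [Finset.sum_eq_single k₀]
  · rw [if_pos rfl, mul_one]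
    exact one_ne_zero
  · intro k _ hk
    rw [if_neg (Ne.symm hk), mul_zero]
  · intro h
    exact absurd (Finset.mem_univ _) h

/-- an involution of alternating type with `rank (t - 1) = N + N` is conjugate to the standard
one -/
theorem isConj_stdInvElt_alt [Fintype F] [CharP F 2] (t : Matrix.symplecticGroup (Fin m) F)
    (ht : t * t = 1)
    (halt : ∀ v, ff v ((t : Matrix (Fin m ⊕ Fin m) (Fin m ⊕ Fin m) F) *ᵥ v) = 0)
    (N : ℕ) (hNm : N + N ≤ m)
    (hrk : ((t : Matrix (Fin m ⊕ Fin m) (Fin m ⊕ Fin m) F) - 1).rank = N + N) :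
    IsConj t (stdInvElt F (altEmb hNm) Sum.swap Sum.swap_swap) := by
  have hrk0 : (stdInvMat F (altEmb hNm) Sum.swap - 1).rank = N + N := by
    rw [stdInvMat_rank (F := F) (altEmb hNm) (altEmb_injective hNm) Sum.swap Sum.swap_swap,
      Fintype.card_sum, Fintype.card_fin]
  obtain ⟨g, hg⟩ := sp_involution_conj (t : Matrix (Fin m ⊕ Fin m) (Fin m ⊕ Fin m) F)
    (stdInvMat F (altEmb hNm) Sum.swap)
    (fun x y => Helper13.preserves_of_mem_symplectic m _ t.2 x y)
    (stdInvMat_preserves _ Sum.swap Sum.swap_swap) (congrArg Subtype.val ht)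
    (stdInvMat_sq _ Sum.swap) (by rw [hrk, hrk0])
    ⟨fun _ => stdInvMat_swap_alt _, fun _ => halt⟩
  rw [isConj_iff]
  refine ⟨g, ?_⟩
  rw [mul_inv_eq_iff_eq_mul]
  exact Subtype.ext hg

/-- an involution of non-alternating type with `rank (t - 1) = s` is conjugate to the standard
one -/
theorem isConj_stdInvElt_nonalt [Fintype F] [CharP F 2] (t : Matrix.symplecticGroup (Fin m) F)
    (ht : t * t = 1)
    (hna : ∃ v, ff v ((t : Matrix (Fin m ⊕ Fin m) (Fin m ⊕ Fin m) F) *ᵥ v) ≠ 0)
    (s : ℕ) (hsm : s ≤ m)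
    (hrk : ((t : Matrix (Fin m ⊕ Fin m) (Fin m ⊕ Fin m) F) - 1).rank = s) :
    IsConj t (stdInvElt F (Fin.castLE hsm) id (fun _ => rfl)) := by
  have hrk0 : (stdInvMat F (Fin.castLE hsm) id - 1).rank = s := by
    rw [stdInvMat_rank (F := F) (Fin.castLE hsm) (Fin.castLE_injective hsm) id (fun _ => rfl),
      Fintype.card_fin]
  have hs1 : 0 < s := by
    rcases Nat.eq_zero_or_pos s with h | h
    · exfalso
      obtain ⟨v, hv⟩ := hna
      rw [h] at hrk
      have h1 := eq_zero_of_rank_eq_zero _ hrk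
      rw [sub_eq_zero.mp h1, one_mulVec, Helper13.sympForm_self] at hv
      exact hv rfl
    · exact h
  obtain ⟨g, hg⟩ := sp_involution_conj (t : Matrix (Fin m ⊕ Fin m) (Fin m ⊕ Fin m) F)
    (stdInvMat F (Fin.castLE hsm) id)
    (fun x y => Helper13.preserves_of_mem_symplectic m _ t.2 x y)
    (stdInvMat_preserves _ id (fun _ => rfl)) (congrArg Subtype.val ht)
    (stdInvMat_sq _ id) (by rw [hrk, hrk0])
    ⟨fun h => by
        obtain ⟨v, hv⟩ := hna
        exact absurd (h v) hv,
      fun h => absurd (h _)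
        (stdInvMat_id_nonalt (Fin.castLE hsm) (Fin.castLE_injective hsm) ⟨0, hs1⟩)⟩
  rw [isConj_iff]
  refine ⟨g, ?_⟩
  rw [mul_inv_eq_iff_eq_mul]
  exact Subtype.ext hg

/-- the exponent identity for the centralizer orders -/
theorem exp_identity (s r : ℕ) :
    2 * (s + r) * s - (3 * s ^ 2 - s) / 2 = s * (s + 1) / 2 + 2 * s * (s + r - s) := by
  obtain ⟨T, hT⟩ := Nat.even_mul_succ_self s
  have hTle : T ≤ 2 * s ^ 2 := by nlinarith
  obtain ⟨D, hD⟩ : ∃ D, D + T = 2 * s ^ 2 := ⟨2 * s ^ 2 - T, Nat.sub_add_cancel hTle⟩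
  have h1 : 3 * s ^ 2 - s = 2 * D := Nat.sub_eq_of_eq_add (by nlinarith)
  have h2 : s * (s + 1) / 2 = T := by
    rw [hT]
    omega
  rw [h1, Nat.mul_div_cancel_left D two_pos, h2, Nat.add_sub_cancel_left]
  apply Nat.sub_eq_of_eq_add
  nlinarith

end cent

end Cfsg.Agent.Lib.Helper44
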