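import Mathlib
import Cfsg.Agent.Lib.Helper8.InvolChar2
import Cfsg.Agent.Lib.Helper8.InvolCount
import Cfsg.Agent.Lib.Helper8.OmegaTransitive
import Cfsg.Agent.Lib.Helper44.SympInvCentralizer

set_option autoImplicit false

/-!
Involutions of an orthogonal group in characteristic two described by frames
`x z = z + Σ_a f(z, w (σ a)) w a`: the isometry group is transitive on frames (Witt), which gives
`|C(x)| · |frames| = |O| · |{P : P S Pᵀ = S}|`.
-/

namespace Cfsg.Agent.Lib.Helper44.OrthInv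

open Matrix Module QuadraticMap

/-- counting a subgroup by a surjection whose fibres are the cosets of a smaller subgroup -/
theorem card_eq_mul_of_fibers {G T : Type*} [Group G] [Finite G] (H K : Subgroup G) (hKH : K ≤ H)
    (φ : H → T) (hs : Function.Surjective φ)
    (hf : ∀ a b : H, φ a = φ b ↔ (a : G)⁻¹ * (b : G) ∈ K) :
    Nat.card H = Nat.card T * Nat.card K := by
  classical
  have h1 := Subgroup.card_eq_card_quotient_mul_card_subgroup (K.subgroupOf H)
  have h2 : Nat.card (K.subgroupOf H) = Nat.card K :=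
    Nat.card_congr (Subgroup.subgroupOfEquivOfLe hKH).toEquiv
  have hrel : ∀ a b : H, (QuotientGroup.leftRel (K.subgroupOf H)) a b ↔ φ a = φ b := by
    intro a b
    rw [QuotientGroup.leftRel_apply, hf, Subgroup.mem_subgroupOf]
    simp
  have h3 : Nat.card (H ⧸ K.subgroupOf H) = Nat.card T := by
    let ψ : H ⧸ K.subgroupOf H → T := Quotient.lift φ (fun a b hab => (hrel a b).1 hab)
    apply Nat.card_congr (Equiv.ofBijective ψ ⟨?_, ?_⟩)
    · intro x y
      induction x using Quotient.inductionOn with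
      | _ a =>
        induction y using Quotient.inductionOn with
        | _ b =>
          intro h
          exact Quotient.sound ((hrel a b).2 h)
    · intro t
      obtain ⟨a, ha⟩ := hs t
      exact ⟨Quotient.mk _ a, ha⟩
  rw [h1, h2, h3]

section frames

variable {ι : Type} [Fintype ι] [DecidableEq ι] {F : Type*} [Field F]
variable (Q : QuadraticForm F (ι → F))

/-- the matrix of an element of the isometry group -/
abbrev gm (g : ↥(Cfsg.isometryGroup F ⇑Q)) : Matrix ι ι F :=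
  ((g : Matrix.GeneralLinearGroup ι F) : Matrix ι ι F)

theorem gm_mul (g h : ↥(Cfsg.isometryGroup F ⇑Q)) : gm Q (g * h) = gm Q g * gm Q h := rfl

theorem gm_one : gm Q (1 : ↥(Cfsg.isometryGroup F ⇑Q)) = 1 := rfl

theorem gm_inv_mul (g : ↥(Cfsg.isometryGroup F ⇑Q)) : gm Q g⁻¹ * gm Q g = 1 := by
  rw [← gm_mul, inv_mul_cancel, gm_one]

theorem gm_mul_inv (g : ↥(Cfsg.isometryGroup F ⇑Q)) : gm Q g * gm Q g⁻¹ = 1 := by
  rw [← gm_mul, mul_inv_cancel, gm_one]

theorem gm_injective : Function.Injective (gm Q) := by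
  intro g h hgh
  apply Subtype.ext
  apply Units.ext
  exact hgh

theorem gm_preserves (g : ↥(Cfsg.isometryGroup F ⇑Q)) (v : ι → F) : Q (gm Q g *ᵥ v) = Q v :=
  Cfsg.Agent.Lib.Helper8.isoElt_preserves Q g v

theorem gm_polar (g : ↥(Cfsg.isometryGroup F ⇑Q)) (u v : ι → F) :
    polar Q (gm Q g *ᵥ u) (gm Q g *ᵥ v) = polar Q u v :=
  Cfsg.Agent.Lib.Helper13.polar_mulVec_of_preserves Q (gm Q g) (gm_preserves Q g) u v

theorem gm_inv_mulVec (g : ↥(Cfsg.isometryGroup F ⇑Q)) (v : ι → F) :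
    gm Q g⁻¹ *ᵥ (gm Q g *ᵥ v) = v := by
  rw [mulVec_mulVec, gm_inv_mul, one_mulVec]

theorem gm_mulVec_inv (g : ↥(Cfsg.isometryGroup F ⇑Q)) (v : ι → F) :
    gm Q g *ᵥ (gm Q g⁻¹ *ᵥ v) = v := by
  rw [mulVec_mulVec, gm_mul_inv, one_mulVec]

variable {κ : Type} [Fintype κ] [DecidableEq κ]

/-- frames of shape `σ`: norm one at the fixed points of `σ`, singular elsewhere, mutually
orthogonal, linearly independent -/
def IsFr (σ : κ → κ) (w : κ → ι → F) : Prop :=
  (∀ a, Q (w a) = if σ a = a then 1 else 0) ∧ (∀ a b, polar Q (w a) (w b) = 0) ∧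
    LinearIndependent F w

/-- the matrix `X` is described by the family `w` -/
def Describes (σ : κ → κ) (w : κ → ι → F) (X : Matrix ι ι F) : Prop :=
  ∀ z, X *ᵥ z = z + ∑ a, polar Q z (w (σ a)) • w a

variable {Q}

theorem isFr_smul {σ : κ → κ} {w : κ → ι → F} (hw : IsFr Q σ w)
    (g : ↥(Cfsg.isometryGroup F ⇑Q)) : IsFr Q σ (fun k => gm Q g *ᵥ w k) := by
  refine ⟨fun a => ?_, fun a b => ?_, ?_⟩
  · rw [gm_preserves]
    exact hw.1 a
  · rw [gm_polar]
    exact hw.2.1 a b
  · have hinj : LinearMap.ker (Matrix.mulVecLin (gm Q g)) = ⊥ := by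
      rw [LinearMap.ker_eq_bot]
      intro u v huv
      rw [Matrix.mulVecLin_apply, Matrix.mulVecLin_apply] at huv
      have : gm Q g⁻¹ *ᵥ (gm Q g *ᵥ u) = gm Q g⁻¹ *ᵥ (gm Q g *ᵥ v) := by rw [huv]
      rwa [gm_inv_mulVec, gm_inv_mulVec] at this
    exact hw.2.2.map' (Matrix.mulVecLin (gm Q g)) hinj

theorem describes_conj {σ : κ → κ} {w : κ → ι → F} {X : Matrix ι ι F} (hX : Describes Q σ w X)
    (g : ↥(Cfsg.isometryGroup F ⇑Q)) :
    Describes Q σ (fun k => gm Q g *ᵥ w k) (gm Q g * X * gm Q g⁻¹) := by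
  intro z
  rw [← mulVec_mulVec, ← mulVec_mulVec, hX, mulVec_add, gm_mulVec_inv, mulVec_sum]
  congr 1
  refine Finset.sum_congr rfl fun a _ => ?_
  rw [mulVec_smul]
  congr 1
  rw [← gm_polar Q g, gm_mulVec_inv]

theorem describes_unique {σ : κ → κ} {w : κ → ι → F} {X X' : Matrix ι ι F}
    (hX : Describes Q σ w X) (hX' : Describes Q σ w X') : X = X' := by
  rw [Matrix.ext_iff_mulVec]
  intro z
  rw [hX, hX']

/-- Witt's lemma for families indexed by a finite type, inside the isometry group -/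
theorem exists_iso_map (hQ : (QuadraticMap.polarBilin Q).Nondegenerate) (w w' : κ → ι → F)
    (hw : LinearIndependent F w) (hw' : LinearIndependent F w')
    (hq : ∀ k, Q (w' k) = Q (w k)) (hp : ∀ k l, polar Q (w' k) (w' l) = polar Q (w k) (w l)) :
    ∃ g : ↥(Cfsg.isometryGroup F ⇑Q), ∀ k, gm Q g *ᵥ w k = w' k := by
  classical
  let E := Fintype.equivFin κ
  obtain ⟨g, hgiso, hgxy⟩ := Cfsg.Agent.Lib.Helper8.witt_family_quad Q hQ (Fintype.card κ)
    (w ∘ E.symm) (w' ∘ E.symm) (hw.comp _ E.symm.injective) (hw'.comp _ E.symm.injective)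
    (fun i => hq _) (fun i j => hp _ _)
  refine ⟨Cfsg.Agent.Lib.Helper8.isoOfEquiv Q g hgiso, fun k => ?_⟩
  have := hgxy (E k)
  simp only [Function.comp_apply, Equiv.symm_apply_apply] at this
  rw [← this]
  exact Cfsg.Agent.Lib.Helper8.isoOfEquiv_mulVec Q g hgiso (w k)

/-- two frames of the same shape are conjugate under the isometry group -/
theorem exists_iso_map_frames (hQ : (QuadraticMap.polarBilin Q).Nondegenerate) {σ : κ → κ}
    {w w' : κ → ι → F} (hw : IsFr Q σ w) (hw' : IsFr Q σ w') :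
    ∃ g : ↥(Cfsg.isometryGroup F ⇑Q), ∀ k, gm Q g *ᵥ w k = w' k :=
  exists_iso_map hQ w w' hw.2.2 hw'.2.2 (fun k => by rw [hw.1, hw'.1])
    (fun k l => by rw [hw.2.1, hw'.2.1])

/-- a dual family of a linearly independent family -/
theorem exists_dual_family (hQ : (QuadraticMap.polarBilin Q).Nondegenerate) (w : κ → ι → F)
    (hw : LinearIndependent F w) :
    ∃ d : κ → ι → F, ∀ a b, polar Q (d a) (w b) = if a = b then 1 else 0 := by
  classical
  let L : (ι → F) →ₗ[F] (κ → F) :=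
    LinearMap.pi (fun b => (QuadraticMap.polarBilin Q).flip (w b))
  have hL : ∀ v b, L v b = polar Q v (w b) := fun v b => rfl
  have hsurj : LinearMap.range L = ⊤ := by
    by_contra hne
    obtain ⟨f, hf0, hfle⟩ := (LinearMap.range L).exists_le_ker_of_lt_top (lt_top_iff_ne_top.2 hne)
    apply hf0
    set c : κ → F := fun b => f (fun j => if b = j then 1 else 0) with hc
    have hfx : ∀ x : κ → F, f x = ∑ b, x b * c b := by
      intro x
      rw [LinearMap.pi_apply_eq_sum_univ f x]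
      rfl
    have hzero : ∑ b, c b • w b = 0 := by
      apply hQ.2
      intro v
      have h1 : f (L v) = 0 := hfle ⟨v, rfl⟩
      rw [hfx] at h1
      show polar Q v (∑ b, c b • w b) = 0
      rw [Cfsg.Agent.Lib.Helper8.polar_sum_smul_right]
      rw [← h1]
      refine Finset.sum_congr rfl fun b _ => ?_
      rw [hL, mul_comm]
    have hc0 := Fintype.linearIndependent_iff.1 hw c hzero
    refine LinearMap.ext fun x => ?_
    rw [hfx, LinearMap.zero_apply]
    apply Finset.sum_eq_zero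
    intro b _
    rw [hc0 b, mul_zero]
  have hs : Function.Surjective L := LinearMap.range_eq_top.1 hsurj
  choose d hd using fun a : κ => hs (Pi.single a 1)
  refine ⟨d, fun a b => ?_⟩
  rw [← hL, hd, Pi.single_apply]
  by_cases h : a = b
  · rw [if_pos h, if_pos h.symm]
  · rw [if_neg h, if_neg (Ne.symm h)]

/-- the subgroup of the isometry group fixing a family -/
def fixFr (Q : QuadraticForm F (ι → F)) (w : κ → ι → F) : Subgroup ↥(Cfsg.isometryGroup F ⇑Q) where
  carrier := {g | ∀ k, gm Q g *ᵥ w k = w k}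
  one_mem' := fun k => by rw [gm_one, one_mulVec]
  mul_mem' := by
    intro a b ha hb k
    rw [gm_mul, ← mulVec_mulVec, hb k, ha k]
  inv_mem' := by
    intro a ha k
    have := congrArg (fun z => gm Q a⁻¹ *ᵥ z) (ha k)
    simp only [gm_inv_mulVec] at this
    exact this.symm

theorem mem_fixFr (w : κ → ι → F) (g : ↥(Cfsg.isometryGroup F ⇑Q)) :
    g ∈ fixFr Q w ↔ ∀ k, gm Q g *ᵥ w k = w k := Iff.rfl

theorem smul_eq_iff (w : κ → ι → F) (a b : ↥(Cfsg.isometryGroup F ⇑Q)) :
    (fun k => gm Q a *ᵥ w k) = (fun k => gm Q b *ᵥ w k) ↔ a⁻¹ * b ∈ fixFr Q w := by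
  rw [mem_fixFr]
  constructor
  · intro h k
    have hk := congrFun h k
    rw [gm_mul, ← mulVec_mulVec, ← hk, gm_inv_mulVec]
  · intro h
    funext k
    have hk := h k
    rw [gm_mul, ← mulVec_mulVec] at hk
    have := congrArg (fun z => gm Q a *ᵥ z) hk
    simp only [gm_mulVec_inv] at this
    exact this.symm

/-- the double count: centralizer times frames equals group times describing frames -/
theorem card_centralizer_mul_card_frames [Finite F]
    (hQ : (QuadraticMap.polarBilin Q).Nondegenerate) (σ : κ → κ)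
    (x : ↥(Cfsg.isometryGroup F ⇑Q)) (w₀ : κ → ι → F) (hw₀ : IsFr Q σ w₀)
    (hx : Describes Q σ w₀ (gm Q x)) :
    Nat.card (Subgroup.centralizer ({x} : Set ↥(Cfsg.isometryGroup F ⇑Q))) *
        Nat.card {w : κ → ι → F // IsFr Q σ w} =
      Nat.card ↥(Cfsg.isometryGroup F ⇑Q) *
        Nat.card {w : κ → ι → F // IsFr Q σ w ∧ Describes Q σ w (gm Q x)} := by
  classical
  have hfin : Finite ↥(Cfsg.isometryGroup F ⇑Q) := inferInstance
  -- conjugation and description
  have hconj : ∀ g : ↥(Cfsg.isometryGroup F ⇑Q), ∀ w : κ → ι → F, Describes Q σ w (gm Q x) →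
      Describes Q σ (fun k => gm Q g *ᵥ w k) (gm Q (g * x * g⁻¹)) := by
    intro g w hw
    exact describes_conj hw g
  have hKC : fixFr Q w₀ ≤ Subgroup.centralizer ({x} : Set ↥(Cfsg.isometryGroup F ⇑Q)) := by
    intro g hg
    rw [Subgroup.mem_centralizer_singleton_iff]
    have h1 := hconj g w₀ hx
    have h2 : (fun k => gm Q g *ᵥ w₀ k) = w₀ := funext hg
    rw [h2] at h1
    have h3 : gm Q (g * x * g⁻¹) = gm Q x := describes_unique h1 hx
    have h4 : g * x * g⁻¹ = x := gm_injective Q h3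
    exact mul_inv_eq_iff_eq_mul.1 h4
  -- first count
  have hc1 : Nat.card ↥(Cfsg.isometryGroup F ⇑Q) =
      Nat.card {w : κ → ι → F // IsFr Q σ w} * Nat.card (fixFr Q w₀) := by
    rw [← Subgroup.card_top (G := ↥(Cfsg.isometryGroup F ⇑Q))]
    apply card_eq_mul_of_fibers ⊤ (fixFr Q w₀) le_top
      (fun g => (⟨fun k => gm Q (g : ↥(Cfsg.isometryGroup F ⇑Q)) *ᵥ w₀ k, isFr_smul hw₀ _⟩ :
        {w : κ → ι → F // IsFr Q σ w}))
    · rintro ⟨w, hw⟩
      obtain ⟨g, hg⟩ := exists_iso_map_frames hQ hw₀ hw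
      exact ⟨⟨g, Subgroup.mem_top g⟩, Subtype.ext (funext hg)⟩
    · intro a b
      rw [Subtype.mk.injEq]
      exact smul_eq_iff w₀ (a : ↥(Cfsg.isometryGroup F ⇑Q)) (b : ↥(Cfsg.isometryGroup F ⇑Q))
  -- second count
  have hc2 : Nat.card (Subgroup.centralizer ({x} : Set ↥(Cfsg.isometryGroup F ⇑Q))) =
      Nat.card {w : κ → ι → F // IsFr Q σ w ∧ Describes Q σ w (gm Q x)} *
        Nat.card (fixFr Q w₀) := by
    have hmemC : ∀ g : ↥(Subgroup.centralizer ({x} : Set ↥(Cfsg.isometryGroup F ⇑Q))),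
        (g : ↥(Cfsg.isometryGroup F ⇑Q)) * x * (g : ↥(Cfsg.isometryGroup F ⇑Q))⁻¹ = x := by
      intro g
      have := Subgroup.mem_centralizer_singleton_iff.1 g.2
      rw [mul_inv_eq_iff_eq_mul]
      exact this
    apply card_eq_mul_of_fibers _ (fixFr Q w₀) hKC
      (fun g => (⟨fun k => gm Q (g : ↥(Cfsg.isometryGroup F ⇑Q)) *ᵥ w₀ k,
        isFr_smul hw₀ _, by
          have := hconj (g : ↥(Cfsg.isometryGroup F ⇑Q)) w₀ hx
          rw [hmemC g] at this
          exact this⟩ :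
        {w : κ → ι → F // IsFr Q σ w ∧ Describes Q σ w (gm Q x)}))
    · rintro ⟨w, hw, hwx⟩
      obtain ⟨g, hg⟩ := exists_iso_map_frames hQ hw₀ hw
      have h1 := hconj g w₀ hx
      have h2 : (fun k => gm Q g *ᵥ w₀ k) = w := funext hg
      rw [h2] at h1
      have h3 : gm Q (g * x * g⁻¹) = gm Q x := describes_unique h1 hwx
      have h4 : g * x * g⁻¹ = x := gm_injective Q h3
      refine ⟨⟨g, ?_⟩, Subtype.ext h2⟩
      rw [Subgroup.mem_centralizer_singleton_iff]
      rw [mul_inv_eq_iff_eq_mul] at h4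
      exact h4
    · intro a b
      rw [Subtype.mk.injEq]
      exact smul_eq_iff w₀ (a : ↥(Cfsg.isometryGroup F ⇑Q)) (b : ↥(Cfsg.isometryGroup F ⇑Q))
  rw [hc1, hc2]
  ring

end frames

end Cfsg.Agent.Lib.Helper44.OrthInv
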