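import Cfsg.Agent.Lib.Helper44.OrthInvAlt
import Cfsg.Agent.S2630

set_option autoImplicit false

/-!
The centralizer in `Ω⁺_2m(q)`, `q` even, of an involution of alternating type (type `a_s`).
-/

namespace Cfsg.Agent.Lib.Helper44.OrthInv

open Matrix Module QuadraticMap Cfsg.Agent.Lib.Helper8

section main

universe u

variable {F : Type u} [Field F] [Fintype F] [CharP F 2]

/-- the standard maximal totally singular subspace -/
abbrev stdW (m : ℕ) (F : Type u) [Field F] : Submodule F (Fin m ⊕ Fin m → F) :=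
  LinearMap.ker (LinearMap.funLeft F F (Sum.inr : Fin m → Fin m ⊕ Fin m))

omit [Fintype F] [CharP F 2] in
theorem mem_stdW (m : ℕ) (v : Fin m ⊕ Fin m → F) : v ∈ stdW m F ↔ ∀ i, v (Sum.inr i) = 0 := by
  rw [LinearMap.mem_ker]
  constructor
  · intro h i
    exact congrFun h i
  · intro h
    funext i
    exact h i

/-- an isometry stabilising the standard maximal totally singular subspace lies in `Ω` -/
theorem mem_omega_of_stab (m : ℕ) (hm1 : 1 ≤ m) (h : Fintype.card F ≠ 2 ∨ m ≠ 2) :
    ∀ (Qf : (Fin m ⊕ Fin m → F) → F) (_ : Qf = Cfsg.quadFormPlus m F)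
      (g : ↥(Cfsg.isometryGroup F Qf)),
      (stdW m F).map (Matrix.mulVecLin ((g : Matrix.GeneralLinearGroup (Fin m ⊕ Fin m) F) :
        Matrix (Fin m ⊕ Fin m) (Fin m ⊕ Fin m) F)) = stdW m F →
      g ∈ commutator ↥(Cfsg.isometryGroup F Qf) := by
  intro Qf hQf g hg
  subst hQf
  have h1 := Cfsg.Agent.S2630.result hm1 h g
  have h2 := Cfsg.Agent.S2630.result hm1 h (1 : ↥(Cfsg.isometryGroup F (Cfsg.quadFormPlus m F)))
  have h3 : (stdW m F).map (Matrix.mulVecLin (((1 : ↥(Cfsg.isometryGroup F
      (Cfsg.quadFormPlus m F))) : Matrix.GeneralLinearGroup (Fin m ⊕ Fin m) F) :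
        Matrix (Fin m ⊕ Fin m) (Fin m ⊕ Fin m) F)) = stdW m F := by
    have : (((1 : ↥(Cfsg.isometryGroup F (Cfsg.quadFormPlus m F))) :
        Matrix.GeneralLinearGroup (Fin m ⊕ Fin m) F) :
        Matrix (Fin m ⊕ Fin m) (Fin m ⊕ Fin m) F) = 1 := rfl
    rw [this, Matrix.mulVecLin_one]
    exact Submodule.map_id _
  rw [hg] at h1
  rw [h3] at h2
  exact h1.1 (h2.2 (Subgroup.one_mem _))

/-- the standard totally singular frame -/
def stdFr (N : ℕ) (F : Type u) [Field F] (a : Fin N ⊕ Fin N) :
    Fin (N + N) ⊕ Fin (N + N) → F :=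
  Pi.single (Sum.inl (finSumFinEquiv a)) 1

omit [Fintype F] in
theorem isFr_stdFr (N : ℕ) :
    IsFr (plusForm (N + N) F) (Sum.swap : Fin N ⊕ Fin N → Fin N ⊕ Fin N) (stdFr N F) := by
  have hsw : ∀ a : Fin N ⊕ Fin N, Sum.swap a ≠ a := by
    intro a
    cases a <;> simp
  refine ⟨fun a => ?_, fun a b => ?_, ?_⟩
  · rw [if_neg (hsw a)]
    exact Cfsg.Agent.Lib.Helper43.plusForm_single_inl (N + N) F _
  · unfold stdFr
    rw [Cfsg.Agent.Lib.Helper43.polar_plusForm_inl, Pi.single_apply, if_neg]
    exact Sum.inr_ne_inl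
  · have h1 := (Pi.basisFun F (Fin (N + N) ⊕ Fin (N + N))).linearIndependent
    have h2 : Function.Injective (fun a : Fin N ⊕ Fin N =>
        (Sum.inl (finSumFinEquiv a) : Fin (N + N) ⊕ Fin (N + N))) := by
      intro a b hab
      exact finSumFinEquiv.injective (Sum.inl_injective hab)
    have h3 := h1.comp _ h2
    have h4 : (⇑(Pi.basisFun F (Fin (N + N) ⊕ Fin (N + N))) ∘ fun a : Fin N ⊕ Fin N =>
        (Sum.inl (finSumFinEquiv a) : Fin (N + N) ⊕ Fin (N + N))) = stdFr N F := by
      funext a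
      simp [stdFr]
    rw [h4] at h3
    exact h3

omit [Fintype F] [CharP F 2] in
theorem span_stdFr (N : ℕ) : Submodule.span F (Set.range (stdFr N F)) = stdW (N + N) F := by
  apply le_antisymm
  · rw [Submodule.span_le]
    rintro _ ⟨a, rfl⟩
    rw [SetLike.mem_coe, mem_stdW]
    intro i
    unfold stdFr
    rw [Pi.single_apply, if_neg]
    exact Sum.inr_ne_inl
  · intro v hv
    rw [mem_stdW] at hv
    have h1 : v = ∑ j, v j • (Pi.single j 1 : Fin (N + N) ⊕ Fin (N + N) → F) := by
      funext k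
      simp [Finset.sum_apply, Pi.single_apply]
    rw [h1, Fintype.sum_sum_type]
    apply Submodule.add_mem
    · apply Submodule.sum_mem
      intro i _
      apply Submodule.smul_mem
      apply Submodule.subset_span
      exact ⟨finSumFinEquiv.symm i, by unfold stdFr; rw [Equiv.apply_symm_apply]⟩
    · apply Submodule.sum_mem
      intro i _
      rw [hv i, zero_smul]
      exact Submodule.zero_mem _

/-- the centralizer of an involution of alternating type of maximal rank lies in `Ω` -/
theorem centralizer_le_omega_of_max (N : ℕ) (hN : 1 ≤ N)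
    (h : Fintype.card F ≠ 2 ∨ N + N ≠ 2)
    (x : ↥(Cfsg.isometryGroup F ⇑(plusForm (N + N) F)))
    (w : Fin N ⊕ Fin N → (Fin (N + N) ⊕ Fin (N + N) → F))
    (hfr : IsFr (plusForm (N + N) F) (Sum.swap : Fin N ⊕ Fin N → Fin N ⊕ Fin N) w)
    (hdesc : Describes (plusForm (N + N) F) (Sum.swap : Fin N ⊕ Fin N → Fin N ⊕ Fin N) w
      (gm (plusForm (N + N) F) x)) :
    Subgroup.centralizer ({x} : Set ↥(Cfsg.isometryGroup F ⇑(plusForm (N + N) F))) ≤
      commutator ↥(Cfsg.isometryGroup F ⇑(plusForm (N + N) F)) := by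
  classical
  have hQ := plusForm_nondegenerate (N + N) F
  obtain ⟨hh, hhw⟩ := exists_iso_map_frames hQ (isFr_stdFr N) hfr
  obtain ⟨d, hd⟩ := exists_dual_family hQ w hfr.2.2
  -- elements of the centralizer preserve the span of the frame
  have hpres : ∀ g : ↥(Cfsg.isometryGroup F ⇑(plusForm (N + N) F)), g * x = x * g → ∀ a,
      gm (plusForm (N + N) F) g *ᵥ w a ∈ Submodule.span F (Set.range w) := by
    intro g hg a
    have h1 : w a = (gm (plusForm (N + N) F) x - 1) *ᵥ d (Sum.swap a) := by
      rw [sub_mulVec, one_mulVec, hdesc, add_sub_cancel_left]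
      rw [Finset.sum_eq_single a]
      · rw [hd, if_pos rfl, one_smul]
      · intro b _ hb
        rw [hd, if_neg, zero_smul]
        intro hab
        have := congrArg Sum.swap hab
        rw [Sum.swap_swap, Sum.swap_swap] at this
        exact hb this.symm
      · intro h0
        exact absurd (Finset.mem_univ a) h0
    have h2 : gm (plusForm (N + N) F) g * (gm (plusForm (N + N) F) x - 1) = (gm (plusForm (N + N) F) x - 1) * gm (plusForm (N + N) F) g := by
      rw [mul_sub, sub_mul, mul_one, one_mul, ← gm_mul, ← gm_mul, hg]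
    rw [h1, mulVec_mulVec, h2, ← mulVec_mulVec, sub_mulVec, one_mulVec, hdesc, add_sub_cancel_left]
    apply Submodule.sum_mem
    intro b _
    apply Submodule.smul_mem
    exact Submodule.subset_span ⟨b, rfl⟩
  have hhinv : ∀ a, gm (plusForm (N + N) F) hh⁻¹ *ᵥ w a = stdFr N F a := by
    intro a
    rw [← hhw a, gm_inv_mulVec]
  -- the conjugate stabilises the standard subspace
  have hstab : ∀ g : ↥(Cfsg.isometryGroup F ⇑(plusForm (N + N) F)), g * x = x * g →
      (stdW (N + N) F).map (Matrix.mulVecLin (gm (plusForm (N + N) F) (hh⁻¹ * g * hh))) ≤ stdW (N + N) F := by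
    intro g hg
    rw [← span_stdFr, Submodule.map_span_le]
    rintro _ ⟨a, rfl⟩
    rw [Matrix.mulVecLin_apply, gm_mul, gm_mul, ← mulVec_mulVec, ← mulVec_mulVec, hhw]
    have h1 := hpres g hg a
    rw [Submodule.mem_span_range_iff_exists_fun] at h1
    obtain ⟨c, hc⟩ := h1
    rw [← hc, mulVec_sum]
    apply Submodule.sum_mem
    intro b _
    rw [mulVec_smul, hhinv]
    apply Submodule.smul_mem
    exact Submodule.subset_span ⟨b, rfl⟩
  intro g hg
  rw [Subgroup.mem_centralizer_singleton_iff] at hg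
  have hle := hstab g hg
  have hinj : Function.Injective (Matrix.mulVecLin (gm (plusForm (N + N) F) (hh⁻¹ * g * hh))) := by
    intro u v huv
    rw [Matrix.mulVecLin_apply, Matrix.mulVecLin_apply] at huv
    have : gm (plusForm (N + N) F) (hh⁻¹ * g * hh)⁻¹ *ᵥ (gm (plusForm (N + N) F) (hh⁻¹ * g * hh) *ᵥ u) =
        gm (plusForm (N + N) F) (hh⁻¹ * g * hh)⁻¹ *ᵥ (gm (plusForm (N + N) F) (hh⁻¹ * g * hh) *ᵥ v) := by rw [huv]
    rwa [gm_inv_mulVec, gm_inv_mulVec] at this
  have heq : (stdW (N + N) F).map (Matrix.mulVecLin (gm (plusForm (N + N) F) (hh⁻¹ * g * hh))) = stdW (N + N) F := by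
    apply Submodule.eq_of_le_of_finrank_le hle
    rw [← (Submodule.equivMapOfInjective _ hinj (stdW (N + N) F)).finrank_eq]
  have hmem := mem_omega_of_stab (N + N) (by omega) h (⇑(plusForm (N + N) F)) (plusForm_coe (N + N) F).symm
    (hh⁻¹ * g * hh) heq
  have hn : (commutator ↥(Cfsg.isometryGroup F ⇑(plusForm (N + N) F))).Normal := inferInstance
  have := hn.conj_mem _ hmem hh
  have h5 : hh * (hh⁻¹ * g * hh) * hh⁻¹ = g := by group
  rw [h5] at this
  exact this

theorem ZZ_ne_pow (q r : ℕ) (hq : 2 ≤ q) :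
    Cfsg.Agent.Lib.Helper43.ZZ q 0 1 (r + 1) ≠ q ^ (2 * (r + 1)) := by
  rw [Cfsg.Agent.Lib.Helper43.ZZ_plus q (by omega) r]
  intro heq
  have ha : 1 ≤ q ^ r := Nat.one_le_pow _ _ (by omega)
  have e1 : q ^ (r + 1) = q ^ r * q := pow_succ _ _
  have e2 : q ^ (2 * (r + 1)) = (q ^ r * q) * (q ^ r * q) := by
    rw [← e1, ← pow_two, ← pow_mul, mul_comm]
  rw [e1, e2] at heq
  generalize q ^ r = a at *
  have h1 : 1 ≤ a * q := by nlinarith
  zify [h1] at heq
  have hA : (0 : ℤ) < a := by exact_mod_cast ha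
  have hQ1 : (0 : ℤ) < (q : ℤ) - 1 := by
    have : (2 : ℤ) ≤ q := by exact_mod_cast hq
    linarith
  have hAQ : (0 : ℤ) < (a : ℤ) * q - 1 := by
    have : (1 : ℤ) ≤ (a : ℤ) * q := by exact_mod_cast h1
    nlinarith
  have hprod : (a : ℤ) * ((q : ℤ) - 1) * ((a : ℤ) * q - 1) = 0 := by
    linear_combination (-1 : ℤ) * heq
  have hpos : (0 : ℤ) < (a : ℤ) * ((q : ℤ) - 1) * ((a : ℤ) * q - 1) :=
    mul_pos (mul_pos hA hQ1) hAQ
  rw [hprod] at hpos
  exact lt_irrefl _ hpos

/-- the centralizer in `Ω` of an involution of alternating type -/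
theorem card_centralizer_omega_alt (m s : ℕ) (h : Fintype.card F ≠ 2 ∨ m ≠ 2)
    (x : ↥(Cfsg.isometryGroup F ⇑(plusForm m F))) (hx : x * x = 1)
    (hs : (gm (plusForm m F) x - 1).rank = s)
    (halt : ∀ v, plusForm m F ((gm (plusForm m F) x - 1) *ᵥ v) = 0) (hs0 : s ≠ 0)
    (r : ℕ) (hm : m = s + r) :
    ∃ N, s = N + N ∧
      (r = 0 → Nat.card {g : ↥(commutator ↥(Cfsg.isometryGroup F ⇑(plusForm m F))) //
          (g : ↥(Cfsg.isometryGroup F ⇑(plusForm m F))) * x =
            x * (g : ↥(Cfsg.isometryGroup F ⇑(plusForm m F)))} =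
        Fintype.card F ^ (pretri s) * spOrd (Fintype.card F) N) ∧
      (∀ r', r = r' + 1 →
        Nat.card {g : ↥(commutator ↥(Cfsg.isometryGroup F ⇑(plusForm m F))) //
          (g : ↥(Cfsg.isometryGroup F ⇑(plusForm m F))) * x =
            x * (g : ↥(Cfsg.isometryGroup F ⇑(plusForm m F)))} =
        Fintype.card F ^ (pretri s + 2 * r * s) * spOrd (Fintype.card F) N *
          (Fintype.card F ^ ((r' + 1) * r') * (Fintype.card F ^ (r' + 1) - 1) *
            ∏ i ∈ Finset.range r', (Fintype.card F ^ (2 * (i + 1)) - 1))) := by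
  classical
  have h2 : (2 : F) = 0 := two_eq_zero_of_charP
  have hQ := plusForm_nondegenerate m F
  have hm1 : 1 ≤ m := by omega
  obtain ⟨N, hsN, hcount, w, hfr, hdesc⟩ :=
    card_centralizer_alt' (plusForm m F) hQ x hx s hs halt
  refine ⟨N, hsN, ?_, ?_⟩
  · intro hr0
    have hD := card_fr_zero_plus (F := F) s r m hm hm1
    rw [plusForm_coe] at hD
    rw [← hD] at hcount
    have hGpos : 0 < Nat.card ↥(Cfsg.isometryGroup F ⇑(plusForm m F)) := Nat.card_pos
    have hDpos : 0 < Nat.card (Fr (plusForm m F) 0 s) := by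
      rw [← hD] at hGpos
      exact Nat.pos_of_mul_pos_right hGpos
    have hC : Nat.card (Subgroup.centralizer
        ({x} : Set ↥(Cfsg.isometryGroup F ⇑(plusForm m F)))) =
        Fintype.card F ^ (pretri s) * spOrd (Fintype.card F) N := by
      apply Nat.eq_of_mul_eq_mul_right hDpos
      rw [hcount, hr0, oplusOrd_zero]
      ring
    rw [← hC]
    have hmN : m = N + N := by omega
    subst hmN
    exact card_centralizer_in_of_le _ x
      (centralizer_le_omega_of_max N (by omega) h x w hfr hdesc)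
  · intro r' hr'
    -- a nonsingular vector orthogonal to the frame
    have hex0 : ∃ v₀, plusForm m F v₀ ≠ 0 ∧ ∀ a, polar (plusForm m F) (w a) v₀ = 0 := by
      by_contra hcon
      push_neg at hcon
      set w' : Fin (N + N) → (Fin m ⊕ Fin m → F) := w ∘ finSumFinEquiv.symm with hw'def
      have hw' : LinearIndependent F w' := hfr.2.2.comp _ finSumFinEquiv.symm.injective
      have hsw : ∀ a : Fin N ⊕ Fin N, Sum.swap a ≠ a := by
        intro a
        cases a <;> simp
      have hq' : ∀ a, plusForm m F (w' a) = 0 := fun a => by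
        rw [hw'def, Function.comp_apply, hfr.1]
        exact if_neg (hsw _)
      have ho' : ∀ a b, polar (plusForm m F) (w' a) (w' b) = 0 := fun a b => hfr.2.1 _ _
      obtain ⟨-, hc1⟩ := card_sing_perp (N + N) (Fin m ⊕ Fin m → F) (plusForm m F) hQ m
        (by rw [finrank_plus]; ring) (card_zeros_plus m) w' hw' hq' ho'
      have hc2 := card_perp_family (plusForm m F) hQ w' hw'
      have hc3 : Nat.card {v : Fin m ⊕ Fin m → F // plusForm m F v = 0 ∧
          ∀ a, polar (plusForm m F) (w' a) v = 0} =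
          Nat.card {v : Fin m ⊕ Fin m → F // ∀ a, polar (plusForm m F) (w' a) v = 0} := by
        apply Nat.card_congr
        apply Equiv.subtypeEquivRight
        intro v
        constructor
        · intro hv
          exact hv.2
        · intro hv
          refine ⟨?_, hv⟩
          by_contra hne
          obtain ⟨a, ha⟩ := hcon v hne
          apply ha
          have := hv (finSumFinEquiv a)
          rw [hw'def, Function.comp_apply, Equiv.symm_apply_apply] at this
          exact this
      rw [hc1, hc2, finrank_plus] at hc3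
      have e1 : m - (N + N) = r' + 1 := by omega
      have e2 : m + m - (N + N) = (N + N) + 2 * (r' + 1) := by omega
      rw [e1, e2, pow_add (Fintype.card F) (N + N) (2 * (r' + 1))] at hc3
      have hqpos : 0 < Fintype.card F ^ (N + N) := pow_pos Fintype.card_pos _
      have := Nat.eq_of_mul_eq_mul_left hqpos hc3
      exact ZZ_ne_pow (Fintype.card F) r' Fintype.one_lt_card this
    obtain ⟨v₀, hv₀, hv₀w⟩ := hex0
    have hxv₀ : gm (plusForm m F) x *ᵥ v₀ = v₀ := by
      rw [hdesc]
      have : ∑ a, polar (plusForm m F) v₀ (w (Sum.swap a)) • w a = 0 := by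
        apply Finset.sum_eq_zero
        intro a _
        rw [polar_comm, hv₀w, zero_smul]
      rw [this, add_zero]
    have hgood : GoodOrth (plusForm m F) := by
      left
      rcases h with h | h
      · exact Or.inl h
      · right
        rw [finrank_plus]
        omega
    have hex : ∃ v, plusForm m F v ≠ 0 := ⟨v₀, hv₀⟩
    have hidx := commutator_index_two_char2_gen h2 (plusForm m F) hQ hgood hex
    have hrN := reflElt_not_mem_commutator h2 (plusForm m F) hQ hgood v₀ hv₀
    have hrC : reflElt (plusForm m F) v₀ hv₀ * x = x * reflElt (plusForm m F) v₀ hv₀ := by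
      have := reflElt_commute_of_fixed (plusForm m F) x v₀ hv₀ hxv₀
      exact mul_inv_eq_iff_eq_mul.1 this
    have hhalf := card_centralizer_in_index_two
      (commutator ↥(Cfsg.isometryGroup F ⇑(plusForm m F))) hidx x _ hrC hrN
    have hD := card_fr_zero_plus (F := F) s r m hm hm1
    rw [plusForm_coe] at hD
    rw [← hD] at hcount
    have hGpos : 0 < Nat.card ↥(Cfsg.isometryGroup F ⇑(plusForm m F)) := Nat.card_pos
    have hDpos : 0 < Nat.card (Fr (plusForm m F) 0 s) := by
      rw [← hD] at hGpos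
      exact Nat.pos_of_mul_pos_right hGpos
    have hC : Nat.card (Subgroup.centralizer
        ({x} : Set ↥(Cfsg.isometryGroup F ⇑(plusForm m F)))) =
        Fintype.card F ^ (pretri s + 2 * r * s) * oplusOrd (Fintype.card F) r *
          spOrd (Fintype.card F) N := by
      apply Nat.eq_of_mul_eq_mul_right hDpos
      rw [hcount]
      ring
    rw [← hhalf, hr', oplusOrd_succ'] at hC
    apply Nat.eq_of_mul_eq_mul_right (show 0 < 2 by norm_num)
    rw [hC, hr']
    ring

end main

end Cfsg.Agent.Lib.Helper44.OrthInv
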