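import Cfsg.Agent.Lib.Helper44.OrthInvNonalt

set_option autoImplicit false

/-!
The centralizer in `Ω⁺_2m(q)`, `q` even, of an involution of non-alternating type (types `b_s`,
`c_s`).
-/

namespace Cfsg.Agent.Lib.Helper44.OrthInv

open Matrix Module QuadraticMap Cfsg.Agent.Lib.Helper8

section main

universe u

variable {F : Type u} [Field F] [Fintype F] [CharP F 2]

/-- the rank of `x - 1` is at most `m` -/
theorem rank_le_of_sq (m : ℕ) (x : ↥(Cfsg.isometryGroup F ⇑(plusForm m F))) (hx : x * x = 1) :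
    (gm (plusForm m F) x - 1).rank ≤ m := by
  have h2 : (2 : F) = 0 := two_eq_zero_of_charP
  have ht := isInvIso_of_sq (plusForm m F) x hx
  have h1 := ht.two_mul_finrank_range_le h2
  rw [finrank_range_nilPart, finrank_plus] at h1
  omega

/-- the centralizer in `Ω` of an involution of non-alternating type -/
theorem card_centralizer_omega_nonalt (m s : ℕ) (h : Fintype.card F ≠ 2 ∨ m ≠ 2)
    (x : ↥(Cfsg.isometryGroup F ⇑(plusForm m F))) (hx : x * x = 1)
    (hs : (gm (plusForm m F) x - 1).rank = s)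
    (hna : ∃ v, plusForm m F ((gm (plusForm m F) x - 1) *ᵥ v) ≠ 0)
    (t r : ℕ) (hst : s = t + 1) (hm : m = t + 1 + r) :
    Nat.card {g : ↥(commutator ↥(Cfsg.isometryGroup F ⇑(plusForm m F))) //
        (g : ↥(Cfsg.isometryGroup F ⇑(plusForm m F))) * x =
          x * (g : ↥(Cfsg.isometryGroup F ⇑(plusForm m F)))} =
      Fintype.card F ^ (tri t + 2 * t * r) * spOrd (Fintype.card F) r * frameCount F s := by
  classical
  have h2 : (2 : F) = 0 := two_eq_zero_of_charP
  have hQ := plusForm_nondegenerate m F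
  obtain ⟨hcount, hfix⟩ := card_centralizer_nonalt (plusForm m F) hQ x hx s hs hna
  obtain ⟨w₀, hw₀, hxw₀⟩ := hfix (by omega)
  have hw₀' : plusForm m F w₀ ≠ 0 := by
    rw [hw₀]
    exact one_ne_zero
  have hgood : GoodOrth (plusForm m F) := by
    left
    rcases h with h | h
    · exact Or.inl h
    · right
      rw [finrank_plus]
      omega
  have hex : ∃ v, plusForm m F v ≠ 0 := ⟨w₀, hw₀'⟩
  have hidx := commutator_index_two_char2_gen h2 (plusForm m F) hQ hgood hex
  have hrN := reflElt_not_mem_commutator h2 (plusForm m F) hQ hgood w₀ hw₀'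
  have hrC : reflElt (plusForm m F) w₀ hw₀' * x = x * reflElt (plusForm m F) w₀ hw₀' := by
    have := reflElt_commute_of_fixed (plusForm m F) x w₀ hw₀' hxw₀
    exact mul_inv_eq_iff_eq_mul.1 this
  have hhalf := card_centralizer_in_index_two
    (commutator ↥(Cfsg.isometryGroup F ⇑(plusForm m F))) hidx x _ hrC hrN
  have hD := card_fr_one_plus (F := F) t r m hm
  rw [plusForm_coe] at hD
  rw [hst] at hcount
  rw [← hD] at hcount
  have hGpos : 0 < Nat.card ↥(Cfsg.isometryGroup F ⇑(plusForm m F)) := Nat.card_pos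
  have hDpos : 0 < Nat.card (Fr (plusForm m F) 1 (t + 1)) := by
    rw [← hD] at hGpos
    exact Nat.pos_of_mul_pos_right hGpos
  have hC : Nat.card (Subgroup.centralizer ({x} : Set ↥(Cfsg.isometryGroup F ⇑(plusForm m F)))) =
      2 * Fintype.card F ^ (tri t + 2 * t * r) * spOrd (Fintype.card F) r *
        frameCount F (t + 1) := by
    apply Nat.eq_of_mul_eq_mul_right hDpos
    rw [hcount]
    ring
  rw [← hhalf] at hC
  rw [hst]
  apply Nat.eq_of_mul_eq_mul_right (show 0 < 2 by norm_num)
  rw [hC]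
  ring

end main

end Cfsg.Agent.Lib.Helper44.OrthInv
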