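import Cfsg.Agent.Lib.Helper44.SympInvCentralizer
import Cfsg.Agent.Lib.Helper44.OrthCharTwo

set_option autoImplicit false

/-!
Centralizer orders of the involutions of non-alternating type of the symplectic group in
characteristic two.
-/

namespace Cfsg.Agent.Lib.Helper44

open Matrix Module

section centorth

variable {F : Type*} [Field F] {m : ℕ}

theorem permMat_id (s : ℕ) : permMat F (id : Fin s → Fin s) = 1 := by
  ext j k
  unfold permMat
  rw [Matrix.one_apply]
  rfl

/-- the order of the centralizer of a standard involution of non-alternating type -/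
theorem card_centralizer_nonalt [Fintype F] [CharP F 2] (s : ℕ) (hsm : s ≤ m) :
    Nat.card (Subgroup.centralizer
      ({stdInvElt F (Fin.castLE hsm) id (fun _ => rfl)} :
        Set (Matrix.symplecticGroup (Fin m) F))) =
    frameCount F s * Nat.card (Helper13.fixFirst F m s) := by
  rw [card_centralizer_stdInvElt (Fin.castLE hsm) (Fin.castLE_injective hsm) id (fun _ => rfl)
    s (castLE_range hsm), ← card_orthogonal_matrices]
  congr 1
  apply Nat.card_congr
  refine Equiv.subtypeEquivRight ?_
  intro P
  rw [permMat_id, Matrix.mul_one]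

/-- the exponent identity for the type `c_s` -/
theorem exp_identity_c (j r : ℕ) :
    2 * (2 * j + 2 + r) * (2 * j + 2) - (3 * (2 * j + 2) ^ 2 - 3 * (2 * j + 2)) / 2 - 1 =
      (2 * j + 1) + ((2 * j + 2) * (2 * j + 2 + 1) / 2 +
        2 * (2 * j + 2) * (2 * j + 2 + r - (2 * j + 2))) := by
  have h1 : 3 * (2 * j + 2) ^ 2 - 3 * (2 * j + 2) = 2 * (6 * j ^ 2 + 9 * j + 3) :=
    Nat.sub_eq_of_eq_add (by ring)
  have h2 : (2 * j + 2) * (2 * j + 2 + 1) = 2 * ((j + 1) * (2 * j + 3)) := by ring
  rw [h1, h2, Nat.mul_div_cancel_left _ two_pos, Nat.mul_div_cancel_left _ two_pos,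
    Nat.add_sub_cancel_left, Nat.sub_sub]
  apply Nat.sub_eq_of_eq_add
  ring

end centorth

end Cfsg.Agent.Lib.Helper44
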