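import Cfsg.Agent.Lib.Helper44.OrthInvFiber
import Cfsg.Agent.Lib.Helper44.OrthInvPlusA
import Cfsg.Agent.Lib.Helper44.SympInvCentralizerOrth
import Cfsg.Agent.Lib.Helper8.DicksonGen
import Cfsg.Agent.Lib.Helper8.OmegaNoSplit

set_option autoImplicit false

/-!
Centralizers of involutions of non-alternating type in orthogonal groups of characteristic two.
-/

namespace Cfsg.Agent.Lib.Helper44.OrthInv

open Matrix Module QuadraticMap Cfsg.Agent.Lib.Helper8

/-- the part of a centralizer inside a normal subgroup of index two that does not contain it -/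
theorem card_centralizer_in_index_two {G : Type*} [Group G] [Finite G] (N : Subgroup G)
    [N.Normal] (hN : N.index = 2) (x t : G) (ht : t * x = x * t) (htN : t ∉ N) :
    Nat.card {g : ↥N // (g : G) * x = x * (g : G)} * 2 =
      Nat.card (Subgroup.centralizer ({x} : Set G)) := by
  set C := Subgroup.centralizer ({x} : Set G) with hC
  have h1 : N.relIndex C ∣ 2 := hN ▸ Subgroup.relIndex_dvd_index_of_normal N C
  have h2 : N.relIndex C ≠ 1 := by
    rw [Ne, Subgroup.relIndex_eq_one]
    intro hle
    apply htN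
    apply hle
    rw [hC, Subgroup.mem_centralizer_singleton_iff]
    exact ht
  have h3 : N.relIndex C = 2 := by
    rcases (Nat.dvd_prime Nat.prime_two).1 h1 with h | h
    · exact absurd h h2
    · exact h
  have h4 := Subgroup.card_mul_index (N.subgroupOf C)
  rw [← Subgroup.relIndex, h3] at h4
  rw [← h4]
  congr 1
  apply Nat.card_congr
  refine
    { toFun := fun g => ⟨⟨g.1.1, ?_⟩, ?_⟩
      invFun := fun c => ⟨⟨c.1.1, ?_⟩, ?_⟩
      left_inv := fun g => rfl
      right_inv := fun c => rfl }
  · exact Subgroup.mem_centralizer_singleton_iff.2 g.2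
  · rw [Subgroup.mem_subgroupOf]
    exact g.1.2
  · have := c.2
    rw [Subgroup.mem_subgroupOf] at this
    exact this
  · exact Subgroup.mem_centralizer_singleton_iff.1 c.1.2

/-- the part of a centralizer inside a subgroup containing it -/
theorem card_centralizer_in_of_le {G : Type*} [Group G] (N : Subgroup G) (x : G)
    (hle : Subgroup.centralizer ({x} : Set G) ≤ N) :
    Nat.card {g : ↥N // (g : G) * x = x * (g : G)} =
      Nat.card (Subgroup.centralizer ({x} : Set G)) := by
  apply Nat.card_congr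
  refine
    { toFun := fun g => ⟨g.1.1, ?_⟩
      invFun := fun c => ⟨⟨c.1, hle c.2⟩, ?_⟩
      left_inv := fun g => rfl
      right_inv := fun c => rfl }
  · rw [Subgroup.mem_centralizer_singleton_iff]
    exact g.2
  · have := c.2
    rw [Subgroup.mem_centralizer_singleton_iff] at this
    exact this

section nonalt

universe u

variable {ι : Type} [Fintype ι] [DecidableEq ι] {F : Type u} [Field F] [Fintype F] [CharP F 2]

/-- the linear map of an involution in the isometry group is an involutive isometry -/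
theorem isInvIso_of_sq (Q : QuadraticForm F (ι → F)) (x : ↥(Cfsg.isometryGroup F ⇑Q))
    (hx : x * x = 1) : IsInvIso Q (Matrix.toLin' (gm Q x)) := by
  refine ⟨fun v => ?_, fun v => ?_⟩
  · rw [Matrix.toLin'_apply]
    exact gm_preserves Q x v
  · rw [Matrix.toLin'_apply, Matrix.toLin'_apply, mulVec_mulVec, ← gm_mul, hx, gm_one,
      one_mulVec]

omit [Fintype F] [CharP F 2] in
theorem nilPart_toLin' (Q : QuadraticForm F (ι → F)) (x : ↥(Cfsg.isometryGroup F ⇑Q))
    (z : ι → F) : nilPart (Matrix.toLin' (gm Q x)) z = (gm Q x - 1) *ᵥ z := by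
  rw [nilPart_apply, Matrix.toLin'_apply, sub_mulVec, one_mulVec]

omit [Fintype F] [CharP F 2] in
theorem finrank_range_nilPart (Q : QuadraticForm F (ι → F)) (x : ↥(Cfsg.isometryGroup F ⇑Q)) :
    finrank F (LinearMap.range (nilPart (Matrix.toLin' (gm Q x)))) = (gm Q x - 1).rank := by
  have : nilPart (Matrix.toLin' (gm Q x)) = (gm Q x - 1).mulVecLin := by
    apply LinearMap.ext
    intro z
    rw [nilPart_toLin', Matrix.mulVecLin_apply]
  rw [this]
  rfl

/-- the centralizer of an involution of non-alternating type, counted against the frames -/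
theorem card_centralizer_nonalt (Q : QuadraticForm F (ι → F))
    (hQ : (QuadraticMap.polarBilin Q).Nondegenerate)
    (x : ↥(Cfsg.isometryGroup F ⇑Q)) (hx : x * x = 1) (s : ℕ) (hs : (gm Q x - 1).rank = s)
    (hna : ∃ v, Q ((gm Q x - 1) *ᵥ v) ≠ 0) :
    Nat.card (Subgroup.centralizer ({x} : Set ↥(Cfsg.isometryGroup F ⇑Q))) *
        Nat.card (Fr Q 1 s) =
      Nat.card ↥(Cfsg.isometryGroup F ⇑Q) * frameCount F s ∧
    (0 < s → ∃ w₀ : ι → F, Q w₀ = 1 ∧ gm Q x *ᵥ w₀ = w₀) := by
  classical
  have h2 : (2 : F) = 0 := two_eq_zero_of_charP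
  have ht := isInvIso_of_sq Q x hx
  obtain ⟨v, hv⟩ := hna
  obtain ⟨s', w, hw⟩ := exists_frame_nonalt h2 exists_sq_char_two hQ ht
    ⟨v, by rw [nilPart_toLin']; exact hv⟩
  have hs' : s' = s := by
    have h1 := hw.finrank_range
    rw [finrank_range_nilPart, hs, Fintype.card_fin] at h1
    exact h1.symm
  subst hs'
  have hfr : IsFr Q (id : Fin s' → Fin s') w := ⟨hw.quad, hw.orth, hw.indep⟩
  have hdesc : Describes Q (id : Fin s' → Fin s') w (gm Q x) := by
    intro z
    have h1 := hw.formula z
    rw [nilPart_toLin', sub_mulVec, one_mulVec] at h1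
    rw [← h1]
    abel
  have hq1 : ∀ a, Q (w a) = 1 := fun a => by
    rw [hfr.1 a]
    exact if_pos rfl
  have hT1 := card_centralizer_mul_card_frames hQ (id : Fin s' → Fin s') x w hfr hdesc
  have hquad : ∀ P : Matrix (Fin s') (Fin s') F,
      P * permMat F (id : Fin s' → Fin s') * Pᵀ = permMat F (id : Fin s' → Fin s') →
      ∀ k, ∑ l, P l k * P l k * Q (w l) = Q (w k) := by
    intro P hP k
    rw [permMat_id, Matrix.mul_one] at hP
    have hP' : Pᵀ * P = 1 := mul_eq_one_comm.1 hP
    have h1 := congrFun (congrFun hP' k) k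
    rw [Matrix.one_apply_eq] at h1
    rw [hq1 k, ← h1]
    show _ = ∑ l, Pᵀ k l * P l k
    refine Finset.sum_congr rfl fun l _ => ?_
    rw [hq1 l, mul_one]
    rfl
  have hT3 := card_describing_frames hQ (id : Fin s' → Fin s') (fun _ => rfl) (gm Q x) w hfr hdesc
    hquad
  have hP : Nat.card {P : Matrix (Fin s') (Fin s') F //
      P * permMat F (id : Fin s' → Fin s') * Pᵀ = permMat F (id : Fin s' → Fin s')} =
      frameCount F s' := by
    rw [← card_orthogonal_matrices s']
    apply Nat.card_congr
    apply Equiv.subtypeEquivRight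
    intro P
    rw [permMat_id, Matrix.mul_one]
  have hFr : Nat.card {w : Fin s' → ι → F // IsFr Q (id : Fin s' → Fin s') w} =
      Nat.card (Fr Q 1 s') := by
    apply Nat.card_congr
    apply Equiv.subtypeEquivRight
    intro w'
    unfold IsFr
    simp only [id_eq, if_true]
  rw [hT3, hP, hFr] at hT1
  refine ⟨hT1, fun hs0 => ?_⟩
  refine ⟨w ⟨0, hs0⟩, ?_, ?_⟩
  · exact hq1 _
  · rw [hdesc]
    have : ∑ a, polar Q (w ⟨0, hs0⟩) (w (id a)) • w a = 0 := by
      apply Finset.sum_eq_zero
      intro a _
      rw [hfr.2.1, zero_smul]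
    rw [this, add_zero]

end nonalt

end Cfsg.Agent.Lib.Helper44.OrthInv
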