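import Mathlib

/-!
Rotation orbits on multisets of residues: the Burnside count used for the classes of prime
order in projective groups.
-/

set_option autoImplicit false

namespace Cfsg.Agent.Lib.Helper44.ProjPrime

/-- multisets of size `n` of residues mod `r`, not concentrated at one residue -/
@[ext]
structure T (n r : ℕ) where
  val : Multiset (ZMod r)
  card_val : Multiset.card val = n
  ne_rep : ∀ j : ZMod r, val ≠ Multiset.replicate n j

variable {n r : ℕ}

/-- the rotation -/
def rot (k : ZMod r) (s : T n r) : T n r :=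
  ⟨Multiset.map (fun j => j + k) s.val, by rw [Multiset.card_map, s.card_val], by
    intro j h
    apply s.ne_rep (j - k)
    rw [Multiset.eq_replicate]
    refine ⟨s.card_val, ?_⟩
    intro b hb
    have h1 : b + k ∈ Multiset.map (fun j => j + k) s.val := Multiset.mem_map.2 ⟨b, hb, rfl⟩
    rw [h] at h1
    rw [← Multiset.eq_of_mem_replicate h1]
    ring⟩

instance instRot : AddAction (ZMod r) (T n r) where
  vadd := rot
  zero_vadd s := by
    apply T.ext
    show Multiset.map (fun j => j + 0) s.val = s.val
    simp
  add_vadd a b s := by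
    apply T.ext
    show Multiset.map (fun j => j + (a + b)) s.val =
      Multiset.map (fun j => j + a) (Multiset.map (fun j => j + b) s.val)
    rw [Multiset.map_map]
    apply Multiset.map_congr rfl
    intro j _
    simp only [Function.comp]
    ring

theorem vadd_val (k : ZMod r) (s : T n r) :
    (k +ᵥ s : T n r).val = Multiset.map (fun j => j + k) s.val := rfl

theorem count_eq_of_fixed [hr : Fact r.Prime] (k : ZMod r) (hk : k ≠ 0) (s : T n r)
    (hs : k +ᵥ s = s) (j j' : ZMod r) :
    Multiset.count j s.val = Multiset.count j' s.val := by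
  have hs' : Multiset.map (fun j => j + k) s.val = s.val := by
    rw [← vadd_val, hs]
  have step : ∀ j, Multiset.count (j + k) s.val = Multiset.count j s.val := by
    intro j
    conv_lhs => rw [← hs']
    exact Multiset.count_map_eq_count' _ _ (add_left_injective k) j
  have ind : ∀ (m : ℕ) (j : ZMod r),
      Multiset.count (j + m • k) s.val = Multiset.count j s.val := by
    intro m
    induction m with
    | zero => intro j; simp
    | succ m ih =>
      intro j
      rw [succ_nsmul, ← add_assoc, step, ih]
  have h1 : j = j' + ((j - j') * k⁻¹).val • k := by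
    rw [nsmul_eq_mul, ZMod.natCast_zmod_val, mul_assoc, inv_mul_cancel₀ hk, mul_one]
    ring
  rw [h1, ind]

theorem card_eq_of_fixed [hr : Fact r.Prime] (k : ZMod r) (hk : k ≠ 0) (s : T n r)
    (hs : k +ᵥ s = s) (j : ZMod r) :
    n = r * Multiset.count j s.val := by
  have : NeZero r := ⟨hr.out.ne_zero⟩
  have h1 : ∑ a : ZMod r, Multiset.count a s.val = Multiset.card s.val :=
    Multiset.sum_count_eq_card (fun a _ => Finset.mem_univ a)
  rw [s.card_val] at h1
  rw [Finset.sum_congr rfl (fun a _ => count_eq_of_fixed k hk s hs a j), Finset.sum_const,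
    Finset.card_univ, ZMod.card, smul_eq_mul] at h1
  exact h1.symm

/-- the balanced multiset -/
def balanced (n r : ℕ) [NeZero r] : Multiset (ZMod r) :=
  (n / r) • (Finset.univ : Finset (ZMod r)).val

theorem card_balanced [NeZero r] (h : r ∣ n) : Multiset.card (balanced n r) = n := by
  unfold balanced
  rw [Multiset.card_nsmul]
  show n / r * Finset.card (Finset.univ : Finset (ZMod r)) = n
  rw [Finset.card_univ, ZMod.card, Nat.div_mul_cancel h]

theorem count_balanced [NeZero r] (j : ZMod r) : Multiset.count j (balanced n r) = n / r := by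
  unfold balanced
  rw [Multiset.count_nsmul, Multiset.count_univ, mul_one]

theorem map_balanced [NeZero r] (k : ZMod r) :
    Multiset.map (fun j => j + k) (balanced n r) = balanced n r := by
  unfold balanced
  rw [Multiset.map_nsmul]
  congr 1
  exact Multiset.map_univ_val_equiv (Equiv.addRight k)

theorem balanced_ne_rep [hr : Fact r.Prime] [NeZero r] (hn : 1 ≤ n) (h : r ∣ n) (j : ZMod r) :
    balanced n r ≠ Multiset.replicate n j := by
  intro hj
  have h1 := congrArg (Multiset.count (j + 1)) hj
  rw [count_balanced, Multiset.count_replicate] at h1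
  have h2 : ¬ j = j + 1 := by
    intro h3
    have h4 : (1 : ZMod r) = 0 := by
      have := congrArg (fun x => x - j) h3
      simpa using this.symm
    haveI : Fact (1 < r) := ⟨hr.out.one_lt⟩
    exact one_ne_zero h4
  rw [if_neg h2] at h1
  have h5 : 0 < n / r := Nat.div_pos (Nat.le_of_dvd hn h) hr.out.pos
  omega

/-- the balanced element of `T` -/
def balancedT [hr : Fact r.Prime] (hn : 1 ≤ n) (h : r ∣ n) : T n r :=
  haveI : NeZero r := ⟨hr.out.ne_zero⟩
  ⟨balanced n r, card_balanced h, balanced_ne_rep hn h⟩

theorem balancedT_fixed [hr : Fact r.Prime] (hn : 1 ≤ n) (h : r ∣ n) (k : ZMod r) :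
    k +ᵥ (balancedT hn h : T n r) = balancedT hn h := by
  haveI : NeZero r := ⟨hr.out.ne_zero⟩
  apply T.ext
  rw [vadd_val]
  exact map_balanced k

theorem eq_balancedT_of_fixed [hr : Fact r.Prime] (hn : 1 ≤ n) (k : ZMod r) (hk : k ≠ 0)
    (s : T n r) (hs : k +ᵥ s = s) : ∃ h : r ∣ n, s = balancedT hn h := by
  haveI : NeZero r := ⟨hr.out.ne_zero⟩
  have h1 := card_eq_of_fixed k hk s hs
  have hd : r ∣ n := ⟨_, h1 0⟩
  refine ⟨hd, ?_⟩
  apply T.ext
  show s.val = balanced n r
  ext j
  rw [count_balanced]
  have h2 := h1 j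
  conv_rhs => rw [h2]
  rw [Nat.mul_div_cancel_left _ hr.out.pos]

/-- `T` as a subtype of the symmetric power -/
def equivSym (n r : ℕ) :
    T n r ≃ {s : Sym (ZMod r) n // ∀ j : ZMod r, s ≠ Sym.replicate n j} where
  toFun t := ⟨⟨t.val, t.card_val⟩, fun j h => t.ne_rep j (by
    rw [← Sym.coe_replicate]
    exact congrArg (fun s : Sym (ZMod r) n => (s : Multiset (ZMod r))) h)⟩
  invFun s := ⟨(s.1 : Multiset (ZMod r)), s.1.2, fun j h => s.2 j (Sym.coe_injective (by
    rw [Sym.coe_replicate]
    exact h))⟩
  left_inv t := rfl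
  right_inv s := rfl

noncomputable instance instFintypeT [NeZero r] : Fintype (T n r) := by
  classical
  exact Fintype.ofEquiv _ (equivSym n r).symm

theorem replicate_injective (hn : 1 ≤ n) :
    Function.Injective (fun j : ZMod r => Sym.replicate n j) := by
  intro a b h
  have h1 : a ∈ Sym.replicate n b := by
    have h2 : a ∈ Sym.replicate n a := Sym.mem_replicate.2 ⟨by omega, rfl⟩
    have h3 : Sym.replicate n a = Sym.replicate n b := h
    rwa [h3] at h2
  exact (Sym.mem_replicate.1 h1).2

theorem card_T [NeZero r] (hn : 1 ≤ n) :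
    Fintype.card (T n r) + r = Nat.choose (n + r - 1) (r - 1) := by
  classical
  have hr : 0 < r := Nat.pos_of_ne_zero (NeZero.ne r)
  have h1 : Fintype.card (Sym (ZMod r) n) = Nat.choose (n + r - 1) (r - 1) := by
    rw [Sym.card_sym_eq_multichoose, ZMod.card, Nat.multichoose_eq]
    have h2 : r + n - 1 = n + r - 1 := by omega
    rw [h2]
    apply Nat.choose_symm_of_eq_add
    omega
  rw [← h1]
  have h3 : Fintype.card (T n r) =
      (Finset.univ.filter (fun s : Sym (ZMod r) n => ¬ ∃ j : ZMod r, s = Sym.replicate n j)).card := by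
    rw [Fintype.card_congr (equivSym n r), Fintype.card_subtype]
    congr 1
    ext s
    simp only [Finset.mem_filter, Finset.mem_univ, true_and, not_exists]
  have h4 : (Finset.univ.filter (fun s : Sym (ZMod r) n => ∃ j : ZMod r, s = Sym.replicate n j)).card
      = r := by
    have h5 : Finset.univ.filter (fun s : Sym (ZMod r) n => ∃ j : ZMod r, s = Sym.replicate n j) =
        Finset.univ.image (fun j : ZMod r => Sym.replicate n j) := by
      ext s
      simp only [Finset.mem_filter, Finset.mem_univ, true_and, Finset.mem_image]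
      constructor
      · rintro ⟨j, rfl⟩; exact ⟨j, rfl⟩
      · rintro ⟨j, rfl⟩; exact ⟨j, rfl⟩
    rw [h5, Finset.card_image_of_injective _ (replicate_injective hn), Finset.card_univ, ZMod.card]
  have h6 := Finset.card_filter_add_card_filter_not
    (s := (Finset.univ : Finset (Sym (ZMod r) n)))
    (fun s : Sym (ZMod r) n => ∃ j : ZMod r, s = Sym.replicate n j)
  rw [h4, Finset.card_univ] at h6
  rw [h3]
  omega

/-- Burnside count of the rotation orbits -/
theorem card_orbits [hr : Fact r.Prime] (hn : 1 ≤ n) :
    Nat.card (Quotient (AddAction.orbitRel (ZMod r) (T n r))) * r + r =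
      Nat.choose (n + r - 1) (r - 1) + (r - 1) * (if r ∣ n then 1 else 0) := by
  classical
  haveI : NeZero r := ⟨hr.out.ne_zero⟩
  have hB := AddAction.sum_card_fixedBy_eq_card_orbits_mul_card_addGroup (ZMod r) (T n r)
  rw [ZMod.card, ← Nat.card_eq_fintype_card (α := Quotient (AddAction.orbitRel (ZMod r) (T n r)))]
    at hB
  rw [← hB, ← card_T hn]
  have hfix : ∀ k : ZMod r, Fintype.card (AddAction.fixedBy (T n r) k) =
      if k = 0 then Fintype.card (T n r) else (if r ∣ n then 1 else 0) := by
    intro k
    by_cases hk : k = 0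
    · rw [if_pos hk, hk]
      apply Fintype.card_congr
      refine ⟨fun s => s.1, fun s => ⟨s, ?_⟩, fun s => rfl, fun s => rfl⟩
      show (0 : ZMod r) +ᵥ s = s
      exact zero_vadd _ s
    · rw [if_neg hk]
      by_cases hd : r ∣ n
      · rw [if_pos hd, Fintype.card_eq_one_iff]
        refine ⟨⟨balancedT hn hd, balancedT_fixed hn hd k⟩, ?_⟩
        rintro ⟨s, hs⟩
        apply Subtype.ext
        obtain ⟨_, h2⟩ := eq_balancedT_of_fixed hn k hk s hs
        exact h2
      · rw [if_neg hd, Fintype.card_eq_zero_iff]
        refine ⟨?_⟩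
        rintro ⟨s, hs⟩
        obtain ⟨h1, _⟩ := eq_balancedT_of_fixed hn k hk s hs
        exact hd h1
  rw [Finset.sum_congr rfl (fun k _ => hfix k), Finset.sum_ite, Finset.sum_const, Finset.sum_const,
    smul_eq_mul, smul_eq_mul]
  have h1 : (Finset.univ.filter (fun k : ZMod r => k = 0)).card = 1 := by
    rw [Finset.filter_eq' Finset.univ (0 : ZMod r), if_pos (Finset.mem_univ _), Finset.card_singleton]
  have h2 : (Finset.univ.filter (fun k : ZMod r => ¬ k = 0)).card = r - 1 := by
    have := Finset.card_filter_add_card_filter_not (s := (Finset.univ : Finset (ZMod r)))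
      (fun k : ZMod r => k = 0)
    rw [h1, Finset.card_univ, ZMod.card] at this
    omega
  rw [h1, h2, one_mul]
  omega

end Cfsg.Agent.Lib.Helper44.ProjPrime
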