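import Mathlib
import Cfsg.Agent.Lib.Helper40.SemisimpleConj
import Cfsg.Agent.Lib.Helper40.PrimeOrder2

/-!
Polynomial and matrix lemmas for the count of classes of prime order in projective groups:
polynomials with prescribed roots of unity, characteristic polynomial of a scalar multiple,
matrices with scalar `r`-th power.
-/

set_option autoImplicit false

namespace Cfsg.Agent.Lib.Helper44.ProjPrime

open Polynomial Cfsg.Agent.Lib.Helper40.SemisimpleConj Cfsg.Agent.Lib.Helper40.PrimeOrder

variable {K : Type*} [Field K]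

/-- the monic polynomial with roots `ω ^ j`, `j ∈ s` -/
noncomputable def P (ω : K) {r : ℕ} (s : Multiset (ZMod r)) : K[X] :=
  (s.map (fun j => X - C (ω ^ j.val))).prod

theorem P_eq (ω : K) {r : ℕ} (s : Multiset (ZMod r)) :
    P ω s = ((s.map (fun j => ω ^ j.val)).map (fun a => X - C a)).prod := by
  unfold P
  rw [Multiset.map_map]
  rfl

theorem roots_P (ω : K) {r : ℕ} (s : Multiset (ZMod r)) :
    (P ω s).roots = s.map (fun j => ω ^ j.val) := by
  rw [P_eq, roots_multiset_prod_X_sub_C]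

theorem P_monic (ω : K) {r : ℕ} (s : Multiset (ZMod r)) : (P ω s).Monic := by
  unfold P
  exact monic_multiset_prod_of_monic _ _ (fun a _ => monic_X_sub_C _)

theorem natDegree_P (ω : K) {r : ℕ} (s : Multiset (ZMod r)) :
    (P ω s).natDegree = Multiset.card s := by
  rw [P_eq, natDegree_multiset_prod_X_sub_C_eq_card, Multiset.card_map]

theorem pow_val_injective {ω : K} {r : ℕ} [NeZero r] (hω : IsPrimitiveRoot ω r) :
    Function.Injective (fun j : ZMod r => ω ^ j.val) := by
  intro a b h
  exact ZMod.val_injective r (hω.pow_inj (ZMod.val_lt a) (ZMod.val_lt b) h)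

theorem P_injective {ω : K} {r : ℕ} [NeZero r] (hω : IsPrimitiveRoot ω r)
    (s s' : Multiset (ZMod r)) (h : P ω s = P ω s') : s = s' := by
  have h1 := congrArg Polynomial.roots h
  rw [roots_P, roots_P] at h1
  exact Multiset.map_injective (pow_val_injective hω) h1

theorem pow_val_add {ω : K} {r : ℕ} [NeZero r] (hω : ω ^ r = 1) (j k : ZMod r) :
    ω ^ (j + k).val = ω ^ k.val * ω ^ j.val := by
  rw [ZMod.val_add, ← pow_add]
  conv_rhs => rw [add_comm, ← Nat.mod_add_div (j.val + k.val) r]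
  rw [pow_add, pow_mul, hω, one_pow, mul_one]

theorem prod_X_sub_C_comp (c : K) (hc : c ≠ 0) (t : Multiset K) :
    C (c ^ Multiset.card t) * ((t.map (fun a => X - C a)).prod).comp (C c⁻¹ * X) =
      (t.map (fun a => X - C (c * a))).prod := by
  induction t using Multiset.induction_on with
  | empty => simp
  | cons a t ih =>
    rw [Multiset.map_cons, Multiset.prod_cons, Multiset.map_cons, Multiset.prod_cons,
      Multiset.card_cons, mul_comp, ← ih, pow_succ, C_mul]
    have h1 : (X - C a : K[X]).comp (C c⁻¹ * X) = C c⁻¹ * X - C a := by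
      rw [sub_comp, X_comp, C_comp]
    have h2 : C c * (C c⁻¹ * X - C a : K[X]) = X - C (c * a) := by
      rw [mul_sub, ← mul_assoc, ← C_mul, mul_inv_cancel₀ hc, C_1, one_mul, C_mul]
    rw [h1, ← h2]
    ring

theorem charpoly_smul {ι : Type*} [Fintype ι] [DecidableEq ι] (A : Matrix ι ι K) (c : K)
    (hc : c ≠ 0) :
    (c • A).charpoly = C (c ^ Fintype.card ι) * A.charpoly.comp (C c⁻¹ * X) := by
  unfold Matrix.charpoly
  have h : Matrix.charmatrix (c • A) =
      C c • (Polynomial.compRingHom (C c⁻¹ * X)).mapMatrix (Matrix.charmatrix A) := by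
    apply Matrix.ext
    intro i j
    rw [Matrix.smul_apply, RingHom.mapMatrix_apply, Matrix.map_apply, smul_eq_mul,
      coe_compRingHom_apply]
    by_cases hij : i = j
    · subst hij
      rw [Matrix.charmatrix_apply_eq, Matrix.charmatrix_apply_eq, sub_comp, X_comp, C_comp,
        Matrix.smul_apply, smul_eq_mul, mul_sub, ← mul_assoc, ← C_mul, mul_inv_cancel₀ hc, C_1,
        one_mul, C_mul]
    · rw [Matrix.charmatrix_apply_ne _ _ _ hij, Matrix.charmatrix_apply_ne _ _ _ hij, neg_comp,
        C_comp, Matrix.smul_apply, smul_eq_mul, mul_neg, C_mul]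
  rw [h, Matrix.det_smul, ← RingHom.map_det, coe_compRingHom_apply, C_pow]

theorem charpoly_smul_P {ι : Type*} [Fintype ι] [DecidableEq ι] {ω : K} {r : ℕ} [NeZero r]
    (hω : ω ^ r = 1) (A : Matrix ι ι K) (s : Multiset (ZMod r)) (hA : A.charpoly = P ω s)
    (k : ZMod r) : ((ω ^ k.val) • A).charpoly = P ω (s.map (fun j => j + k)) := by
  have hω0 : ω ≠ 0 := by
    rintro rfl
    rw [zero_pow (NeZero.ne r)] at hω
    exact zero_ne_one hω
  have hc : ω ^ k.val ≠ 0 := pow_ne_zero _ hω0
  have hcard : Fintype.card ι = Multiset.card s := by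
    rw [← Matrix.charpoly_natDegree_eq_dim A, hA, natDegree_P]
  rw [charpoly_smul A _ hc, hA, hcard, P_eq, ← Multiset.card_map (fun j : ZMod r => ω ^ j.val) s,
    prod_X_sub_C_comp _ hc]
  unfold P
  rw [Multiset.map_map, Multiset.map_map]
  apply congrArg
  apply Multiset.map_congr rfl
  intro j _
  show X - C (ω ^ k.val * ω ^ j.val) = X - C (ω ^ (j + k).val)
  rw [pow_val_add hω]

/-- an irreducible factor of the characteristic polynomial divides every annihilating
polynomial -/
theorem dvd_of_aeval_eq_zero {ι : Type*} [Fintype ι] [DecidableEq ι] (A : Matrix ι ι K)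
    (Q : K[X]) (hQ : aeval A Q = 0) (π : K[X]) (hπ : Irreducible π) (hd : π ∣ A.charpoly) :
    π ∣ Q := by
  by_contra hnd
  obtain ⟨a, b, hab⟩ := (hπ.coprime_iff_not_dvd).2 hnd
  have h1 := congrArg (aeval A) hab
  rw [map_add, map_mul, map_mul, hQ, mul_zero, add_zero, map_one] at h1
  have h2 := congrArg Matrix.det h1
  rw [Matrix.det_mul, det_aeval_eq_zero_of_dvd_charpoly A π hπ hd, mul_zero, Matrix.det_one] at h2
  exact zero_ne_one h2

/-- a matrix with `A ^ r = 1` has characteristic polynomial `P ω s` for a multiset `s` of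
exponents -/
theorem exists_P_of_pow_eq_one {ι : Type*} [Fintype ι] [DecidableEq ι] {ω : K} {r : ℕ} [NeZero r]
    (hω : IsPrimitiveRoot ω r) (A : Matrix ι ι K) (hA : A ^ r = 1) :
    ∃ s : Multiset (ZMod r), Multiset.card s = Fintype.card ι ∧ A.charpoly = P ω s := by
  classical
  have hr : 0 < r := Nat.pos_of_ne_zero (NeZero.ne r)
  have hf0 : A.charpoly ≠ 0 := (Matrix.charpoly_monic A).ne_zero
  have key : ∀ π ∈ UniqueFactorizationMonoid.normalizedFactors A.charpoly,
      ∃ j : ZMod r, π = X - C (ω ^ j.val) := by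
    intro π hπ
    obtain ⟨hπm, hπi, hπd⟩ := (mem_normalizedFactors_iff_monic hf0).1 hπ
    have h1 : π ∣ X ^ r - 1 := dvd_of_pow_eq_one A r hA π hπi hπd
    rw [X_pow_sub_one_eq_prod hr hω] at h1
    obtain ⟨ζ, hζ, hζd⟩ := (Prime.exists_mem_finset_dvd hπi.prime) h1
    rw [mem_nthRootsFinset hr] at hζ
    obtain ⟨i, hi, rfl⟩ := hω.eq_pow_of_pow_eq_one hζ
    refine ⟨(i : ZMod r), ?_⟩
    rw [ZMod.val_natCast_of_lt hi]
    exact eq_of_monic_of_associated hπm (monic_X_sub_C _)
      (hπi.associated_of_dvd (irreducible_X_sub_C _) hζd)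
  choose! jf hjf using key
  refine ⟨(UniqueFactorizationMonoid.normalizedFactors A.charpoly).map jf, ?_, ?_⟩
  · have h1 : A.charpoly = P ω ((UniqueFactorizationMonoid.normalizedFactors A.charpoly).map jf) := by
      unfold P
      rw [Multiset.map_map]
      conv_lhs => rw [← prod_normalizedFactors_of_monic (Matrix.charpoly_monic A)]
      apply congrArg
      conv_lhs => rw [← Multiset.map_id (UniqueFactorizationMonoid.normalizedFactors A.charpoly)]
      apply Multiset.map_congr rfl
      intro π hπ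
      exact hjf π hπ
    have h2 := congrArg Polynomial.natDegree h1
    rw [Matrix.charpoly_natDegree_eq_dim, natDegree_P] at h2
    exact h2.symm
  · unfold P
    rw [Multiset.map_map]
    conv_lhs => rw [← prod_normalizedFactors_of_monic (Matrix.charpoly_monic A)]
    apply congrArg
    conv_lhs => rw [← Multiset.map_id (UniqueFactorizationMonoid.normalizedFactors A.charpoly)]
    apply Multiset.map_congr rfl
    intro π hπ
    exact hjf π hπ

/-- a matrix of order prime to the characteristic whose characteristic polynomial is a power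
of `Q` is annihilated by `Q` -/
theorem aeval_eq_zero_of_charpoly_pow {ι : Type*} [Fintype ι] [DecidableEq ι] (A : Matrix ι ι K)
    (L : ℕ) (hL : (L : K) ≠ 0) (hA : A ^ L = 1) (Q : K[X]) (m : ℕ) (hm : m ≠ 0)
    (hc : A.charpoly = Q ^ m) : aeval A Q = 0 := by
  have h1 : minpoly K A ∣ X ^ L - 1 := by
    apply minpoly.dvd
    rw [map_sub, map_pow, aeval_X, hA, map_one, sub_self]
  have h2 : Squarefree (X ^ L - 1 : K[X]) := by
    have := (separable_X_pow_sub_C (1 : K) hL one_ne_zero).squarefree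
    rwa [C_1] at this
  have h3 : Squarefree (minpoly K A) := h2.squarefree_of_dvd h1
  have h4 : minpoly K A ∣ Q ^ m := by
    rw [← hc]
    exact Matrix.minpoly_dvd_charpoly A
  have h5 : minpoly K A ∣ Q := (h3.dvd_pow_iff_dvd hm).1 h4
  exact aeval_eq_zero_of_dvd_aeval_eq_zero h5 (minpoly.aeval K A)

theorem eq_scalar_of_charpoly {ι : Type*} [Fintype ι] [DecidableEq ι] [Nonempty ι]
    (A : Matrix ι ι K) (L : ℕ) (hL : (L : K) ≠ 0) (hA : A ^ L = 1) (c : K)
    (hc : A.charpoly = (X - C c) ^ Fintype.card ι) : A = c • (1 : Matrix ι ι K) := by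
  have h := aeval_eq_zero_of_charpoly_pow A L hL hA (X - C c) (Fintype.card ι)
    Fintype.card_ne_zero hc
  rw [map_sub, aeval_X, aeval_C, sub_eq_zero, Algebra.algebraMap_eq_smul_one] at h
  exact h

/-- a matrix whose `r`-th power is a scalar that is not an `r`-th power -/
theorem charpoly_of_pow_eq_scalar {ι : Type*} [Fintype ι] [DecidableEq ι] {r : ℕ} (hr : r.Prime)
    (A : Matrix ι ι K) (lam : K) (hA : A ^ r = lam • (1 : Matrix ι ι K))
    (hlam : ∀ b : K, b ^ r ≠ lam) :
    ∃ m : ℕ, Fintype.card ι = r * m ∧ A.charpoly = (X ^ r - C lam) ^ m := by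
  classical
  have hQi : Irreducible (X ^ r - C lam : K[X]) := X_pow_sub_C_irreducible_of_prime hr hlam
  have hQm : (X ^ r - C lam : K[X]).Monic := monic_X_pow_sub_C lam hr.ne_zero
  have hQ : aeval A (X ^ r - C lam : K[X]) = 0 := by
    rw [map_sub, map_pow, aeval_X, aeval_C, hA, Algebra.algebraMap_eq_smul_one, sub_self]
  have hf0 : A.charpoly ≠ 0 := (Matrix.charpoly_monic A).ne_zero
  have key : ∀ π ∈ UniqueFactorizationMonoid.normalizedFactors A.charpoly,
      π = X ^ r - C lam := by
    intro π hπ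
    obtain ⟨hπm, hπi, hπd⟩ := (mem_normalizedFactors_iff_monic hf0).1 hπ
    exact eq_of_monic_of_associated hπm hQm
      (hπi.associated_of_dvd hQi (dvd_of_aeval_eq_zero A _ hQ π hπi hπd))
  have h1 : UniqueFactorizationMonoid.normalizedFactors A.charpoly =
      Multiset.replicate (Multiset.card (UniqueFactorizationMonoid.normalizedFactors A.charpoly))
        (X ^ r - C lam) := Multiset.eq_replicate.2 ⟨rfl, key⟩
  have h2 : A.charpoly = (X ^ r - C lam) ^
      (Multiset.card (UniqueFactorizationMonoid.normalizedFactors A.charpoly)) := by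
    conv_lhs => rw [← prod_normalizedFactors_of_monic (Matrix.charpoly_monic A), h1]
    rw [Multiset.prod_replicate]
  refine ⟨_, ?_, h2⟩
  have h3 := congrArg Polynomial.natDegree h2
  rw [Matrix.charpoly_natDegree_eq_dim, natDegree_pow, natDegree_X_pow_sub_C] at h3
  rw [h3, mul_comm]

theorem dvd_X_pow_sub_one_of_dvd_P {ω : K} {r : ℕ} (hω : ω ^ r = 1) (s : Multiset (ZMod r))
    (π : K[X]) (hπ : Irreducible π) (h : π ∣ P ω s) : π ∣ X ^ r - 1 := by
  unfold P at h
  obtain ⟨j, _, hj⟩ := Prime.exists_mem_multiset_map_dvd hπ.prime h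
  refine dvd_trans hj ?_
  rw [dvd_iff_isRoot, IsRoot.def, eval_sub, eval_pow, eval_X, eval_one, ← pow_mul, mul_comm,
    pow_mul, hω, one_pow, sub_self]

theorem P_replicate (ω : K) {r : ℕ} (m : ℕ) (j : ZMod r) :
    P ω (Multiset.replicate m j) = (X - C (ω ^ j.val)) ^ m := by
  unfold P
  rw [Multiset.map_replicate, Multiset.prod_replicate]

theorem eq_replicate_of_P_eq_pow {ω : K} {r : ℕ} [NeZero r] (hω : IsPrimitiveRoot ω r)
    (s : Multiset (ZMod r)) (c : K) (hs : Multiset.card s ≠ 0)
    (h : P ω s = (X - C c) ^ Multiset.card s) :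
    ∃ j : ZMod r, s = Multiset.replicate (Multiset.card s) j := by
  have h1 := congrArg Polynomial.roots h
  rw [roots_P, roots_pow, roots_X_sub_C] at h1
  have h2 : ∀ j ∈ s, ω ^ j.val = c := by
    intro j hj
    have h3 : ω ^ j.val ∈ Multiset.map (fun j : ZMod r => ω ^ j.val) s :=
      Multiset.mem_map.2 ⟨j, hj, rfl⟩
    rw [h1, Multiset.mem_nsmul] at h3
    exact Multiset.mem_singleton.1 h3.2
  obtain ⟨j₀, hj₀⟩ := Multiset.card_pos_iff_exists_mem.1 (Nat.pos_of_ne_zero hs)
  refine ⟨j₀, Multiset.eq_replicate.2 ⟨rfl, ?_⟩⟩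
  intro j hj
  exact pow_val_injective hω ((h2 j hj).trans (h2 j₀ hj₀).symm)

theorem charpoly_conj {ι : Type*} [Fintype ι] [DecidableEq ι] (A A' B : Matrix ι ι K)
    (h : A * A' = 1) : (A * B * A').charpoly = B.charpoly := by
  have h' : A' * A = 1 := mul_eq_one_comm.1 h
  rw [mul_assoc, Matrix.charpoly_mul_comm, mul_assoc, h', mul_one]

theorem charpoly_smul_one (n : ℕ) (c : K) :
    (c • (1 : Matrix (Fin n) (Fin n) K)).charpoly = (X - C c) ^ n := by
  rw [Matrix.smul_one_eq_diagonal, Matrix.charpoly_diagonal, Finset.prod_const, Finset.card_univ,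
    Fintype.card_fin]

theorem P_coeff_zero_ne_zero {ω : K} (hω0 : ω ≠ 0) {r : ℕ} (s : Multiset (ZMod r)) :
    (P ω s).coeff 0 ≠ 0 := by
  intro h
  have h1 : (0 : K) ∈ (P ω s).roots := by
    rw [mem_roots (P_monic ω s).ne_zero, IsRoot.def, ← coeff_zero_eq_eval_zero]
    exact h
  rw [roots_P, Multiset.mem_map] at h1
  obtain ⟨j, _, hj⟩ := h1
  exact pow_ne_zero _ hω0 hj

theorem Q_coeff_zero_ne_zero {r : ℕ} (hr : r ≠ 0) (lam : K) (hlam : lam ≠ 0) (m : ℕ) :
    ((X ^ r - C lam : K[X]) ^ m).coeff 0 ≠ 0 := by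
  rw [coeff_zero_eq_eval_zero, eval_pow, eval_sub, eval_pow, eval_X, eval_C, zero_pow hr,
    zero_sub]
  exact pow_ne_zero _ (neg_ne_zero.2 hlam)

end Cfsg.Agent.Lib.Helper44.ProjPrime
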