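import Mathlib
import Cfsg.Agent.Lib.Helper44.ProjPrimePoly
import Cfsg.Agent.Lib.Helper44.ProjPrimeOrbits

/-!
Generic count of the classes of elements of prime order `r` in `G / Z(G)` for a matrix group
`G` whose centre consists of the scalars `c` with `c ^ N = 1`, `r ∣ N`.
-/

set_option autoImplicit false

namespace Cfsg.Agent.Lib.Helper44.ProjPrime

open Polynomial

section quot

variable {G : Type*} [Group G]

theorem orderOf_mk_eq_prime_iff {r : ℕ} [Fact r.Prime] (g : G) :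
    orderOf (QuotientGroup.mk g : G ⧸ Subgroup.center G) = r ↔
      g ∉ Subgroup.center G ∧ g ^ r ∈ Subgroup.center G := by
  rw [orderOf_eq_prime_iff, ← QuotientGroup.mk_pow, QuotientGroup.eq_one_iff, ne_eq,
    QuotientGroup.eq_one_iff]
  exact and_comm

theorem isConj_mk_iff (g g' : G) :
    IsConj (QuotientGroup.mk g : G ⧸ Subgroup.center G) (QuotientGroup.mk g') ↔
      ∃ c : G, ∃ z ∈ Subgroup.center G, c * g * c⁻¹ = g' * z := by
  rw [isConj_iff]
  constructor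
  · rintro ⟨cbar, hc⟩
    obtain ⟨c, rfl⟩ := QuotientGroup.mk_surjective cbar
    rw [← QuotientGroup.mk_inv, ← QuotientGroup.mk_mul, ← QuotientGroup.mk_mul] at hc
    have := QuotientGroup.eq.mp hc.symm
    exact ⟨c, _, this, by group⟩
  · rintro ⟨c, z, hz, hcz⟩
    refine ⟨QuotientGroup.mk c, ?_⟩
    rw [← QuotientGroup.mk_inv, ← QuotientGroup.mk_mul, ← QuotientGroup.mk_mul, hcz,
      QuotientGroup.mk_mul, (QuotientGroup.eq_one_iff z).mpr hz, mul_one]

theorem mk_mul_of_mem_center (g z : G) (hz : z ∈ Subgroup.center G) :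
    (QuotientGroup.mk (g * z) : G ⧸ Subgroup.center G) = QuotientGroup.mk g := by
  rw [QuotientGroup.mk_mul, (QuotientGroup.eq_one_iff z).mpr hz, mul_one]

end quot

theorem card_eq_of_rel {α β : Type*} (R : α → β → Prop) (h1 : ∀ a, ∃ b, R a b)
    (h2 : ∀ a b b', R a b → R a b' → b = b') (h3 : ∀ b, ∃ a, R a b)
    (h4 : ∀ a a' b, R a b → R a' b → a = a') : Nat.card α = Nat.card β := by
  choose f hf using h1
  apply Nat.card_congr
  refine Equiv.ofBijective f ⟨?_, ?_⟩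
  · intro a a' h
    exact h4 a a' (f a) (hf a) (h ▸ hf a')
  · intro b
    obtain ⟨a, ha⟩ := h3 b
    exact ⟨a, h2 a _ _ (hf a) ha⟩

/-- the data of a matrix group with scalar centre -/
structure Data (K : Type*) [Field K] (n r N : ℕ) (G : Type*) [Group G] where
  mat : G →* Matrix (Fin n) (Fin n) K
  γ : K
  hγ : IsPrimitiveRoot γ N
  center_iff : ∀ g : G, g ∈ Subgroup.center G ↔
    ∃ c : K, mat g = c • (1 : Matrix (Fin n) (Fin n) K)
  scalar_iff : ∀ c : K, (∃ g : G, mat g = c • (1 : Matrix (Fin n) (Fin n) K)) ↔ c ^ N = 1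
  conj : ∀ g h : G, mat g ^ (r * N) = 1 → mat h ^ (r * N) = 1 →
    (mat g).charpoly = (mat h).charpoly → IsConj g h
  Good : K[X] → Prop
  exists_of_good : ∀ f : K[X], f.Monic → f.natDegree = n → Good f →
    ∃ g : G, (mat g).charpoly = f ∧
      ∀ k : ℕ, (∀ π : K[X], π.Monic → Irreducible π → π ∣ f → π ∣ X ^ k - 1) → mat g ^ k = 1
  good_P : ∀ s : Multiset (ZMod r), Good (P (γ ^ (N / r)) s)
  good_Q : ∀ lam : K, lam ^ N = 1 → ∀ m : ℕ, Good ((X ^ r - C lam) ^ m)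
  pow_mem : ∀ c : K, (c ^ r) ^ N = 1 → ∃ c' : K, c' ^ N = 1 ∧ c' ^ r = c ^ r

variable {K : Type*} [Field K] {n r N : ℕ} {G : Type*} [Group G]

theorem smul_one_inj (hn : 1 ≤ n) (a b : K)
    (h : a • (1 : Matrix (Fin n) (Fin n) K) = b • (1 : Matrix (Fin n) (Fin n) K)) : a = b := by
  have := congrFun (congrFun h ⟨0, hn⟩) ⟨0, hn⟩
  simpa using this

theorem pow_eq_pow_pow {M : Type*} [Monoid M] (a : M) {r N : ℕ} (hrN : r ∣ N) :
    a ^ N = (a ^ r) ^ (N / r) := by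
  rw [← pow_mul, Nat.mul_div_cancel' hrN]

theorem scalar_pow (A : Matrix (Fin n) (Fin n) K) (lam : K) (e M : ℕ)
    (hA : A ^ e = lam • (1 : Matrix (Fin n) (Fin n) K)) :
    A ^ (e * M) = lam ^ M • (1 : Matrix (Fin n) (Fin n) K) := by
  rw [pow_mul, hA, _root_.smul_pow, one_pow]

namespace Data

variable (D : Data K n r N G)
include D

theorem root_of_pow (hrN : r ∣ N) (hN0 : N ≠ 0) (μ : K) (h1 : μ ^ N = 1) (h2 : μ ^ (N / r) = 1) :
    ∃ c : K, c ^ N = 1 ∧ c ^ r = μ := by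
  haveI : NeZero N := ⟨hN0⟩
  obtain ⟨a, _, rfl⟩ := D.hγ.eq_pow_of_pow_eq_one h1
  rw [← pow_mul, D.hγ.pow_eq_one_iff_dvd] at h2
  obtain ⟨M, hM⟩ := hrN
  have hM0 : 0 < M := by
    rcases Nat.eq_zero_or_pos M with h | h
    · rw [h, mul_zero] at hM; exact absurd hM hN0
    · exact h
  have hr0 : 0 < r := by
    rcases Nat.eq_zero_or_pos r with h | h
    · rw [h, zero_mul] at hM; exact absurd hM hN0
    · exact h
  rw [hM, Nat.mul_div_cancel_left _ hr0] at h2
  obtain ⟨b, hb⟩ := Nat.dvd_of_mul_dvd_mul_right hM0 h2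
  refine ⟨D.γ ^ b, ?_, ?_⟩
  · rw [← pow_mul, mul_comm, pow_mul, D.hγ.pow_eq_one, one_pow]
  · rw [← pow_mul, hb, mul_comm]

theorem exists_scalar_of_pow_mem (g : G) (e : ℕ) (hg : g ^ e ∈ Subgroup.center G) :
    ∃ lam : K, D.mat g ^ e = lam • (1 : Matrix (Fin n) (Fin n) K) ∧ lam ^ N = 1 := by
  obtain ⟨c, hc⟩ := (D.center_iff _).1 hg
  refine ⟨c, ?_, (D.scalar_iff c).1 ⟨g ^ e, hc⟩⟩
  rw [← map_pow]
  exact hc

theorem pow_conj_eq (x g g' z : G) (hz : z ∈ Subgroup.center G) (hxz : x * g * x⁻¹ = g' * z)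
    (c : K) (hc : D.mat z = c • (1 : Matrix (Fin n) (Fin n) K)) (e : ℕ) (μ : K)
    (hg : D.mat g ^ e = μ • (1 : Matrix (Fin n) (Fin n) K)) :
    c ^ e • (D.mat g' ^ e) = μ • (1 : Matrix (Fin n) (Fin n) K) := by
  have h1 : (x * g * x⁻¹) ^ e = (g' * z) ^ e := by rw [hxz]
  have hcomm : Commute g' z := Subgroup.mem_center_iff.1 hz g'
  rw [conj_pow, hcomm.mul_pow] at h1
  have h2 := congrArg D.mat h1
  rw [map_mul, map_mul, map_pow, hg, map_mul, map_pow, map_pow, hc, _root_.smul_pow, one_pow,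
    Matrix.mul_smul, mul_one, Matrix.smul_mul, ← map_mul, mul_inv_cancel, map_one,
    Matrix.mul_smul, mul_one] at h2
  exact h2.symm

theorem theta_conj (g g' : G)
    (h : IsConj (QuotientGroup.mk g : G ⧸ Subgroup.center G) (QuotientGroup.mk g')) (μ : K)
    (hg : D.mat g ^ N = μ • (1 : Matrix (Fin n) (Fin n) K)) :
    D.mat g' ^ N = μ • (1 : Matrix (Fin n) (Fin n) K) := by
  obtain ⟨x, z, hz, hxz⟩ := (isConj_mk_iff g g').1 h
  obtain ⟨c, hc⟩ := (D.center_iff z).1 hz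
  have hcN : c ^ N = 1 := (D.scalar_iff c).1 ⟨z, hc⟩
  have := D.pow_conj_eq x g g' z hz hxz c hc N μ hg
  rwa [hcN, one_smul] at this

theorem not_pow_of_type2 (hrN : r ∣ N) (lam : K) (hM : lam ^ (N / r) ≠ 1) (hlamN : lam ^ N = 1) :
    ∀ b : K, b ^ r ≠ lam := by
  intro b hb
  obtain ⟨c', hc'N, hc'r⟩ := D.pow_mem b (by rw [hb]; exact hlamN)
  apply hM
  rw [← hb, ← hc'r, ← pow_mul, Nat.mul_div_cancel' hrN, hc'N]

end Data

section main

variable [hr : Fact r.Prime] (D : Data K n r N G)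

theorem N_ne_zero (hNK : (N : K) ≠ 0) : N ≠ 0 := by
  rintro rfl
  exact hNK Nat.cast_zero

theorem r_ne_zero_K (hrN : r ∣ N) (hNK : (N : K) ≠ 0) : (r : K) ≠ 0 := by
  intro h
  obtain ⟨M, rfl⟩ := hrN
  apply hNK
  rw [Nat.cast_mul, h, zero_mul]

theorem rN_ne_zero_K (hrN : r ∣ N) (hNK : (N : K) ≠ 0) : ((r * N : ℕ) : K) ≠ 0 := by
  rw [Nat.cast_mul]
  exact mul_ne_zero (r_ne_zero_K hrN hNK) hNK

namespace Data

include D

theorem omega_prim (hrN : r ∣ N) (hN0 : N ≠ 0) : IsPrimitiveRoot (D.γ ^ (N / r)) r :=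
  IsPrimitiveRoot.pow (Nat.pos_of_ne_zero hN0) D.hγ (Nat.div_mul_cancel hrN).symm

theorem omega_pow_N : (D.γ ^ (N / r)) ^ N = 1 := by
  rw [← pow_mul, mul_comm, pow_mul, D.hγ.pow_eq_one, one_pow]

theorem omega_pow_r (hrN : r ∣ N) : (D.γ ^ (N / r)) ^ r = 1 := by
  rw [← pow_mul, Nat.div_mul_cancel hrN, D.hγ.pow_eq_one]

theorem scalar_lift (c : K) (hc : c ^ N = 1) :
    ∃ z : G, z ∈ Subgroup.center G ∧ D.mat z = c • (1 : Matrix (Fin n) (Fin n) K) := by
  obtain ⟨z, hz⟩ := (D.scalar_iff c).2 hc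
  exact ⟨z, (D.center_iff z).2 ⟨c, hz⟩, hz⟩

theorem mat_mul_scalar (g z : G) (c : K)
    (hz : D.mat z = c • (1 : Matrix (Fin n) (Fin n) K)) : D.mat (g * z) = c • D.mat g := by
  rw [map_mul, hz, Matrix.mul_smul, mul_one]

theorem mat_conj_charpoly (x g : G) : (D.mat (x * g * x⁻¹)).charpoly = (D.mat g).charpoly := by
  rw [map_mul, map_mul]
  apply charpoly_conj
  rw [← map_mul, mul_inv_cancel, map_one]

theorem type1_conj (hrN : r ∣ N) (hN0 : N ≠ 0) (hn : 1 ≤ n) (g g' : G)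
    (hconj : IsConj (QuotientGroup.mk g : G ⧸ Subgroup.center G) (QuotientGroup.mk g'))
    (hp : D.mat g ^ r = 1) (hp' : D.mat g' ^ r = 1) (s s' : Multiset (ZMod r))
    (hcp : (D.mat g).charpoly = P (D.γ ^ (N / r)) s)
    (hcp' : (D.mat g').charpoly = P (D.γ ^ (N / r)) s') :
    ∃ k : ZMod r, s = s'.map (fun j => j + k) := by
  haveI : NeZero r := ⟨hr.out.ne_zero⟩
  have hω := D.omega_prim hrN hN0
  obtain ⟨x, z, hz, hxz⟩ := (isConj_mk_iff g g').1 hconj
  obtain ⟨c, hc⟩ := (D.center_iff z).1 hz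
  have h := D.pow_conj_eq x g g' z hz hxz c hc r 1 (by rw [hp, one_smul])
  rw [hp'] at h
  have hcr : c ^ r = 1 := smul_one_inj hn _ _ h
  obtain ⟨i, hi, hci⟩ := hω.eq_pow_of_pow_eq_one hcr
  refine ⟨(i : ZMod r), ?_⟩
  apply P_injective hω
  rw [← hcp, ← D.mat_conj_charpoly x g, hxz, D.mat_mul_scalar g' z c hc, ← hci]
  have h2 := charpoly_smul_P hω.pow_eq_one (D.mat g') s' hcp' (i : ZMod r)
  rw [ZMod.val_natCast_of_lt hi] at h2
  exact h2

end Data

/-- the parameter set -/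
abbrev Param (n r : ℕ) : Type :=
  Quotient (AddAction.orbitRel (ZMod r) (T n r)) ⊕ {k : ZMod r // k ≠ 0 ∧ r ∣ n}

/-- the relation between classes and parameters -/
def Rel (C : ConjClasses (G ⧸ Subgroup.center G)) : Param n r → Prop
  | Sum.inl o => ∃ (g : G) (s : T n r),
      (Quotient.mk _ s : Quotient (AddAction.orbitRel (ZMod r) (T n r))) = o ∧
      ConjClasses.mk (QuotientGroup.mk g : G ⧸ Subgroup.center G) = C ∧ D.mat g ^ r = 1 ∧
      (D.mat g).charpoly = P (D.γ ^ (N / r)) s.val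
  | Sum.inr k => ∃ g : G, ConjClasses.mk (QuotientGroup.mk g : G ⧸ Subgroup.center G) = C ∧
      (∃ lam : K, D.mat g ^ r = lam • (1 : Matrix (Fin n) (Fin n) K)) ∧
      D.mat g ^ N = (D.γ ^ (N / r)) ^ k.1.val • (1 : Matrix (Fin n) (Fin n) K)

theorem rel_exists (hrN : r ∣ N) (hNK : (N : K) ≠ 0) (hn : 1 ≤ n)
    (C : ConjClasses (G ⧸ Subgroup.center G))
    (hC : ∃ g : G ⧸ Subgroup.center G, ConjClasses.mk g = C ∧ orderOf g = r) :
    ∃ x, Rel D C x := by
  haveI : NeZero r := ⟨hr.out.ne_zero⟩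
  have hN0 := N_ne_zero hNK
  have hω := D.omega_prim hrN hN0
  obtain ⟨gbar, rfl, ho⟩ := hC
  obtain ⟨g, rfl⟩ := QuotientGroup.mk_surjective gbar
  obtain ⟨hgZ, hgr⟩ := (orderOf_mk_eq_prime_iff g).1 ho
  obtain ⟨lam, hlam, hlamN⟩ := D.exists_scalar_of_pow_mem g r hgr
  by_cases hM : lam ^ (N / r) = 1
  · -- type 1
    obtain ⟨c, hcN, hcr⟩ := D.root_of_pow hrN hN0 lam hlamN hM
    have hc0 : c ≠ 0 := by
      rintro rfl
      rw [zero_pow hN0] at hcN
      exact zero_ne_one hcN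
    have hlam0 : lam ≠ 0 := by
      rw [← hcr]
      exact pow_ne_zero _ hc0
    obtain ⟨z, hz, hzm⟩ := D.scalar_lift c⁻¹ (by rw [inv_pow, hcN, inv_one])
    have hg'r : D.mat (g * z) ^ r = 1 := by
      rw [D.mat_mul_scalar g z _ hzm, _root_.smul_pow, hlam, smul_smul, inv_pow, hcr,
        inv_mul_cancel₀ hlam0, one_smul]
    obtain ⟨s, hcard, hcp⟩ := exists_P_of_pow_eq_one hω (D.mat (g * z)) hg'r
    rw [Fintype.card_fin] at hcard
    have hne : ∀ j : ZMod r, s ≠ Multiset.replicate n j := by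
      intro j hj
      apply hgZ
      haveI : Nonempty (Fin n) := ⟨⟨0, hn⟩⟩
      have h1 : D.mat (g * z) = (D.γ ^ (N / r)) ^ j.val • (1 : Matrix (Fin n) (Fin n) K) := by
        apply eq_scalar_of_charpoly _ r (r_ne_zero_K hrN hNK) hg'r
        rw [hcp, hj, P_replicate, Fintype.card_fin]
      have h2 : g * z ∈ Subgroup.center G := (D.center_iff _).2 ⟨_, h1⟩
      have h3 : g = g * z * z⁻¹ := by group
      rw [h3]
      exact Subgroup.mul_mem _ h2 (Subgroup.inv_mem _ hz)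
    refine ⟨Sum.inl (Quotient.mk _ ⟨s, hcard, hne⟩), g * z, ⟨s, hcard, hne⟩, rfl, ?_, hg'r, hcp⟩
    rw [mk_mul_of_mem_center g z hz]
  · -- type 2
    have h1 : (lam ^ (N / r)) ^ r = 1 := by
      rw [← pow_mul, Nat.div_mul_cancel hrN, hlamN]
    obtain ⟨i, hi, hci⟩ := hω.eq_pow_of_pow_eq_one h1
    have hk0 : (i : ZMod r) ≠ 0 := by
      intro h0
      have h2 := congrArg ZMod.val h0
      rw [ZMod.val_natCast_of_lt hi, ZMod.val_zero] at h2
      apply hM
      rw [← hci, h2, pow_zero]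
    obtain ⟨m, hm, _⟩ := charpoly_of_pow_eq_scalar hr.out (D.mat g) lam hlam
      (D.not_pow_of_type2 hrN lam hM hlamN)
    rw [Fintype.card_fin] at hm
    refine ⟨Sum.inr ⟨(i : ZMod r), hk0, ⟨m, hm⟩⟩, g, rfl, ⟨lam, hlam⟩, ?_⟩
    show D.mat g ^ N = (D.γ ^ (N / r)) ^ (i : ZMod r).val • (1 : Matrix (Fin n) (Fin n) K)
    rw [ZMod.val_natCast_of_lt hi, hci, pow_eq_pow_pow _ hrN, hlam, _root_.smul_pow, one_pow]

theorem rel_param_unique (hrN : r ∣ N) (hNK : (N : K) ≠ 0) (hn : 1 ≤ n)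
    (C : ConjClasses (G ⧸ Subgroup.center G)) (x x' : Param n r)
    (hx : Rel D C x) (hx' : Rel D C x') : x = x' := by
  haveI : NeZero r := ⟨hr.out.ne_zero⟩
  have hN0 := N_ne_zero hNK
  have hω := D.omega_prim hrN hN0
  have key12 : ∀ (g g' : G) (k : ZMod r),
      IsConj (QuotientGroup.mk g : G ⧸ Subgroup.center G) (QuotientGroup.mk g') →
      D.mat g ^ r = 1 →
      D.mat g' ^ N = (D.γ ^ (N / r)) ^ k.val • (1 : Matrix (Fin n) (Fin n) K) → k = 0 := by
    intro g g' k hconj hp hN'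
    have h1 : D.mat g ^ N = (1 : K) • (1 : Matrix (Fin n) (Fin n) K) := by
      rw [pow_eq_pow_pow _ hrN, hp, one_pow, one_smul]
    have h2 := D.theta_conj g g' hconj 1 h1
    rw [hN'] at h2
    have h3 : (D.γ ^ (N / r)) ^ k.val = (D.γ ^ (N / r)) ^ (0 : ZMod r).val := by
      rw [ZMod.val_zero, pow_zero]
      exact smul_one_inj hn _ _ h2
    exact pow_val_injective hω h3
  rcases x with o | k <;> rcases x' with o' | k'
  · obtain ⟨g, s, rfl, hC, hp, hcp⟩ := hx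
    obtain ⟨g', s', rfl, hC', hp', hcp'⟩ := hx'
    have hconj : IsConj (QuotientGroup.mk g : G ⧸ Subgroup.center G) (QuotientGroup.mk g') :=
      ConjClasses.mk_eq_mk_iff_isConj.1 (hC.trans hC'.symm)
    obtain ⟨k, hk⟩ := D.type1_conj hrN hN0 hn g g' hconj hp hp' _ _ hcp hcp'
    congr 1
    apply Quotient.sound
    show AddAction.orbitRel (ZMod r) (T n r) s s'
    rw [AddAction.orbitRel_apply]
    refine ⟨k, ?_⟩
    apply T.ext
    show Multiset.map (fun j => j + k) s'.val = s.val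
    exact hk.symm
  · exfalso
    obtain ⟨g, s, _, hC, hp, _⟩ := hx
    obtain ⟨g', hC', _, hN'⟩ := hx'
    have hconj : IsConj (QuotientGroup.mk g : G ⧸ Subgroup.center G) (QuotientGroup.mk g') :=
      ConjClasses.mk_eq_mk_iff_isConj.1 (hC.trans hC'.symm)
    exact k'.2.1 (key12 g g' k'.1 hconj hp hN')
  · exfalso
    obtain ⟨g', hC', _, hN'⟩ := hx
    obtain ⟨g, s, _, hC, hp, _⟩ := hx'
    have hconj : IsConj (QuotientGroup.mk g : G ⧸ Subgroup.center G) (QuotientGroup.mk g') :=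
      ConjClasses.mk_eq_mk_iff_isConj.1 (hC.trans hC'.symm)
    exact k.2.1 (key12 g g' k.1 hconj hp hN')
  · obtain ⟨g, hC, _, hN⟩ := hx
    obtain ⟨g', hC', _, hN'⟩ := hx'
    have hconj : IsConj (QuotientGroup.mk g : G ⧸ Subgroup.center G) (QuotientGroup.mk g') :=
      ConjClasses.mk_eq_mk_iff_isConj.1 (hC.trans hC'.symm)
    have h2 := D.theta_conj g g' hconj _ hN
    rw [hN'] at h2
    have h3 := pow_val_injective hω (smul_one_inj hn _ _ h2)
    congr 1
    exact Subtype.ext h3.symm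

theorem rel_surj (hrN : r ∣ N) (hNK : (N : K) ≠ 0) (hn : 1 ≤ n) (x : Param n r) :
    ∃ C : ConjClasses (G ⧸ Subgroup.center G),
      (∃ g : G ⧸ Subgroup.center G, ConjClasses.mk g = C ∧ orderOf g = r) ∧ Rel D C x := by
  haveI : NeZero r := ⟨hr.out.ne_zero⟩
  have hN0 := N_ne_zero hNK
  have hω := D.omega_prim hrN hN0
  rcases x with o | ⟨k, hk0, hrn⟩
  · induction o using Quotient.inductionOn with
    | _ s =>
      obtain ⟨g, hcp, hk⟩ := D.exists_of_good (P (D.γ ^ (N / r)) s.val) (P_monic _ _)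
        (by rw [natDegree_P, s.card_val]) (D.good_P _)
      have hpow : D.mat g ^ r = 1 := hk r (fun π _ hπi hπd =>
        dvd_X_pow_sub_one_of_dvd_P (D.omega_pow_r hrN) s.val π hπi hπd)
      have hgZ : g ∉ Subgroup.center G := by
        intro hz
        obtain ⟨c, hc⟩ := (D.center_iff g).1 hz
        have h1 : P (D.γ ^ (N / r)) s.val = (X - C c) ^ (Multiset.card s.val) := by
          rw [← hcp, hc, charpoly_smul_one, s.card_val]
        obtain ⟨j, hj⟩ := eq_replicate_of_P_eq_pow hω s.val c (by rw [s.card_val]; omega) h1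
        rw [s.card_val] at hj
        exact s.ne_rep j hj
      have hgr : g ^ r ∈ Subgroup.center G :=
        (D.center_iff _).2 ⟨1, by rw [map_pow, hpow, one_smul]⟩
      exact ⟨ConjClasses.mk (QuotientGroup.mk g),
        ⟨QuotientGroup.mk g, rfl, (orderOf_mk_eq_prime_iff g).2 ⟨hgZ, hgr⟩⟩,
        g, s, rfl, rfl, hpow, hcp⟩
  · have hlamN : (D.γ ^ k.val) ^ N = 1 := by
      rw [← pow_mul, mul_comm, pow_mul, D.hγ.pow_eq_one, one_pow]
    have hlamM : (D.γ ^ k.val) ^ (N / r) = (D.γ ^ (N / r)) ^ k.val := by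
      rw [← pow_mul, mul_comm, pow_mul]
    have hM : (D.γ ^ k.val) ^ (N / r) ≠ 1 := by
      rw [hlamM]
      intro h
      apply hk0
      apply pow_val_injective hω
      show (D.γ ^ (N / r)) ^ k.val = (D.γ ^ (N / r)) ^ (0 : ZMod r).val
      rw [h, ZMod.val_zero, pow_zero]
    obtain ⟨m, hm⟩ := hrn
    have hm0 : m ≠ 0 := by
      rintro rfl
      omega
    obtain ⟨g, hcp, hk⟩ := D.exists_of_good ((X ^ r - C (D.γ ^ k.val)) ^ m)
      ((monic_X_pow_sub_C _ hr.out.ne_zero).pow m)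
      (by rw [natDegree_pow, natDegree_X_pow_sub_C, hm, mul_comm]) (D.good_Q _ hlamN m)
    have hpowL : D.mat g ^ (r * N) = 1 := hk (r * N) (fun π _ hπi hπd => by
      have h1 : π ∣ X ^ r - C (D.γ ^ k.val) := hπi.prime.dvd_of_dvd_pow hπd
      refine dvd_trans h1 ?_
      have h2 := sub_dvd_pow_sub_pow (X ^ r : K[X]) (C (D.γ ^ k.val)) N
      rwa [← pow_mul, ← C_pow, hlamN, C_1] at h2)
    have hQ := aeval_eq_zero_of_charpoly_pow (D.mat g) (r * N) (rN_ne_zero_K hrN hNK) hpowL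
      (X ^ r - C (D.γ ^ k.val)) m hm0 hcp
    have hpow : D.mat g ^ r = (D.γ ^ k.val) • (1 : Matrix (Fin n) (Fin n) K) := by
      rw [map_sub, map_pow, aeval_X, aeval_C, sub_eq_zero, Algebra.algebraMap_eq_smul_one] at hQ
      exact hQ
    have hN' : D.mat g ^ N = (D.γ ^ (N / r)) ^ k.val • (1 : Matrix (Fin n) (Fin n) K) := by
      rw [pow_eq_pow_pow _ hrN, hpow, _root_.smul_pow, one_pow, hlamM]
    have hgZ : g ∉ Subgroup.center G := by
      intro hz
      obtain ⟨c, hc⟩ := (D.center_iff g).1 hz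
      have hcN := (D.scalar_iff c).1 ⟨g, hc⟩
      have h3 := hN'
      rw [hc, _root_.smul_pow, one_pow, hcN] at h3
      have h4 := smul_one_inj hn _ _ h3
      apply hM
      rw [hlamM, ← h4]
    have hgr : g ^ r ∈ Subgroup.center G := (D.center_iff _).2 ⟨_, by rw [map_pow, hpow]⟩
    exact ⟨ConjClasses.mk (QuotientGroup.mk g),
      ⟨_, rfl, (orderOf_mk_eq_prime_iff g).2 ⟨hgZ, hgr⟩⟩, g, rfl, ⟨_, hpow⟩, hN'⟩

theorem rel_inj (hrN : r ∣ N) (hNK : (N : K) ≠ 0) (hn : 1 ≤ n)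
    (C C' : ConjClasses (G ⧸ Subgroup.center G)) (x : Param n r)
    (h : Rel D C x) (h' : Rel D C' x) : C = C' := by
  haveI : NeZero r := ⟨hr.out.ne_zero⟩
  have hN0 := N_ne_zero hNK
  have hω := D.omega_prim hrN hN0
  rcases x with o | ⟨k, hk0, hrn⟩
  · obtain ⟨g, s, hs, rfl, hp, hcp⟩ := h
    obtain ⟨g', s', hs', rfl, hp', hcp'⟩ := h'
    have h1 : AddAction.orbitRel (ZMod r) (T n r) s s' := Quotient.exact (hs.trans hs'.symm)
    rw [AddAction.orbitRel_apply] at h1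
    obtain ⟨k, hk⟩ := h1
    have hk' : Multiset.map (fun j => j + k) s'.val = s.val := congrArg T.val hk
    obtain ⟨z, hz, hzm⟩ := D.scalar_lift ((D.γ ^ (N / r)) ^ k.val)
      (by rw [← pow_mul, mul_comm, pow_mul, D.omega_pow_N, one_pow])
    have hcz : (D.mat (g' * z)).charpoly = (D.mat g).charpoly := by
      rw [D.mat_mul_scalar g' z _ hzm,
        charpoly_smul_P (D.omega_pow_r hrN) (D.mat g') s'.val hcp' k, hcp, hk']
    have hL : D.mat g ^ (r * N) = 1 := by rw [pow_mul, hp, one_pow]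
    have hL' : D.mat (g' * z) ^ (r * N) = 1 := by
      rw [D.mat_mul_scalar g' z _ hzm, _root_.smul_pow, pow_mul (D.mat g'), hp', one_pow,
        mul_comm r N, pow_mul, ← pow_mul _ k.val N, mul_comm k.val N, pow_mul, D.omega_pow_N,
        one_pow, one_pow, one_smul]
    have hconj := D.conj (g' * z) g hL' hL hcz
    apply ConjClasses.mk_eq_mk_iff_isConj.2
    rw [← mk_mul_of_mem_center g' z hz]
    exact (MonoidHom.map_isConj (QuotientGroup.mk' (Subgroup.center G)) hconj).symm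
  · obtain ⟨g, rfl, ⟨lam, hlam⟩, hN⟩ := h
    obtain ⟨g', rfl, ⟨lam', hlam'⟩, hN'⟩ := h'
    have hlamN : lam ^ N = 1 := (D.scalar_iff lam).1 ⟨g ^ r, by rw [map_pow, hlam]⟩
    have hlam'N : lam' ^ N = 1 := (D.scalar_iff lam').1 ⟨g' ^ r, by rw [map_pow, hlam']⟩
    have hlamM : lam ^ (N / r) = (D.γ ^ (N / r)) ^ k.val := by
      apply smul_one_inj hn
      rw [← hN, pow_eq_pow_pow _ hrN, hlam, _root_.smul_pow, one_pow]
    have hlam'M : lam' ^ (N / r) = (D.γ ^ (N / r)) ^ k.val := by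
      apply smul_one_inj hn
      rw [← hN', pow_eq_pow_pow _ hrN, hlam', _root_.smul_pow, one_pow]
    have hlam0 : lam ≠ 0 := by
      rintro rfl
      rw [zero_pow hN0] at hlamN
      exact zero_ne_one hlamN
    have hω0 : (D.γ ^ (N / r)) ^ k.val ≠ 0 := by
      rw [← hlamM]
      exact pow_ne_zero _ hlam0
    obtain ⟨c, hcN, hcr⟩ := D.root_of_pow hrN hN0 (lam' * lam⁻¹)
      (by rw [mul_pow, inv_pow, hlamN, hlam'N, inv_one, mul_one])
      (by rw [mul_pow, inv_pow, hlamM, hlam'M, mul_inv_cancel₀ hω0])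
    obtain ⟨z, hz, hzm⟩ := D.scalar_lift c hcN
    have hpz : D.mat (g * z) ^ r = lam' • (1 : Matrix (Fin n) (Fin n) K) := by
      rw [D.mat_mul_scalar g z _ hzm, _root_.smul_pow, hlam, smul_smul, hcr,
        inv_mul_cancel_right₀ hlam0]
    have hM' : lam' ^ (N / r) ≠ 1 := by
      rw [hlam'M]
      intro h
      apply hk0
      apply pow_val_injective hω
      show (D.γ ^ (N / r)) ^ k.val = (D.γ ^ (N / r)) ^ (0 : ZMod r).val
      rw [h, ZMod.val_zero, pow_zero]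
    have hnot := D.not_pow_of_type2 hrN lam' hM' hlam'N
    obtain ⟨m1, hm1, hcp1⟩ := charpoly_of_pow_eq_scalar hr.out (D.mat (g * z)) lam' hpz hnot
    obtain ⟨m2, hm2, hcp2⟩ := charpoly_of_pow_eq_scalar hr.out (D.mat g') lam' hlam' hnot
    have hmm : m1 = m2 := Nat.eq_of_mul_eq_mul_left hr.out.pos (hm1.symm.trans hm2)
    have hcpe : (D.mat (g * z)).charpoly = (D.mat g').charpoly := by rw [hcp1, hcp2, hmm]
    have hL : D.mat (g * z) ^ (r * N) = 1 := by
      rw [pow_mul, hpz, _root_.smul_pow, one_pow, hlam'N, one_smul]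
    have hL' : D.mat g' ^ (r * N) = 1 := by
      rw [pow_mul, hlam', _root_.smul_pow, one_pow, hlam'N, one_smul]
    have hconj := D.conj (g * z) g' hL hL' hcpe
    apply ConjClasses.mk_eq_mk_iff_isConj.2
    rw [← mk_mul_of_mem_center g z hz]
    exact MonoidHom.map_isConj (QuotientGroup.mk' (Subgroup.center G)) hconj

theorem card_nonzero_param :
    Nat.card {k : ZMod r // k ≠ 0 ∧ r ∣ n} = (r - 1) * (if r ∣ n then 1 else 0) := by
  classical
  haveI : NeZero r := ⟨hr.out.ne_zero⟩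
  by_cases hd : r ∣ n
  · rw [if_pos hd, mul_one, Nat.card_eq_fintype_card, Fintype.card_subtype]
    have h1 : (Finset.univ.filter (fun k : ZMod r => k ≠ 0 ∧ r ∣ n)) =
        Finset.univ.erase (0 : ZMod r) := by
      ext k
      simp [hd]
    rw [h1, Finset.card_erase_of_mem (Finset.mem_univ _), Finset.card_univ, ZMod.card]
  · rw [if_neg hd, mul_zero]
    haveI : IsEmpty {k : ZMod r // k ≠ 0 ∧ r ∣ n} := ⟨fun k => hd k.2.2⟩
    exact Nat.card_of_isEmpty

include D in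
/-- the generic count -/
theorem main (hrN : r ∣ N) (hNK : (N : K) ≠ 0) (hn : 1 ≤ n) :
    Nat.card {C : ConjClasses (G ⧸ Subgroup.center G) //
      ∃ g : G ⧸ Subgroup.center G, ConjClasses.mk g = C ∧ orderOf g = r} =
    (Nat.choose (n + r - 1) (r - 1) - r - (if r ∣ n then 1 else 0)) / r +
      r * (if r ∣ n then 1 else 0) := by
  haveI : NeZero r := ⟨hr.out.ne_zero⟩
  have h := card_eq_of_rel
    (fun (C : {C : ConjClasses (G ⧸ Subgroup.center G) //
      ∃ g : G ⧸ Subgroup.center G, ConjClasses.mk g = C ∧ orderOf g = r}) (x : Param n r) =>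
        Rel D C.1 x)
    (fun C => rel_exists D hrN hNK hn C.1 C.2)
    (fun C x x' => rel_param_unique D hrN hNK hn C.1 x x')
    (fun x => by
      obtain ⟨C, hC, hR⟩ := rel_surj D hrN hNK hn x
      exact ⟨⟨C, hC⟩, hR⟩)
    (fun C C' x h h' => Subtype.ext (rel_inj D hrN hNK hn C.1 C'.1 x h h'))
  rw [h, Nat.card_sum, card_nonzero_param]
  have hB := card_orbits (n := n) (r := r) hn
  have hrpos : 0 < r := hr.out.pos
  by_cases hd : r ∣ n
  · rw [if_pos hd] at hB ⊢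
    have hpos : 0 < Nat.card (Quotient (AddAction.orbitRel (ZMod r) (T n r))) := by
      haveI : Nonempty (Quotient (AddAction.orbitRel (ZMod r) (T n r))) :=
        ⟨Quotient.mk _ (balancedT hn hd)⟩
      exact Nat.card_pos
    obtain ⟨c, hc⟩ : ∃ c, Nat.card (Quotient (AddAction.orbitRel (ZMod r) (T n r))) = c + 1 :=
      ⟨_, (Nat.succ_pred_eq_of_pos hpos).symm⟩
    rw [hc] at hB ⊢
    rw [add_mul, one_mul] at hB
    have h2 : Nat.choose (n + r - 1) (r - 1) - r - 1 = c * r := by omega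
    rw [h2, Nat.mul_div_cancel _ hrpos]
    omega
  · rw [if_neg hd] at hB ⊢
    have h2 : Nat.choose (n + r - 1) (r - 1) - r - 0 =
        Nat.card (Quotient (AddAction.orbitRel (ZMod r) (T n r))) * r := by omega
    rw [h2, Nat.mul_div_cancel _ hrpos, mul_zero, mul_zero]

end main

end Cfsg.Agent.Lib.Helper44.ProjPrime
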