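import Mathlib
import Cfsg.Agent.Lib.Helper44.ProjPrimeMain
import Cfsg.Agent.Lib.Helper44.GUSemisimple
import Cfsg.Agent.Lib.Helper13.GU

/-!
The classes of elements of odd prime order `r ∣ q + 1` in `PGU_n(q)`: instance of the generic
count `ProjPrime.main`.
-/

set_option autoImplicit false

namespace Cfsg.Agent.Lib.Helper44.ProjPrime

open Polynomial Cfsg.Agent.Lib.Helper44.GUSS Cfsg.Agent.Lib.Helper40.PrimeOrder
  Cfsg.Agent.Lib.Helper43.HermSqrt

variable {K : Type*} [Field K]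

theorem reverse_X_pow_sub_C (e : ℕ) (he : e ≠ 0) (a : K) :
    (X ^ e - C a : K[X]).reverse = 1 - C a * X ^ e := by
  unfold Polynomial.reverse
  rw [natDegree_X_pow_sub_C, reflect_sub, reflect_monomial, reflect_C, revAt_le le_rfl,
    Nat.sub_self, pow_zero]

theorem recip_X_pow_sub_C (e : ℕ) (he : e ≠ 0) (a : K) (ha : a ≠ 0) :
    recip (X ^ e - C a : K[X]) = X ^ e - C a⁻¹ := by
  unfold recip
  rw [reverse_X_pow_sub_C e he]
  have h0 : (X ^ e - C a : K[X]).coeff 0 = -a := by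
    rw [coeff_sub, coeff_X_pow, coeff_C_zero, if_neg (Ne.symm he), zero_sub]
  rw [h0, mul_sub, mul_one, ← mul_assoc, ← C_mul, inv_neg, neg_mul, inv_mul_cancel₀ ha, C_neg, C_neg,
    C_1]
  ring

theorem srecip_X_pow_sub_C (σ : K →+* K) {q : ℕ} (hσq : ∀ a, σ a = a ^ q) (e : ℕ) (he : e ≠ 0)
    (a : K) (ha : a ^ (q + 1) = 1) : srecip σ (X ^ e - C a : K[X]) = X ^ e - C a := by
  have ha0 : a ≠ 0 := by
    rintro rfl
    rw [zero_pow (Nat.succ_ne_zero q)] at ha
    exact zero_ne_one ha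
  unfold srecip
  rw [recip_X_pow_sub_C e he a ha0, Polynomial.map_sub, Polynomial.map_pow, map_X, map_C, hσq]
  congr 2
  rw [inv_pow]
  apply inv_eq_of_mul_eq_one_left
  rw [← pow_succ']
  exact ha

theorem srecip_mul (σ : K →+* K) (f g : K[X]) : srecip σ (f * g) = srecip σ f * srecip σ g := by
  unfold srecip
  rw [recip_mul, Polynomial.map_mul]

theorem srecip_one (σ : K →+* K) : srecip σ (1 : K[X]) = 1 := by
  unfold srecip
  rw [recip_one, Polynomial.map_one]

theorem srecip_pow (σ : K →+* K) (f : K[X]) (m : ℕ) : srecip σ (f ^ m) = srecip σ f ^ m := by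
  induction m with
  | zero => rw [pow_zero, pow_zero, srecip_one]
  | succ m ih => rw [pow_succ, pow_succ, srecip_mul, ih]

theorem srecip_P (σ : K →+* K) {q : ℕ} (hσq : ∀ a, σ a = a ^ q) (ω : K) (hω : ω ^ (q + 1) = 1)
    {r : ℕ} (s : Multiset (ZMod r)) : srecip σ (P ω s) = P ω s := by
  unfold P
  induction s using Multiset.induction_on with
  | empty => simp [srecip_one]
  | cons j s ih =>
    rw [Multiset.map_cons, Multiset.prod_cons, srecip_mul, ih]
    congr 1
    have h1 := srecip_X_pow_sub_C σ hσq 1 one_ne_zero (ω ^ j.val)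
      (by rw [← pow_mul, mul_comm, pow_mul, hω, one_pow])
    rwa [pow_one] at h1

section gu

variable [Fintype K] {q n : ℕ}

/-- the matrix of an element of `GU` -/
noncomputable def guMat (n : ℕ) (K : Type*) [Field K] (q : ℕ) :
    ↥(Cfsg.GU n K q) →* Matrix (Fin n) (Fin n) K :=
  (Units.coeHom (Matrix (Fin n) (Fin n) K)).comp (Cfsg.GU n K q).subtype

theorem guMat_apply (g : ↥(Cfsg.GU n K q)) :
    guMat n K q g = ((g : GL (Fin n) K) : Matrix (Fin n) (Fin n) K) := rfl

theorem q_cast_eq_zero (hK : Fintype.card K = q ^ 2) : (q : K) = 0 := by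
  have h1 : ((q ^ 2 : ℕ) : K) = 0 := by
    rw [← hK]
    exact Nat.cast_card_eq_zero K
  rw [Nat.cast_pow] at h1
  exact pow_eq_zero_iff (two_ne_zero) |>.1 h1

theorem sq_sub_one (q : ℕ) (hq : 1 ≤ q) : q ^ 2 - 1 = (q - 1) * (q + 1) := by
  obtain ⟨k, rfl⟩ : ∃ k, q = k + 1 := ⟨q - 1, by omega⟩
  apply Nat.sub_eq_of_eq_add
  rw [Nat.add_sub_cancel]
  ring

theorem pow_q_add_one_eq_one_of (hK : Fintype.card K = q ^ 2) {r : ℕ} (hr : r.Prime)
    (hr2 : r ≠ 2) (hrq : r ∣ q + 1) (c : K) (hc : (c ^ r) ^ (q + 1) = 1) : c ^ (q + 1) = 1 := by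
  have hq2 := Cfsg.Agent.Lib.Helper13.two_le_q hK
  have hc0 : c ≠ 0 := by
    rintro rfl
    rw [zero_pow hr.ne_zero, zero_pow (Nat.succ_ne_zero q)] at hc
    exact zero_ne_one hc
  have h1 : (c ^ (q + 1)) ^ r = 1 := by rw [← pow_mul, mul_comm, pow_mul, hc]
  have h2 : (c ^ (q + 1)) ^ (q - 1) = 1 := by
    rw [← pow_mul, mul_comm, ← sq_sub_one q (by omega), ← hK]
    exact FiniteField.pow_card_sub_one_eq_one c hc0
  have hcop : Nat.Coprime r (q - 1) := by
    rw [Nat.Prime.coprime_iff_not_dvd hr]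
    intro hd
    have h3 : r ∣ (q + 1) - (q - 1) := Nat.dvd_sub hrq hd
    have h4 : (q + 1) - (q - 1) = 2 := by omega
    rw [h4] at h3
    exact hr2 ((Nat.prime_dvd_prime_iff_eq hr Nat.prime_two).1 h3)
  have h5 : orderOf (c ^ (q + 1)) ∣ Nat.gcd r (q - 1) :=
    Nat.dvd_gcd (orderOf_dvd_of_pow_eq_one h1) (orderOf_dvd_of_pow_eq_one h2)
  rw [hcop.gcd_eq_one, Nat.dvd_one, orderOf_eq_one_iff] at h5
  exact h5

set_option maxHeartbeats 1000000 in
/-- the count for `PGU_n(q)` -/
theorem card_pgu_prime_order (hK : Fintype.card K = q ^ 2) (hn : 1 ≤ n) {r : ℕ} (hr : r.Prime)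
    (hr2 : r ≠ 2) (hrq : r ∣ q + 1) :
    Nat.card {C : ConjClasses (↥(Cfsg.GU n K q) ⧸ Subgroup.center ↥(Cfsg.GU n K q)) //
      ∃ g : ↥(Cfsg.GU n K q) ⧸ Subgroup.center ↥(Cfsg.GU n K q),
        ConjClasses.mk g = C ∧ orderOf g = r} =
    (Nat.choose (n + r - 1) (r - 1) - r - (if r ∣ n then 1 else 0)) / r +
      r * (if r ∣ n then 1 else 0) := by
  classical
  haveI : Fact r.Prime := ⟨hr⟩
  obtain ⟨p, hp⟩ := CharP.exists K
  haveI := hp
  haveI : Fact p.Prime := ⟨CharP.char_is_prime K p⟩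
  have hq2 := Cfsg.Agent.Lib.Helper13.two_le_q hK
  have hq0 : q ≠ 0 := by omega
  obtain ⟨σ, hσq, hσ, c₀, hc₀⟩ := exists_sigma hK
  have hNK : ((q + 1 : ℕ) : K) ≠ 0 := by
    rw [Nat.cast_add, q_cast_eq_zero hK, Nat.cast_one, zero_add]
    exact one_ne_zero
  obtain ⟨u, hu⟩ := IsCyclic.exists_generator (α := Kˣ)
  have hou : orderOf u = q ^ 2 - 1 := by
    rw [orderOf_eq_card_of_forall_mem_zpowers hu, Nat.card_eq_fintype_card, Fintype.card_units, hK]
  have hγ0 : IsPrimitiveRoot (u : K) (q ^ 2 - 1) := by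
    rw [← hou, ← orderOf_units]
    exact IsPrimitiveRoot.orderOf _
  have hpos : 0 < q ^ 2 - 1 := by
    have : 4 ≤ q ^ 2 := by nlinarith
    omega
  have hγ : IsPrimitiveRoot ((u : K) ^ (q - 1)) (q + 1) :=
    IsPrimitiveRoot.pow hpos hγ0 (sq_sub_one q (by omega))
  have hne0 : ∀ c : K, c ^ (q + 1) = 1 → c ≠ 0 := by
    rintro c hc rfl
    rw [zero_pow (Nat.succ_ne_zero q)] at hc
    exact zero_ne_one hc
  let D : Data K n r (q + 1) ↥(Cfsg.GU n K q) :=
    { mat := guMat n K q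
      γ := (u : K) ^ (q - 1)
      hγ := hγ
      center_iff := by
        intro g
        constructor
        · intro hz
          exact Cfsg.Agent.Lib.Helper13.center_GU_scalar hK n g hz
        · rintro ⟨c, hc⟩
          rw [Subgroup.mem_center_iff]
          intro h
          apply Subtype.ext
          apply Units.ext
          show ((h : GL (Fin n) K) : Matrix (Fin n) (Fin n) K) *
            ((g : GL (Fin n) K) : Matrix (Fin n) (Fin n) K) =
            ((g : GL (Fin n) K) : Matrix (Fin n) (Fin n) K) *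
            ((h : GL (Fin n) K) : Matrix (Fin n) (Fin n) K)
          rw [guMat_apply] at hc
          rw [hc, Matrix.mul_smul, Matrix.smul_mul, mul_one, one_mul]
      scalar_iff := by
        intro c
        constructor
        · rintro ⟨g, hg⟩
          rw [guMat_apply] at hg
          have h1 := (mem_GU_iff_cT hq0 σ hσq (g : GL (Fin n) K)).1 g.2
          rw [hg, cT_smul, cT_one, Matrix.smul_mul, Matrix.mul_smul, mul_one, smul_smul] at h1
          have h2 := smul_one_inj hn (σ c * c) 1 (by rw [h1, one_smul])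
          rw [hσq, ← pow_succ] at h2
          exact h2
        · intro hc
          refine ⟨Cfsg.Agent.Lib.Helper13.diagGU n q (fun _ => c) (fun _ => hc), ?_⟩
          rw [guMat_apply, Cfsg.Agent.Lib.Helper13.diagGU_val, Matrix.smul_one_eq_diagonal]
      conj := by
        intro g h hg hh hc
        rw [guMat_apply] at hg hh hc
        obtain ⟨Pm, hPm⟩ := Cfsg.Agent.Lib.Helper40.SemisimpleConj.exists_GL_conj
          ((g : GL (Fin n) K) : Matrix (Fin n) (Fin n) K)
          ((h : GL (Fin n) K) : Matrix (Fin n) (Fin n) K) (r * (q + 1))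
          (rN_ne_zero_K hrq hNK) hg hh hc
        have hP' : Pm * (g : GL (Fin n) K) = (h : GL (Fin n) K) * Pm := Units.ext hPm
        obtain ⟨Q, hQ, hQA⟩ := gu_conj hK (g : GL (Fin n) K) (h : GL (Fin n) K) Pm g.2 h.2 hP'
        rw [isConj_iff]
        refine ⟨⟨Q, hQ⟩, ?_⟩
        apply Subtype.ext
        show Q * (g : GL (Fin n) K) * Q⁻¹ = (h : GL (Fin n) K)
        rw [hQA, mul_inv_cancel_right]
      Good := fun f => f.coeff 0 ≠ 0 ∧ srecip σ f = f
      exists_of_good := by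
        rintro f hfm hfd ⟨hf0, hfs⟩
        obtain ⟨g, _, hcp, hk⟩ := exists_GU_of_charpoly hK p σ hσq hσ c₀ hc₀ f hfm hfd hf0 hfs
        refine ⟨g, hcp, ?_⟩
        intro k hkk
        have h1 := congrArg (guMat n K q) (hk k hkk)
        rw [map_pow, map_one] at h1
        exact h1
      good_P := by
        intro s
        have hω : ((u : K) ^ (q - 1)) ^ ((q + 1) / r) ≠ 0 :=
          pow_ne_zero _ (pow_ne_zero _ (Units.ne_zero u))
        refine ⟨P_coeff_zero_ne_zero hω s, ?_⟩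
        apply srecip_P σ hσq
        rw [← pow_mul, mul_comm, pow_mul, hγ.pow_eq_one, one_pow]
      good_Q := by
        intro lam hlam m
        refine ⟨Q_coeff_zero_ne_zero hr.ne_zero lam (hne0 lam hlam) m, ?_⟩
        rw [srecip_pow, srecip_X_pow_sub_C σ hσq r hr.ne_zero lam hlam]
      pow_mem := by
        intro c hc
        exact ⟨c, pow_q_add_one_eq_one_of hK hr hr2 hrq c hc, rfl⟩ }
  exact main D hrq hNK hn

end gu

end Cfsg.Agent.Lib.Helper44.ProjPrime
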