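import Mathlib

/-! # Rc hive (helper52, S2357): leaf RC-CINV `card_commuting_involutions`. -/

set_option autoImplicit false

namespace Cfsg.Agent.Lib.Helper52.Rc

/-- aux: a cyclic subgroup `A` of order `k` contains a cyclic subgroup of order `j` for `j ∣ k`, `0 < k`. -/
theorem rccinv_exists_sub {G : Type*} [Group G] [Finite G] (A : Subgroup G) (hA : IsCyclic A) (k : ℕ)
    (hk : Nat.card A = k) (j : ℕ) (hjk : j ∣ k) :
    ∃ X : Subgroup G, X ≤ A ∧ IsCyclic X ∧ Nat.card X = j := by
  obtain ⟨a, ha⟩ := IsCyclic.exists_ofOrder_eq_natCard (α := A)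
  rw [hk] at ha
  have hk0 : 0 < k := by rw [← hk]; exact Nat.card_pos
  obtain ⟨l, hl⟩ := hjk
  have hl0 : l ≠ 0 := by
    rintro rfl
    rw [mul_zero] at hl
    omega
  have hj0 : 0 < j := by
    rcases Nat.eq_zero_or_pos j with h | h
    · rw [h, zero_mul] at hl; omega
    · exact h
  have hb : orderOf ((a : G) ^ l) = j := by
    rw [orderOf_pow_of_dvd hl0, Subgroup.orderOf_coe, ha, hl, Nat.mul_div_cancel _ (Nat.pos_of_ne_zero hl0)]
    rw [Subgroup.orderOf_coe, ha, hl]
    exact Dvd.intro_left j rfl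
  refine ⟨Subgroup.zpowers ((a : G) ^ l), ?_, ?_, ?_⟩
  · rw [Subgroup.zpowers_le]
    exact A.pow_mem a.2 l
  · infer_instance
  · rw [Nat.card_zpowers, hb]

/-- aux: `t` commutes with `y` iff `t` centralizes `zpowers y`. -/
theorem rccinv_mem_centralizer_zpowers {G : Type*} [Group G] (t y : G) :
    t ∈ Subgroup.centralizer ((Subgroup.zpowers y : Subgroup G) : Set G) ↔ t * y = y * t := by
  rw [Subgroup.mem_centralizer_iff]
  constructor
  · intro h
    exact (h y (Subgroup.mem_zpowers y)).symm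
  · rintro h _ ⟨n, rfl⟩
    have hc : Commute t y := h
    exact ((hc.zpow_right n).eq).symm

/-- RC-CINV. -/
theorem card_commuting_involutions {G : Type*} [Group G] [Finite G] (A : Subgroup G) (hA : IsCyclic A) (k : ℕ)
    (hk : Nat.card A = k) (j : ℕ) (hj1 : 1 < j) (hjk : j ∣ k)
    (hconj : ∀ X Y : Subgroup G, IsCyclic X → IsCyclic Y → Nat.card X = j → Nat.card Y = j →
      ∃ g : G, Y = X.map (MulAut.conj g).toMonoidHom)
    (c : ℕ)
    (hcent : ∀ H : Subgroup G, IsCyclic H → Nat.card H = k →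
      Nat.card {t : G // orderOf t = 2 ∧ t ∈ Subgroup.centralizer (H : Set G)} = c ∧
        ∀ A₀ : Subgroup G, A₀ ≤ H → A₀ ≠ ⊥ →
          Subgroup.centralizer (A₀ : Set G) = Subgroup.centralizer (H : Set G))
    (y : G) (hy : orderOf y = j) : Nat.card {t : G // orderOf t = 2 ∧ t * y = y * t} = c := by
  obtain ⟨X, hXA, hXc, hXj⟩ := rccinv_exists_sub A hA k hk j hjk
  have hYj : Nat.card (Subgroup.zpowers y) = j := by rw [Nat.card_zpowers, hy]
  obtain ⟨g, hg⟩ := hconj X (Subgroup.zpowers y) hXc inferInstance hXj hYj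
  have hinj : Function.Injective (MulAut.conj g).toMonoidHom := (MulAut.conj g).injective
  set H : Subgroup G := A.map (MulAut.conj g).toMonoidHom with hH
  have e : A ≃* H := A.equivMapOfInjective _ hinj
  have hHc : IsCyclic H := by
    haveI := hA
    exact isCyclic_of_surjective e e.surjective
  have hHk : Nat.card H = k := by rw [← hk]; exact (Nat.card_congr e.toEquiv).symm
  have hYH : Subgroup.zpowers y ≤ H := by
    rw [hg]
    exact Subgroup.map_mono hXA
  have hYne : Subgroup.zpowers y ≠ ⊥ := by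
    intro h
    rw [h, Subgroup.card_bot] at hYj
    omega
  obtain ⟨h1, h2⟩ := hcent H hHc hHk
  rw [← h1, ← h2 _ hYH hYne]
  apply Nat.card_congr
  exact Equiv.subtypeEquivRight (fun t => by rw [rccinv_mem_centralizer_zpowers])

end Cfsg.Agent.Lib.Helper52.Rc
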