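import Mathlib

/-! # Rc hive (helper52, S2357): leaf RC-CLASS `card_orderOf_mul_card_centralizer`. -/

set_option autoImplicit false

namespace Cfsg.Agent.Lib.Helper52.Rc

/-- aux: conjugation preserves the order. -/
theorem rcclass_orderOf_conj {G : Type*} [Group G] (g t : G) : orderOf (g * t * g⁻¹) = orderOf t := by
  have := orderOf_injective (MulAut.conj g).toMonoidHom (MulAut.conj g).injective t
  simpa using this

/-- RC-CLASS. If all elements of order `i` are conjugate to `t`, then `N_i * |C(t)| = |G|`. -/
theorem card_orderOf_mul_card_centralizer {G : Type*} [Group G] [Finite G] (i : ℕ) (t : G) (ht : orderOf t = i)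
    (hconj : ∀ x : G, orderOf x = i → ∃ g : G, g * t * g⁻¹ = x) :
    Nat.card {x : G // orderOf x = i} * Nat.card ↥(Subgroup.centralizer ({t} : Set G)) = Nat.card G := by
  have hset : {x : G | orderOf x = i} = MulAction.orbit (ConjAct G) t := by
    ext x
    simp only [Set.mem_setOf_eq, ConjAct.mem_orbit_conjAct]
    constructor
    · intro hx
      obtain ⟨g, hg⟩ := hconj x hx
      rw [isConj_comm, isConj_iff]
      exact ⟨g, hg⟩
    · intro h
      rw [isConj_comm, isConj_iff] at h
      obtain ⟨g, hg⟩ := h
      rw [← hg, ← ht]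
      exact rcclass_orderOf_conj g t
  have h1 : Nat.card {x : G // orderOf x = i} = (MulAction.orbit (ConjAct G) t).ncard := by
    rw [← hset]
    exact Nat.card_coe_set_eq _
  rw [h1, ← MulAction.index_stabilizer, Subgroup.nat_card_centralizer_nat_card_stabilizer, mul_comm]
  exact Subgroup.card_mul_index _

end Cfsg.Agent.Lib.Helper52.Rc
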