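import Mathlib

/-! # Rc hive (helper52, S2357): leaf RC-TISYL `card_orderOf_of_ti_sylow`. -/

set_option autoImplicit false

namespace Cfsg.Agent.Lib.Helper52.Rc

/-- aux: conjugation preserves the order. -/
theorem rctisyl_orderOf_conj {G : Type*} [Group G] (g t : G) : orderOf (g * t * g⁻¹) = orderOf t := by
  have := orderOf_injective (MulAut.conj g).toMonoidHom (MulAut.conj g).injective t
  simpa using this

/-- aux: all Sylow `p`-subgroups have the same number of elements of order `d`. -/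
theorem rctisyl_card_eq {G : Type*} [Group G] [Finite G] (p : ℕ) [Fact p.Prime] (P Q : Sylow p G) (d : ℕ) :
    Nat.card {x : G // x ∈ (Q : Subgroup G) ∧ orderOf x = d} =
      Nat.card {x : G // x ∈ (P : Subgroup G) ∧ orderOf x = d} := by
  obtain ⟨g, rfl⟩ := MulAction.exists_smul_eq G P Q
  symm
  apply Nat.card_congr
  refine Equiv.subtypeEquiv (MulAut.conj g).toEquiv ?_
  intro x
  have h1 : (MulAut.conj g).toEquiv x = g * x * g⁻¹ := rfl
  rw [h1, rctisyl_orderOf_conj, Sylow.coe_subgroup_smul]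
  have h2 : g * x * g⁻¹ = MulAut.conj g • x := rfl
  rw [h2, Subgroup.smul_mem_pointwise_smul_iff]

/-- aux: an element of order `p ^ e` lies in some Sylow `p`-subgroup. -/
theorem rctisyl_exists_sylow {G : Type*} [Group G] [Finite G] (p : ℕ) [Fact p.Prime] (e : ℕ) (x : G)
    (hx : orderOf x = p ^ e) : ∃ Q : Sylow p G, x ∈ (Q : Subgroup G) := by
  have hp : IsPGroup p (Subgroup.zpowers x) := by
    apply IsPGroup.of_card (n := e)
    rw [Nat.card_zpowers, hx]
  obtain ⟨Q, hQ⟩ := hp.exists_le_sylow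
  exact ⟨Q, hQ (Subgroup.mem_zpowers x)⟩

/-- RC-TISYL. If the Sylow `p`-subgroups of `G` pairwise meet trivially, one of them, `P`, has exactly `a`
elements of order `d` (`d` a power of `p`, `d ≠ 1`), then `N_d * |N(P)| = a * |G|`. -/
theorem card_orderOf_of_ti_sylow {G : Type*} [Group G] [Finite G] (p : ℕ) [Fact p.Prime]
    (hti : ∀ P Q : Sylow p G, P ≠ Q → (P : Subgroup G) ⊓ (Q : Subgroup G) = ⊥)
    (P : Sylow p G) (d e : ℕ) (he : 1 ≤ e) (hd : d = p ^ e) (a : ℕ)
    (ha : Nat.card {x : G // x ∈ (P : Subgroup G) ∧ orderOf x = d} = a) :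
    Nat.card {x : G // orderOf x = d} * Nat.card ↥(Subgroup.normalizer ((P : Subgroup G) : Set G)) = a * Nat.card G := by
  classical
  haveI : Fintype (Sylow p G) := Fintype.ofFinite _
  have hd1 : d ≠ 1 := by
    rw [hd]
    have : 1 < p ^ e := Nat.one_lt_pow (by omega) (Fact.out : p.Prime).one_lt
    omega
  -- the sigma type
  let f : (Σ Q : Sylow p G, {x : G // x ∈ (Q : Subgroup G) ∧ orderOf x = d}) → {x : G // orderOf x = d} :=
    fun s => ⟨s.2.1, s.2.2.2⟩
  have hf : Function.Bijective f := by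
    constructor
    · rintro ⟨Q, x, hxQ, hxd⟩ ⟨Q', x', hxQ', hxd'⟩ h
      have hxx : x = x' := congrArg Subtype.val h
      subst hxx
      have hQQ : Q = Q' := by
        by_contra hne
        have hbot := hti Q Q' hne
        have hxm : x ∈ (Q : Subgroup G) ⊓ (Q' : Subgroup G) := ⟨hxQ, hxQ'⟩
        rw [hbot, Subgroup.mem_bot] at hxm
        rw [hxm, orderOf_one] at hxd
        exact hd1 hxd.symm
      subst hQQ
      rfl
    · rintro ⟨x, hx⟩
      obtain ⟨Q, hQ⟩ := rctisyl_exists_sylow p e x (hx.trans hd)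
      exact ⟨⟨Q, x, hQ, hx⟩, rfl⟩
  have h1 : Nat.card {x : G // orderOf x = d} = Nat.card (Sylow p G) * a := by
    rw [← Nat.card_congr (Equiv.ofBijective f hf), Nat.card_sigma]
    have : ∀ Q : Sylow p G, Nat.card {x : G // x ∈ (Q : Subgroup G) ∧ orderOf x = d} = a := by
      intro Q
      rw [rctisyl_card_eq p P Q d, ha]
    simp_rw [this]
    rw [Finset.sum_const, Finset.card_univ, smul_eq_mul, Nat.card_eq_fintype_card]
  rw [h1, Sylow.card_eq_index_normalizer P, mul_comm _ a, mul_assoc, mul_comm (Subgroup.index _)]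
  congr 1
  exact Subgroup.card_mul_index _

end Cfsg.Agent.Lib.Helper52.Rc
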