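import Mathlib
import Cfsg.Prelude.Def_GeometricClasses
import Cfsg.Agent.Lib.Helper44.SLInvForm
import Cfsg.Agent.Lib.Helper44.SLInvCent

/-!
# Involutions of `PSL_n(q)` and the similarity group of a symplectic form

* `exists_conj_mem_similarity`: if `v₂(q-1) ≤ v₂(n)`, every nonscalar `x ∈ SL_n(q)` with scalar
  square is `SL_n(q)`-conjugate into the similarity group of a given symplectic form.
* `exists_not_conj_mem_similarity`: otherwise some such `x` is not.
-/

set_option autoImplicit false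

namespace Cfsg.Agent.Lib.Helper44.SLInv

open Module LinearMap Matrix

universe v

variable {F : Type v} [Field F] [Fintype F]

theorem exists_conj_mem_similarity {n : ℕ} (hn0 : n ≠ 0) (he : Even n)
    (f : (Fin n → F) → (Fin n → F) → F) (hf : Cfsg.Geo.IsSymplecticForm f)
    (hle : padicValNat 2 (Fintype.card F - 1) ≤ padicValNat 2 n)
    (x : Matrix.SpecialLinearGroup (Fin n) F) (z : F)
    (hx2 : ((x ^ 2 : Matrix.SpecialLinearGroup (Fin n) F) : Matrix (Fin n) (Fin n) F)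
      = z • (1 : Matrix (Fin n) (Fin n) F))
    (hxns : ∀ c : F, (x : Matrix (Fin n) (Fin n) F) ≠ c • (1 : Matrix (Fin n) (Fin n) F)) :
    ∃ P : Matrix.SpecialLinearGroup (Fin n) F, P⁻¹ * x * P ∈
      ((Cfsg.Geo.similarityGroup f).comap (Matrix.SpecialLinearGroup.toGL :
        Matrix.SpecialLinearGroup (Fin n) F →* GL (Fin n) F)) := by
  set xm : Matrix (Fin n) (Fin n) F := (x : Matrix (Fin n) (Fin n) F) with hxm
  have hxx : xm * xm = z • (1 : Matrix (Fin n) (Fin n) F) := by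
    rw [← hx2, Matrix.SpecialLinearGroup.coe_pow, pow_two]
  have hdetx : xm.det = 1 := x.det_coe
  have hz0 : z ≠ 0 := by
    intro h
    have h1 : (xm * xm).det = 1 := by rw [Matrix.det_mul, hdetx, mul_one]
    have : Nonempty (Fin n) := ⟨⟨0, Nat.pos_of_ne_zero hn0⟩⟩
    rw [hxx, h, zero_smul, Matrix.det_zero] at h1
    exact zero_ne_one h1
  let X : (Fin n → F) →ₗ[F] (Fin n → F) := Matrix.toLin' xm
  have hXa : ∀ w, X w = xm *ᵥ w := fun w => Matrix.toLin'_apply xm w
  have hX : ∀ w, X (X w) = z • w := by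
    intro w
    rw [hXa, hXa, Matrix.mulVec_mulVec, hxx, Matrix.smul_mulVec, Matrix.one_mulVec]
  obtain ⟨N, hN⟩ := he
  have hN2 : n = 2 * N := by omega
  have hfr : finrank F (Fin n → F) = 2 * N := by rw [Module.finrank_fin_fun, hN2]
  -- an invariant form
  obtain ⟨ω, μ, hμ0, halt, hnd, hinv⟩ : ∃ (ω : LinearMap.BilinForm F (Fin n → F)) (μ : F),
      μ ≠ 0 ∧ ω.IsAlt ∧ ω.Nondegenerate ∧ ∀ u w, ω (X u) (X w) = μ * ω u w := by
    by_cases hcase : (2 : F) = 0 ∨ ¬ IsSquare z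
    · obtain ⟨ω, halt, hnd, hinv⟩ := exists_form_neg z hcase N (Fin n → F) X hX hfr
      exact ⟨ω, -z, neg_ne_zero.2 hz0, halt, hnd, hinv⟩
    · rw [not_or, not_not] at hcase
      obtain ⟨h2, a, ha⟩ := hcase
      have ha0 : a ≠ 0 := by
        rintro rfl
        rw [mul_zero] at ha
        exact hz0 ha
      have hX' : ∀ w, X (X w) = (a * a) • w := fun w => by rw [hX, ha]
      have hdet := det_eq_of_eigen X a h2 ha0 hX'
      rw [LinearMap.det_toLin', hdetx] at hdet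
      have hc := isCompl_eigen X a h2 ha0 hX'
      have hsum := Submodule.finrank_add_eq_of_isCompl hc
      rw [hfr] at hsum
      set d₁ := finrank F (LinearMap.ker (X - a • LinearMap.id)) with hd₁
      set d₂ := finrank F (LinearMap.ker (X + a • LinearMap.id)) with hd₂
      have hd₂e : Even d₂ := by
        by_contra hodd
        rw [Nat.not_even_iff_odd] at hodd
        have h1 : a ^ n = -1 := by
          have h3 : a ^ d₁ * (-a) ^ d₂ = - a ^ n := by
            rw [neg_pow a d₂, Odd.neg_one_pow hodd, hN2, ← hsum, pow_add]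
            ring
          rw [h3] at hdet
          linear_combination hdet
        exact pow_ne_neg_one h2 hn0 hle a ha0 h1
      obtain ⟨k₂, hk₂⟩ := hd₂e
      have hk₂' : d₂ = 2 * k₂ := by omega
      have hk₁ : d₁ = 2 * (N - k₂) := by omega
      obtain ⟨ω, halt, hnd, hinv⟩ := exists_form_sq X a h2 ha0 hX' (N - k₂) k₂ hk₁ hk₂'
      exact ⟨ω, a * a, mul_ne_zero ha0 ha0, halt, hnd, hinv⟩
  obtain ⟨R, hR⟩ := exists_transport hN2 f hf ω halt hnd
  have hRdet : (R : Matrix (Fin n) (Fin n) F).det ≠ 0 := by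
    have h := R.isUnit
    exact ((Matrix.isUnit_iff_isUnit_det _).1 ((Units.isUnit R))).ne_zero
  obtain ⟨C, hCx, hCdet⟩ := exists_commute_det xm z hz0 hxx hxns ((R : Matrix (Fin n) (Fin n) F).det)⁻¹
  let Qm : Matrix (Fin n) (Fin n) F := (R : Matrix (Fin n) (Fin n) F) * C
  have hQdet : Qm.det = 1 := by
    rw [Matrix.det_mul, hCdet, mul_inv_cancel₀ hRdet]
  let Q : Matrix.SpecialLinearGroup (Fin n) F := ⟨Qm, hQdet⟩
  refine ⟨Q⁻¹, ?_⟩
  rw [Subgroup.mem_comap, inv_inv]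
  refine ⟨Units.mk0 μ hμ0, fun u w => ?_⟩
  have hQQ : Qm * ((Q⁻¹ : Matrix.SpecialLinearGroup (Fin n) F) : Matrix (Fin n) (Fin n) F) = 1 := by
    have h : ((Q * Q⁻¹ : Matrix.SpecialLinearGroup (Fin n) F) : Matrix (Fin n) (Fin n) F) = 1 := by
      rw [mul_inv_cancel]
      rfl
    rwa [Matrix.SpecialLinearGroup.coe_mul] at h
  have hcoe : ((Matrix.SpecialLinearGroup.toGL (Q * x * Q⁻¹) : GL (Fin n) F) :
      Matrix (Fin n) (Fin n) F) = Qm * xm *
        ((Q⁻¹ : Matrix.SpecialLinearGroup (Fin n) F) : Matrix (Fin n) (Fin n) F) := by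
    rw [Matrix.SpecialLinearGroup.coe_GL_coe_matrix, Matrix.SpecialLinearGroup.coe_mul,
      Matrix.SpecialLinearGroup.coe_mul]
  have hkey : ∀ u : Fin n → F, ∃ u' : Fin n → F, Qm *ᵥ u' = u ∧
      ((Matrix.SpecialLinearGroup.toGL (Q * x * Q⁻¹) : GL (Fin n) F) :
        Matrix (Fin n) (Fin n) F) *ᵥ u = (R : Matrix (Fin n) (Fin n) F) *ᵥ (X (C *ᵥ u')) := by
    intro u
    refine ⟨((Q⁻¹ : Matrix.SpecialLinearGroup (Fin n) F) : Matrix (Fin n) (Fin n) F) *ᵥ u, ?_, ?_⟩
    · rw [Matrix.mulVec_mulVec, hQQ, Matrix.one_mulVec]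
    · rw [hcoe, hXa, Matrix.mulVec_mulVec, Matrix.mulVec_mulVec, Matrix.mulVec_mulVec]
      congr 1
      show (R : Matrix (Fin n) (Fin n) F) * C * xm * _ = (R : Matrix (Fin n) (Fin n) F) * xm * C * _
      rw [Matrix.mul_assoc (R : Matrix (Fin n) (Fin n) F) C xm, hCx, ← Matrix.mul_assoc]
  obtain ⟨u', hu', hgu⟩ := hkey u
  obtain ⟨w', hw', hgw⟩ := hkey w
  rw [hgu, hgw, hR, hinv, ← hR, Matrix.mulVec_mulVec, Matrix.mulVec_mulVec]
  show μ * f (Qm *ᵥ u') (Qm *ᵥ w') = _
  rw [hu', hw']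
  rfl

theorem exists_not_conj_mem_similarity {n : ℕ} (hn : 3 ≤ n)
    (f : (Fin n → F) → (Fin n → F) → F) (hf : Cfsg.Geo.IsSymplecticForm f) (h2 : (2 : F) ≠ 0)
    (hlt : padicValNat 2 n < padicValNat 2 (Fintype.card F - 1)) :
    ∃ x : Matrix.SpecialLinearGroup (Fin n) F,
      (∃ z : F, ((x ^ 2 : Matrix.SpecialLinearGroup (Fin n) F) : Matrix (Fin n) (Fin n) F)
        = z • (1 : Matrix (Fin n) (Fin n) F)) ∧
      (∀ c : F, (x : Matrix (Fin n) (Fin n) F) ≠ c • (1 : Matrix (Fin n) (Fin n) F)) ∧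
      ∀ P : Matrix.SpecialLinearGroup (Fin n) F, P⁻¹ * x * P ∉
        ((Cfsg.Geo.similarityGroup f).comap (Matrix.SpecialLinearGroup.toGL :
          Matrix.SpecialLinearGroup (Fin n) F →* GL (Fin n) F)) := by
  have hn0 : n ≠ 0 := by omega
  obtain ⟨a, ha0, han⟩ := exists_pow_eq_neg_one (F := F) hn0 hlt
  let i₀ : Fin n := ⟨0, by omega⟩
  let i₁ : Fin n := ⟨1, by omega⟩
  let i₂ : Fin n := ⟨2, by omega⟩
  have h10 : i₁ ≠ i₀ := by
    intro h
    have := congrArg Fin.val h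
    simp [i₀, i₁] at this
  have h20 : i₂ ≠ i₀ := by
    intro h
    have := congrArg Fin.val h
    simp [i₀, i₂] at this
  have h21 : i₂ ≠ i₁ := by
    intro h
    have := congrArg Fin.val h
    simp [i₁, i₂] at this
  let d : Fin n → F := fun i => if i = i₀ then -1 else 1
  let xm : Matrix (Fin n) (Fin n) F := a • Matrix.diagonal d
  have hprod : ∏ i, d i = -1 := by
    simp only [d]
    rw [Finset.prod_ite_eq']
    simp
  have hdet : xm.det = 1 := by
    rw [Matrix.det_smul, Matrix.det_diagonal, Fintype.card_fin, han, hprod]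
    ring
  let x : Matrix.SpecialLinearGroup (Fin n) F := ⟨xm, hdet⟩
  have hdd : Matrix.diagonal d * Matrix.diagonal d = 1 := by
    rw [Matrix.diagonal_mul_diagonal, ← Matrix.diagonal_one]
    congr 1
    ext i
    simp only [d]
    split_ifs <;> simp
  have hx2 : ((x ^ 2 : Matrix.SpecialLinearGroup (Fin n) F) : Matrix (Fin n) (Fin n) F)
      = (a * a) • (1 : Matrix (Fin n) (Fin n) F) := by
    rw [Matrix.SpecialLinearGroup.coe_pow, pow_two]
    show xm * xm = _
    simp only [xm]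
    rw [Matrix.smul_mul, Matrix.mul_smul, hdd, smul_smul]
  have hxns : ∀ c : F, (x : Matrix (Fin n) (Fin n) F) ≠ c • (1 : Matrix (Fin n) (Fin n) F) := by
    intro c hc
    have e0 := congrFun (congrFun hc i₀) i₀
    have e1 := congrFun (congrFun hc i₁) i₁
    have e0' : a * (-1) = c := by
      simpa [x, xm, d, Matrix.smul_apply] using e0
    have e1' : a * 1 = c := by
      simpa [x, xm, d, Matrix.smul_apply, h10] using e1
    have h : (2 : F) * a = 0 := by linear_combination e1' - e0'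
    rcases mul_eq_zero.1 h with h' | h'
    · exact h2 h'
    · exact ha0 h'
  -- action of `xm`
  have hxv : ∀ t : Fin n → F, xm *ᵥ t = a • t - (2 * a * t i₀) • (Pi.single i₀ (1 : F)) := by
    intro t
    ext i
    rw [Matrix.smul_mulVec, Pi.smul_apply, Matrix.mulVec_diagonal, Pi.sub_apply, Pi.smul_apply,
      Pi.smul_apply, smul_eq_mul, smul_eq_mul, smul_eq_mul]
    by_cases hi : i = i₀
    · subst hi
      simp only [d, if_true, Pi.single_eq_same]
      ring
    · simp only [d, if_neg hi, Pi.single_eq_of_ne hi]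
      ring
  refine ⟨x, ⟨a * a, hx2⟩, hxns, fun P hP => ?_⟩
  rw [Subgroup.mem_comap] at hP
  obtain ⟨c, hc⟩ := hP
  set Pm : Matrix (Fin n) (Fin n) F := (P : Matrix (Fin n) (Fin n) F) with hPm
  set Pi' : Matrix (Fin n) (Fin n) F :=
    ((P⁻¹ : Matrix.SpecialLinearGroup (Fin n) F) : Matrix (Fin n) (Fin n) F) with hPi'
  have hPP : Pm * Pi' = 1 := by
    have h : ((P * P⁻¹ : Matrix.SpecialLinearGroup (Fin n) F) : Matrix (Fin n) (Fin n) F) = 1 := by
      rw [mul_inv_cancel]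
      rfl
    rwa [Matrix.SpecialLinearGroup.coe_mul] at h
  have hPiP : Pi' * Pm = 1 := by
    have h : ((P⁻¹ * P : Matrix.SpecialLinearGroup (Fin n) F) : Matrix (Fin n) (Fin n) F) = 1 := by
      rw [inv_mul_cancel]
      rfl
    rwa [Matrix.SpecialLinearGroup.coe_mul] at h
  have hcoe : ((Matrix.SpecialLinearGroup.toGL (P⁻¹ * x * P) : GL (Fin n) F) :
      Matrix (Fin n) (Fin n) F) = Pi' * xm * Pm := by
    rw [Matrix.SpecialLinearGroup.coe_GL_coe_matrix, Matrix.SpecialLinearGroup.coe_mul,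
      Matrix.SpecialLinearGroup.coe_mul]
  let w : Fin n → F := Pi' *ᵥ (Pi.single i₀ (1 : F))
  let φ : (Fin n → F) →ₗ[F] F := (LinearMap.proj i₀) ∘ₗ (Matrix.toLin' Pm)
  have hφ : ∀ u, φ u = (Pm *ᵥ u) i₀ := fun u => by
    show (Matrix.toLin' Pm u) i₀ = _
    rw [Matrix.toLin'_apply]
  have hφP : ∀ t : Fin n → F, φ (Pi' *ᵥ t) = t i₀ := by
    intro t
    rw [hφ, Matrix.mulVec_mulVec, hPP, Matrix.one_mulVec]
  let Y : (Fin n → F) → (Fin n → F) := fun u => (Pi' * xm * Pm) *ᵥ u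
  have hY : ∀ u, Y u = a • u - (2 * a * φ u) • w := by
    intro u
    show (Pi' * xm * Pm) *ᵥ u = _
    rw [← Matrix.mulVec_mulVec, ← Matrix.mulVec_mulVec, hxv, Matrix.mulVec_sub, Matrix.mulVec_smul,
      Matrix.mulVec_smul, Matrix.mulVec_mulVec, hPiP, Matrix.one_mulVec, hφ]
  refine not_similarity_of_reflection f hf h2 a ha0 w φ (by rw [hφP]; simp) Y hY
    (Pi' *ᵥ (Pi.single i₁ (1 : F))) (Pi' *ᵥ (Pi.single i₂ (1 : F)))
    (by rw [hφP]; exact Pi.single_eq_of_ne (Ne.symm h10) _)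
    (by rw [hφP]; exact Pi.single_eq_of_ne (Ne.symm h20) _) ?_ (c : F) ?_
  · intro c₁ c₂ hcc
    have h := congrArg (fun t => Pm *ᵥ t) hcc
    simp only [Matrix.mulVec_add, Matrix.mulVec_smul, Matrix.mulVec_mulVec, hPP,
      Matrix.one_mulVec, Matrix.mulVec_zero] at h
    have e1 := congrFun h i₁
    have e2 := congrFun h i₂
    simp only [Pi.add_apply, Pi.smul_apply, smul_eq_mul, Pi.single_eq_same, Pi.zero_apply,
      Pi.single_eq_of_ne h21, Pi.single_eq_of_ne (Ne.symm h21), mul_one, mul_zero, add_zero,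
      zero_add] at e1 e2
    exact ⟨e1, e2⟩
  · intro u v
    have h := hc u v
    rw [hcoe] at h
    exact h

end Cfsg.Agent.Lib.Helper44.SLInv
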