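import Mathlib
import Cfsg.Prelude.Def_GeometricClasses
import Cfsg.Agent.Lib.Helper44.SLInvExt

/-!
# Involutions of `SL_n(q)` that are not conjugate into the normaliser of a quadratic field

A scalar plus a rank one matrix never normalises a field subalgebra of degree two when the
dimension is at least three; transvections (characteristic two) and scalar multiples of
reflections give elements of `SL_n(q)` with scalar square of this shape.
-/

set_option autoImplicit false

namespace Cfsg.Agent.Lib.Helper44.SLInv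

open Module LinearMap Matrix

universe v

section neg

variable {F : Type v} [Field F] {n : ℕ}

/-- a scalar plus a rank one matrix does not normalise a field subalgebra of degree two in
dimension at least three -/
theorem not_mem_normalizer_of_rankOne (K : Subalgebra F (Matrix (Fin n) (Fin n) F))
    (hK : Cfsg.Geo.IsFieldSubalgebra 2 K) (hn : 3 ≤ n) (y : GL (Fin n) F) (a : F) (ha : a ≠ 0)
    (w : Fin n → F) (φ : (Fin n → F) →ₗ[F] F) (hw : w ≠ 0) (u₀ : Fin n → F) (hu₀ : φ u₀ ≠ 0)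
    (hy : ∀ u, (y : Matrix (Fin n) (Fin n) F) *ᵥ u = a • u + φ u • w) :
    y ∉ Cfsg.Geo.subalgebraNormalizer K := by
  intro hmem
  obtain ⟨κ, hκK, hκns, -⟩ := exists_gen_of_fieldSubalgebra K hK
  set ym : Matrix (Fin n) (Fin n) F := (y : Matrix (Fin n) (Fin n) F) with hym
  set yi : Matrix (Fin n) (Fin n) F := ((y⁻¹ : GL (Fin n) F) : Matrix (Fin n) (Fin n) F) with hyi
  have hyy' : yi * ym = 1 := by
    rw [hyi, hym, ← Units.val_mul, inv_mul_cancel, Units.val_one]
  have hκ'K : ym * κ * yi ∈ K := (hmem κ).1 hκK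
  set κ' : Matrix (Fin n) (Fin n) F := ym * κ * yi with hκ'
  have hint : κ' * ym = ym * κ := by
    rw [hκ', Matrix.mul_assoc, hyy', Matrix.mul_one]
  have hkey : ∀ u, a • (κ *ᵥ u) + φ (κ *ᵥ u) • w = a • (κ' *ᵥ u) + φ u • (κ' *ᵥ w) := by
    intro u
    have h1 : ym *ᵥ (κ *ᵥ u) = κ' *ᵥ (ym *ᵥ u) := by
      rw [Matrix.mulVec_mulVec, Matrix.mulVec_mulVec, hint]
    rw [hy, hy, Matrix.mulVec_add, Matrix.mulVec_smul, Matrix.mulVec_smul] at h1
    exact h1
  by_cases hκκ' : κ' = κ
  · set u₁ : Fin n → F := (φ u₀)⁻¹ • u₀ with hu₁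
    have hφu₁ : φ u₁ = 1 := by rw [hu₁, map_smul, smul_eq_mul, inv_mul_cancel₀ hu₀]
    have h := hkey u₁
    rw [hκκ', hφu₁, one_smul] at h
    have h' : κ *ᵥ w = φ (κ *ᵥ u₁) • w := (add_left_cancel h).symm
    set lam : F := φ (κ *ᵥ u₁) with hlam
    have hmemK : κ - lam • (1 : Matrix (Fin n) (Fin n) F) ∈ K :=
      K.sub_mem hκK (K.smul_mem K.one_mem lam)
    have hne : κ - lam • (1 : Matrix (Fin n) (Fin n) F) ≠ 0 := fun h0 => hκns lam (sub_eq_zero.1 h0)
    apply hw
    apply mulVec_eq_zero_of_mem K hK _ hmemK hne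
    rw [Matrix.sub_mulVec, Matrix.smul_mulVec, Matrix.one_mulVec, h', sub_self]
  · let L : (Fin n → F) →ₗ[F] F × F := φ.prod (φ ∘ₗ Matrix.toLin' κ)
    have hlt : finrank F (F × F) < finrank F (Fin n → F) := by
      rw [Module.finrank_prod, Module.finrank_self, Module.finrank_fin_fun]
      omega
    have hker := LinearMap.ker_ne_bot_of_finrank_lt (f := L) hlt
    obtain ⟨u, huker, hu0⟩ := (Submodule.ne_bot_iff _).1 hker
    have hLu : L u = 0 := LinearMap.mem_ker.1 huker
    have h1 : φ u = 0 := by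
      have h := congrArg Prod.fst hLu
      exact h
    have h2 : φ (κ *ᵥ u) = 0 := by
      have h := congrArg Prod.snd hLu
      change φ (Matrix.toLin' κ u) = 0 at h
      rwa [Matrix.toLin'_apply] at h
    have h := hkey u
    rw [h1, h2, zero_smul, zero_smul, add_zero, add_zero] at h
    have h3 : (κ' - κ) *ᵥ u = 0 := by
      rw [Matrix.sub_mulVec, ← smul_right_injective _ ha h, sub_self]
    have hmemK : κ' - κ ∈ K := K.sub_mem hκ'K hκK
    have hne : κ' - κ ≠ 0 := fun h0 => hκκ' (sub_eq_zero.1 h0)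
    exact hu0 (mulVec_eq_zero_of_mem K hK _ hmemK hne u h3)

/-- conjugates of a scalar plus an elementary matrix -/
theorem conj_rankOne (x P : Matrix.SpecialLinearGroup (Fin n) F) (a c : F) (i₀ j₀ : Fin n)
    (hc : c ≠ 0)
    (hx : ∀ t : Fin n → F, (x : Matrix (Fin n) (Fin n) F) *ᵥ t
      = a • t + (c * t j₀) • Pi.single i₀ (1 : F)) :
    ∃ (w : Fin n → F) (φ : (Fin n → F) →ₗ[F] F) (u₀ : Fin n → F), w ≠ 0 ∧ φ u₀ ≠ 0 ∧
      ∀ u, ((P⁻¹ * x * P : Matrix.SpecialLinearGroup (Fin n) F) : Matrix (Fin n) (Fin n) F) *ᵥ u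
        = a • u + φ u • w := by
  set xm : Matrix (Fin n) (Fin n) F := (x : Matrix (Fin n) (Fin n) F) with hxm
  set Pm : Matrix (Fin n) (Fin n) F := (P : Matrix (Fin n) (Fin n) F) with hPm
  set Pi' : Matrix (Fin n) (Fin n) F :=
    ((P⁻¹ : Matrix.SpecialLinearGroup (Fin n) F) : Matrix (Fin n) (Fin n) F) with hPi'
  have hPP : Pm * Pi' = 1 := by
    have h : ((P * P⁻¹ : Matrix.SpecialLinearGroup (Fin n) F) : Matrix (Fin n) (Fin n) F) = 1 := by
      rw [mul_inv_cancel]
      rfl
    rwa [Matrix.SpecialLinearGroup.coe_mul] at h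
  have hPiP : Pi' * Pm = 1 := by
    have h : ((P⁻¹ * P : Matrix.SpecialLinearGroup (Fin n) F) : Matrix (Fin n) (Fin n) F) = 1 := by
      rw [inv_mul_cancel]
      rfl
    rwa [Matrix.SpecialLinearGroup.coe_mul] at h
  have hcoe : ((P⁻¹ * x * P : Matrix.SpecialLinearGroup (Fin n) F) : Matrix (Fin n) (Fin n) F)
      = Pi' * xm * Pm := by
    rw [Matrix.SpecialLinearGroup.coe_mul, Matrix.SpecialLinearGroup.coe_mul]
  let φ : (Fin n → F) →ₗ[F] F := c • ((LinearMap.proj j₀) ∘ₗ (Matrix.toLin' Pm))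
  have hφ : ∀ u, φ u = c * (Pm *ᵥ u) j₀ := fun u => by
    show c • (Matrix.toLin' Pm u) j₀ = _
    rw [Matrix.toLin'_apply, smul_eq_mul]
  refine ⟨Pi' *ᵥ Pi.single i₀ (1 : F), φ, Pi' *ᵥ Pi.single j₀ (1 : F), ?_, ?_, fun u => ?_⟩
  · intro h0
    have h := congrArg (fun t => Pm *ᵥ t) h0
    simp only [Matrix.mulVec_mulVec, hPP, Matrix.one_mulVec, Matrix.mulVec_zero] at h
    have h' := congrFun h i₀
    rw [Pi.single_eq_same, Pi.zero_apply] at h'
    exact one_ne_zero h'
  · rw [hφ, Matrix.mulVec_mulVec, hPP, Matrix.one_mulVec, Pi.single_eq_same, mul_one]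
    exact hc
  · rw [hcoe, ← Matrix.mulVec_mulVec, ← Matrix.mulVec_mulVec, hx, Matrix.mulVec_add,
      Matrix.mulVec_smul, Matrix.mulVec_smul, Matrix.mulVec_mulVec, hPiP, Matrix.one_mulVec, hφ]

/-- elements of `SL_n(q)` with scalar square of the shape scalar plus elementary matrix -/
theorem exists_rankOne_SL [Fintype F] (hn : 2 ≤ n)
    (h : (2 : F) = 0 ∨ ((2 : F) ≠ 0 ∧ padicValNat 2 n < padicValNat 2 (Fintype.card F - 1))) :
    ∃ (x : Matrix.SpecialLinearGroup (Fin n) F) (a c : F) (i₀ j₀ : Fin n), a ≠ 0 ∧ c ≠ 0 ∧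
      ((x ^ 2 : Matrix.SpecialLinearGroup (Fin n) F) : Matrix (Fin n) (Fin n) F)
        = (a * a) • (1 : Matrix (Fin n) (Fin n) F) ∧
      (∀ d : F, (x : Matrix (Fin n) (Fin n) F) ≠ d • (1 : Matrix (Fin n) (Fin n) F)) ∧
      ∀ t : Fin n → F, (x : Matrix (Fin n) (Fin n) F) *ᵥ t
        = a • t + (c * t j₀) • Pi.single i₀ (1 : F) := by
  have hn0 : n ≠ 0 := by omega
  let i₀ : Fin n := ⟨0, by omega⟩
  let i₁ : Fin n := ⟨1, by omega⟩
  have h10 : i₁ ≠ i₀ := by
    intro h
    have := congrArg Fin.val h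
    simp [i₀, i₁] at this
  rcases h with h2 | ⟨h2, hlt⟩
  · have hdet : (Matrix.transvection i₀ i₁ (1 : F)).det = 1 :=
      Matrix.det_transvection_of_ne i₀ i₁ (Ne.symm h10) 1
    let x : Matrix.SpecialLinearGroup (Fin n) F := ⟨Matrix.transvection i₀ i₁ (1 : F), hdet⟩
    refine ⟨x, 1, 1, i₀, i₁, one_ne_zero, one_ne_zero, ?_, ?_, ?_⟩
    · rw [Matrix.SpecialLinearGroup.coe_pow, pow_two]
      show Matrix.transvection i₀ i₁ (1 : F) * Matrix.transvection i₀ i₁ (1 : F) = _
      rw [Matrix.transvection_mul_transvection_same i₀ i₁ (Ne.symm h10), one_add_one_eq_two, h2,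
        Matrix.transvection_zero, mul_one, one_smul]
    · intro d hd
      have e := congrFun (congrFun hd i₀) i₁
      have e' : (Matrix.transvection i₀ i₁ (1 : F)) i₀ i₁ =
          (d • (1 : Matrix (Fin n) (Fin n) F)) i₀ i₁ := e
      rw [Matrix.transvection, Matrix.add_apply, Matrix.single_apply_same, Matrix.smul_apply,
        Matrix.one_apply_ne (Ne.symm h10), smul_zero, zero_add] at e'
      exact one_ne_zero e'
    · intro t
      show Matrix.transvection i₀ i₁ (1 : F) *ᵥ t = _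
      rw [Matrix.transvection, Matrix.add_mulVec, Matrix.one_mulVec, Matrix.single_mulVec_eq,
        one_smul]
  · obtain ⟨a, ha0, han⟩ := exists_pow_eq_neg_one (F := F) hn0 hlt
    let d : Fin n → F := fun i => if i = i₀ then -1 else 1
    let xm : Matrix (Fin n) (Fin n) F := a • Matrix.diagonal d
    have hprod : ∏ i, d i = -1 := by
      simp only [d]
      rw [Finset.prod_ite_eq']
      simp
    have hdet : xm.det = 1 := by
      rw [Matrix.det_smul, Matrix.det_diagonal, Fintype.card_fin, han, hprod]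
      ring
    let x : Matrix.SpecialLinearGroup (Fin n) F := ⟨xm, hdet⟩
    have hdd : Matrix.diagonal d * Matrix.diagonal d = 1 := by
      rw [Matrix.diagonal_mul_diagonal, ← Matrix.diagonal_one]
      congr 1
      ext i
      simp only [d]
      split_ifs <;> simp
    have hx2 : ((x ^ 2 : Matrix.SpecialLinearGroup (Fin n) F) : Matrix (Fin n) (Fin n) F)
        = (a * a) • (1 : Matrix (Fin n) (Fin n) F) := by
      rw [Matrix.SpecialLinearGroup.coe_pow, pow_two]
      show xm * xm = _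
      simp only [xm]
      rw [Matrix.smul_mul, Matrix.mul_smul, hdd, smul_smul]
    have hxns : ∀ c : F, (x : Matrix (Fin n) (Fin n) F) ≠ c • (1 : Matrix (Fin n) (Fin n) F) := by
      intro c hc
      have e0 := congrFun (congrFun hc i₀) i₀
      have e1 := congrFun (congrFun hc i₁) i₁
      have e0' : a * (-1) = c := by
        simpa [x, xm, d, Matrix.smul_apply] using e0
      have e1' : a * 1 = c := by
        simpa [x, xm, d, Matrix.smul_apply, h10] using e1
      have h : (2 : F) * a = 0 := by linear_combination e1' - e0'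
      rcases mul_eq_zero.1 h with h' | h'
      · exact h2 h'
      · exact ha0 h'
    have hxv : ∀ t : Fin n → F,
        xm *ᵥ t = a • t + (-(2 * a) * t i₀) • (Pi.single i₀ (1 : F)) := by
      intro t
      ext i
      rw [Matrix.smul_mulVec, Pi.smul_apply, Matrix.mulVec_diagonal, Pi.add_apply, Pi.smul_apply,
        Pi.smul_apply, smul_eq_mul, smul_eq_mul, smul_eq_mul]
      by_cases hi : i = i₀
      · subst hi
        simp only [d, if_true, Pi.single_eq_same]
        ring
      · simp only [d, if_neg hi, Pi.single_eq_of_ne hi]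
        ring
    refine ⟨x, a, -(2 * a), i₀, i₀, ha0, ?_, hx2, hxns, hxv⟩
    exact neg_ne_zero.2 (mul_ne_zero h2 ha0)

/-- some element of `SL_n(q)` with scalar square is not conjugate into the normaliser of a field
subalgebra of degree two -/
theorem exists_not_conj_mem_normalizer [Fintype F] (hn : 3 ≤ n)
    (K : Subalgebra F (Matrix (Fin n) (Fin n) F)) (hK : Cfsg.Geo.IsFieldSubalgebra 2 K)
    (h : (2 : F) = 0 ∨ ((2 : F) ≠ 0 ∧ padicValNat 2 n < padicValNat 2 (Fintype.card F - 1))) :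
    ∃ x : Matrix.SpecialLinearGroup (Fin n) F,
      (∃ z : F, ((x ^ 2 : Matrix.SpecialLinearGroup (Fin n) F) : Matrix (Fin n) (Fin n) F)
        = z • (1 : Matrix (Fin n) (Fin n) F)) ∧
      (∀ c : F, (x : Matrix (Fin n) (Fin n) F) ≠ c • (1 : Matrix (Fin n) (Fin n) F)) ∧
      ∀ P : Matrix.SpecialLinearGroup (Fin n) F, P⁻¹ * x * P ∉
        ((Cfsg.Geo.subalgebraNormalizer K).comap (Matrix.SpecialLinearGroup.toGL :
          Matrix.SpecialLinearGroup (Fin n) F →* GL (Fin n) F)) := by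
  obtain ⟨x, a, c, i₀, j₀, ha, hc, hx2, hxns, hxv⟩ := exists_rankOne_SL (F := F) (n := n) (by omega) h
  refine ⟨x, ⟨a * a, hx2⟩, hxns, fun P hP => ?_⟩
  rw [Subgroup.mem_comap] at hP
  obtain ⟨w, φ, u₀, hw, hu₀, hact⟩ := conj_rankOne x P a c i₀ j₀ hc hxv
  refine not_mem_normalizer_of_rankOne K hK hn _ a ha w φ hw u₀ hu₀ ?_ hP
  intro u
  rw [Matrix.SpecialLinearGroup.coe_GL_coe_matrix]
  exact hact u

end neg

end Cfsg.Agent.Lib.Helper44.SLInv
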