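import Mathlib
import Cfsg.Prelude.Def_GeometricClasses
import Cfsg.Agent.Lib.Helper2.BGDer
import Cfsg.Agent.Lib.Helper44.SubfA

/-!
# An element with one irreducible block that is not conjugate into the subfield group

`exists_bad_block`: if `d = ord_r(q) ≥ 2`, `d ≤ n` and `d ≠ ord_r(q₀)` then the element of `SL_n(F)`
with one irreducible block of dimension `d` (a factor of the `r`-th cyclotomic polynomial) and the
identity elsewhere has no conjugate in the subfield group of `F₀`.
-/

set_option autoImplicit false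
open scoped MatrixGroups
open Matrix Polynomial

namespace Cfsg.Agent.Lib.Helper44.Sfr

open Cfsg.Agent.Lib.Helper2.BG

universe v
variable {F : Type v} [Field F]

/-- powers of a conjugate -/
theorem conj_pow_matrix {n : ℕ} (U U' A : Matrix (Fin n) (Fin n) F) (h1 : U * U' = 1)
    (h2 : U' * U = 1) (k : ℕ) : (U' * A * U) ^ k = U' * A ^ k * U := by
  induction k with
  | zero => simp [h2]
  | succ k ih =>
    rw [pow_succ, ih, pow_succ]
    calc U' * A ^ k * U * (U' * A * U) = U' * A ^ k * (U * U') * A * U := by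
          simp only [Matrix.mul_assoc]
      _ = U' * (A ^ k * A) * U := by rw [h1, Matrix.mul_one]; simp only [Matrix.mul_assoc]

/-- polynomial evaluation at a conjugate -/
theorem aeval_conj_matrix {n : ℕ} (U U' A : Matrix (Fin n) (Fin n) F) (h1 : U * U' = 1)
    (h2 : U' * U = 1) (Q : F[X]) : aeval (U' * A * U) Q = U' * aeval A Q * U := by
  rw [Polynomial.aeval_eq_sum_range, Polynomial.aeval_eq_sum_range, Finset.mul_sum, Finset.sum_mul]
  refine Finset.sum_congr rfl fun i _ => ?_
  rw [conj_pow_matrix U U' A h1 h2, Matrix.mul_smul, Matrix.smul_mul]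

/-- evaluation commutes with applying a ring endomorphism entrywise -/
theorem aeval_map_matrix {n : ℕ} (σ : F →+* F) (A : Matrix (Fin n) (Fin n) F) (Q : F[X]) :
    aeval (A.map σ) (Q.map σ) = (aeval A Q).map σ := by
  have h1 : (aeval A Q).map σ = σ.mapMatrix (aeval A Q) := rfl
  rw [h1, Polynomial.aeval_def, Polynomial.aeval_def, Polynomial.hom_eval₂, Polynomial.eval₂_map]
  have h2 : σ.mapMatrix A = A.map σ := rfl
  rw [h2]
  congr 1
  apply RingHom.ext
  intro c
  simp only [RingHom.coe_comp, Function.comp_apply, RingHom.mapMatrix_apply]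
  rw [Matrix.algebraMap_eq_diagonal, Matrix.algebraMap_eq_diagonal]
  ext i j
  by_cases hij : i = j
  · subst hij; simp
  · simp [Matrix.diagonal_apply_ne _ hij]

variable [Fintype F]

/-- elements fixed by the `q₀`-power map lie in the subfield with `q₀` elements -/
theorem mem_subfield_of_pow_card_eq (F₀ : Subfield F) (x : F) (hx : x ^ (Nat.card F₀) = x) :
    x ∈ F₀ := by
  classical
  have : Fintype F₀ := Fintype.ofFinite F₀
  rw [Nat.card_eq_fintype_card] at hx
  by_contra hcon
  have hq : 1 < Fintype.card F₀ := Fintype.one_lt_card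
  set P : F[X] := X ^ (Fintype.card F₀) - X with hP
  have hdeg : P.natDegree = Fintype.card F₀ := FiniteField.X_pow_card_sub_X_natDegree_eq F hq
  have hP0 : P ≠ 0 := FiniteField.X_pow_card_sub_X_ne_zero F hq
  have hroot : ∀ y : F, y ^ (Fintype.card F₀) = y → y ∈ P.roots.toFinset := by
    intro y hy
    rw [Multiset.mem_toFinset, mem_roots hP0, IsRoot.def, hP]
    simp [hy]
  let S : Finset F := insert x (Finset.univ.image (F₀.subtype : F₀ → F))
  have hS : S ⊆ P.roots.toFinset := by
    intro y hy
    rcases Finset.mem_insert.1 hy with rfl | hy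
    · exact hroot _ hx
    · obtain ⟨z, _, rfl⟩ := Finset.mem_image.1 hy
      apply hroot
      rw [← map_pow, FiniteField.pow_card]
  have hcardS : S.card = Fintype.card F₀ + 1 := by
    rw [Finset.card_insert_of_notMem, Finset.card_image_of_injective _ F₀.subtype_injective,
      Finset.card_univ]
    intro h
    obtain ⟨z, _, hz⟩ := Finset.mem_image.1 h
    apply hcon
    rw [← hz]
    exact z.2
  have h1 := Finset.card_le_card hS
  have h2 := Multiset.toFinset_card_le P.roots
  have h3 := Polynomial.card_roots' P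
  omega

/-- elements of the subfield are fixed by the `q₀`-power map -/
theorem pow_card_of_mem_subfield (F₀ : Subfield F) (m : F₀) : (m : F) ^ (Nat.card F₀) = (m : F) := by
  classical
  have : Fintype F₀ := Fintype.ofFinite F₀
  rw [Nat.card_eq_fintype_card]
  have := FiniteField.pow_card m
  have h2 := congrArg (fun t : F₀ => (t : F)) this
  simpa using h2

/-- the Frobenius of `F` over `F₀` as a ring endomorphism -/
theorem exists_frobenius {p : ℕ} [hp : Fact p.Prime] [CharP F p] (F₀ : Subfield F) :
    ∃ σ : F →+* F, ∀ t, σ t = t ^ (Nat.card F₀) := by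
  classical
  have : Fintype F₀ := Fintype.ofFinite F₀
  have : CharP F₀ p := by
    refine (RingHom.charP_iff (F₀.subtype : F₀ →+* F) F₀.subtype_injective p).2 inferInstance
  obtain ⟨m, -, hm⟩ := FiniteField.card F₀ p
  refine ⟨iterateFrobenius F p m, fun t => ?_⟩
  rw [iterateFrobenius_def, Nat.card_eq_fintype_card, hm]

theorem exists_bad_block {p : ℕ} [hp : Fact p.Prime] [CharP F p] (n : ℕ) (F₀ : Subfield F)
    (r : ℕ) [hr : Fact r.Prime] (hrp : r ≠ p)
    (hd2 : 2 ≤ orderOf ((Fintype.card F : ℕ) : ZMod r))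
    (hdn : orderOf ((Fintype.card F : ℕ) : ZMod r) ≤ n)
    (hne : orderOf ((Fintype.card F : ℕ) : ZMod r) ≠ orderOf ((Nat.card F₀ : ℕ) : ZMod r)) :
    ∃ x : Matrix.SpecialLinearGroup (Fin n) F,
      ((x ^ r : Matrix.SpecialLinearGroup (Fin n) F) : Matrix (Fin n) (Fin n) F) = 1 ∧
      (∀ z : F, (x : Matrix (Fin n) (Fin n) F) ≠ z • (1 : Matrix (Fin n) (Fin n) F)) ∧
      ¬ ∃ P : Matrix.SpecialLinearGroup (Fin n) F, P⁻¹ * x * P ∈
        ((Cfsg.Geo.subfieldSubgroup F₀ (1 : GL (Fin n) F)).comap
          (Matrix.SpecialLinearGroup.toGL : Matrix.SpecialLinearGroup (Fin n) F →* GL (Fin n) F)) := by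
  classical
  set d := orderOf ((Fintype.card F : ℕ) : ZMod r) with hd
  have hrF : (r : F) ≠ 0 := natCast_ne_zero_of_ne (p := p) hrp
  have hn0 : 0 < n := by omega
  -- an irreducible factor of the cyclotomic polynomial
  have hcyc0 : cyclotomic r F ≠ 0 := cyclotomic_ne_zero r F
  have hcycnu : ¬ IsUnit (cyclotomic r F) := by
    intro hu
    have h1 := Polynomial.natDegree_eq_zero_of_isUnit hu
    rw [Polynomial.natDegree_cyclotomic, Nat.totient_prime hr.out] at h1
    have := hr.out.two_le
    omega
  obtain ⟨g', hg'irr, hg'd⟩ := WfDvdMonoid.exists_irreducible_factor hcycnu hcyc0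
  -- make it monic
  set g : F[X] := normalize g' with hg
  have hgass : Associated g' g := (normalize_associated g').symm
  have hgirr : Irreducible g := hgass.irreducible hg'irr
  have hgd : g ∣ cyclotomic r F := (hgass.dvd_iff_dvd_left).1 hg'd
  have hgm : g.Monic := Polynomial.monic_normalize hg'irr.ne_zero
  have hgdeg : g.natDegree = d := allIrrDeg_cyclotomic (p := p) hrp g hgirr hgd
  have : Fact (Irreducible g) := ⟨hgirr⟩
  have hcycd : cyclotomic r F ∣ X ^ r - 1 := by
    rw [← Polynomial.cyclotomic_prime_mul_X_sub_one F r]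
    exact dvd_mul_right _ _
  have hgX : g ∣ X ^ r - 1 := hgd.trans hcycd
  have := finite_adjoinRoot g
  have hfr : Module.finrank F (BlockSpace g 1 (n - d)) = Module.finrank F (Fin n → F) := by
    rw [finrank_blockSpace, Module.finrank_fin_fun, hgdeg]
    omega
  let e : BlockSpace g 1 (n - d) ≃ₗ[F] (Fin n → F) := LinearEquiv.ofFinrankEq _ _ hfr
  set f' := blockOp g 1 (n - d) with hf'
  have hpolyX : aeval f' (X ^ r - 1 : F[X]) = 0 :=
    aeval_blockOp_eq_zero g 1 (n - d) _ hgX (by simp)
  have hpow : f' ^ r = 1 := by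
    have h1 := hpolyX
    rw [map_sub, map_pow, aeval_X, map_one] at h1
    exact sub_eq_zero.mp h1
  have hcop : Nat.Coprime r (Fintype.card F - 1) := by
    rw [Nat.Prime.coprime_iff_not_dvd hr.out]
    intro hdvd
    have := (orderOf_eq_one_iff_dvd (r := r) (Fintype.card F) Fintype.card_pos).mpr hdvd
    omega
  have hdet' : (endMatEquiv e f').det = 1 := by
    rw [det_endMatEquiv, det_blockOp, norm_root_eq_one hr.out.pos g hgX hcop, one_pow]
  let x : Matrix.SpecialLinearGroup (Fin n) F := ⟨endMatEquiv e f', hdet'⟩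
  set Q : F[X] := g * (X - 1) with hQ
  have hkillf : aeval f' Q = 0 := aeval_blockOp_eq_zero g 1 (n - d) _ (dvd_mul_right _ _) (by simp [hQ])
  have hkill : aeval (x : Matrix (Fin n) (Fin n) F) Q = 0 := by
    show aeval (endMatEquiv e f') Q = 0
    rw [Polynomial.aeval_algEquiv, AlgHom.coe_comp, Function.comp_apply, hkillf]
    simp
  have hxr : ((x ^ r : Matrix.SpecialLinearGroup (Fin n) F) : Matrix (Fin n) (Fin n) F) = 1 := by
    rw [Matrix.SpecialLinearGroup.coe_pow]
    show (endMatEquiv e f') ^ r = _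
    rw [← map_pow, hpow, map_one]
  have hx1 : (x : Matrix (Fin n) (Fin n) F) ≠ 1 := by
    intro h
    have h1 : endMatEquiv e f' = endMatEquiv e 1 := by rw [map_one]; exact h
    have h2 : f' = 1 := (endMatEquiv e).injective h1
    have h3 := LinearMap.congr_fun h2 ((fun _ => 1), 0)
    rw [hf', blockOp_apply] at h3
    have h4 := congrArg Prod.fst h3
    have h5 := congrFun h4 0
    simp at h5
    exact root_ne_one g (by omega) h5
  -- no roots of `g` in `F`
  have hgroot : ∀ z : F, g.eval z ≠ 0 := by
    intro z hz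
    have h1 := Polynomial.degree_eq_one_of_irreducible_of_root hgirr hz
    have h2 : g.natDegree = 1 := Polynomial.natDegree_eq_of_degree_eq_some h1
    rw [hgdeg] at h2
    omega
  refine ⟨x, hxr, ?_, ?_⟩
  · intro z hz
    have h1 : aeval (z • (1 : Matrix (Fin n) (Fin n) F)) Q = (Q.eval z) • (1 : Matrix (Fin n) (Fin n) F) := by
      have h2 : z • (1 : Matrix (Fin n) (Fin n) F) = algebraMap F _ z := by
        rw [Algebra.algebraMap_eq_smul_one]
      rw [h2, Polynomial.aeval_algebraMap_apply, Algebra.algebraMap_eq_smul_one]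
      simp
    rw [hz] at hkill
    rw [h1] at hkill
    have h3 := congrFun (congrFun hkill ⟨0, hn0⟩) ⟨0, hn0⟩
    simp only [Matrix.smul_apply, Matrix.one_apply_eq, smul_eq_mul, mul_one, Matrix.zero_apply] at h3
    rw [hQ, Polynomial.eval_mul] at h3
    rcases mul_eq_zero.1 h3 with h4 | h4
    · exact hgroot z h4
    · simp at h4
      have hz1 : z = 1 := by linear_combination h4
      rw [hz1, one_smul] at hz
      exact hx1 hz
  · rintro ⟨P, hP⟩
    rw [Subgroup.mem_comap] at hP
    obtain ⟨a, M₀, ha, hM⟩ := Cfsg.Agent.Lib.Helper44.SLInv.exists_of_mem_subfieldSubgroup F₀ _ hP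
    rw [Matrix.SpecialLinearGroup.coe_GL_coe_matrix] at hM
    set X' : Matrix (Fin n) (Fin n) F :=
      ((P⁻¹ * x * P : Matrix.SpecialLinearGroup (Fin n) F) : Matrix (Fin n) (Fin n) F) with hX'
    have hPP : (P : Matrix (Fin n) (Fin n) F) * ((P⁻¹ : Matrix.SpecialLinearGroup (Fin n) F) :
        Matrix (Fin n) (Fin n) F) = 1 := by
      rw [← Matrix.SpecialLinearGroup.coe_mul, mul_inv_cancel, Matrix.SpecialLinearGroup.coe_one]
    have hPP' : ((P⁻¹ : Matrix.SpecialLinearGroup (Fin n) F) : Matrix (Fin n) (Fin n) F) *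
        (P : Matrix (Fin n) (Fin n) F) = 1 := by
      rw [← Matrix.SpecialLinearGroup.coe_mul, inv_mul_cancel, Matrix.SpecialLinearGroup.coe_one]
    have hX'eq : X' = ((P⁻¹ : Matrix.SpecialLinearGroup (Fin n) F) : Matrix (Fin n) (Fin n) F) *
        (x : Matrix (Fin n) (Fin n) F) * (P : Matrix (Fin n) (Fin n) F) := by
      rw [hX', Matrix.SpecialLinearGroup.coe_mul, Matrix.SpecialLinearGroup.coe_mul]
    have hX'kill : aeval X' Q = 0 := by
      rw [hX'eq, aeval_conj_matrix _ _ _ hPP hPP', hkill, Matrix.mul_zero, Matrix.zero_mul]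
    have hX'r : X' ^ r = 1 := by
      rw [hX'eq, conj_pow_matrix _ _ _ hPP hPP', ← Matrix.SpecialLinearGroup.coe_pow, hxr,
        Matrix.mul_one, hPP']
    -- `a` lies in the subfield
    have haF₀ : a ∈ F₀ := by
      apply mem_subfield_of_pow_card_eq
      have h1 := hX'r
      rw [hM, _root_.smul_pow, ← Matrix.map_pow] at h1
      have h00 := congrFun (congrFun h1 ⟨0, hn0⟩) ⟨0, hn0⟩
      simp only [Matrix.smul_apply, Matrix.map_apply, Matrix.one_apply_eq, smul_eq_mul,
        Subfield.coe_subtype] at h00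
      set u : F₀ := (M₀ ^ r) ⟨0, hn0⟩ ⟨0, hn0⟩ with hu
      have hu0 : (u : F) ≠ 0 := by
        intro h0
        rw [h0, mul_zero] at h00
        exact zero_ne_one h00
      have har : a ^ r = ((u⁻¹ : F₀) : F) := by
        rw [Subfield.coe_inv]
        field_simp
        exact h00
      have h2 : (a ^ r) ^ (Nat.card F₀) = a ^ r := by
        rw [har]; exact pow_card_of_mem_subfield F₀ _
      have hq₀ : 1 ≤ Nat.card F₀ := Nat.card_pos
      set t : F := a ^ (Nat.card F₀ - 1) with ht
      have htr : t ^ r = 1 := by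
        have h3 : a ^ r * t ^ r = a ^ r := by
          rw [ht, ← pow_mul, ← pow_add]
          have : r + (Nat.card F₀ - 1) * r = r * Nat.card F₀ := by
            zify [hq₀]; ring
          rw [this, pow_mul]
          exact h2
        have har0 : a ^ r ≠ 0 := pow_ne_zero _ ha
        exact mul_left_cancel₀ har0 (h3.trans (mul_one _).symm)
      have ht0 : t ≠ 0 := pow_ne_zero _ ha
      have htq : t ^ (Fintype.card F - 1) = 1 := FiniteField.pow_card_sub_one_eq_one t ht0
      have ht1 : t = 1 := by
        have := (pow_gcd_eq_one (a := t) (m := r) (n := Fintype.card F - 1)).2 ⟨htr, htq⟩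
        rw [hcop.gcd_eq_one, pow_one] at this
        exact this
      have : a ^ (Nat.card F₀) = a ^ (Nat.card F₀ - 1) * a := by
        rw [← pow_succ]; congr 1; omega
      rw [this, ← ht, ht1, one_mul]
    -- the Frobenius fixes `X'`
    obtain ⟨σ, hσ⟩ := exists_frobenius (p := p) F₀
    have hX'σ : X'.map σ = X' := by
      ext i j
      rw [Matrix.map_apply, hM, Matrix.smul_apply, Matrix.map_apply, smul_eq_mul, map_mul, hσ, hσ]
      have h1 := pow_card_of_mem_subfield F₀ ⟨a, haF₀⟩
      have h2 := pow_card_of_mem_subfield F₀ (M₀ i j)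
      simp only [Subfield.coe_subtype] at h1 h2 ⊢
      rw [h1, h2]
    have hkillσ : aeval X' (Q.map σ) = 0 := by
      have := aeval_map_matrix σ X' Q
      rw [hX'σ, hX'kill] at this
      rw [this]
      ext i j
      simp
    have hQσ : Q.map σ = g.map σ * (X - 1) := by
      rw [hQ, Polynomial.map_mul, Polynomial.map_sub, Polynomial.map_X, Polynomial.map_one]
    by_cases hgσ : g.map σ = g
    · -- `g` has coefficients in the subfield
      have hlift : g ∈ Polynomial.lifts (F₀.subtype : F₀ →+* F) := by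
        rw [Polynomial.lifts_iff_coeff_lifts]
        intro k
        have h1 : (g.map σ).coeff k = g.coeff k := by rw [hgσ]
        rw [Polynomial.coeff_map, hσ] at h1
        exact ⟨⟨g.coeff k, mem_subfield_of_pow_card_eq F₀ _ h1⟩, rfl⟩
      obtain ⟨g₀, hg₀⟩ := (Polynomial.mem_lifts g).1 hlift
      have : Fintype F₀ := Fintype.ofFinite F₀
      have : CharP F₀ p := by
        refine (RingHom.charP_iff (F₀.subtype : F₀ →+* F) F₀.subtype_injective p).2 inferInstance
      have hg₀m : g₀.Monic := Polynomial.monic_of_injective F₀.subtype_injective (by rw [hg₀]; exact hgm)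
      have hg₀irr : Irreducible g₀ :=
        Polynomial.Monic.irreducible_of_irreducible_map (F₀.subtype : F₀ →+* F) g₀ hg₀m
          (by rw [hg₀]; exact hgirr)
      have hg₀d : g₀ ∣ cyclotomic r F₀ := by
        rw [← Polynomial.map_dvd_map' (F₀.subtype : F₀ →+* F), hg₀, map_cyclotomic]
        exact hgd
      have hdeg₀ : g₀.natDegree = orderOf ((Fintype.card F₀ : ℕ) : ZMod r) :=
        allIrrDeg_cyclotomic (p := p) hrp g₀ hg₀irr hg₀d
      apply hne
      rw [← hgdeg, ← hg₀, Polynomial.natDegree_map, hdeg₀, Nat.card_eq_fintype_card]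
    · -- coprime, hence `X' = 1`
      have hgσm : (g.map σ).Monic := hgm.map σ
      have hnd : ¬ g ∣ g.map σ := by
        intro hdvd
        apply hgσ
        exact Polynomial.eq_of_monic_of_dvd_of_natDegree_le hgm hgσm hdvd
          (by rw [Polynomial.natDegree_map])
      obtain ⟨u, w, huw⟩ := (hgirr.coprime_iff_not_dvd).2 hnd
      have h1 : (X - 1 : F[X]) = u * Q + w * Q.map σ := by
        rw [hQσ, hQ]
        linear_combination (-(X - 1 : F[X])) * huw
      have h2 : aeval X' (X - 1 : F[X]) = 0 := by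
        rw [h1, map_add, map_mul (aeval X') u Q, map_mul (aeval X') w (Q.map σ), hX'kill, hkillσ,
          mul_zero, mul_zero, add_zero]
      rw [map_sub, aeval_X, map_one, sub_eq_zero] at h2
      apply hx1
      have h3 : (x : Matrix (Fin n) (Fin n) F) = (P : Matrix (Fin n) (Fin n) F) * X' *
          ((P⁻¹ : Matrix.SpecialLinearGroup (Fin n) F) : Matrix (Fin n) (Fin n) F) := by
        rw [hX'eq]
        calc (x : Matrix (Fin n) (Fin n) F) = ((P : Matrix (Fin n) (Fin n) F) *
              ((P⁻¹ : Matrix.SpecialLinearGroup (Fin n) F) : Matrix (Fin n) (Fin n) F)) *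
              (x : Matrix (Fin n) (Fin n) F) * ((P : Matrix (Fin n) (Fin n) F) *
              ((P⁻¹ : Matrix.SpecialLinearGroup (Fin n) F) : Matrix (Fin n) (Fin n) F)) := by
              rw [hPP, Matrix.one_mul, Matrix.mul_one]
          _ = _ := by simp only [Matrix.mul_assoc]
      rw [h3, h2, Matrix.mul_one, hPP]

end Cfsg.Agent.Lib.Helper44.Sfr
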