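import Mathlib

/-!
# Exponent vectors for diagonal elements

`expo n r a b c` is the vector `(a, b, c, 0, …, 0)` of length `n` with entries in `ZMod r`.
-/

set_option autoImplicit false

namespace Cfsg.Agent.Lib.Helper44.Sfr

/-- the exponent vector `(a, b, c, 0, …, 0)` -/
def expo (n r : ℕ) (a b c : ZMod r) : Fin n → ZMod r :=
  fun i => if i.val = 0 then a else if i.val = 1 then b else if i.val = 2 then c else 0

end Cfsg.Agent.Lib.Helper44.Sfr
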