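import Mathlib
import Cfsg.Agent.Lib.Helper2.BGPoly

/-!
# Irreducible factors of `X^r - 1` over a finite field and a subfield

`factor_mem_subfield`: when `q` and `q₀` have the same order modulo `r`, every monic irreducible
factor of `X^r - 1` over `F` has its coefficients in the subfield `F₀`.
-/

set_option autoImplicit false
open Polynomial

namespace Cfsg.Agent.Lib.Helper44.Sfr

universe v
variable {F : Type v} [Field F] [Fintype F]

theorem factor_mem_subfield {p : ℕ} [hp : Fact p.Prime] [CharP F p] (F₀ : Subfield F) (r : ℕ)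
    [hr : Fact r.Prime] (hrp : r ≠ p)
    (hord : orderOf ((Fintype.card F : ℕ) : ZMod r) = orderOf ((Nat.card F₀ : ℕ) : ZMod r))
    (g : F[X]) (hg : Irreducible g) (hgm : g.Monic) (hgd : g ∣ X ^ r - 1) :
    ∃ g₀ : F₀[X], g₀.map F₀.subtype = g := by
  classical
  have : Fintype F₀ := Fintype.ofFinite F₀
  have : CharP F₀ p := by
    refine (RingHom.charP_iff (F₀.subtype : F₀ →+* F) F₀.subtype_injective p).2 inferInstance
  rw [← Polynomial.cyclotomic_prime_mul_X_sub_one F r] at hgd
  rcases hg.prime.dvd_or_dvd hgd with h | h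
  · -- a factor of the cyclotomic polynomial
    have hdeg : g.natDegree = orderOf ((Fintype.card F : ℕ) : ZMod r) :=
      Cfsg.Agent.Lib.Helper2.BG.allIrrDeg_cyclotomic (p := p) hrp g hg h
    set P₀ : F₀[X] := cyclotomic r F₀ with hP₀
    have hP₀0 : P₀ ≠ 0 := cyclotomic_ne_zero r F₀
    have hmap : P₀.map (F₀.subtype : F₀ →+* F) = cyclotomic r F := map_cyclotomic r _
    set s := UniqueFactorizationMonoid.normalizedFactors P₀ with hs
    have hsprod : Associated s.prod P₀ := UniqueFactorizationMonoid.prod_normalizedFactors hP₀0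
    have h1 : g ∣ (s.map (Polynomial.map (F₀.subtype : F₀ →+* F))).prod := by
      have h2 : (s.map (Polynomial.map (F₀.subtype : F₀ →+* F))).prod =
          s.prod.map (F₀.subtype : F₀ →+* F) := by
        rw [Polynomial.map_multiset_prod]
      rw [h2]
      have h3 : Associated (s.prod.map (F₀.subtype : F₀ →+* F)) (cyclotomic r F) := by
        rw [← hmap]
        exact hsprod.map (Polynomial.mapRingHom (F₀.subtype : F₀ →+* F))
      exact h.trans h3.symm.dvd
    obtain ⟨g', hg's, hgg'⟩ := Prime.exists_mem_multiset_dvd hg.prime h1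
    obtain ⟨g₀, hg₀s, rfl⟩ := Multiset.mem_map.1 hg's
    have hg₀irr : Irreducible g₀ := UniqueFactorizationMonoid.irreducible_of_normalized_factor g₀ hg₀s
    have hg₀dvd : g₀ ∣ P₀ := UniqueFactorizationMonoid.dvd_of_mem_normalizedFactors hg₀s
    have hg₀m : g₀.Monic := by
      have hn : normalize g₀ = g₀ := UniqueFactorizationMonoid.normalize_normalized_factor g₀ hg₀s
      rw [← hn]
      exact Polynomial.monic_normalize hg₀irr.ne_zero
    have hdeg₀ : g₀.natDegree = orderOf ((Fintype.card F₀ : ℕ) : ZMod r) :=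
      Cfsg.Agent.Lib.Helper2.BG.allIrrDeg_cyclotomic (p := p) hrp g₀ hg₀irr hg₀dvd
    refine ⟨g₀, ?_⟩
    apply Polynomial.eq_of_monic_of_dvd_of_natDegree_le hgm (hg₀m.map _) hgg'
    rw [Polynomial.natDegree_map, hdeg, hdeg₀, hord, Nat.card_eq_fintype_card]
  · -- the factor `X - 1`
    refine ⟨X - 1, ?_⟩
    have hirr : Irreducible (X - 1 : F[X]) := by
      have := Polynomial.irreducible_X_sub_C (1 : F)
      simpa using this
    have hass : Associated g (X - 1 : F[X]) := hg.associated_of_dvd hirr h
    have hm : (X - 1 : F[X]).Monic := by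
      have := Polynomial.monic_X_sub_C (1 : F)
      simpa using this
    rw [Polynomial.eq_of_monic_of_associated hgm hm hass]
    simp

end Cfsg.Agent.Lib.Helper44.Sfr
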