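import Mathlib
import Cfsg.Prelude.Def_GeometricClasses
import Cfsg.Agent.Lib.Helper2.BGMain
import Cfsg.Agent.Lib.Helper44.SubfA
import Cfsg.Agent.Lib.Helper44.CubB
import Cfsg.Agent.Lib.Helper44.SfrFactor
import Cfsg.Agent.Lib.Helper44.SfrRat
import Cfsg.Agent.Lib.Helper44.SfrCent

/-!
# The positive direction for `r = k`

`good_of_eq`: when `q = q₀ ^ r`, every element of `SL_n(F)` whose `r`-th power is scalar is conjugate
in `SL_n(F)` into the subfield group of `F₀` (under the arithmetic hypothesis excluding scalars that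
are not `r`-th powers).
-/

set_option autoImplicit false
open scoped MatrixGroups
open Matrix Polynomial

namespace Cfsg.Agent.Lib.Helper44.Sfr

open Cfsg.Agent.Lib.Helper2.BG

universe v
variable {F : Type v} [Field F] [Fintype F]

/-- from a rational basis (up to the scalar `c`) to a conjugate of determinant one in the subfield
group -/
theorem exists_SL_conj_of_rational_basis {p : ℕ} [Fact p.Prime] [CharP F p] {n : ℕ} (hn : 0 < n)
    (F₀ : Subfield F) (r : ℕ) [Fact r.Prime] (hrp : r ≠ p)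
    (x : Matrix.SpecialLinearGroup (Fin n) F) (c : F) (hc0 : c ≠ 0)
    (hxr : ((x ^ r : Matrix.SpecialLinearGroup (Fin n) F) : Matrix (Fin n) (Fin n) F) =
        (c ^ r) • (1 : Matrix (Fin n) (Fin n) F))
    {ι : Type} [Fintype ι] [DecidableEq ι] (b : Module.Basis ι F (Fin n → F))
    (hb : ∀ i j, ∃ m : F₀, b.repr ((x : Matrix (Fin n) (Fin n) F) *ᵥ b j) i = c * (m : F)) :
    ∃ P : Matrix.SpecialLinearGroup (Fin n) F, P⁻¹ * x * P ∈
        ((Cfsg.Geo.subfieldSubgroup F₀ (1 : GL (Fin n) F)).comap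
          (Matrix.SpecialLinearGroup.toGL : Matrix.SpecialLinearGroup (Fin n) F →* GL (Fin n) F)) := by
  obtain ⟨R, hR⟩ := Cfsg.Agent.Lib.Helper44.SLInv.exists_GL_conj_mem_subfield F₀
    (x : Matrix (Fin n) (Fin n) F) b c hc0 hb
  have hRdet : (R : Matrix (Fin n) (Fin n) F).det ≠ 0 :=
    ((Matrix.isUnit_iff_isUnit_det _).1 (Units.isUnit R)).ne_zero
  set y : Matrix (Fin n) (Fin n) F := c⁻¹ • (x : Matrix (Fin n) (Fin n) F) with hy
  have hyr : y ^ r = 1 := by
    rw [hy, _root_.smul_pow, ← Matrix.SpecialLinearGroup.coe_pow, hxr, smul_smul, inv_pow,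
      inv_mul_cancel₀ (pow_ne_zero _ hc0), one_smul]
  obtain ⟨C, hC1, hC2⟩ := exists_commute_det (p := p) hn r hrp y hyr
    ((R : Matrix (Fin n) (Fin n) F).det)⁻¹ (inv_ne_zero hRdet)
  have hCx : C * (x : Matrix (Fin n) (Fin n) F) = (x : Matrix (Fin n) (Fin n) F) * C := by
    have hx' : (x : Matrix (Fin n) (Fin n) F) = c • y := by
      rw [hy, smul_smul, mul_inv_cancel₀ hc0, one_smul]
    rw [hx', Matrix.mul_smul, Matrix.smul_mul, hC1]
  refine Cfsg.Agent.Lib.Helper44.SLInv.exists_SL_conj_of_commute _ x R 1 (hR _ ?_) (one_mem _) C hCx ?_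
  · simp
  · rw [hC2]
    simp [hRdet]

theorem good_of_eq {p : ℕ} [Fact p.Prime] [CharP F p] (n : ℕ) (hn : 2 ≤ n) (F₀ : Subfield F)
    (r : ℕ) [hr : Fact r.Prime] (hr2 : r ≠ 2) (hrp : r ≠ p)
    (hqk : Fintype.card F = Nat.card F₀ ^ r)
    (hgapk : r ∣ Nat.card F₀ - 1 → padicValNat r n ≤ padicValNat r (Fintype.card F - 1))
    (x : Matrix.SpecialLinearGroup (Fin n) F)
    (hx : ∃ z : F, ((x ^ r : Matrix.SpecialLinearGroup (Fin n) F) : Matrix (Fin n) (Fin n) F) =
        z • (1 : Matrix (Fin n) (Fin n) F)) :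
    ∃ P : Matrix.SpecialLinearGroup (Fin n) F, P⁻¹ * x * P ∈
        ((Cfsg.Geo.subfieldSubgroup F₀ (1 : GL (Fin n) F)).comap
          (Matrix.SpecialLinearGroup.toGL : Matrix.SpecialLinearGroup (Fin n) F →* GL (Fin n) F)) := by
  obtain ⟨z, hz⟩ := hx
  have hn0 : 0 < n := by omega
  have hcast : ((Fintype.card F : ℕ) : ZMod r) = ((Nat.card F₀ : ℕ) : ZMod r) := by
    rw [hqk]
    push_cast
    exact ZMod.pow_card _
  have hz0 : z ≠ 0 := scalar_ne_zero hn0 x z hz
  -- `z` is an `r`-th power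
  have hzpow : ∃ c : F, c ^ r = z := by
    by_contra hno
    push Not at hno
    have hrq := dvd_card_sub_one_of_not_pow z hz0 hno
    have hrq₀ : r ∣ Nat.card F₀ - 1 := by
      have h1 := (orderOf_eq_one_iff_dvd (r := r) _ Fintype.card_pos).2 hrq
      rw [hcast] at h1
      exact (orderOf_eq_one_iff_dvd _ Nat.card_pos).1 h1
    exact caseB_false hn0 x z hz hno (hgapk hrq₀) (fun h => absurd h hr2)
  obtain ⟨c, hc⟩ := hzpow
  have hc0 : c ≠ 0 := by
    rintro rfl
    rw [zero_pow hr.out.ne_zero] at hc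
    exact hz0 hc.symm
  set y : Matrix (Fin n) (Fin n) F := c⁻¹ • (x : Matrix (Fin n) (Fin n) F) with hy
  have hyr : y ^ r = 1 := by
    rw [hy, _root_.smul_pow, ← Matrix.SpecialLinearGroup.coe_pow, hz, ← hc, smul_smul, inv_pow,
      inv_mul_cancel₀ (pow_ne_zero _ hc0), one_smul]
  have hrF : (r : F) ≠ 0 := natCast_ne_zero_of_ne (p := p) hrp
  obtain ⟨ι, _, _, b, hb⟩ := exists_rational_basis F₀ y (X ^ r - 1 : F[X])
    (squarefree_X_pow_sub_one hrF) (by
      rw [map_sub, map_pow, aeval_X, map_one, hyr, sub_self])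
    (fun g hg hgm hgd => factor_mem_subfield (p := p) F₀ r hrp (by rw [hcast]) g hg hgm hgd)
  refine exists_SL_conj_of_rational_basis (p := p) hn0 F₀ r hrp x c hc0 (by rw [hz, hc]) b ?_
  intro i j
  obtain ⟨m, hm⟩ := hb i j
  refine ⟨m, ?_⟩
  have hx' : (x : Matrix (Fin n) (Fin n) F) = c • y := by
    rw [hy, smul_smul, mul_inv_cancel₀ hc0, one_smul]
  rw [hx', Matrix.smul_mulVec, map_smul, Finsupp.smul_apply, hm, smul_eq_mul]

end Cfsg.Agent.Lib.Helper44.Sfr
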