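import Mathlib
import Cfsg.Prelude.Def_GeometricClasses
import Cfsg.Agent.Lib.Helper2.BGMain
import Cfsg.Agent.Lib.Helper44.FldD
import Cfsg.Agent.Lib.Helper44.SfrRoots
import Cfsg.Agent.Lib.Helper44.SfrGood
import Cfsg.Agent.Lib.Helper42.SfrFb
import Cfsg.Agent.Lib.Helper42.SfrFe
import Cfsg.Agent.Lib.Helper83.SfrFd
import Cfsg.Agent.Lib.Helper83.SfrDiag

/-!
# The positive direction in the special case `k = 2`, `r = n ∈ {3, 5}`, `(q₀ + 1)_r = r`

`good_special`: every element of `SL_r(F)` whose `r`-th power is scalar and which is not scalar is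
conjugate in `SL_r(F)` into the subfield group of the subfield of index two.
-/

set_option autoImplicit false
open scoped MatrixGroups
open Matrix Polynomial

namespace Cfsg.Agent.Lib.Helper44.Sfr

open Cfsg.Agent.Lib.Helper2.BG

universe v
variable {F : Type v} [Field F] [Fintype F]

theorem good_special {p : ℕ} [Fact p.Prime] [CharP F p] (n : ℕ) (F₀ : Subfield F)
    (r : ℕ) [hr : Fact r.Prime] (hrp : r ≠ p)
    (hqk : Fintype.card F = Nat.card F₀ ^ 2) (hrn : r = n) (hn35 : n = 3 ∨ n = 5)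
    (hv : padicValNat r (Nat.card F₀ + 1) = 1)
    (x : Matrix.SpecialLinearGroup (Fin n) F)
    (hx : ∃ z : F, ((x ^ r : Matrix.SpecialLinearGroup (Fin n) F) : Matrix (Fin n) (Fin n) F) =
        z • (1 : Matrix (Fin n) (Fin n) F))
    (hxns : ∀ z : F, (x : Matrix (Fin n) (Fin n) F) ≠ z • (1 : Matrix (Fin n) (Fin n) F)) :
    ∃ P : Matrix.SpecialLinearGroup (Fin n) F, P⁻¹ * x * P ∈
        ((Cfsg.Geo.subfieldSubgroup F₀ (1 : GL (Fin n) F)).comap
          (Matrix.SpecialLinearGroup.toGL : Matrix.SpecialLinearGroup (Fin n) F →* GL (Fin n) F)) := by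
  classical
  subst hrn
  obtain ⟨z, hz⟩ := hx
  have hr3 : 3 ≤ r := by rcases hn35 with h | h <;> omega
  have hr2 : r ≠ 2 := by omega
  have hn0 : 0 < r := by omega
  have hrq₀ : r ∣ Nat.card F₀ + 1 := dvd_of_one_le_padicValNat (by omega)
  have hq₀pos : 0 < Nat.card F₀ := Nat.card_pos
  have hfac : Fintype.card F - 1 = (Nat.card F₀ - 1) * (Nat.card F₀ + 1) := by
    rw [hqk]
    have : 1 ≤ Nat.card F₀ ^ 2 := Nat.one_le_pow _ _ hq₀pos
    zify [this, hq₀pos]
    ring
  have hq1 : Fintype.card F - 1 ≠ 0 := by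
    have := Fintype.one_lt_card (α := F); omega
  have hnd : ¬ r ∣ Nat.card F₀ - 1 := by
    intro h
    have h2 : r ∣ (Nat.card F₀ + 1) - (Nat.card F₀ - 1) := Nat.dvd_sub hrq₀ h
    have h3 : (Nat.card F₀ + 1) - (Nat.card F₀ - 1) = 2 := by omega
    rw [h3] at h2
    have := Nat.le_of_dvd (by norm_num) h2
    omega
  have hrq : r ∣ Fintype.card F - 1 := by rw [hfac]; exact dvd_mul_of_dvd_right hrq₀ _
  have hvq : padicValNat r (Fintype.card F - 1) = 1 := by
    have hne1 : Nat.card F₀ - 1 ≠ 0 := by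
      intro h0
      rw [hfac, h0, zero_mul] at hq1
      exact hq1 rfl
    rw [hfac, padicValNat.mul hne1 (by omega), padicValNat.eq_zero_of_not_dvd hnd, hv]
  -- `z ^ r = 1`
  have hzr : z ^ r = 1 := by
    have h1 := congrArg Matrix.det hz
    rw [(x ^ r).2, Matrix.det_smul, Matrix.det_one, mul_one, Fintype.card_fin] at h1
    exact h1.symm
  have hz0 : z ≠ 0 := scalar_ne_zero hn0 x z hz
  -- `z` is an `r`-th power
  have hzpow : ∃ c : F, c ^ r = z := by
    by_contra hno
    push Not at hno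
    exact caseB_false hn0 x z hz hno (by rw [padicValNat_self, hvq]) (fun h => absurd h hr2)
  obtain ⟨c, hc⟩ := hzpow
  have hc0 : c ≠ 0 := by
    rintro rfl
    rw [zero_pow hr.out.ne_zero] at hc
    exact hz0 hc.symm
  -- `c ^ r = 1`
  have hcr : c ^ r = 1 := by
    have h1 : c ^ (r * r) = 1 := by rw [pow_mul, hc, hzr]
    have h2 : c ^ (Fintype.card F - 1) = 1 := FiniteField.pow_card_sub_one_eq_one c hc0
    obtain ⟨m, hm⟩ := hrq
    have hrm : ¬ r ∣ m := by
      intro hdvd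
      obtain ⟨m', rfl⟩ := hdvd
      have h3 : r ^ 2 ∣ Fintype.card F - 1 := ⟨m', by rw [hm]; ring⟩
      have := (padicValNat_dvd_iff_le (p := r) hq1).1 h3
      omega
    have hgcd : Nat.gcd (r * r) (Fintype.card F - 1) = r := by
      rw [hm, Nat.gcd_mul_left, ((Nat.Prime.coprime_iff_not_dvd hr.out).2 hrm).gcd_eq_one, mul_one]
    have := (pow_gcd_eq_one (a := c) (m := r * r) (n := Fintype.card F - 1)).2 ⟨h1, h2⟩
    rw [hgcd] at this
    exact this
  have hz1 : z = 1 := by rw [← hc, hcr]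
  have hxr : (x : Matrix (Fin r) (Fin r) F) ^ r = 1 := by
    rw [← Matrix.SpecialLinearGroup.coe_pow, hz, hz1, one_smul]
  obtain ⟨ω, hω, hω1⟩ := exists_root_of_unity (F := F) r hrq
  obtain ⟨b, e, hb⟩ := exists_eigenbasis r ω hω hω1 (x : Matrix (Fin r) (Fin r) F) hxr
  have hord : orderOf ω = r := orderOf_eq_prime hω hω1
  -- the exponents sum to zero
  have hsum : ∑ i, e i = 0 := by
    have h1 : LinearMap.det (Matrix.toLin' (x : Matrix (Fin r) (Fin r) F)) =
        ∏ j, ω ^ (e j).val :=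
      Cfsg.Agent.Lib.Helper44.Fld.det_of_eigenbasis b _ (fun j => ω ^ (e j).val) (fun j => by
        rw [Matrix.toLin'_apply]; exact hb j)
    rw [LinearMap.det_toLin', x.2, Finset.prod_pow_eq_pow_sum, ← sfrd_pow_val_sum r r ω hω e] at h1
    have h2 : r ∣ (∑ i, e i).val := by
      have := orderOf_dvd_of_pow_eq_one h1.symm
      rwa [hord] at this
    have h3 : (∑ i, e i).val < r := ZMod.val_lt _
    have h4 : (∑ i, e i).val = 0 := Nat.eq_zero_of_dvd_of_lt h2 h3
    exact (ZMod.val_eq_zero _).1 h4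
  -- the exponents are not all equal
  have hne : ∃ i j, e i ≠ e j := by
    by_contra hall
    push Not at hall
    apply hxns (ω ^ (e ⟨0, hn0⟩).val)
    have h1 : Matrix.toLin' (x : Matrix (Fin r) (Fin r) F) =
        Matrix.toLin' ((ω ^ (e ⟨0, hn0⟩).val) • (1 : Matrix (Fin r) (Fin r) F)) := by
      apply b.ext
      intro i
      rw [Matrix.toLin'_apply, hb i, hall i ⟨0, hn0⟩, Matrix.toLin'_apply, Matrix.smul_mulVec,
        Matrix.one_mulVec]
    exact Matrix.toLin'.injective h1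
  obtain ⟨t, π, hπ, he⟩ := exists_symm_center r hn35 e hsum hne
  obtain ⟨b', hb'⟩ := rational_basis_of_symm F₀ hqk r hrq₀ ω hω (x : Matrix (Fin r) (Fin r) F)
    b e hb t π hπ he
  have hω0 : ω ≠ 0 := by
    rintro rfl
    rw [zero_pow hr.out.ne_zero] at hω
    exact zero_ne_one hω
  refine exists_SL_conj_of_rational_basis (p := p) hn0 F₀ r hrp x (ω ^ t.val) (pow_ne_zero _ hω0)
    ?_ b' hb'
  rw [hz, hz1, ← pow_mul, mul_comm, pow_mul, hω, one_pow]

end Cfsg.Agent.Lib.Helper44.Sfr
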