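import Mathlib
import Cfsg.Prelude.Def_GeometricClasses
import Cfsg.Agent.Lib.Helper2.BGMain
import Cfsg.Agent.Lib.Helper44.SubfA

/-!
# Elements of order `r` whose `r`-th power is not an `r`-th power

`exists_bad_typeB`: when `r ∣ q - 1`, `r ∤ q₀ - 1` and the `r`-part of `n` exceeds that of `q - 1`,
there is an element of `SL_n(F)` whose `r`-th power is a scalar that is not an `r`-th power; it is
not conjugate into the subfield group of `F₀`.
-/

set_option autoImplicit false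
open scoped MatrixGroups
open Matrix

namespace Cfsg.Agent.Lib.Helper44.Sfr

universe v
variable {F : Type v} [Field F] [Fintype F]

/-- a scalar multiple of a matrix over the subfield whose `r`-th power is the scalar `c` forces `c`
to be an `r`-th power, when `r` is prime to `q₀ - 1` -/
theorem pow_of_subfield_scalar (n : ℕ) (hn : 0 < n) (F₀ : Subfield F) (r : ℕ) [hr : Fact r.Prime]
    (hrq₀ : ¬ r ∣ Nat.card F₀ - 1) (a c : F) (ha : a ≠ 0) (hc0 : c ≠ 0)
    (M₀ : Matrix (Fin n) (Fin n) F₀)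
    (h : (a • M₀.map (F₀.subtype : F₀ →+* F)) ^ r = c • (1 : Matrix (Fin n) (Fin n) F)) :
    ∃ b : F, b ^ r = c := by
  classical
  have : Fintype F₀ := Fintype.ofFinite F₀
  rw [smul_pow, ← Matrix.map_pow] at h
  have h00 := congrFun (congrFun h ⟨0, hn⟩) ⟨0, hn⟩
  simp only [Matrix.smul_apply, Matrix.map_apply, Matrix.one_apply_eq, smul_eq_mul, mul_one,
    Subfield.coe_subtype] at h00
  set u : F₀ := (M₀ ^ r) ⟨0, hn⟩ ⟨0, hn⟩ with hu
  have hu0 : u ≠ 0 := by
    intro h0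
    rw [h0] at h00
    simp at h00
    exact hc0 h00.symm
  have hcop : Nat.Coprime r (Fintype.card F₀ - 1) := by
    rw [← Nat.card_eq_fintype_card]
    exact (Nat.Prime.coprime_iff_not_dvd hr.out).2 hrq₀
  obtain ⟨b, hb⟩ := Cfsg.Agent.Lib.Helper2.BG.exists_pow_eq_of_coprime hcop u hu0
  refine ⟨a * (b : F), ?_⟩
  rw [mul_pow, ← h00]
  congr 1
  have := congrArg (fun t : F₀ => (t : F)) hb
  simpa using this

theorem exists_bad_typeB {p : ℕ} [Fact p.Prime] [CharP F p] (n : ℕ) (hn : 0 < n) (F₀ : Subfield F)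
    (r : ℕ) [Fact r.Prime] (hr2 : r ≠ 2) (hrp : r ≠ p)
    (hrq : r ∣ Fintype.card F - 1) (hrq₀ : ¬ r ∣ Nat.card F₀ - 1)
    (hv : padicValNat r (Fintype.card F - 1) < padicValNat r n) :
    ∃ x : Matrix.SpecialLinearGroup (Fin n) F,
      (∃ z : F, ((x ^ r : Matrix.SpecialLinearGroup (Fin n) F) : Matrix (Fin n) (Fin n) F) =
        z • (1 : Matrix (Fin n) (Fin n) F)) ∧
      (∀ z : F, (x : Matrix (Fin n) (Fin n) F) ≠ z • (1 : Matrix (Fin n) (Fin n) F)) ∧
      ¬ ∃ P : Matrix.SpecialLinearGroup (Fin n) F, P⁻¹ * x * P ∈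
        ((Cfsg.Geo.subfieldSubgroup F₀ (1 : GL (Fin n) F)).comap
          (Matrix.SpecialLinearGroup.toGL : Matrix.SpecialLinearGroup (Fin n) F →* GL (Fin n) F)) := by
  have h : ¬ (padicValNat r n ≤ padicValNat r (Fintype.card F - 1) ∧
      (r = 2 → Even n → Fintype.card F % 4 = 1)) := fun h => by omega
  obtain ⟨c, k, hk, hc, hdet⟩ := Cfsg.Agent.Lib.Helper2.BG.exists_caseB_scalar hrq hn h
  obtain ⟨x, hx1, -⟩ := Cfsg.Agent.Lib.Helper2.BG.exists_derangement_B
    (Cfsg.Agent.Lib.Helper2.BG.natCast_ne_zero_of_ne (p := p) hrp) c hc k n hk hdet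
  have hc0 : c ≠ 0 := Cfsg.Agent.Lib.Helper2.BG.scalar_ne_zero hn x c hx1
  refine ⟨x, ⟨c, hx1⟩, ?_, ?_⟩
  · intro z hz
    apply hc z
    have h1 : ((x ^ r : Matrix.SpecialLinearGroup (Fin n) F) : Matrix (Fin n) (Fin n) F) =
        (z ^ r) • (1 : Matrix (Fin n) (Fin n) F) := by
      rw [Matrix.SpecialLinearGroup.coe_pow, hz, smul_pow, one_pow]
    rw [hx1] at h1
    have h00 := congrFun (congrFun h1 ⟨0, hn⟩) ⟨0, hn⟩
    simp only [Matrix.smul_apply, Matrix.one_apply_eq, smul_eq_mul, mul_one] at h00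
    exact h00.symm
  · rintro ⟨P, hP⟩
    rw [Subgroup.mem_comap] at hP
    obtain ⟨a, M₀, ha, hM⟩ := Cfsg.Agent.Lib.Helper44.SLInv.exists_of_mem_subfieldSubgroup F₀ _ hP
    rw [Matrix.SpecialLinearGroup.coe_GL_coe_matrix] at hM
    have hpow : ((P⁻¹ * x * P : Matrix.SpecialLinearGroup (Fin n) F) : Matrix (Fin n) (Fin n) F) ^ r
        = c • (1 : Matrix (Fin n) (Fin n) F) := by
      rw [← Matrix.SpecialLinearGroup.coe_pow]
      have : (P⁻¹ * x * P) ^ r = P⁻¹ * x ^ r * P := by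
        have := conj_pow (a := P⁻¹) (b := x) (i := r)
        simpa using this
      rw [this, Matrix.SpecialLinearGroup.coe_mul, Matrix.SpecialLinearGroup.coe_mul, hx1,
        Matrix.mul_smul, Matrix.smul_mul, Matrix.mul_one, ← Matrix.SpecialLinearGroup.coe_mul,
        inv_mul_cancel, Matrix.SpecialLinearGroup.coe_one]
    rw [hM] at hpow
    obtain ⟨b, hb⟩ := pow_of_subfield_scalar n hn F₀ r hrq₀ a c ha hc0 M₀ hpow
    exact hc b hb

end Cfsg.Agent.Lib.Helper44.Sfr
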