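import Cfsg.Agent.Lib.Helper61.SlK3MODBDefs
import Cfsg.Agent.Lib.Helper5.SLGen

/-! # K3-MODB sub-sub-hive (owner helper61; Sl hive S2332): leaf K3-MODB-GEN `k3modb_gen`. -/

set_option autoImplicit false

namespace Cfsg.Agent.Lib.Helper76.Sl

open Matrix Cfsg
open scoped ComplexConjugate

variable (F : Type*) [Field F] [Fintype F] [DecidableEq F]

/-- MODB-GEN: a subgroup of `SL_{m+3}` containing `E_ij(c)` for `j ≠ 0` and for `i ≠ last` is everything:
`E_{last,0}(c) = ⁅E_{last,1}(c), E_{1,0}(1)⁆`. -/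
theorem k3modb_gen (m : ℕ) (S : Subgroup (Gm F (m + 1)))
    (h1 : ∀ (i j : Fin (m + 3)) (hij : i ≠ j) (c : F), j ≠ 0 →
      Matrix.SpecialLinearGroup.transvection hij c ∈ S)
    (h2 : ∀ (i j : Fin (m + 3)) (hij : i ≠ j) (c : F), i ≠ Fin.last (m + 2) →
      Matrix.SpecialLinearGroup.transvection hij c ∈ S) : S = ⊤ := by
  apply Cfsg.Agent.Lib.Helper5.eq_top_of_transvection_mem
  intro i j hij c
  by_cases hj : j = 0
  swap
  · exact h1 i j hij c hj
  by_cases hi : i = Fin.last (m + 2)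
  swap
  · exact h2 i j hij c hi
  subst hj hi
  have h10 : (1 : Fin (m + 3)) ≠ 0 := by
    rw [Ne, Fin.ext_iff]; simp
  have hl1 : Fin.last (m + 2) ≠ (1 : Fin (m + 3)) := by
    rw [Ne, Fin.ext_iff]; simp [Fin.val_one]
  have hc := Cfsg.Agent.Lib.Helper5.commutator_transvection (F := F) hij hl1 h10 c
  rw [← hc, commutatorElement_def]
  have ha : Matrix.SpecialLinearGroup.transvection hl1 c ∈ S := h1 _ _ hl1 c h10
  have hb : Matrix.SpecialLinearGroup.transvection h10 (1 : F) ∈ S := h2 _ _ h10 1 hl1.symm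
  exact S.mul_mem (S.mul_mem (S.mul_mem ha hb) (S.inv_mem ha)) (S.inv_mem hb)

end Cfsg.Agent.Lib.Helper76.Sl
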