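import Cfsg.Agent.Lib.Helper61.SlK3MODBDefs

/-! # K3-MODB sub-sub-hive (owner helper61; Sl hive S2332): leaves K3-MODB-NQ `k3modb_norm_Q` and
K3-MODB-NQP `k3modb_norm_Qp`. -/

set_option autoImplicit false

namespace Cfsg.Agent.Lib.Helper76.Sl

open Matrix Cfsg
open scoped ComplexConjugate

variable (F : Type*) [Field F] [Fintype F] [DecidableEq F]

/-- row version: if the rows `k` with `¬ P k` of `g` are rows of `1` and row `i'` of `t⁻¹` vanishes on `P`,
then row `i'` of `t⁻¹ g t` is that of `1`. -/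
theorem k3modbnq_core {ι : Type*} [Fintype ι] [DecidableEq ι] {R : Type*} [CommRing R]
    (t g : Matrix.SpecialLinearGroup ι R) (i' : ι) (P : ι → Prop)
    (hg : ∀ k l, ¬ P k → g.1 k l = (1 : Matrix ι ι R) k l)
    (ht : ∀ k, P k → (t⁻¹).1 i' k = 0) (j' : ι) :
    (t⁻¹ * g * t).1 i' j' = (1 : Matrix ι ι R) i' j' := by
  have hrow : ∀ l, ((t⁻¹).1 * g.1) i' l = (t⁻¹).1 i' l := by
    intro l
    rw [Matrix.mul_apply]
    have : ∀ k, (t⁻¹).1 i' k * g.1 k l = (t⁻¹).1 i' k * (1 : Matrix ι ι R) k l := by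
      intro k
      by_cases hk : P k
      · rw [ht k hk, zero_mul, zero_mul]
      · rw [hg k l hk]
    simp_rw [this]
    rw [← Matrix.mul_apply, Matrix.mul_one]
  have h1 : (t⁻¹ * g * t).1 = (t⁻¹).1 * g.1 * t.1 := by
    simp only [Matrix.SpecialLinearGroup.coe_mul]
  rw [h1, Matrix.mul_apply]
  simp_rw [hrow]
  rw [← Matrix.mul_apply, ← Matrix.SpecialLinearGroup.coe_mul, inv_mul_cancel,
    Matrix.SpecialLinearGroup.coe_one]

/-- column version: if the columns `l` with `¬ P l` of `g` are columns of `1` and column `j'` of `t`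
vanishes on `P`, then column `j'` of `t⁻¹ g t` is that of `1`. -/
theorem k3modbnqp_core {ι : Type*} [Fintype ι] [DecidableEq ι] {R : Type*} [CommRing R]
    (t g : Matrix.SpecialLinearGroup ι R) (j' : ι) (P : ι → Prop)
    (hg : ∀ k l, ¬ P l → g.1 k l = (1 : Matrix ι ι R) k l)
    (ht : ∀ l, P l → t.1 l j' = 0) (i' : ι) :
    (t⁻¹ * g * t).1 i' j' = (1 : Matrix ι ι R) i' j' := by
  have hcol : ∀ k, (g.1 * t.1) k j' = t.1 k j' := by
    intro k
    rw [Matrix.mul_apply]
    have : ∀ l, g.1 k l * t.1 l j' = (1 : Matrix ι ι R) k l * t.1 l j' := by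
      intro l
      by_cases hl : P l
      · rw [ht l hl, mul_zero, mul_zero]
      · rw [hg k l hl]
    simp_rw [this]
    rw [← Matrix.mul_apply, Matrix.one_mul]
  have h1 : (t⁻¹ * g * t).1 = (t⁻¹).1 * (g.1 * t.1) := by
    simp only [Matrix.SpecialLinearGroup.coe_mul, Matrix.mul_assoc]
  rw [h1, Matrix.mul_apply]
  simp_rw [hcol]
  rw [← Matrix.mul_apply, ← Matrix.SpecialLinearGroup.coe_mul, inv_mul_cancel,
    Matrix.SpecialLinearGroup.coe_one]

/-- MODB-NQ: `E_ij(c)`, `j ≠ 0`, normalises `Q`. -/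
theorem k3modb_norm_Q (m : ℕ) (i j : Fin (m + 3)) (hij : i ≠ j) (hj : j ≠ 0) (c : F)
    (g : Gm F (m + 1)) (hg : g ∈ Qset F (m + 1)) :
    (Matrix.SpecialLinearGroup.transvection hij c)⁻¹ * g * Matrix.SpecialLinearGroup.transvection hij c ∈
      Qset F (m + 1) := by
  intro i' j' hi'
  refine k3modbnq_core (Matrix.SpecialLinearGroup.transvection hij c) g i' (fun k => k = 0)
    (fun k l hk => hg k l hk) ?_ j'
  intro k hk
  subst hk
  rw [Matrix.SpecialLinearGroup.transvection_inv, Matrix.SpecialLinearGroup.transvection_coe,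
    Matrix.add_apply, Matrix.one_apply_ne hi', Matrix.single_apply_of_ne, add_zero]
  rintro ⟨-, h⟩
  exact hj h

/-- MODB-NQP: `E_ij(c)`, `i ≠ last`, normalises `Q'` (mirror). -/
theorem k3modb_norm_Qp (m : ℕ) (i j : Fin (m + 3)) (hij : i ≠ j) (hi : i ≠ Fin.last (m + 2)) (c : F)
    (g : Gm F (m + 1)) (hg : g ∈ K3Qp F m) :
    (Matrix.SpecialLinearGroup.transvection hij c)⁻¹ * g * Matrix.SpecialLinearGroup.transvection hij c ∈
      K3Qp F m := by
  intro i' j' hj'
  refine k3modbnqp_core (Matrix.SpecialLinearGroup.transvection hij c) g j'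
    (fun l => l = Fin.last (m + 2)) (fun k l hl => hg k l hl) ?_ i'
  intro l hl
  subst hl
  rw [Matrix.SpecialLinearGroup.transvection_coe,
    Matrix.add_apply, Matrix.one_apply_ne (Ne.symm hj'), Matrix.single_apply_of_ne, add_zero]
  rintro ⟨h, -⟩
  exact hi h

end Cfsg.Agent.Lib.Helper76.Sl
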