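import Mathlib

/-! # Stn hive (S2401), sub-hive Stn-SYM (owner helper86), leaf SYM-FIN (helper44):
a Steinberg symbol on a finite field is trivial.  Mathlib only. -/

set_option autoImplicit false

namespace Cfsg.Agent.Lib.Helper41.Stn

theorem fin_one_left {K : Type*} [Field K] {A : Type*} [Group A] (s : K → K → A)
    (hl : ∀ t t' u : K, t ≠ 0 → t' ≠ 0 → u ≠ 0 → s (t * t') u = s t u * s t' u)
    (u : K) (hu : u ≠ 0) : s 1 u = 1 := by
  have h := hl 1 1 u one_ne_zero one_ne_zero hu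
  rw [mul_one] at h
  exact mul_eq_left.mp h.symm

theorem fin_one_right {K : Type*} [Field K] {A : Type*} [Group A] (s : K → K → A)
    (hr : ∀ t u u' : K, t ≠ 0 → u ≠ 0 → u' ≠ 0 → s t (u * u') = s t u * s t u')
    (t : K) (ht : t ≠ 0) : s t 1 = 1 := by
  have h := hr t 1 1 ht one_ne_zero one_ne_zero
  rw [mul_one] at h
  exact mul_eq_left.mp h.symm

theorem fin_pow_left {K : Type*} [Field K] {A : Type*} [Group A] (s : K → K → A)
    (hl : ∀ t t' u : K, t ≠ 0 → t' ≠ 0 → u ≠ 0 → s (t * t') u = s t u * s t' u)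
    (g u : K) (hg : g ≠ 0) (hu : u ≠ 0) (a : ℕ) : s (g ^ a) u = (s g u) ^ a := by
  induction a with
  | zero => rw [pow_zero, pow_zero]; exact fin_one_left s hl u hu
  | succ a ih => rw [pow_succ, hl _ _ _ (pow_ne_zero a hg) hg hu, ih, pow_succ]

theorem fin_pow_right {K : Type*} [Field K] {A : Type*} [Group A] (s : K → K → A)
    (hr : ∀ t u u' : K, t ≠ 0 → u ≠ 0 → u' ≠ 0 → s t (u * u') = s t u * s t u')
    (t g : K) (ht : t ≠ 0) (hg : g ≠ 0) (b : ℕ) : s t (g ^ b) = (s t g) ^ b := by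
  induction b with
  | zero => rw [pow_zero, pow_zero]; exact fin_one_right s hr t ht
  | succ b ih => rw [pow_succ, hr _ _ _ ht (pow_ne_zero b hg) hg, ih, pow_succ]

theorem fin_pow_pow {K : Type*} [Field K] {A : Type*} [Group A] (s : K → K → A)
    (hl : ∀ t t' u : K, t ≠ 0 → t' ≠ 0 → u ≠ 0 → s (t * t') u = s t u * s t' u)
    (hr : ∀ t u u' : K, t ≠ 0 → u ≠ 0 → u' ≠ 0 → s t (u * u') = s t u * s t u')
    (g : K) (hg : g ≠ 0) (a b : ℕ) : s (g ^ a) (g ^ b) = (s g g) ^ (b * a) := by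
  rw [fin_pow_left s hl g (g ^ b) hg (pow_ne_zero b hg) a, fin_pow_right s hr g g hg hg b, pow_mul]

theorem fin_antisymm {K : Type*} [Field K] {A : Type*} [Group A] (s : K → K → A)
    (hl : ∀ t t' u : K, t ≠ 0 → t' ≠ 0 → u ≠ 0 → s (t * t') u = s t u * s t' u)
    (hr : ∀ t u u' : K, t ≠ 0 → u ≠ 0 → u' ≠ 0 → s t (u * u') = s t u * s t u')
    (hneg : ∀ u : K, u ≠ 0 → s u (-u) = 1)
    (t u : K) (ht : t ≠ 0) (hu : u ≠ 0) : s t u * s u t = 1 := by
  have htu : t * u ≠ 0 := mul_ne_zero ht hu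
  have h1 := hneg (t * u) htu
  rw [hl t u _ ht hu (neg_ne_zero.mpr htu)] at h1
  have h2 : s t (-(t * u)) = s t u := by
    have : -(t * u) = (-t) * u := by ring
    rw [this, hr t (-t) u ht (neg_ne_zero.mpr ht) hu, hneg t ht, one_mul]
  have h3 : s u (-(t * u)) = s u t := by
    have : -(t * u) = t * (-u) := by ring
    rw [this, hr u t (-u) hu ht (neg_ne_zero.mpr hu), hneg u hu, mul_one]
  rw [h2, h3] at h1
  exact h1

theorem fin_exists_nonsq {K : Type*} [Field K] [Fintype K] [DecidableEq K] (h2 : ringChar K ≠ 2) :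
    ∃ u : K, u ≠ 0 ∧ 1 - u ≠ 0 ∧ ¬ IsSquare u ∧ ¬ IsSquare (1 - u) := by
  by_contra hcon
  push Not at hcon
  have hsum : ∑ u : K, (quadraticChar K u + quadraticChar K (1 - u)) = 0 := by
    rw [Finset.sum_add_distrib, quadraticChar_sum_zero h2]
    have : ∑ u : K, quadraticChar K (1 - u) = ∑ u : K, quadraticChar K u :=
      Fintype.sum_equiv (Equiv.subLeft 1) _ _ (fun u => rfl)
    rw [this, quadraticChar_sum_zero h2, add_zero]
  have hpos : 0 < ∑ u : K, (quadraticChar K u + quadraticChar K (1 - u)) := by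
    apply Finset.sum_pos'
    · intro u _
      by_cases hu0 : u = 0
      · subst hu0
        simp
      by_cases hu1 : 1 - u = 0
      · rw [hu1]
        have : u = 1 := by linear_combination -hu1
        subst this
        simp
      by_cases hsq : IsSquare u
      · rw [(quadraticChar_one_iff_isSquare hu0).mpr hsq]
        rcases quadraticChar_dichotomy hu1 with h | h <;> rw [h] <;> norm_num
      · have hsq' := hcon u hu0 hu1 hsq
        rw [(quadraticChar_one_iff_isSquare hu1).mpr hsq']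
        rcases quadraticChar_dichotomy hu0 with h | h <;> rw [h] <;> norm_num
    · refine ⟨0, Finset.mem_univ _, ?_⟩
      simp
  omega

theorem fin_sigma_pow_odd {A : Type*} [Group A] (σ : A) (h : σ * σ = 1) (m : ℕ) (hm : Odd m) :
    σ ^ m = σ := by
  obtain ⟨k, rfl⟩ := hm
  rw [pow_succ, pow_mul, pow_two, h, one_pow, one_mul]

/-- SYM-FIN: a Steinberg symbol on a finite field is trivial. -/
theorem symbol_trivial {K : Type*} [Field K] [Finite K] {A : Type*} [Group A] (s : K → K → A)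
    (hl : ∀ t t' u : K, t ≠ 0 → t' ≠ 0 → u ≠ 0 → s (t * t') u = s t u * s t' u)
    (hr : ∀ t u u' : K, t ≠ 0 → u ≠ 0 → u' ≠ 0 → s t (u * u') = s t u * s t u')
    (hneg : ∀ u : K, u ≠ 0 → s u (-u) = 1)
    (hst : ∀ u v : K, u ≠ 0 → v ≠ 0 → u + v = 1 → s u v = 1) :
    ∀ t u : K, t ≠ 0 → u ≠ 0 → s t u = 1 := by
  classical
  haveI : Fintype K := Fintype.ofFinite K
  obtain ⟨g, hg⟩ := IsCyclic.exists_monoid_generator (α := Kˣ)
  have hg0 : (g : K) ≠ 0 := g.ne_zero
  have hgen : ∀ x : K, x ≠ 0 → ∃ a : ℕ, (g : K) ^ a = x := by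
    intro x hx
    obtain ⟨a, ha⟩ := hg (Units.mk0 x hx)
    refine ⟨a, ?_⟩
    have := congrArg (fun y : Kˣ => (y : K)) ha
    simpa using this
  have hσ2 : s (g : K) g * s (g : K) g = 1 := fin_antisymm s hl hr hneg g g hg0 hg0
  have hσ : s (g : K) g = 1 := by
    by_cases h2 : ringChar K = 2
    · haveI : CharP K 2 := by
        have := ringChar.charP K
        rwa [h2] at this
      obtain ⟨h, hh⟩ := FiniteField.isSquare_of_char_two (F := K) (by simpa using h2) (g : K)
      have hh0 : h ≠ 0 := by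
        rintro rfl
        rw [mul_zero] at hh
        exact hg0 hh
      obtain ⟨c, hc⟩ := hgen h hh0
      have h1 : s (g : K) g = s h g * s h g := by
        have := hl h h g hh0 hh0 hg0
        rwa [← hh] at this
      have h3 : s h g = (s (g : K) g) ^ c := by
        rw [← hc]
        have := fin_pow_pow s hl hr (g : K) hg0 c 1
        rwa [pow_one, one_mul] at this
      rw [h1, h3, ← pow_add, ← two_mul, pow_mul, pow_two, hσ2, one_pow]
    · obtain ⟨u, hu0, hu1, hsu, hsu'⟩ := fin_exists_nonsq (K := K) h2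
      obtain ⟨a, ha⟩ := hgen u hu0
      obtain ⟨b, hb⟩ := hgen (1 - u) hu1
      have hao : Odd a := by
        rw [← Nat.not_even_iff_odd]
        rintro ⟨k, rfl⟩
        exact hsu ⟨(g : K) ^ k, by rw [← ha, pow_add]⟩
      have hbo : Odd b := by
        rw [← Nat.not_even_iff_odd]
        rintro ⟨k, rfl⟩
        exact hsu' ⟨(g : K) ^ k, by rw [← hb, pow_add]⟩
      have h1 : s ((g : K) ^ a) ((g : K) ^ b) = 1 := by
        rw [ha, hb]
        exact hst u (1 - u) hu0 hu1 (by ring)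
      rw [fin_pow_pow s hl hr (g : K) hg0 a b,
        fin_sigma_pow_odd _ hσ2 (b * a) (hbo.mul hao)] at h1
      exact h1
  intro t u ht hu
  obtain ⟨a, rfl⟩ := hgen t ht
  obtain ⟨b, rfl⟩ := hgen u hu
  rw [fin_pow_pow s hl hr (g : K) hg0 a b, hσ, one_pow]

end Cfsg.Agent.Lib.Helper41.Stn
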