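import Mathlib
import Cfsg.Prelude.Def_GeometricClasses
import Cfsg.Agent.Lib.Helper38.SLCard
import Cfsg.Agent.Lib.Helper44.SubfA

/-!
# The index of the subfield group of odd degree is odd

For a finite field `F` of odd order and a subfield `F₀` with `|F| = |F₀|^k`, `k` odd, the
`2`-parts of `|SL_n(F)|` and `|SL_n(F₀)|` agree; hence the index of
`SL_n(F) ∩ GL_n(F₀) F^×` in `SL_n(F)` is odd.

The two-adic valuation of `|GL_n(q)|` follows `Cfsg.Agent.Lib.Helper20.SylModel` (restated here to
keep the import closure small).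
-/

set_option autoImplicit false

namespace Cfsg.Agent.Lib.Helper44.SLInv

open Matrix

universe v

section val

theorem v2_pow_odd_sub_one (q : ℕ) (hq : Odd q) (hq1 : 1 < q) (t : ℕ) :
    padicValNat 2 (q ^ (2 * t + 1) - 1) = padicValNat 2 (q - 1) := by
  have h1 := geom_sum_mul_of_one_le (x := q) (by omega) (2 * t + 1)
  have hodd : Odd (∑ i ∈ Finset.range (2 * t + 1), q ^ i) := by
    rw [Finset.odd_sum_iff_odd_card_odd]
    have : (Finset.range (2 * t + 1)).filter (fun i => Odd (q ^ i)) = Finset.range (2 * t + 1) := by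
      apply Finset.filter_true_of_mem
      intro i _
      exact hq.pow
    rw [this, Finset.card_range]
    exact ⟨t, rfl⟩
  have hne : (∑ i ∈ Finset.range (2 * t + 1), q ^ i) ≠ 0 := by
    intro h
    rw [h] at hodd
    exact absurd hodd (by decide)
  rw [← h1, padicValNat.mul hne (by omega),
    padicValNat.eq_zero_of_not_dvd hodd.not_two_dvd_nat, zero_add]

variable {F : Type v} [Field F] [Fintype F]

theorem factorization_two_card_GL (hq : Odd (Fintype.card F)) (n : ℕ) :
    (Nat.card (Matrix.GeneralLinearGroup (Fin n) F)).factorization 2 =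
      ∑ j ∈ Finset.range n, padicValNat 2 (Fintype.card F ^ (j + 1) - 1) := by
  have hq1 : 1 < Fintype.card F := Fintype.one_lt_card
  rw [Matrix.card_GL_field,
    Fin.prod_univ_eq_prod_range (fun i => Fintype.card F ^ n - Fintype.card F ^ i) n]
  have hfac : ∀ i ∈ Finset.range n, Fintype.card F ^ n - Fintype.card F ^ i =
      Fintype.card F ^ i * (Fintype.card F ^ (n - 1 - i + 1) - 1) := by
    intro i hi
    rw [Finset.mem_range] at hi
    have : n = i + (n - 1 - i + 1) := by omega
    conv_lhs => rw [this, pow_add]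
    rw [Nat.mul_sub, mul_one]
  rw [Finset.prod_congr rfl hfac]
  have hne : ∀ i ∈ Finset.range n,
      Fintype.card F ^ i * (Fintype.card F ^ (n - 1 - i + 1) - 1) ≠ 0 := by
    intro i _
    have h1 : 1 < Fintype.card F ^ (n - 1 - i + 1) := Nat.one_lt_pow (by omega) hq1
    have h2 : 0 < Fintype.card F ^ i := by positivity
    have h3 : 0 < Fintype.card F ^ (n - 1 - i + 1) - 1 := by omega
    exact (Nat.mul_pos h2 h3).ne'
  rw [Nat.factorization_prod hne, Finsupp.finsetSum_apply]
  rw [← Finset.sum_range_reflect]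
  apply Finset.sum_congr rfl
  intro i hi
  rw [Finset.mem_range] at hi
  rw [Nat.factorization_def _ Nat.prime_two]
  have hk : n - 1 - (n - 1 - i) = i := by omega
  rw [hk]
  have hnd : ¬ 2 ∣ Fintype.card F ^ (n - 1 - i) := fun h =>
    hq.not_two_dvd_nat (Nat.prime_two.dvd_of_dvd_pow h)
  have h1 : 1 < Fintype.card F ^ (i + 1) := Nat.one_lt_pow (by omega) hq1
  rw [padicValNat.mul (by positivity) (by omega), padicValNat.eq_zero_of_not_dvd hnd, zero_add]

theorem factorization_two_card_SL (hq : Odd (Fintype.card F)) (n : ℕ) (hn : 1 ≤ n) :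
    (Nat.card (Matrix.SpecialLinearGroup (Fin n) F)).factorization 2 +
      padicValNat 2 (Fintype.card F - 1) =
      ∑ j ∈ Finset.range n, padicValNat 2 (Fintype.card F ^ (j + 1) - 1) := by
  have hq1 : 1 < Fintype.card F := Fintype.one_lt_card
  have h := Cfsg.Agent.Lib.Helper38.card_SL_mul (F := F) n hn
  rw [← factorization_two_card_GL hq n, ← h,
    Nat.factorization_mul Nat.card_pos.ne' (by omega), Finsupp.add_apply,
    Nat.factorization_def (Fintype.card F - 1) Nat.prime_two]

end val

section index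

variable {F : Type v} [Field F] [Fintype F] {n : ℕ}

/-- the index of the subfield group of odd degree is odd -/
theorem not_two_dvd_index_subfield (F₀ : Subfield F) (k q₀ : ℕ) (hk : Odd k)
    (hF₀ : Nat.card F₀ = q₀) (hqk : Fintype.card F = q₀ ^ k) (hodd : Odd (Fintype.card F))
    (hn : 1 ≤ n) :
    ¬ 2 ∣ ((Cfsg.Geo.subfieldSubgroup F₀ (1 : GL (Fin n) F)).comap
      (Matrix.SpecialLinearGroup.toGL :
        Matrix.SpecialLinearGroup (Fin n) F →* GL (Fin n) F)).index := by
  classical
  have : Fintype F₀ := Fintype.ofFinite F₀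
  have hq₀ : Fintype.card F₀ = q₀ := by rw [← hF₀, Nat.card_eq_fintype_card]
  obtain ⟨t, ht⟩ := hk
  have hk0 : k ≠ 0 := by omega
  have hq₀odd : Odd q₀ := by
    rw [hqk] at hodd
    exact (Nat.odd_pow_iff hk0).1 hodd
  have hq₀1 : 1 < q₀ := by
    rw [← hq₀]
    exact Fintype.one_lt_card
  -- the valuations agree
  have hA : ∀ j, padicValNat 2 (Fintype.card F ^ (j + 1) - 1) =
      padicValNat 2 (q₀ ^ (j + 1) - 1) := by
    intro j
    rw [hqk, ← pow_mul, mul_comm k (j + 1), pow_mul, ht]
    exact v2_pow_odd_sub_one (q₀ ^ (j + 1)) hq₀odd.pow (Nat.one_lt_pow (by omega) hq₀1) t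
  have hB : padicValNat 2 (Fintype.card F - 1) = padicValNat 2 (q₀ - 1) := by
    have h := hA 0
    simpa using h
  have h1 := factorization_two_card_SL (F := F) hodd n hn
  have h2 := factorization_two_card_SL (F := F₀) (by rw [hq₀]; exact hq₀odd) n hn
  rw [hq₀] at h2
  rw [hB, Finset.sum_congr rfl (fun j _ => hA j)] at h1
  have hfac : (Nat.card (Matrix.SpecialLinearGroup (Fin n) F)).factorization 2 =
      (Nat.card (Matrix.SpecialLinearGroup (Fin n) F₀)).factorization 2 := by omega
  -- the embedding of `SL_n(F₀)`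
  let φ : Matrix.SpecialLinearGroup (Fin n) F₀ →* Matrix.SpecialLinearGroup (Fin n) F :=
    Matrix.SpecialLinearGroup.map (F₀.subtype : F₀ →+* F)
  have hφ : ∀ (g : Matrix.SpecialLinearGroup (Fin n) F₀) (i j : Fin n),
      (φ g : Matrix (Fin n) (Fin n) F) i j = ((g : Matrix (Fin n) (Fin n) F₀) i j : F) :=
    fun g i j => rfl
  have hinj : Function.Injective φ := by
    intro g g' h
    ext i j
    have h3 := congrArg (fun M : Matrix.SpecialLinearGroup (Fin n) F =>
      (M : Matrix (Fin n) (Fin n) F) i j) h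
    simp only [hφ] at h3
    exact h3
  have hle : φ.range ≤ (Cfsg.Geo.subfieldSubgroup F₀ (1 : GL (Fin n) F)).comap
      (Matrix.SpecialLinearGroup.toGL :
        Matrix.SpecialLinearGroup (Fin n) F →* GL (Fin n) F) := by
    rintro _ ⟨g₀, rfl⟩
    rw [Subgroup.mem_comap, mem_subfieldSubgroup_one]
    apply Subgroup.mem_sup_left
    refine ⟨Matrix.SpecialLinearGroup.toGL g₀, ?_⟩
    apply Units.ext
    ext i j
    rfl
  have hdvd := Subgroup.index_dvd_of_le hle
  have hcardrange : Nat.card φ.range = Nat.card (Matrix.SpecialLinearGroup (Fin n) F₀) :=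
    (Nat.card_congr (MonoidHom.ofInjective hinj).toEquiv).symm
  have hmul := Subgroup.index_mul_card φ.range
  intro h2dvd
  have h2dvd' : 2 ∣ φ.range.index := dvd_trans h2dvd hdvd
  have hidx0 : φ.range.index ≠ 0 := Subgroup.index_ne_zero_of_finite
  have hpos : 0 < (φ.range.index).factorization 2 :=
    Nat.Prime.factorization_pos_of_dvd Nat.prime_two hidx0 h2dvd'
  have h3 : (φ.range.index * Nat.card φ.range).factorization 2 =
      (Nat.card (Matrix.SpecialLinearGroup (Fin n) F)).factorization 2 := by rw [hmul]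
  rw [Nat.factorization_mul hidx0 Nat.card_pos.ne', Finsupp.add_apply, hcardrange] at h3
  omega

end index

end Cfsg.Agent.Lib.Helper44.SLInv
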