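import Mathlib
import Cfsg.Prelude.Def_GeometricClasses
import Cfsg.Agent.Lib.Helper44.SubfA
import Cfsg.Agent.Lib.Helper44.SubfB
import Cfsg.Agent.Lib.Helper44.SubfD

/-!
# Involutions of `PSL_n(q)` and the subfield group

* `exists_conj_mem_subfield`: in characteristic two, or if `|F| = |F₀|^2` is odd and
  `v₂(n) ≤ v₂(q-1)`, every element of `SL_n(q)` with scalar square is conjugate into the subfield
  group.
* `exists_not_conj_mem_subfield`: if `|F| = |F₀|^2` is odd and `v₂(q-1) < v₂(n)`, some element is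
  not.
-/

set_option autoImplicit false

namespace Cfsg.Agent.Lib.Helper44.SLInv

open Module LinearMap Matrix

universe v

variable {F : Type v} [Field F] [Fintype F] {n : ℕ}

theorem isSquare_neg_one_of_subfield (F₀ : Subfield F)
    (hcard : Fintype.card F = Nat.card F₀ ^ 2) (h2 : (2 : F) ≠ 0) : IsSquare (-1 : F) := by
  have h := isSquare_of_mem_subfield F₀ hcard h2 (-1 : F₀)
  simpa using h

theorem exists_conj_mem_subfield (hn0 : n ≠ 0) (F₀ : Subfield F)
    (hcond : (2 : F) = 0 ∨ ((2 : F) ≠ 0 ∧ Fintype.card F = Nat.card F₀ ^ 2 ∧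
      padicValNat 2 n ≤ padicValNat 2 (Fintype.card F - 1)))
    (x : Matrix.SpecialLinearGroup (Fin n) F) (z : F)
    (hx2 : ((x ^ 2 : Matrix.SpecialLinearGroup (Fin n) F) : Matrix (Fin n) (Fin n) F)
      = z • (1 : Matrix (Fin n) (Fin n) F))
    (hxns : ∀ c : F, (x : Matrix (Fin n) (Fin n) F) ≠ c • (1 : Matrix (Fin n) (Fin n) F)) :
    ∃ P : Matrix.SpecialLinearGroup (Fin n) F, P⁻¹ * x * P ∈
      ((Cfsg.Geo.subfieldSubgroup F₀ (1 : GL (Fin n) F)).comap
        (Matrix.SpecialLinearGroup.toGL :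
          Matrix.SpecialLinearGroup (Fin n) F →* GL (Fin n) F)) := by
  have : Fact (Nat.Prime 2) := ⟨Nat.prime_two⟩
  have hxx : (x : Matrix (Fin n) (Fin n) F) * (x : Matrix (Fin n) (Fin n) F)
      = z • (1 : Matrix (Fin n) (Fin n) F) := by
    rw [← hx2, Matrix.SpecialLinearGroup.coe_pow, pow_two]
  have hdetx : (x : Matrix (Fin n) (Fin n) F).det = 1 := x.det_coe
  have hz0 : z ≠ 0 := by
    intro h
    have h1 : ((x : Matrix (Fin n) (Fin n) F) * (x : Matrix (Fin n) (Fin n) F)).det = 1 := by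
      rw [Matrix.det_mul, hdetx, mul_one]
    have : Nonempty (Fin n) := ⟨⟨0, Nat.pos_of_ne_zero hn0⟩⟩
    rw [hxx, h, zero_smul, Matrix.det_zero] at h1
    exact zero_ne_one h1
  suffices hR : ∃ R : GL (Fin n) F, ∀ y : GL (Fin n) F,
      (y : Matrix (Fin n) (Fin n) F) = (R : Matrix (Fin n) (Fin n) F) *
        (x : Matrix (Fin n) (Fin n) F) *
        ((R⁻¹ : GL (Fin n) F) : Matrix (Fin n) (Fin n) F) →
      y ∈ Cfsg.Geo.subfieldSubgroup F₀ (1 : GL (Fin n) F) by
    obtain ⟨R, hR⟩ := hR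
    exact exists_SL_conj_of_GL_conj _ x z hz0 hxx hxns R (hR _ (val_conj_toGL R x))
  rcases hcond with h2 | ⟨h2, hcard, hle⟩
  · exact exists_GL_conj_subfield_char_two h2 F₀ _ z hz0 hxx
  · by_cases hsq : IsSquare z
    · obtain ⟨a, ha⟩ := hsq
      have ha0 : a ≠ 0 := by
        rintro rfl
        rw [mul_zero] at ha
        exact hz0 ha
      exact exists_GL_conj_subfield_of_sq h2 F₀ _ a ha0 (by rw [hxx, ha])
    · exfalso
      obtain ⟨m, hm⟩ := even_of_sq_nonsquare z hsq _ hxx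
      have hnm : n = 2 * m := by omega
      have hm0 : m ≠ 0 := by omega
      have hdet := det_eq_of_sq_nonsquare m hnm z hsq _ hxx
      rw [hdetx] at hdet
      have hneg : ¬ IsSquare (-z) :=
        not_isSquare_neg (isSquare_neg_one_of_subfield F₀ hcard h2) z hsq
      have h3 := padicVal_le_of_nonsquare_pow_eq_one h2 hm0 (-z) hneg hdet.symm
      have h4 : padicValNat 2 n = 1 + padicValNat 2 m := by
        rw [hnm, padicValNat.mul (by norm_num) hm0, padicValNat_self]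
      omega

theorem exists_not_conj_mem_subfield (F₀ : Subfield F) (h2 : (2 : F) ≠ 0)
    (hcard : Fintype.card F = Nat.card F₀ ^ 2)
    (hlt : padicValNat 2 (Fintype.card F - 1) < padicValNat 2 n) :
    ∃ x : Matrix.SpecialLinearGroup (Fin n) F,
      (∃ z : F, ((x ^ 2 : Matrix.SpecialLinearGroup (Fin n) F) : Matrix (Fin n) (Fin n) F)
        = z • (1 : Matrix (Fin n) (Fin n) F)) ∧
      (∀ c : F, (x : Matrix (Fin n) (Fin n) F) ≠ c • (1 : Matrix (Fin n) (Fin n) F)) ∧
      ∀ P : Matrix.SpecialLinearGroup (Fin n) F, P⁻¹ * x * P ∉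
        ((Cfsg.Geo.subfieldSubgroup F₀ (1 : GL (Fin n) F)).comap
          (Matrix.SpecialLinearGroup.toGL :
            Matrix.SpecialLinearGroup (Fin n) F →* GL (Fin n) F)) := by
  have : Fact (Nat.Prime 2) := ⟨Nat.prime_two⟩
  have hn0 : n ≠ 0 := by
    rintro rfl
    simp at hlt
  have h2n : 2 ∣ n := dvd_of_one_le_padicValNat (by omega)
  obtain ⟨m, hnm⟩ := h2n
  have hm0 : m ≠ 0 := by
    rintro rfl
    exact hn0 (by rw [hnm, mul_zero])
  have h4 : padicValNat 2 n = 1 + padicValNat 2 m := by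
    rw [hnm, padicValNat.mul (by norm_num) hm0, padicValNat_self]
  obtain ⟨y, hy, hym⟩ := exists_nonsquare_pow_eq_one (F := F) h2 hm0 (by omega)
  have hi := isSquare_neg_one_of_subfield F₀ hcard h2
  have hz : ¬ IsSquare (-y) := not_isSquare_neg hi y hy
  obtain ⟨x', hx'x', hx'det⟩ := exists_std_sq (F := F) m hnm (-y)
  rw [neg_neg, hym] at hx'det
  let x : Matrix.SpecialLinearGroup (Fin n) F := ⟨x', hx'det⟩
  let i₀ : Fin n := ⟨0, Nat.pos_of_ne_zero hn0⟩
  have hx2 : ((x ^ 2 : Matrix.SpecialLinearGroup (Fin n) F) : Matrix (Fin n) (Fin n) F)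
      = (-y) • (1 : Matrix (Fin n) (Fin n) F) := by
    rw [Matrix.SpecialLinearGroup.coe_pow, pow_two]
    exact hx'x'
  have hxns : ∀ c : F, (x : Matrix (Fin n) (Fin n) F) ≠ c • (1 : Matrix (Fin n) (Fin n) F) := by
    intro c hc
    have hc' : x' = c • (1 : Matrix (Fin n) (Fin n) F) := hc
    apply hz
    refine ⟨c, ?_⟩
    have h5 := hx'x'
    rw [hc', Matrix.smul_mul, Matrix.mul_smul, Matrix.mul_one, smul_smul] at h5
    have h6 := congrFun (congrFun h5 i₀) i₀
    simpa using h6.symm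
  refine ⟨x, ⟨-y, hx2⟩, hxns, fun P hP => ?_⟩
  rw [Subgroup.mem_comap] at hP
  obtain ⟨c, M₀, hc0, hval⟩ := exists_of_mem_subfieldSubgroup F₀ _ hP
  rw [Matrix.SpecialLinearGroup.coe_GL_coe_matrix] at hval
  set Pm : Matrix (Fin n) (Fin n) F := (P : Matrix (Fin n) (Fin n) F) with hPm
  set Pi' : Matrix (Fin n) (Fin n) F :=
    ((P⁻¹ : Matrix.SpecialLinearGroup (Fin n) F) : Matrix (Fin n) (Fin n) F) with hPi'
  have hPiP : Pi' * Pm = 1 := by
    have h : ((P⁻¹ * P : Matrix.SpecialLinearGroup (Fin n) F) : Matrix (Fin n) (Fin n) F) = 1 := by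
      rw [inv_mul_cancel]
      rfl
    rwa [Matrix.SpecialLinearGroup.coe_mul] at h
  have hPP : Pm * Pi' = 1 := by
    have h : ((P * P⁻¹ : Matrix.SpecialLinearGroup (Fin n) F) : Matrix (Fin n) (Fin n) F) = 1 := by
      rw [mul_inv_cancel]
      rfl
    rwa [Matrix.SpecialLinearGroup.coe_mul] at h
  have hcoe : ((P⁻¹ * x * P : Matrix.SpecialLinearGroup (Fin n) F) : Matrix (Fin n) (Fin n) F)
      = Pi' * x' * Pm := by
    rw [Matrix.SpecialLinearGroup.coe_mul, Matrix.SpecialLinearGroup.coe_mul]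
  have hYY : (Pi' * x' * Pm) * (Pi' * x' * Pm) = (-y) • (1 : Matrix (Fin n) (Fin n) F) := by
    calc (Pi' * x' * Pm) * (Pi' * x' * Pm) = Pi' * x' * (Pm * Pi') * x' * Pm := by
          simp only [Matrix.mul_assoc]
      _ = Pi' * (x' * x') * Pm := by rw [hPP, Matrix.mul_one, Matrix.mul_assoc Pi' x' x']
      _ = (-y) • (1 : Matrix (Fin n) (Fin n) F) := by
          rw [hx'x', Matrix.mul_smul, Matrix.mul_one, Matrix.smul_mul, hPiP]
  rw [hcoe] at hval
  rw [hval, Matrix.smul_mul, Matrix.mul_smul, smul_smul, ← Matrix.map_mul] at hYY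
  have h6 := congrFun (congrFun hYY i₀) i₀
  rw [Matrix.smul_apply, Matrix.map_apply, Matrix.smul_apply, Matrix.one_apply_eq, smul_eq_mul,
    smul_eq_mul, mul_one] at h6
  obtain ⟨s, hs⟩ := isSquare_of_mem_subfield F₀ hcard h2 ((M₀ * M₀) i₀ i₀)
  apply hz
  refine ⟨c * s, ?_⟩
  rw [← h6]
  show c * c * ((M₀ * M₀) i₀ i₀ : F) = c * s * (c * s)
  rw [hs]
  ring

end Cfsg.Agent.Lib.Helper44.SLInv
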