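import Cfsg.Agent.Lib.Helper44.CharTwoSym
import Cfsg.Agent.Lib.Helper13.SpWitt

set_option autoImplicit false

/-!
Involutions of the symplectic group in characteristic two: the image of `t - 1` carries a
nondegenerate symmetric bilinear form `(A x, A y) ↦ f(x, A y)`; according as it is alternating or
not the involution has a symplectic or an orthonormal description, and two involutions with the
same description are conjugate by Witt's lemma.
-/

namespace Cfsg.Agent.Lib.Helper44

open Matrix Module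

section spinv

variable {F : Type*} [Field F] {m : ℕ}

local notation "ff" => Cfsg.sympForm m F

local notation "BB" => Helper13.sympBilin F m

/-- Witt's lemma for families indexed by a finite type, in matrix form -/
theorem exists_sp_frame_fintype {κ : Type*} [Fintype κ] (x y : κ → (Fin m ⊕ Fin m → F))
    (hx : LinearIndependent F x) (hy : LinearIndependent F y)
    (hxy : ∀ i j, ff (y i) (y j) = ff (x i) (x j)) :
    ∃ Q : Matrix.symplecticGroup (Fin m) F,
      ∀ i, (Q : Matrix (Fin m ⊕ Fin m) (Fin m ⊕ Fin m) F) *ᵥ x i = y i := by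
  classical
  let E := Fintype.equivFin κ
  obtain ⟨g, hgiso, hgxy⟩ := Cfsg.Agent.Lib.Helper8.witt_family BB
    (Helper13.sympBilin_nondegenerate m) (Helper13.sympBilin_isAlt m) (Fintype.card κ)
    (x ∘ E.symm) (y ∘ E.symm) (hx.comp _ E.symm.injective) (hy.comp _ E.symm.injective) (by
      intro i j
      rw [Helper13.sympBilin_apply, Helper13.sympBilin_apply]
      exact hxy _ _)
  let Qm : Matrix (Fin m ⊕ Fin m) (Fin m ⊕ Fin m) F := LinearMap.toMatrix' g.toLinearMap
  have hQv : ∀ v, Qm *ᵥ v = g v := by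
    intro v
    simp only [Qm, LinearMap.toMatrix'_mulVec]
    rfl
  have hQmem : Qm ∈ Matrix.symplecticGroup (Fin m) F := by
    apply Helper13.mem_symplectic_of_preserves
    intro u v
    rw [hQv, hQv, ← Helper13.sympBilin_apply, ← Helper13.sympBilin_apply, hgiso]
  refine ⟨⟨Qm, hQmem⟩, fun i => ?_⟩
  have := hgxy (E i)
  simp only [Function.comp_apply, Equiv.symm_apply_apply] at this
  exact (hQv _).trans this

/-- two involutions with the same description by totally isotropic families are conjugate -/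
theorem sp_family_conj {κ : Type*} [Fintype κ] (σ : κ → κ) (c c' : κ → (Fin m ⊕ Fin m → F))
    (hc : LinearIndependent F c) (hc' : LinearIndependent F c')
    (h0 : ∀ k l, ff (c k) (c l) = 0) (h0' : ∀ k l, ff (c' k) (c' l) = 0) :
    ∃ g : Matrix.symplecticGroup (Fin m) F, ∀ x,
      (g : Matrix (Fin m ⊕ Fin m) (Fin m ⊕ Fin m) F) *ᵥ (x + ∑ k, ff x (c (σ k)) • c k) =
        (g : Matrix (Fin m ⊕ Fin m) (Fin m ⊕ Fin m) F) *ᵥ x +
          ∑ k, ff ((g : Matrix (Fin m ⊕ Fin m) (Fin m ⊕ Fin m) F) *ᵥ x) (c' (σ k)) • c' k := by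
  obtain ⟨g, hg⟩ := exists_sp_frame_fintype c c' hc hc' (by
    intro i j
    rw [h0, h0'])
  refine ⟨g, fun x => ?_⟩
  rw [mulVec_add, mulVec_sum]
  congr 1
  refine Finset.sum_congr rfl fun k _ => ?_
  rw [mulVec_smul, hg, ← Helper13.preserves_of_mem_symplectic m _ g.2 x (c (σ k)), hg]

/-- the structure of a symplectic matrix of square one in characteristic two -/
theorem sp_involution_structure [Fintype F] [CharP F 2]
    (M : Matrix (Fin m ⊕ Fin m) (Fin m ⊕ Fin m) F)
    (hiso : ∀ x y, ff (M *ᵥ x) (M *ᵥ y) = ff x y) (hsq : M * M = 1) :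
    ((∃ v, ff v (M *ᵥ v) ≠ 0) → ∃ c : Fin (M - 1).rank → (Fin m ⊕ Fin m → F),
      LinearIndependent F c ∧ (∀ k l, ff (c k) (c l) = 0) ∧
        ∀ x, M *ᵥ x = x + ∑ k, ff x (c k) • c k) ∧
    ((∀ v, ff v (M *ᵥ v) = 0) → ∃ N, (M - 1).rank = 2 * N ∧
      ∃ c : Fin N ⊕ Fin N → (Fin m ⊕ Fin m → F),
      LinearIndependent F c ∧ (∀ k l, ff (c k) (c l) = 0) ∧
        ∀ x, M *ᵥ x = x + ∑ k, ff x (c k.swap) • c k) := by
  classical
  have h2 : (2 : F) = 0 := two_eq_zero_of_charP
  have hneg : ∀ a : F, -a = a := by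
    intro a
    linear_combination (-a) * h2
  set A : Matrix (Fin m ⊕ Fin m) (Fin m ⊕ Fin m) F := M - 1 with hA
  have hMA : ∀ v, M *ᵥ v = v + A *ᵥ v := by
    intro v
    rw [hA, sub_mulVec, one_mulVec]
    abel
  have hAA : A * A = 0 := by
    rw [hA, sub_mul, mul_sub, mul_sub, hsq, Matrix.mul_one, Matrix.one_mul, Matrix.one_mul]
    have : (1 : Matrix (Fin m ⊕ Fin m) (Fin m ⊕ Fin m) F) - M - (M - 1) = (2 : F) • (1 - M) := by
      rw [two_smul]; abel
    rw [this, h2, zero_smul]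
  have hAAv : ∀ v, A *ᵥ (A *ᵥ v) = 0 := by
    intro v
    rw [mulVec_mulVec, hAA, zero_mulVec]
  have hB : ∀ u v, BB u v = ff u v := Helper13.sympBilin_apply m
  have hsw : ∀ u v, BB u v = BB v u := by
    intro u v
    rw [← (Helper13.sympBilin_isAlt m).neg_eq, hneg]
  have h1 : ∀ v w, BB v (A *ᵥ w) + BB (A *ᵥ v) w + BB (A *ᵥ v) (A *ᵥ w) = 0 := by
    intro v w
    have h1 := hiso v w
    rw [hMA, hMA, ← hB, ← hB] at h1
    simp only [map_add, LinearMap.add_apply] at h1
    linear_combination h1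
  have h3 : ∀ v w, BB (A *ᵥ v) (A *ᵥ w) = 0 := by
    intro v w
    have := h1 v (A *ᵥ w)
    rw [hAAv] at this
    simpa using this
  have h4 : ∀ v w, BB v (A *ᵥ w) = BB (A *ᵥ v) w := by
    intro v w
    have := h1 v w
    rw [h3, add_zero] at this
    rw [← hneg (BB (A *ᵥ v) w)]
    linear_combination this
  -- the image of `A` with its induced symmetric form
  set W : Submodule F (Fin m ⊕ Fin m → F) := LinearMap.range A.mulVecLin with hW
  have hpre : ∀ w : W, ∃ x, A *ᵥ x = w.1 := fun w => w.2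
  choose pre hpre' using hpre
  let β₀ : W → W → F := fun w w' => BB (pre w) w'.1
  have key : ∀ (x : Fin m ⊕ Fin m → F) (w w' : W), A *ᵥ x = w.1 → BB x w'.1 = β₀ w w' := by
    intro x w w' hx
    show BB x w'.1 = BB (pre w) w'.1
    rw [← hpre' w', h4, h4 (pre w), hx, hpre']
  let β : LinearMap.BilinForm F W := LinearMap.mk₂ F β₀
    (by
      intro u u' v
      have := key (pre u + pre u') (u + u') v (by
        rw [mulVec_add, hpre', hpre']; rfl)
      rw [← this, map_add, LinearMap.add_apply])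
    (by
      intro a u v
      have := key (a • pre u) (a • u) v (by
        rw [mulVec_smul, hpre']; rfl)
      rw [← this, map_smul, LinearMap.smul_apply])
    (by
      intro u v v'
      show BB (pre u) ((v + v' : W) : Fin m ⊕ Fin m → F) = _
      rw [Submodule.coe_add, map_add])
    (by
      intro a u v
      show BB (pre u) ((a • v : W) : Fin m ⊕ Fin m → F) = _
      rw [Submodule.coe_smul, map_smul])
  have hβ : ∀ w w', β w w' = β₀ w w' := fun w w' => rfl
  have hβs : β.IsSymm := by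
    refine ⟨fun u v => ?_⟩
    show β u v = β v u
    rw [hβ, hβ]
    show BB (pre u) v.1 = BB (pre v) u.1
    rw [← hpre' v, h4, hpre' u, hsw]
  have hβl : β.SeparatingLeft := by
    intro w hw
    apply Subtype.ext
    apply (Helper13.sympBilin_nondegenerate (F := F) m).1
    intro y
    have := hw ⟨A *ᵥ y, ⟨y, rfl⟩⟩
    rw [hβ] at this
    have h5 : BB (pre w) (A *ᵥ y) = 0 := this
    rw [h4, hpre'] at h5
    simpa using h5
  have hβnd : β.Nondegenerate := by
    refine ⟨hβl, ?_⟩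
    intro w hw
    apply hβl w
    intro w'
    rw [hβs.eq]
    exact hw w'
  have hfr : finrank F W = A.rank := rfl
  have hβself : ∀ v, β ⟨A *ᵥ v, ⟨v, rfl⟩⟩ ⟨A *ᵥ v, ⟨v, rfl⟩⟩ = ff v (M *ᵥ v) := by
    intro v
    rw [hβ, ← key v ⟨A *ᵥ v, ⟨v, rfl⟩⟩ ⟨A *ᵥ v, ⟨v, rfl⟩⟩ rfl, ← hB, hMA, map_add,
      (Helper13.sympBilin_isAlt m).self_eq_zero, zero_add]
  have hW0 : ∀ w w' : W, ff w.1 w'.1 = 0 := by
    intro w w'
    rw [← hB, ← hpre' w, ← hpre' w', h3]
  have hAx : ∀ x, ∀ w' : W, β ⟨A *ᵥ x, ⟨x, rfl⟩⟩ w' = ff x w'.1 := by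
    intro x w'
    rw [hβ, ← key x ⟨A *ᵥ x, ⟨x, rfl⟩⟩ w' rfl, hB]
  constructor
  · -- the non-alternating case: an orthonormal basis
    rintro ⟨v, hv⟩
    have hna : ∃ w : W, β w w ≠ 0 := ⟨⟨A *ᵥ v, ⟨v, rfl⟩⟩, by rw [hβself]; exact hv⟩
    obtain ⟨e', he'⟩ := orthonormal_family_char_two A.rank W β hβs hβnd (fun _ => hna) hfr
    obtain ⟨hli, hexp⟩ := dual_family_expansion β (by rw [hfr, Fintype.card_fin]) e' e' he'
    refine ⟨fun k => (e' k).1, ?_, fun k l => hW0 _ _, ?_⟩
    · exact hli.map' W.subtype (Submodule.ker_subtype W)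
    · intro x
      rw [hMA]
      congr 1
      have h5 := congrArg Subtype.val (hexp ⟨A *ᵥ x, ⟨x, rfl⟩⟩)
      refine h5.trans ?_
      rw [Submodule.coe_sum]
      refine Finset.sum_congr rfl fun k _ => ?_
      rw [Submodule.coe_smul, hAx]
  · -- the alternating case: a symplectic basis
    intro halt
    have hβalt : β.IsAlt := by
      intro w
      have h5 : w = ⟨A *ᵥ pre w, ⟨pre w, rfl⟩⟩ := Subtype.ext (hpre' w).symm
      rw [h5, hβself]
      exact halt _
    obtain ⟨N, hN, e, f, hee, hff, hef⟩ := darboux_family_exists W β hβalt hβnd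
    refine ⟨N, by rw [← hN, hfr], ?_⟩
    have hcd : ∀ k l : Fin N ⊕ Fin N,
        β (Sum.elim e f k) (Sum.elim e f l.swap) = if k = l then 1 else 0 := by
      intro k l
      rcases k with i | i <;> rcases l with j | j
      · simp only [Sum.elim_inl, Sum.swap_inl, Sum.elim_inr, hef, Sum.inl.injEq]
      · simp only [Sum.elim_inl, Sum.swap_inr, hee, reduceCtorEq, if_false]
      · simp only [Sum.elim_inr, Sum.swap_inl, hff, reduceCtorEq, if_false]
      · simp only [Sum.elim_inr, Sum.swap_inr, Sum.elim_inl, Sum.inr.injEq]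
        rw [hβs.eq, hef]
        by_cases h : i = j
        · rw [if_pos h, if_pos h.symm]
        · rw [if_neg h, if_neg (Ne.symm h)]
    obtain ⟨hli, hexp⟩ := dual_family_expansion β
      (by rw [hN, Fintype.card_sum, Fintype.card_fin, two_mul])
      (Sum.elim e f) (fun l => Sum.elim e f l.swap) hcd
    refine ⟨fun k => (Sum.elim e f k).1, ?_, fun k l => hW0 _ _, ?_⟩
    · exact hli.map' W.subtype (Submodule.ker_subtype W)
    · intro x
      rw [hMA]
      congr 1
      have h5 := congrArg Subtype.val (hexp ⟨A *ᵥ x, ⟨x, rfl⟩⟩)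
      refine h5.trans ?_
      rw [Submodule.coe_sum]
      refine Finset.sum_congr rfl fun k _ => ?_
      rw [Submodule.coe_smul, hAx]

/-- in the alternating case the rank of `M - 1` is even -/
theorem sp_involution_even_rank [Fintype F] [CharP F 2]
    (M : Matrix (Fin m ⊕ Fin m) (Fin m ⊕ Fin m) F)
    (hiso : ∀ x y, ff (M *ᵥ x) (M *ᵥ y) = ff x y) (hsq : M * M = 1)
    (halt : ∀ v, ff v (M *ᵥ v) = 0) : Even (M - 1).rank := by
  obtain ⟨N, hN, -⟩ := (sp_involution_structure M hiso hsq).2 halt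
  exact ⟨N, by rw [hN, two_mul]⟩

/-- two symplectic matrices of square one, with `M - 1`, `M' - 1` of the same rank and of the
same type (alternating or not), are conjugate under the symplectic group -/
theorem sp_involution_conj [Fintype F] [CharP F 2]
    (M M' : Matrix (Fin m ⊕ Fin m) (Fin m ⊕ Fin m) F)
    (hiso : ∀ x y, ff (M *ᵥ x) (M *ᵥ y) = ff x y)
    (hiso' : ∀ x y, ff (M' *ᵥ x) (M' *ᵥ y) = ff x y) (hsq : M * M = 1) (hsq' : M' * M' = 1)
    (hrk : (M - 1).rank = (M' - 1).rank)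
    (htype : (∀ v, ff v (M *ᵥ v) = 0) ↔ (∀ v, ff v (M' *ᵥ v) = 0)) :
    ∃ g : Matrix.symplecticGroup (Fin m) F,
      (g : Matrix (Fin m ⊕ Fin m) (Fin m ⊕ Fin m) F) * M =
        M' * (g : Matrix (Fin m ⊕ Fin m) (Fin m ⊕ Fin m) F) := by
  classical
  by_cases halt : ∀ v, ff v (M *ᵥ v) = 0
  · obtain ⟨N, hN, c, hc, h0, hMx⟩ := (sp_involution_structure M hiso hsq).2 halt
    obtain ⟨N', hN', c', hc', h0', hMx'⟩ :=
      (sp_involution_structure M' hiso' hsq').2 (htype.mp halt)
    have hNN : N = N' := by omega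
    subst hNN
    obtain ⟨g, hg⟩ := sp_family_conj Sum.swap c c' hc hc' h0 h0'
    refine ⟨g, ?_⟩
    rw [Matrix.ext_iff_mulVec]
    intro x
    rw [← mulVec_mulVec, ← mulVec_mulVec, hMx, hMx', hg]
  · have halt' : ¬ ∀ v, ff v (M' *ᵥ v) = 0 := fun h => halt (htype.mpr h)
    push Not at halt halt'
    obtain ⟨c, hc, h0, hMx⟩ := (sp_involution_structure M hiso hsq).1 halt
    obtain ⟨c', hc', h0', hMx'⟩ := (sp_involution_structure M' hiso' hsq').1 halt'
    generalize (M' - 1).rank = r' at hrk c' hc' h0' hMx'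
    subst hrk
    obtain ⟨g, hg⟩ := sp_family_conj id c c' hc hc' h0 h0'
    refine ⟨g, ?_⟩
    rw [Matrix.ext_iff_mulVec]
    intro x
    rw [← mulVec_mulVec, ← mulVec_mulVec, hMx, hMx']
    exact hg x

/-- a predicate on a finite type holding on as many points as the type has holds everywhere -/
theorem forall_of_card_subtype_eq {α : Type*} [Finite α] (P : α → Prop)
    (h : Nat.card {x // P x} = Nat.card α) : ∀ x, P x := by
  classical
  by_contra hcon
  push Not at hcon
  obtain ⟨x, hx⟩ := hcon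
  have := Fintype.ofFinite α
  have hlt : Nat.card {x // P x} < Nat.card α := by
    rw [Nat.card_eq_fintype_card, Nat.card_eq_fintype_card]
    exact Fintype.card_subtype_lt hx
  omega

/-- conjugation in the symplectic group preserves the rank of `t - 1` and carries the set
`{v | f(v, t v) = 0}` into the corresponding set -/
theorem sp_conj_invariants [Fintype F] (a b c : Matrix.symplecticGroup (Fin m) F)
    (h : c * a = b * c) :
    ((a : Matrix (Fin m ⊕ Fin m) (Fin m ⊕ Fin m) F) - 1).rank =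
      ((b : Matrix (Fin m ⊕ Fin m) (Fin m ⊕ Fin m) F) - 1).rank ∧
    Nat.card {v : Fin m ⊕ Fin m → F //
      ff v ((a : Matrix (Fin m ⊕ Fin m) (Fin m ⊕ Fin m) F) *ᵥ v) = 0} ≤
    Nat.card {v : Fin m ⊕ Fin m → F //
      ff v ((b : Matrix (Fin m ⊕ Fin m) (Fin m ⊕ Fin m) F) *ᵥ v) = 0} := by
  classical
  have hm : (c : Matrix (Fin m ⊕ Fin m) (Fin m ⊕ Fin m) F) *
      (a : Matrix (Fin m ⊕ Fin m) (Fin m ⊕ Fin m) F) =
      (b : Matrix (Fin m ⊕ Fin m) (Fin m ⊕ Fin m) F) *
      (c : Matrix (Fin m ⊕ Fin m) (Fin m ⊕ Fin m) F) :=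
    congrArg Subtype.val h
  have hdet : IsUnit (c : Matrix (Fin m ⊕ Fin m) (Fin m ⊕ Fin m) F).det :=
    SymplecticGroup.symplectic_det c.2
  constructor
  · have e1 : (c : Matrix (Fin m ⊕ Fin m) (Fin m ⊕ Fin m) F) *
        ((a : Matrix (Fin m ⊕ Fin m) (Fin m ⊕ Fin m) F) - 1) =
        ((b : Matrix (Fin m ⊕ Fin m) (Fin m ⊕ Fin m) F) - 1) *
        (c : Matrix (Fin m ⊕ Fin m) (Fin m ⊕ Fin m) F) := by
      rw [Matrix.mul_sub, Matrix.sub_mul, hm, Matrix.mul_one, Matrix.one_mul]
    rw [← Matrix.rank_mul_eq_right_of_isUnit_det _ _ hdet, e1,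
      Matrix.rank_mul_eq_left_of_isUnit_det _ _ hdet]
  · have hinj : Function.Injective (c : Matrix (Fin m ⊕ Fin m) (Fin m ⊕ Fin m) F).mulVec :=
      Matrix.mulVec_injective_iff_isUnit.mpr ((Matrix.isUnit_iff_isUnit_det _).mpr hdet)
    refine Nat.card_le_card_of_injective (fun v => ⟨(c : Matrix (Fin m ⊕ Fin m) (Fin m ⊕ Fin m) F) *ᵥ v.1, ?_⟩) ?_
    · rw [mulVec_mulVec, ← hm, ← mulVec_mulVec, Helper13.preserves_of_mem_symplectic m _ c.2]
      exact v.2
    · intro v v' hvv
      apply Subtype.ext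
      apply hinj
      exact congrArg Subtype.val hvv

end spinv

end Cfsg.Agent.Lib.Helper44
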