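import Cfsg.Agent.Lib.Helper44.SympInvolution

set_option autoImplicit false
set_option linter.unusedSectionVars false

/-!
Involutions of the symplectic group in characteristic two: bound on the rank of `t - 1`,
invariance of the type under conjugation, and explicit representatives of every type.
-/

namespace Cfsg.Agent.Lib.Helper44

open Matrix Module

section spcount

variable {F : Type*} [Field F] {m : ℕ}

local notation "ff" => Cfsg.sympForm m F

local notation "BB" => Helper13.sympBilin F m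

/-- the rank of `M - 1` is at most `m` for a symplectic matrix of square one (characteristic two):
its image is totally isotropic -/
theorem sp_involution_rank_le [Fintype F] [CharP F 2]
    (M : Matrix (Fin m ⊕ Fin m) (Fin m ⊕ Fin m) F)
    (hiso : ∀ x y, ff (M *ᵥ x) (M *ᵥ y) = ff x y) (hsq : M * M = 1) : (M - 1).rank ≤ m := by
  classical
  have h2 : (2 : F) = 0 := two_eq_zero_of_charP
  set A : Matrix (Fin m ⊕ Fin m) (Fin m ⊕ Fin m) F := M - 1 with hA
  have hMA : ∀ v, M *ᵥ v = v + A *ᵥ v := by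
    intro v
    rw [hA, sub_mulVec, one_mulVec]
    abel
  have hAA : A * A = 0 := by
    rw [hA, sub_mul, mul_sub, mul_sub, hsq, Matrix.mul_one, Matrix.one_mul, Matrix.one_mul]
    have : (1 : Matrix (Fin m ⊕ Fin m) (Fin m ⊕ Fin m) F) - M - (M - 1) = (2 : F) • (1 - M) := by
      rw [two_smul]; abel
    rw [this, h2, zero_smul]
  have hAAv : ∀ v, A *ᵥ (A *ᵥ v) = 0 := by
    intro v
    rw [mulVec_mulVec, hAA, zero_mulVec]
  have hB : ∀ u v, BB u v = ff u v := Helper13.sympBilin_apply m
  have h1 : ∀ v w, BB v (A *ᵥ w) + BB (A *ᵥ v) w + BB (A *ᵥ v) (A *ᵥ w) = 0 := by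
    intro v w
    have h1 := hiso v w
    rw [hMA, hMA, ← hB, ← hB] at h1
    simp only [map_add, LinearMap.add_apply] at h1
    linear_combination h1
  have h3 : ∀ v w, BB (A *ᵥ v) (A *ᵥ w) = 0 := by
    intro v w
    have := h1 v (A *ᵥ w)
    rw [hAAv] at this
    simpa using this
  set W : Submodule F (Fin m ⊕ Fin m → F) := LinearMap.range A.mulVecLin with hW
  have hle : W ≤ (BB).orthogonal W := by
    rintro _ ⟨y, rfl⟩
    rw [LinearMap.BilinForm.mem_orthogonal_iff]
    rintro _ ⟨x, rfl⟩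
    exact h3 x y
  have hfo := LinearMap.BilinForm.finrank_orthogonal (Helper13.sympBilin_nondegenerate (F := F) m) W
  have hmono := Submodule.finrank_mono hle
  have hV : finrank F (Fin m ⊕ Fin m → F) = 2 * m := by
    rw [Module.finrank_fintype_fun_eq_card, Fintype.card_sum, Fintype.card_fin, two_mul]
  have hfr : finrank F W = A.rank := rfl
  rw [hfo, hV, hfr] at hmono
  omega

/-- the alternating type is invariant under conjugation -/
theorem sp_conj_alt (a b c : Matrix.symplecticGroup (Fin m) F) (h : c * a = b * c)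
    (halt : ∀ v, ff v ((a : Matrix (Fin m ⊕ Fin m) (Fin m ⊕ Fin m) F) *ᵥ v) = 0) :
    ∀ v, ff v ((b : Matrix (Fin m ⊕ Fin m) (Fin m ⊕ Fin m) F) *ᵥ v) = 0 := by
  intro w
  have hm : (c : Matrix (Fin m ⊕ Fin m) (Fin m ⊕ Fin m) F) *
      (a : Matrix (Fin m ⊕ Fin m) (Fin m ⊕ Fin m) F) =
      (b : Matrix (Fin m ⊕ Fin m) (Fin m ⊕ Fin m) F) *
      (c : Matrix (Fin m ⊕ Fin m) (Fin m ⊕ Fin m) F) :=
    congrArg Subtype.val h
  have hcc : (c : Matrix (Fin m ⊕ Fin m) (Fin m ⊕ Fin m) F) *
      ((c⁻¹ : Matrix.symplecticGroup (Fin m) F) : Matrix (Fin m ⊕ Fin m) (Fin m ⊕ Fin m) F) = 1 :=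
    congrArg Subtype.val (mul_inv_cancel c)
  obtain ⟨u, hw⟩ : ∃ u, w = (c : Matrix (Fin m ⊕ Fin m) (Fin m ⊕ Fin m) F) *ᵥ u :=
    ⟨((c⁻¹ : Matrix.symplecticGroup (Fin m) F) :
      Matrix (Fin m ⊕ Fin m) (Fin m ⊕ Fin m) F) *ᵥ w, by rw [mulVec_mulVec, hcc, one_mulVec]⟩
  rw [hw, mulVec_mulVec, ← hm, ← mulVec_mulVec,
    Helper13.preserves_of_mem_symplectic m _ c.2]
  exact halt u

section construct

variable {κ : Type*} [Fintype κ] [DecidableEq κ]

/-- standard isotropic vectors `e_(inl (ι k))` -/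
def stdVec (F : Type*) [Field F] {m : ℕ} (ι : κ → Fin m) (k : κ) : Fin m ⊕ Fin m → F :=
  Pi.single (Sum.inl (ι k)) 1

theorem stdVec_gram (ι : κ → Fin m) (k l : κ) : ff (stdVec F ι k) (stdVec F ι l) = 0 := by
  unfold stdVec
  rw [Helper13.sympForm_single_single]
  simp [Matrix.J]

theorem stdVec_linearIndependent (ι : κ → Fin m) (hι : Function.Injective ι) :
    LinearIndependent F (stdVec F ι) := by
  have h1 := (Pi.basisFun F (Fin m ⊕ Fin m)).linearIndependent
  have hinj : Function.Injective (fun k : κ => (Sum.inl (ι k) : Fin m ⊕ Fin m)) :=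
    fun k l h => hι (Sum.inl.inj h)
  have h2 := h1.comp _ hinj
  convert h2 using 1
  ext k p
  simp [stdVec, Pi.basisFun_apply]

/-- pairing of the dual standard vector `e_(inr j)` with a standard isotropic vector -/
theorem sympForm_single_inr_stdVec (ι : κ → Fin m) (j : Fin m) (k : κ) :
    ff (Pi.single (Sum.inr j) 1) (stdVec F ι k) = if j = ι k then 1 else 0 := by
  unfold stdVec
  rw [Helper13.sympForm_single_single]
  simp [Matrix.J, Matrix.one_apply]

/-- the linear map `x ↦ x + Σ_k f(x, c_(σ k)) c_k` -/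
def stdInvLin (F : Type*) [Field F] {m : ℕ} (ι : κ → Fin m) (σ : κ → κ) :
    (Fin m ⊕ Fin m → F) →ₗ[F] (Fin m ⊕ Fin m → F) where
  toFun x := x + ∑ k, Cfsg.sympForm m F x (stdVec F ι (σ k)) • stdVec F ι k
  map_add' x y := by
    simp only [Helper13.sympForm_add_left, add_smul, Finset.sum_add_distrib]
    abel
  map_smul' a x := by
    simp only [Helper13.sympForm_smul_left, RingHom.id_apply, smul_add, Finset.smul_sum,
      smul_smul]

/-- the matrix of `stdInvLin` -/
def stdInvMat (F : Type*) [Field F] {m : ℕ} (ι : κ → Fin m) (σ : κ → κ) :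
    Matrix (Fin m ⊕ Fin m) (Fin m ⊕ Fin m) F :=
  LinearMap.toMatrix' (stdInvLin F ι σ)

theorem stdInvMat_mulVec (ι : κ → Fin m) (σ : κ → κ) (x : Fin m ⊕ Fin m → F) :
    stdInvMat F ι σ *ᵥ x = x + ∑ k, ff x (stdVec F ι (σ k)) • stdVec F ι k := by
  unfold stdInvMat
  rw [LinearMap.toMatrix'_mulVec]
  rfl

theorem sympForm_sum_smul_left (c : κ → F) (w : κ → (Fin m ⊕ Fin m → F))
    (y : Fin m ⊕ Fin m → F) : ff (∑ k, c k • w k) y = ∑ k, c k * ff (w k) y := by
  rw [← Helper13.sympBilin_apply, map_sum, LinearMap.sum_apply]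
  refine Finset.sum_congr rfl fun k _ => ?_
  rw [map_smul, LinearMap.smul_apply, smul_eq_mul, Helper13.sympBilin_apply]

theorem sympForm_sum_smul_right (c : κ → F) (w : κ → (Fin m ⊕ Fin m → F))
    (x : Fin m ⊕ Fin m → F) : ff x (∑ k, c k • w k) = ∑ k, c k * ff x (w k) := by
  rw [← Helper13.sympBilin_apply, map_sum]
  refine Finset.sum_congr rfl fun k _ => ?_
  rw [map_smul, smul_eq_mul, Helper13.sympBilin_apply]

theorem stdInvMat_preserves (ι : κ → Fin m) (σ : κ → κ) (hσ : ∀ k, σ (σ k) = k)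
    (x y : Fin m ⊕ Fin m → F) :
    ff (stdInvMat F ι σ *ᵥ x) (stdInvMat F ι σ *ᵥ y) = ff x y := by
  rw [stdInvMat_mulVec, stdInvMat_mulVec, Helper13.sympForm_add_left,
    Helper13.sympForm_add_right, Helper13.sympForm_add_right, sympForm_sum_smul_left,
    sympForm_sum_smul_right, sympForm_sum_smul_left]
  have h0 : ∀ k, ff (stdVec F ι k) (∑ l, ff y (stdVec F ι (σ l)) • stdVec F ι l) = 0 := by
    intro k
    rw [sympForm_sum_smul_right]
    apply Finset.sum_eq_zero
    intro l _
    rw [stdVec_gram, mul_zero]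
  simp only [h0, mul_zero, Finset.sum_const_zero, add_zero]
  have h1 : ∑ k, ff x (stdVec F ι (σ k)) * ff (stdVec F ι k) y =
      - ∑ k, ff y (stdVec F ι (σ k)) * ff x (stdVec F ι k) := by
    rw [← Finset.sum_neg_distrib]
    have h2 := Equiv.sum_comp (Function.Involutive.toPerm σ hσ)
      (fun k => -(ff y (stdVec F ι (σ k)) * ff x (stdVec F ι k)))
    rw [← h2]
    refine Finset.sum_congr rfl fun k _ => ?_
    have e : (Function.Involutive.toPerm σ hσ) k = σ k := rfl
    rw [e, hσ, Helper13.sympForm_swap m (stdVec F ι k) y]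
    ring
  rw [h1]
  ring

theorem stdInvMat_sq [CharP F 2] (ι : κ → Fin m) (σ : κ → κ) :
    stdInvMat F ι σ * stdInvMat F ι σ = 1 := by
  rw [Matrix.ext_iff_mulVec]
  intro x
  rw [← mulVec_mulVec, one_mulVec, stdInvMat_mulVec, stdInvMat_mulVec]
  have h0 : ∀ k, ff (x + ∑ l, ff x (stdVec F ι (σ l)) • stdVec F ι l) (stdVec F ι (σ k)) =
      ff x (stdVec F ι (σ k)) := by
    intro k
    rw [Helper13.sympForm_add_left, sympForm_sum_smul_left]
    simp only [stdVec_gram, mul_zero, Finset.sum_const_zero, add_zero]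
  simp only [h0]
  rw [add_assoc, ← two_smul F (∑ k, ff x (stdVec F ι (σ k)) • stdVec F ι k),
    two_eq_zero_of_charP, zero_smul, add_zero]

theorem stdInvMat_sub_one_mulVec (ι : κ → Fin m) (σ : κ → κ) (x : Fin m ⊕ Fin m → F) :
    (stdInvMat F ι σ - 1) *ᵥ x = ∑ k, ff x (stdVec F ι (σ k)) • stdVec F ι k := by
  rw [sub_mulVec, one_mulVec, stdInvMat_mulVec, add_sub_cancel_left]

theorem stdInvMat_rank (ι : κ → Fin m) (hι : Function.Injective ι) (σ : κ → κ)
    (hσ : ∀ k, σ (σ k) = k) : (stdInvMat F ι σ - 1).rank = Fintype.card κ := by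
  have hrange : LinearMap.range (stdInvMat F ι σ - 1).mulVecLin =
      Submodule.span F (Set.range (stdVec F ι)) := by
    apply le_antisymm
    · rintro _ ⟨x, rfl⟩
      rw [Matrix.mulVecLin_apply, stdInvMat_sub_one_mulVec]
      exact Submodule.sum_mem _ fun k _ =>
        Submodule.smul_mem _ _ (Submodule.subset_span ⟨k, rfl⟩)
    · rw [Submodule.span_le]
      rintro _ ⟨l, rfl⟩
      refine ⟨Pi.single (Sum.inr (ι (σ l))) 1, ?_⟩
      rw [Matrix.mulVecLin_apply, stdInvMat_sub_one_mulVec]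
      simp only [sympForm_single_inr_stdVec]
      rw [Finset.sum_eq_single l]
      · rw [if_pos rfl, one_smul]
      · intro k _ hk
        rw [if_neg, zero_smul]
        intro h
        apply hk
        have := hι h
        rw [← hσ k, ← this, hσ]
      · intro h
        exact absurd (Finset.mem_univ l) h
  show finrank F (LinearMap.range (stdInvMat F ι σ - 1).mulVecLin) = Fintype.card κ
  rw [hrange, finrank_span_eq_card (stdVec_linearIndependent ι hι)]

/-- the value `f(v, M v)` -/
theorem stdInvMat_self (ι : κ → Fin m) (σ : κ → κ) (v : Fin m ⊕ Fin m → F) :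
    ff v (stdInvMat F ι σ *ᵥ v) =
      ∑ k, ff v (stdVec F ι (σ k)) * ff v (stdVec F ι k) := by
  rw [stdInvMat_mulVec, Helper13.sympForm_add_right, Helper13.sympForm_self, zero_add,
    sympForm_sum_smul_right]

end construct

/-- an involution of non-alternating type with `rank (t - 1) = s`, for `1 ≤ s ≤ m` -/
theorem exists_sp_involution_nonalt [Fintype F] [CharP F 2] (s : ℕ) (hs1 : 1 ≤ s) (hsm : s ≤ m) :
    ∃ g : Matrix.symplecticGroup (Fin m) F, orderOf g = 2 ∧
      ((g : Matrix (Fin m ⊕ Fin m) (Fin m ⊕ Fin m) F) - 1).rank = s ∧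
      ∃ v, ff v ((g : Matrix (Fin m ⊕ Fin m) (Fin m ⊕ Fin m) F) *ᵥ v) ≠ 0 := by
  classical
  have hι : Function.Injective (Fin.castLE hsm) := Fin.castLE_injective hsm
  have hmem : stdInvMat F (Fin.castLE hsm) id ∈ Matrix.symplecticGroup (Fin m) F :=
    Helper13.mem_symplectic_of_preserves m _ (stdInvMat_preserves _ id (fun _ => rfl))
  have hrk := stdInvMat_rank (F := F) (Fin.castLE hsm) hι id (fun _ => rfl)
  rw [Fintype.card_fin] at hrk
  refine ⟨⟨_, hmem⟩, ?_, hrk, ?_⟩
  · apply orderOf_eq_prime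
    · rw [pow_two]
      exact Subtype.ext (stdInvMat_sq _ id)
    · intro h
      have h1 : stdInvMat F (Fin.castLE hsm) id = 1 := congrArg Subtype.val h
      rw [h1, sub_self, Matrix.rank_zero] at hrk
      omega
  · refine ⟨Pi.single (Sum.inr (Fin.castLE hsm ⟨0, hs1⟩)) 1, ?_⟩
    show ff _ (stdInvMat F (Fin.castLE hsm) id *ᵥ _) ≠ 0
    rw [stdInvMat_self]
    simp only [id, sympForm_single_inr_stdVec]
    rw [Finset.sum_eq_single (⟨0, hs1⟩ : Fin s)]
    · rw [if_pos rfl, mul_one]
      exact one_ne_zero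
    · intro k _ hk
      rw [if_neg, mul_zero]
      intro h
      exact hk (hι h).symm
    · intro h
      exact absurd (Finset.mem_univ _) h

/-- an involution of alternating type with `rank (t - 1) = 2 N`, for `1 ≤ N`, `2 N ≤ m` -/
theorem exists_sp_involution_alt [Fintype F] [CharP F 2] (N : ℕ) (hN1 : 1 ≤ N)
    (hNm : N + N ≤ m) :
    ∃ g : Matrix.symplecticGroup (Fin m) F, orderOf g = 2 ∧
      ((g : Matrix (Fin m ⊕ Fin m) (Fin m ⊕ Fin m) F) - 1).rank = 2 * N ∧
      ∀ v, ff v ((g : Matrix (Fin m ⊕ Fin m) (Fin m ⊕ Fin m) F) *ᵥ v) = 0 := by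
  classical
  set ι : Fin N ⊕ Fin N → Fin m := fun k => Fin.castLE hNm (finSumFinEquiv k) with hιdef
  have hι : Function.Injective ι := fun k l h =>
    finSumFinEquiv.injective (Fin.castLE_injective hNm h)
  have hσ : ∀ k : Fin N ⊕ Fin N, Sum.swap (Sum.swap k) = k := Sum.swap_swap
  have hmem : stdInvMat F ι Sum.swap ∈ Matrix.symplecticGroup (Fin m) F :=
    Helper13.mem_symplectic_of_preserves m _ (stdInvMat_preserves _ Sum.swap hσ)
  have hrk := stdInvMat_rank (F := F) ι hι Sum.swap hσ
  rw [Fintype.card_sum, Fintype.card_fin, ← two_mul] at hrk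
  refine ⟨⟨_, hmem⟩, ?_, hrk, ?_⟩
  · apply orderOf_eq_prime
    · rw [pow_two]
      exact Subtype.ext (stdInvMat_sq _ Sum.swap)
    · intro h
      have h1 : stdInvMat F ι Sum.swap = 1 := congrArg Subtype.val h
      rw [h1, sub_self, Matrix.rank_zero] at hrk
      omega
  · intro v
    show ff v (stdInvMat F ι Sum.swap *ᵥ v) = 0
    rw [stdInvMat_self, Fintype.sum_sum_type]
    simp only [Sum.swap_inl, Sum.swap_inr]
    rw [← Finset.sum_add_distrib]
    apply Finset.sum_eq_zero
    intro i _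
    rw [mul_comm (ff v (stdVec F ι (Sum.inl i)))]
    exact add_self_char_two _

/-- a matrix of rank zero is zero -/
theorem eq_zero_of_rank_eq_zero {n : Type*} [Fintype n] [DecidableEq n]
    (A : Matrix n n F) (h : A.rank = 0) : A = 0 := by
  have h1 : finrank F (LinearMap.range A.mulVecLin) = 0 := h
  rw [Submodule.finrank_eq_zero, LinearMap.range_eq_bot] at h1
  rw [Matrix.ext_iff_mulVec]
  intro x
  rw [zero_mulVec, ← Matrix.mulVecLin_apply, h1, LinearMap.zero_apply]

/-- the classification of involutions of `Sp_2m(F)`, `F` finite of characteristic two, by a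
numerical code: `rank (t - 1)` for the non-alternating type and `m + rank (t - 1) / 2` for the
alternating type; the code is a complete conjugacy invariant taking exactly the values
`1, …, m + m / 2` -/
theorem sp_involution_code [Fintype F] [CharP F 2] :
    ∃ code : Matrix.symplecticGroup (Fin m) F → ℕ,
      (∀ a b, IsConj a b → code a = code b) ∧
      (∀ a b, orderOf a = 2 → orderOf b = 2 → code a = code b → IsConj a b) ∧
      (∀ a, orderOf a = 2 → 1 ≤ code a ∧ code a ≤ m + m / 2) ∧
      (∀ j, 1 ≤ j → j ≤ m + m / 2 → ∃ a, orderOf a = 2 ∧ code a = j) := by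
  classical
  let rk : Matrix.symplecticGroup (Fin m) F → ℕ := fun g =>
    ((g : Matrix (Fin m ⊕ Fin m) (Fin m ⊕ Fin m) F) - 1).rank
  let alt : Matrix.symplecticGroup (Fin m) F → Prop := fun g =>
    ∀ v, ff v ((g : Matrix (Fin m ⊕ Fin m) (Fin m ⊕ Fin m) F) *ᵥ v) = 0
  have hsq : ∀ c : Matrix.symplecticGroup (Fin m) F, orderOf c = 2 →
      (c : Matrix (Fin m ⊕ Fin m) (Fin m ⊕ Fin m) F) *
        (c : Matrix (Fin m ⊕ Fin m) (Fin m ⊕ Fin m) F) = 1 := by
    intro c hc
    have h1 : c * c = 1 := by rw [← pow_two, ← hc]; exact pow_orderOf_eq_one c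
    exact congrArg Subtype.val h1
  have hiso : ∀ c : Matrix.symplecticGroup (Fin m) F, ∀ x y,
      ff ((c : Matrix (Fin m ⊕ Fin m) (Fin m ⊕ Fin m) F) *ᵥ x)
        ((c : Matrix (Fin m ⊕ Fin m) (Fin m ⊕ Fin m) F) *ᵥ y) = ff x y :=
    fun c x y => Helper13.preserves_of_mem_symplectic m _ c.2 x y
  -- basic numerical facts on involutions
  have hrk1 : ∀ a, orderOf a = 2 → 1 ≤ rk a := by
    intro a ha
    rcases Nat.eq_zero_or_pos (rk a) with h | h
    · exfalso
      have h1 := eq_zero_of_rank_eq_zero _ h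
      have h2 : a = 1 := Subtype.ext (sub_eq_zero.mp h1)
      rw [h2, orderOf_one] at ha
      omega
    · exact h
  have hrkm : ∀ a, orderOf a = 2 → rk a ≤ m := fun a ha =>
    sp_involution_rank_le _ (hiso a) (hsq a ha)
  have heven : ∀ a, orderOf a = 2 → alt a → Even (rk a) := fun a ha h =>
    sp_involution_even_rank _ (hiso a) (hsq a ha) h
  refine ⟨fun g => if alt g then m + rk g / 2 else rk g, ?_, ?_, ?_, ?_⟩
  · -- invariance
    intro a b hab
    obtain ⟨c, hc⟩ := isConj_iff.mp hab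
    have h1 : c * a = b * c := mul_inv_eq_iff_eq_mul.mp hc
    have h2 : c⁻¹ * b = a * c⁻¹ := by
      rw [← hc]; group
    have hr : rk a = rk b := (sp_conj_invariants a b c h1).1
    have hal : alt a ↔ alt b := ⟨sp_conj_alt a b c h1, sp_conj_alt b a c⁻¹ h2⟩
    show (if alt a then m + rk a / 2 else rk a) = (if alt b then m + rk b / 2 else rk b)
    by_cases h : alt a
    · rw [if_pos h, if_pos (hal.mp h), hr]
    · rw [if_neg h, if_neg (fun h' => h (hal.mpr h')), hr]
  · -- completeness
    intro a b ha hb hcode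
    have hcode' : (if alt a then m + rk a / 2 else rk a) =
        (if alt b then m + rk b / 2 else rk b) := hcode
    have key : rk a = rk b ∧ (alt a ↔ alt b) := by
      have ha1 := hrk1 a ha
      have hb1 := hrk1 b hb
      have ham := hrkm a ha
      have hbm := hrkm b hb
      by_cases h : alt a <;> by_cases h' : alt b
      · rw [if_pos h, if_pos h'] at hcode'
        obtain ⟨Na, hNa⟩ := heven a ha h
        obtain ⟨Nb, hNb⟩ := heven b hb h'
        refine ⟨by omega, ⟨fun _ => h', fun _ => h⟩⟩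
      · rw [if_pos h, if_neg h'] at hcode'
        obtain ⟨Na, hNa⟩ := heven a ha h
        omega
      · rw [if_neg h, if_pos h'] at hcode'
        obtain ⟨Nb, hNb⟩ := heven b hb h'
        omega
      · rw [if_neg h, if_neg h'] at hcode'
        exact ⟨hcode', ⟨fun x => absurd x h, fun x => absurd x h'⟩⟩
    obtain ⟨g, hg⟩ := sp_involution_conj _ _ (hiso a) (hiso b) (hsq a ha) (hsq b hb)
      key.1 key.2
    rw [isConj_iff]
    refine ⟨g, ?_⟩
    rw [mul_inv_eq_iff_eq_mul]
    exact Subtype.ext hg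
  · -- range
    intro a ha
    have ha1 := hrk1 a ha
    have ham := hrkm a ha
    show 1 ≤ (if alt a then m + rk a / 2 else rk a) ∧
      (if alt a then m + rk a / 2 else rk a) ≤ m + m / 2
    by_cases h : alt a
    · rw [if_pos h]
      obtain ⟨Na, hNa⟩ := heven a ha h
      omega
    · rw [if_neg h]
      omega
  · -- every value is taken
    intro j hj1 hjm
    by_cases hj : j ≤ m
    · obtain ⟨a, ha, hrk, v, hv⟩ := exists_sp_involution_nonalt (F := F) j hj1 hj
      refine ⟨a, ha, ?_⟩
      have hna : ¬ alt a := fun h => hv (h v)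
      show (if alt a then m + rk a / 2 else rk a) = j
      rw [if_neg hna]
      exact hrk
    · obtain ⟨a, ha, hrk, halt⟩ := exists_sp_involution_alt (F := F) (m := m) (j - m)
        (by omega) (by omega)
      refine ⟨a, ha, ?_⟩
      show (if alt a then m + rk a / 2 else rk a) = j
      rw [if_pos halt]
      have : rk a = 2 * (j - m) := hrk
      omega

/-- counting conjugacy classes by a complete numerical invariant with values `1, …, n` -/
theorem card_conjClasses_of_code {G : Type*} [Group G] (P : G → Prop) (n : ℕ) (code : G → ℕ)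
    (h1 : ∀ a b, IsConj a b → code a = code b)
    (h2 : ∀ a b, P a → P b → code a = code b → IsConj a b)
    (h3 : ∀ a, P a → 1 ≤ code a ∧ code a ≤ n)
    (h4 : ∀ j, 1 ≤ j → j ≤ n → ∃ a, P a ∧ code a = j) :
    Nat.card {C : ConjClasses G // ∃ g, ConjClasses.mk g = C ∧ P g} = n := by
  classical
  have hspec : ∀ C : {C : ConjClasses G // ∃ g, ConjClasses.mk g = C ∧ P g},
      ConjClasses.mk (Classical.choose C.2) = C.1 ∧ P (Classical.choose C.2) :=
    fun C => Classical.choose_spec C.2
  let Φ : {C : ConjClasses G // ∃ g, ConjClasses.mk g = C ∧ P g} →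
      {j // j ∈ Finset.Icc 1 n} := fun C =>
    ⟨code (Classical.choose C.2), by
      rw [Finset.mem_Icc]
      exact h3 _ (hspec C).2⟩
  have hΦ : Function.Bijective Φ := by
    constructor
    · intro C C' h
      have h5 : code (Classical.choose C.2) = code (Classical.choose C'.2) :=
        congrArg Subtype.val h
      have h6 := h2 _ _ (hspec C).2 (hspec C').2 h5
      apply Subtype.ext
      rw [← (hspec C).1, ← (hspec C').1]
      exact ConjClasses.mk_eq_mk_iff_isConj.mpr h6
    · rintro ⟨j, hj⟩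
      rw [Finset.mem_Icc] at hj
      obtain ⟨a, ha, hcode⟩ := h4 j hj.1 hj.2
      refine ⟨⟨ConjClasses.mk a, ⟨a, rfl, ha⟩⟩, ?_⟩
      apply Subtype.ext
      show code (Classical.choose _) = j
      rw [← hcode]
      apply h1
      exact ConjClasses.mk_eq_mk_iff_isConj.mp
        (hspec ⟨ConjClasses.mk a, ⟨a, rfl, ha⟩⟩).1
  rw [Nat.card_congr (Equiv.ofBijective Φ hΦ), Nat.card_eq_fintype_card, Fintype.card_coe,
    Nat.card_Icc]
  omega

end spcount

end Cfsg.Agent.Lib.Helper44
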