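import Mathlib
import Cfsg.Prelude.Def_GeometricClasses
import Cfsg.Agent.Lib.Helper2.BGMain
import Cfsg.Agent.Lib.Helper97.SfrA

set_option autoImplicit false
open scoped MatrixGroups
open Matrix Polynomial

/-! TNS-A for S5979 (helper44): a prime different from the characteristic dividing `|GL_n(q)|`. -/

namespace Cfsg.Agent.Lib.Helper44.Tns

universe v

variable {F : Type v} [Field F] [Fintype F]

/-- TNS-A : a prime different from the characteristic dividing `|GL_n(q)|` -/
theorem order_le_of_dvd_card_GL {p : ℕ} [Fact p.Prime] [CharP F p] (n : ℕ) (r : ℕ) [Fact r.Prime]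
    (hrp : r ≠ p) (h : r ∣ Nat.card (GL (Fin n) F)) :
    orderOf ((Fintype.card F : ℕ) : ZMod r) ≤ n := by
  classical
  have hr : r.Prime := Fact.out
  have hrq : ¬ r ∣ Fintype.card F := Cfsg.Agent.Lib.Helper44.Sfr.sfrA_not_dvd_card (p := p) hrp
  have hqpos : 0 < Fintype.card F := Fintype.card_pos
  have h2 := h
  rw [Matrix.card_GL_field] at h2
  obtain ⟨i, -, hi⟩ := (Nat.Prime.prime hr).exists_mem_finset_dvd h2
  have hi' : (i : ℕ) < n := i.2
  have hfac : ∀ j : ℕ, j < n → Fintype.card F ^ n - Fintype.card F ^ j =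
      Fintype.card F ^ j * (Fintype.card F ^ (n - j) - 1) := by
    intro j hj
    have : n = j + (n - j) := by omega
    conv_lhs => rw [this, pow_add]
    rw [Nat.mul_sub, mul_one]
  rw [hfac _ hi'] at hi
  rcases (Nat.Prime.dvd_mul hr).1 hi with h | h
  · exact absurd (hr.dvd_of_dvd_pow h) hrq
  · have h3 := (Cfsg.Agent.Lib.Helper2.BG.orderOf_dvd_iff_dvd_pow_sub_one (r := r)
      (Fintype.card F) hqpos (n - i)).2 h
    have h4 := Nat.le_of_dvd (by omega) h3
    omega

end Cfsg.Agent.Lib.Helper44.Tns
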