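import Mathlib
import Cfsg.Prelude.Def_GeometricClasses
import Cfsg.Agent.Lib.Helper2.BGDer

/-! TNS-E5 for S5979 (helper44): an element with one irreducible block of size `ord_r(q)`. -/

set_option autoImplicit false
open scoped MatrixGroups
open Matrix Polynomial

namespace Cfsg.Agent.Lib.Helper44.Tns

open Cfsg.Agent.Lib.Helper2.BG

universe v
variable {F : Type v} [Field F]

/-- the rank of the matrix of an endomorphism -/
theorem e5_rank_endMatEquiv {V : Type*} [AddCommGroup V] [Module F V] {n : ℕ}
    (e : V ≃ₗ[F] (Fin n → F)) (φ : Module.End F V) :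
    (endMatEquiv e φ).rank = Module.finrank F (LinearMap.range φ) := by
  have h1 : (endMatEquiv e φ).rank
      = Module.finrank F (LinearMap.range (Matrix.toLin' (endMatEquiv e φ))) := by
    rw [Matrix.rank, Matrix.toLin'_apply']
  rw [h1, toLin'_endMatEquiv, LinearEquiv.conj_apply,
    LinearMap.range_comp_of_range_eq_top _ (LinearEquiv.range e.symm), LinearMap.range_comp]
  exact LinearEquiv.finrank_map_eq e _

variable [Fintype F]

/-- TNS-E5 : an irreducible block of size `d = ord_r(q) ≥ 2` -/
theorem exists_block {p : ℕ} [hp : Fact p.Prime] [CharP F p] (n : ℕ) (r : ℕ) [hr : Fact r.Prime]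
    (hrp : r ≠ p)
    (hd2 : 2 ≤ orderOf ((Fintype.card F : ℕ) : ZMod r))
    (hdn : orderOf ((Fintype.card F : ℕ) : ZMod r) ≤ n) :
    ∃ (x : Matrix (Fin n) (Fin n) F) (g : F[X]), x.det = 1 ∧ x ^ r = 1 ∧
      (∀ z : F, x ≠ z • (1 : Matrix (Fin n) (Fin n) F)) ∧ Irreducible g ∧
      g.natDegree = orderOf ((Fintype.card F : ℕ) : ZMod r) ∧
      (x - 1).rank = g.natDegree ∧ (aeval x g).rank = n - g.natDegree := by
  classical
  set d := orderOf ((Fintype.card F : ℕ) : ZMod r) with hd
  have hn0 : 0 < n := by omega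
  -- an irreducible factor of the cyclotomic polynomial
  have hcyc0 : cyclotomic r F ≠ 0 := cyclotomic_ne_zero r F
  have hcycnu : ¬ IsUnit (cyclotomic r F) := by
    intro hu
    have h1 := Polynomial.natDegree_eq_zero_of_isUnit hu
    rw [Polynomial.natDegree_cyclotomic, Nat.totient_prime hr.out] at h1
    have := hr.out.two_le
    omega
  obtain ⟨g', hg'irr, hg'd⟩ := WfDvdMonoid.exists_irreducible_factor hcycnu hcyc0
  -- make it monic
  set g : F[X] := normalize g' with hg
  have hgass : Associated g' g := (normalize_associated g').symm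
  have hgirr : Irreducible g := hgass.irreducible hg'irr
  have hgd : g ∣ cyclotomic r F := (hgass.dvd_iff_dvd_left).1 hg'd
  have hgdeg : g.natDegree = d := allIrrDeg_cyclotomic (p := p) hrp g hgirr hgd
  have : Fact (Irreducible g) := ⟨hgirr⟩
  have hcycd : cyclotomic r F ∣ X ^ r - 1 := by
    rw [← Polynomial.cyclotomic_prime_mul_X_sub_one F r]
    exact dvd_mul_right _ _
  have hgX : g ∣ X ^ r - 1 := hgd.trans hcycd
  have := finite_adjoinRoot g
  have hfr : Module.finrank F (BlockSpace g 1 (n - d)) = Module.finrank F (Fin n → F) := by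
    rw [finrank_blockSpace, Module.finrank_fin_fun, hgdeg]
    omega
  let e : BlockSpace g 1 (n - d) ≃ₗ[F] (Fin n → F) := LinearEquiv.ofFinrankEq _ _ hfr
  set f' := blockOp g 1 (n - d) with hf'
  have hpolyX : aeval f' (X ^ r - 1 : F[X]) = 0 :=
    aeval_blockOp_eq_zero g 1 (n - d) _ hgX (by simp)
  have hpow : f' ^ r = 1 := by
    have h1 := hpolyX
    rw [map_sub, map_pow, aeval_X, map_one] at h1
    exact sub_eq_zero.mp h1
  have hcop : Nat.Coprime r (Fintype.card F - 1) := by
    rw [Nat.Prime.coprime_iff_not_dvd hr.out]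
    intro hdvd
    have := (orderOf_eq_one_iff_dvd (r := r) (Fintype.card F) Fintype.card_pos).mpr hdvd
    omega
  have hdet' : (endMatEquiv e f').det = 1 := by
    rw [det_endMatEquiv, det_blockOp, norm_root_eq_one hr.out.pos g hgX hcop, one_pow]
  set Q : F[X] := g * (X - 1) with hQ
  have hkillf : aeval f' Q = 0 :=
    aeval_blockOp_eq_zero g 1 (n - d) _ (dvd_mul_right _ _) (by simp [hQ])
  have hkill : aeval (endMatEquiv e f') Q = 0 := by
    rw [Polynomial.aeval_algEquiv, AlgHom.coe_comp, Function.comp_apply, hkillf]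
    simp
  have hxr : (endMatEquiv e f') ^ r = 1 := by
    rw [← map_pow, hpow, map_one]
  have hx1 : endMatEquiv e f' ≠ 1 := by
    intro h
    have h1 : endMatEquiv e f' = endMatEquiv e 1 := by rw [map_one]; exact h
    have h2 : f' = 1 := (endMatEquiv e).injective h1
    have h3 := LinearMap.congr_fun h2 ((fun _ => 1), 0)
    rw [hf', blockOp_apply] at h3
    have h4 := congrArg Prod.fst h3
    have h5 := congrFun h4 0
    simp at h5
    exact root_ne_one g (by omega) h5
  -- no roots of `g` in `F`
  have hgroot : ∀ z : F, g.eval z ≠ 0 := by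
    intro z hz
    have h1 := Polynomial.degree_eq_one_of_irreducible_of_root hgirr hz
    have h2 : g.natDegree = 1 := Polynomial.natDegree_eq_of_degree_eq_some h1
    rw [hgdeg] at h2
    omega
  refine ⟨endMatEquiv e f', g, hdet', hxr, ?_, hgirr, hgdeg, ?_, ?_⟩
  · intro z hz
    have h1 : aeval (z • (1 : Matrix (Fin n) (Fin n) F)) Q
        = (Q.eval z) • (1 : Matrix (Fin n) (Fin n) F) := by
      have h2 : z • (1 : Matrix (Fin n) (Fin n) F) = algebraMap F _ z := by
        rw [Algebra.algebraMap_eq_smul_one]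
      rw [h2, Polynomial.aeval_algebraMap_apply, Algebra.algebraMap_eq_smul_one]
      simp
    rw [hz] at hkill
    rw [h1] at hkill
    have h3 := congrFun (congrFun hkill ⟨0, hn0⟩) ⟨0, hn0⟩
    simp only [Matrix.smul_apply, Matrix.one_apply_eq, smul_eq_mul, mul_one,
      Matrix.zero_apply] at h3
    rw [hQ, Polynomial.eval_mul] at h3
    rcases mul_eq_zero.1 h3 with h4 | h4
    · exact hgroot z h4
    · simp at h4
      have hz1 : z = 1 := by linear_combination h4
      rw [hz1, one_smul] at hz
      exact hx1 hz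
  · -- the rank of `x - 1`
    have h1 : endMatEquiv e f' - 1 = endMatEquiv e (f' - 1) := by
      rw [map_sub, map_one]
    rw [h1, e5_rank_endMatEquiv, hgdeg]
    have hrange : LinearMap.range (f' - 1)
        = LinearMap.range (LinearMap.inl F (Fin 1 → AdjoinRoot g) (Fin (n - d) → F)) := by
      apply le_antisymm
      · rintro _ ⟨⟨u, w⟩, rfl⟩
        refine ⟨fun i => (AdjoinRoot.root g - 1) * u i, ?_⟩
        rw [LinearMap.sub_apply, hf', blockOp_apply]
        ext i
        · simp [sub_mul]
        · simp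
      · rintro _ ⟨u, rfl⟩
        have hne : AdjoinRoot.root g - 1 ≠ 0 := sub_ne_zero.2 (root_ne_one g (by omega))
        refine ⟨(fun i => (AdjoinRoot.root g - 1)⁻¹ * u i, 0), ?_⟩
        rw [LinearMap.sub_apply, hf', blockOp_apply]
        ext i
        · simp only [Module.End.one_apply, Prod.fst_sub, Pi.sub_apply, LinearMap.inl_apply]
          field_simp
        · simp
    rw [hrange, LinearMap.finrank_range_of_inj LinearMap.inl_injective,
      Module.finrank_pi_fintype]
    simp [finrank_adjoinRoot, hgdeg]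
  · -- the rank of `g(x)`
    have h1 : aeval (endMatEquiv e f') g = endMatEquiv e (aeval f' g) := by
      rw [Polynomial.aeval_algEquiv, AlgHom.coe_comp, Function.comp_apply]
      rfl
    rw [h1, e5_rank_endMatEquiv, hgdeg]
    have hrange : LinearMap.range (aeval f' g)
        = LinearMap.range (LinearMap.inr F (Fin 1 → AdjoinRoot g) (Fin (n - d) → F)) := by
      apply le_antisymm
      · rintro _ ⟨⟨u, w⟩, rfl⟩
        refine ⟨g.eval 1 • w, ?_⟩
        rw [hf', aeval_blockOp_apply, AdjoinRoot.aeval_eq, AdjoinRoot.mk_self]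
        ext i
        · simp
        · simp
      · rintro _ ⟨w, rfl⟩
        refine ⟨(0, (g.eval 1)⁻¹ • w), ?_⟩
        rw [hf', aeval_blockOp_apply, AdjoinRoot.aeval_eq, AdjoinRoot.mk_self]
        ext i
        · simp
        · simp only [LinearMap.inr_apply, Pi.smul_apply, smul_eq_mul]
          rw [← mul_assoc, mul_inv_cancel₀ (hgroot 1), one_mul]
    rw [hrange, LinearMap.finrank_range_of_inj LinearMap.inr_injective, Module.finrank_fin_fun]

end Cfsg.Agent.Lib.Helper44.Tns
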