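import Cfsg.Agent.Lib.Helper66.TpDefs

/-! # Tp hive (helper66, S4017): leaf TP-EVEN `no_even_normal`. -/

set_option autoImplicit false

namespace Cfsg.Agent.Lib.Helper66.Tp

universe u

/-- aux: `K ⊔ N = ⊤`, `N` normal: `|G| ∣ |N| * |K|`. -/
theorem tpeven_card_dvd {G : Type*} [Group G] [Finite G] (N K : Subgroup G) [N.Normal] (h : K ⊔ N = ⊤) :
    Nat.card G ∣ Nat.card N * Nat.card K := by
  rw [← N.card_mul_index]
  apply mul_dvd_mul_left
  rw [← Subgroup.relIndex_top_right, ← h, Subgroup.relIndex_sup_right]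
  exact Subgroup.relIndex_dvd_card N K

/-- aux: a proper subgroup of even order has no "bad" prime divisor. -/
theorem tpeven_no_bad {G : Type*} [Group G] {p : ℕ} (hstar : Star p G) (H : Subgroup G) (hH : H ≠ ⊤)
    (h2 : 2 ∣ Nat.card H) {r : ℕ} (hr : r.Prime) (hr2 : r ≠ 2) (hrp : r ≠ p) : ¬ r ∣ Nat.card H := by
  intro h
  rcases hstar H hH h2 r hr h with h | h
  · exact hr2 h
  · exact hrp h

/-- TP-EVEN: no proper normal subgroup of even order. -/
theorem no_even_normal {G : Type*} [Group G] [Finite G] {p : ℕ} (hp : p.Prime) (hp2 : p ≠ 2)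
    (hpG : p ∣ Nat.card G) (hstar : Star p G) (hbad : Bad p G)
    (N : Subgroup G) [N.Normal] (hN : N ≠ ⊤) (h2 : 2 ∣ Nat.card N) : False := by
  obtain ⟨r, hr, hrG, hr2, hrp⟩ := hbad
  haveI : Fact r.Prime := ⟨hr⟩
  haveI : Fact (2 : ℕ).Prime := ⟨Nat.prime_two⟩
  -- `r ∤ |N|`
  have hrN : ¬ r ∣ Nat.card N := tpeven_no_bad hstar N hN h2 hr hr2 hrp
  -- a Sylow `r`-subgroup
  obtain ⟨R⟩ : Nonempty (Sylow r G) := inferInstance
  have hrR : r ∣ Nat.card R := R.dvd_card_of_dvd_card hrG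
  -- Sylow 2 of N
  obtain ⟨Q₀⟩ : Nonempty (Sylow 2 N) := inferInstance
  set Q₁ : Subgroup G := (Q₀ : Subgroup N).map N.subtype with hQ₁
  have hQ₁card : Nat.card Q₁ = Nat.card Q₀ :=
    Subgroup.card_map_of_injective N.subtype_injective
  have h2Q₁ : 2 ∣ Nat.card Q₁ := by
    rw [hQ₁card]
    exact Q₀.dvd_card_of_dvd_card h2
  have hfr : Subgroup.normalizer (Q₁ : Set G) ⊔ N = ⊤ := Sylow.normalizer_sup_eq_top Q₀
  by_cases hnQ : Subgroup.normalizer (Q₁ : Set G) = ⊤
  · -- `Q₁` normal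
    haveI hQn : Q₁.Normal := Subgroup.normalizer_eq_top_iff.1 hnQ
    have hsup : (R : Subgroup G) ⊔ Q₁ = ⊤ := by
      by_contra hne
      refine tpeven_no_bad hstar _ hne ?_ hr hr2 hrp ?_
      · exact h2Q₁.trans (Subgroup.card_dvd_of_le le_sup_right)
      · exact hrR.trans (Subgroup.card_dvd_of_le le_sup_left)
    have hdvd := tpeven_card_dvd Q₁ (R : Subgroup G) hsup
    have hpd := hpG.trans hdvd
    rcases (Nat.Prime.dvd_mul hp).1 hpd with h | h
    · rw [hQ₁card, Q₀.card_eq_multiplicity] at h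
      have := (Nat.prime_dvd_prime_iff_eq hp Nat.prime_two).1 (hp.dvd_of_dvd_pow h)
      exact hp2 this
    · rw [R.card_eq_multiplicity] at h
      have := (Nat.prime_dvd_prime_iff_eq hp hr).1 (hp.dvd_of_dvd_pow h)
      exact hrp this.symm
  · -- `N(Q₁)` proper of even order
    have h2n : 2 ∣ Nat.card (Subgroup.normalizer (Q₁ : Set G)) :=
      h2Q₁.trans (Subgroup.card_dvd_of_le Subgroup.le_normalizer)
    have hrn : ¬ r ∣ Nat.card (Subgroup.normalizer (Q₁ : Set G)) :=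
      tpeven_no_bad hstar _ hnQ h2n hr hr2 hrp
    have hdvd := tpeven_card_dvd N (Subgroup.normalizer (Q₁ : Set G)) hfr
    rcases (Nat.Prime.dvd_mul hr).1 (hrG.trans hdvd) with h | h
    · exact hrN h
    · exact hrn h

end Cfsg.Agent.Lib.Helper66.Tp
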