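import Cfsg.Agent.Lib.Helper66.TpDefs

/-! # Tp hive (helper66, S4017): leaf TP-ODD `isPGroup_of_odd_normal`. -/

set_option autoImplicit false

namespace Cfsg.Agent.Lib.Helper66.Tp

universe u

/-- aux: `K ⊔ N = ⊤`, `N` normal: `|G| ∣ |N| * |K|`. -/
theorem tpodd_card_dvd {G : Type*} [Group G] [Finite G] (N K : Subgroup G) [N.Normal] (h : K ⊔ N = ⊤) :
    Nat.card G ∣ Nat.card N * Nat.card K := by
  rw [← N.card_mul_index]
  apply mul_dvd_mul_left
  rw [← Subgroup.relIndex_top_right, ← h, Subgroup.relIndex_sup_right]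
  exact Subgroup.relIndex_dvd_card N K

/-- aux: every prime divisor of `|N|` is `p`. -/
theorem tpodd_prime_eq {G : Type*} [Group G] [Finite G] {p : ℕ} (hp : p.Prime) (hp2 : p ≠ 2)
    (hpG : p ∣ Nat.card G) (h2G : 2 ∣ Nat.card G) (hstar : Star p G)
    (N : Subgroup G) [N.Normal] (hodd : ¬ 2 ∣ Nat.card N) (l : ℕ) (hl : l.Prime) (hlN : l ∣ Nat.card N) :
    l = p := by
  haveI : Fact l.Prime := ⟨hl⟩
  haveI : Fact (2 : ℕ).Prime := ⟨Nat.prime_two⟩
  have hl2 : l ≠ 2 := by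
    rintro rfl
    exact hodd hlN
  obtain ⟨L⟩ : Nonempty (Sylow l N) := inferInstance
  set L₁ : Subgroup G := (L : Subgroup N).map N.subtype with hL₁
  have hL₁card : Nat.card L₁ = Nat.card L :=
    Subgroup.card_map_of_injective N.subtype_injective
  have hlL₁ : l ∣ Nat.card L₁ := by
    rw [hL₁card]
    exact L.dvd_card_of_dvd_card hlN
  have hfr : Subgroup.normalizer (L₁ : Set G) ⊔ N = ⊤ := Sylow.normalizer_sup_eq_top L
  have hdvd := tpodd_card_dvd N (Subgroup.normalizer (L₁ : Set G)) hfr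
  have h2n : 2 ∣ Nat.card (Subgroup.normalizer (L₁ : Set G)) := by
    rcases (Nat.Prime.dvd_mul Nat.prime_two).1 (h2G.trans hdvd) with h | h
    · exact absurd h hodd
    · exact h
  obtain ⟨t', ht'⟩ := exists_prime_orderOf_dvd_card' (G := Subgroup.normalizer (L₁ : Set G)) 2 h2n
  have ht : orderOf (t' : G) = 2 := by rw [Subgroup.orderOf_coe, ht']
  set Q₂ : Subgroup G := Subgroup.zpowers (t' : G) with hQ₂
  have hQ₂card : Nat.card Q₂ = 2 := by rw [Nat.card_zpowers, ht]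
  have hQ₂le : Q₂ ≤ Subgroup.normalizer (L₁ : Set G) := by
    rw [Subgroup.zpowers_le]
    exact t'.2
  by_cases hH : Q₂ ⊔ L₁ = ⊤
  · -- `L₁` is normal in `G`
    have hnt : Subgroup.normalizer (L₁ : Set G) = ⊤ := by
      rw [eq_top_iff, ← hH]
      exact sup_le hQ₂le Subgroup.le_normalizer
    haveI hLn : L₁.Normal := Subgroup.normalizer_eq_top_iff.1 hnt
    have hd := tpodd_card_dvd L₁ Q₂ hH
    rcases (Nat.Prime.dvd_mul hp).1 (hpG.trans hd) with h | h
    · rw [hL₁card, L.card_eq_multiplicity] at h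
      exact ((Nat.prime_dvd_prime_iff_eq hp hl).1 (hp.dvd_of_dvd_pow h)).symm
    · rw [hQ₂card] at h
      exact absurd ((Nat.prime_dvd_prime_iff_eq hp Nat.prime_two).1 h) hp2
  · have h2H : 2 ∣ Nat.card (Q₂ ⊔ L₁ : Subgroup G) := by
      have : 2 ∣ Nat.card Q₂ := by rw [hQ₂card]
      exact this.trans (Subgroup.card_dvd_of_le le_sup_left)
    have hlH : l ∣ Nat.card (Q₂ ⊔ L₁ : Subgroup G) :=
      hlL₁.trans (Subgroup.card_dvd_of_le le_sup_right)
    rcases hstar _ hH h2H l hl hlH with h | h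
    · exact absurd h hl2
    · exact h

/-- TP-ODD: an odd normal subgroup is a `p`-group. -/
theorem isPGroup_of_odd_normal {G : Type*} [Group G] [Finite G] {p : ℕ} (hp : p.Prime) (hp2 : p ≠ 2)
    (hpG : p ∣ Nat.card G) (h2G : 2 ∣ Nat.card G) (hstar : Star p G)
    (N : Subgroup G) [N.Normal] (hodd : ¬ 2 ∣ Nat.card N) : IsPGroup p N := by
  haveI : Fact p.Prime := ⟨hp⟩
  have hpos : Nat.card N ≠ 0 := Nat.card_pos.ne'
  have h := Nat.eq_prime_pow_of_unique_prime_dvd hpos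
    (fun {d} hd hdN => tpodd_prime_eq hp hp2 hpG h2G hstar N hodd d hd hdN)
  exact IsPGroup.of_card h

end Cfsg.Agent.Lib.Helper66.Tp
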