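import Mathlib
import Cfsg.Agent.Lib.Helper44.Darboux

set_option autoImplicit false

namespace Cfsg.Agent.Lib.Helper44

open Module LinearMap

/-- trace of (a constant times) a form that is `K`-linear in the first variable and right-nondegenerate,
assumed alternating after taking traces, is nondegenerate over `F`. -/
theorem nondeg_of_trace {F K V : Type*} [Field F] [Field K] [Algebra F K] [FiniteDimensional F K]
    [Algebra.IsSeparable F K] [AddCommGroup V] [Module K V] [Module F V] [IsScalarTower F K V]
    (B : V → V → K) (c : K) (hc : c ≠ 0) (hB1 : ∀ (k : K) u v, B (k • u) v = k * B u v)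
    (hBnd : ∀ v, (∀ u, B u v = 0) → v = 0)
    (ω : LinearMap.BilinForm F V) (hω : ∀ u v, ω u v = Algebra.trace F K (c * B u v)) (halt : ω.IsAlt) :
    ω.Nondegenerate := by
  have hright : ω.SeparatingRight := by
    intro v hv
    apply hBnd v
    intro u
    have htr := (traceForm_nondegenerate F K).2
    apply htr (B u v)
    intro k
    have := hv ((k * c⁻¹) • u)
    rw [hω, hB1] at this
    rw [Algebra.traceForm_apply, ← this]
    congr 1
    field_simp
  refine ⟨?_, hright⟩
  intro u hu
  apply hright u
  intro v
  rw [← halt.neg_eq, hu v, neg_zero]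

end Cfsg.Agent.Lib.Helper44
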