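import Cfsg.Agent.Lib.Helper44.UnitaryTransv
import Cfsg.Agent.Lib.Helper44.HermSpace
import Cfsg.Agent.Lib.Helper44.Unitary

set_option autoImplicit false

/-!
Involutions of the unitary group in characteristic two: an involution `a` is
`x ↦ x + Σ_j h(x, e_j) e_j` for a basis `(e_j)` of the totally isotropic space `im (a - 1)`;
two involutions of the same rank are conjugate under an isometry of determinant one.
-/

namespace Cfsg.Agent.Lib.Helper44

open Matrix

section uinv

variable {F : Type*} [Field F] [Fintype F] {q n : ℕ}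

local notation "hh" => Cfsg.hermForm n F q

/-- the structure of an isometry of square one in characteristic two -/
theorem involution_structure (hF : Fintype.card F = q ^ 2) (h2 : (2 : F) = 0)
    (M : Matrix (Fin n) (Fin n) F) (hiso : ∀ x y, hh (M *ᵥ x) (M *ᵥ y) = hh x y)
    (hsq : M * M = 1) :
    ∃ e : Fin (M - 1).rank → (Fin n → F), LinearIndependent F e ∧
      (∀ i j, hh (e i) (e j) = 0) ∧ ∀ x, M *ᵥ x = x + ∑ j, hh x (e j) • e j := by
  classical
  set A : Matrix (Fin n) (Fin n) F := M - 1 with hA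
  have hMA : ∀ v, M *ᵥ v = v + A *ᵥ v := by
    intro v
    rw [hA, sub_mulVec, one_mulVec]
    abel
  have hneg : ∀ c : F, -c = c := by
    intro c
    linear_combination (-c) * h2
  have hAA : A * A = 0 := by
    rw [hA, sub_mul, mul_sub, mul_sub, hsq, Matrix.mul_one, Matrix.one_mul, Matrix.one_mul]
    have : (1 : Matrix (Fin n) (Fin n) F) - M - (M - 1) = (2 : F) • (1 - M) := by
      rw [two_smul]; abel
    rw [this, h2, zero_smul]
  have hAAv : ∀ v, A *ᵥ (A *ᵥ v) = 0 := by
    intro v
    rw [mulVec_mulVec, hAA, zero_mulVec]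
  have h1 : ∀ v w, hh v (A *ᵥ w) + hh (A *ᵥ v) w + hh (A *ᵥ v) (A *ᵥ w) = 0 := by
    intro v w
    have h1 := hiso v w
    rw [hMA, hMA, Helper13.hermForm_add_left, Helper13.hermForm_add_right hF,
      Helper13.hermForm_add_right hF] at h1
    linear_combination h1
  have h3 : ∀ v w, hh (A *ᵥ v) (A *ᵥ w) = 0 := by
    intro v w
    have := h1 v (A *ᵥ w)
    rw [hAAv, Helper99.hermForm_zero_right hF, Helper99.hermForm_zero_right hF, zero_add,
      add_zero] at this
    exact this
  have h4 : ∀ v w, hh v (A *ᵥ w) = hh (A *ᵥ v) w := by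
    intro v w
    have := h1 v w
    rw [h3, add_zero] at this
    rw [← hneg (hh (A *ᵥ v) w)]
    linear_combination this
  -- the image of `A` with its induced hermitian form
  set W : Submodule F (Fin n → F) := LinearMap.range A.mulVecLin with hW
  have hpre : ∀ w : W, ∃ x, A *ᵥ x = w.1 := fun w => w.2
  choose pre hpre' using hpre
  let β : W → W → F := fun w w' => hh (pre w) w'.1
  have key : ∀ (x : Fin n → F) (w w' : W), A *ᵥ x = w.1 → hh x w'.1 = β w w' := by
    intro x w w' hx
    show hh x w'.1 = hh (pre w) w'.1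
    rw [← hpre' w', h4, h4 (pre w), hx, hpre']
  have hβ : IsHermSpace q β := by
    refine ⟨?_, ?_, ?_, ?_⟩
    · intro u u' v
      have := key (pre u + pre u') (u + u') v (by
        rw [mulVec_add, hpre', hpre']; rfl)
      rw [← this, Helper13.hermForm_add_left]
    · intro c u v
      have := key (c • pre u) (c • u) v (by
        rw [mulVec_smul, hpre']; rfl)
      rw [← this, Helper13.hermForm_smul_left]
    · intro u v
      show (hh (pre u) v.1) ^ q = hh (pre v) u.1
      rw [Helper13.hermForm_conj hF, ← hpre' v, ← h4, hpre' u]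
    · intro v hv
      apply Subtype.ext
      apply hermForm_nd n F q
      intro x
      have := key x ⟨A *ᵥ x, ⟨x, rfl⟩⟩ v rfl
      rw [this, hv]
  have hfr : Module.finrank F W = A.rank := rfl
  obtain ⟨e', he'⟩ := orthonormal_family hF A.rank W β hβ hfr
  obtain ⟨hexp, -⟩ := orthonormal_coords hF W β hβ A.rank hfr e' he'
  refine ⟨fun j => (e' j).1, ?_, ?_, ?_⟩
  · have hli : LinearIndependent F e' := by
      rw [Fintype.linearIndependent_iff]
      intro g hg i
      have := congrArg (fun w => β w (e' i)) hg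
      rw [hβ.sum_left, hβ.zero_left] at this
      simp only [hβ.smul_left, he', mul_ite, mul_one, mul_zero] at this
      simpa using this
    exact hli.map' W.subtype (Submodule.ker_subtype W)
  · intro i j
    show hh (e' i).1 (e' j).1 = 0
    rw [← hpre' (e' i), ← hpre' (e' j), h3]
  · intro x
    rw [hMA]
    congr 1
    have h5 : A *ᵥ x = ((∑ j, β ⟨A *ᵥ x, ⟨x, rfl⟩⟩ (e' j) • e' j : W) : Fin n → F) :=
      congrArg Subtype.val (hexp ⟨A *ᵥ x, ⟨x, rfl⟩⟩)
    refine h5.trans ?_
    rw [Submodule.coe_sum]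
    refine Finset.sum_congr rfl fun j _ => ?_
    rw [Submodule.coe_smul, ← key x ⟨A *ᵥ x, ⟨x, rfl⟩⟩ (e' j) rfl]

/-- the cardinal parameter `q` is even in characteristic two -/
theorem even_q_of_two_eq_zero (hF : Fintype.card F = q ^ 2) (h2 : (2 : F) = 0) : 2 ∣ q := by
  have h1 : addOrderOf (1 : F) = 2 := by
    apply addOrderOf_eq_prime
    · rw [two_nsmul, ← two_mul, mul_one]; exact h2
    · exact one_ne_zero
  have h3 : 2 ∣ Fintype.card F := by
    rw [← h1]
    exact addOrderOf_dvd_card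
  rw [hF] at h3
  exact Nat.Prime.dvd_of_dvd_pow Nat.prime_two h3

/-- a determinant correction commuting with a given involution: it scales the first vector of a
totally isotropic family by a scalar `ν` of norm one and fixes the others. -/
theorem exists_scale_first (hF : Fintype.card F = q ^ 2) {r : ℕ} (i0 : Fin r)
    (e : Fin r → (Fin n → F)) (he : LinearIndependent F e) (h0 : ∀ i j, hh (e i) (e j) = 0)
    (ν : F) (hν : ν ^ q * ν = 1) :
    ∃ d : GL (Fin n) F, d ∈ Cfsg.GU n F q ∧ (d : Matrix (Fin n) (Fin n) F).det = ν * ν ∧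
      ∀ j, (d : Matrix (Fin n) (Fin n) F) *ᵥ e j = (if j = i0 then ν else 1) • e j := by
  classical
  have hν0 : ν ≠ 0 := by
    rintro rfl
    rw [mul_zero] at hν
    exact zero_ne_one hν
  -- a vector pairing to `1` with `e i0` and to `0` with the others
  obtain ⟨x₀, hx₀⟩ := Helper99.exists_hermForm_eq hF (Submodule.span F (Set.range e))
    (Module.Basis.span he) (fun j => if j = i0 then 1 else 0)
  have hx₀' : ∀ j, hh x₀ (e j) = if j = i0 then 1 else 0 := by
    intro j
    have := hx₀ j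
    rwa [Module.Basis.span_apply] at this
  obtain ⟨μ, hμ⟩ := Helper99.exists_isotropic_add hF x₀ (e i0) (h0 i0 i0) (by
    rw [hx₀' i0, if_pos rfl]; exact one_ne_zero)
  set u' : Fin n → F := x₀ + μ • e i0 with hu'
  have hu'e : ∀ j, hh u' (e j) = if j = i0 then 1 else 0 := by
    intro j
    rw [hu', Helper13.hermForm_add_left, Helper13.hermForm_smul_left, h0, mul_zero, add_zero,
      hx₀']
  have heu' : ∀ j, hh (e j) u' = if j = i0 then 1 else 0 := by
    intro j
    rw [← Helper13.hermForm_conj hF n u' (e j), hu'e]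
    split_ifs
    · exact one_pow _
    · exact zero_pow (by have := Helper99.q_ge_two hF; omega)
  set w₁ : Fin n → F := e i0 with hw₁
  have h1 : hh w₁ u' = 1 := by rw [hw₁, heu', if_pos rfl]
  have h2' : hh u' w₁ = 1 := by rw [hw₁, hu'e, if_pos rfl]
  have h3 : hh w₁ w₁ = 0 := h0 i0 i0
  set d₁ : GL (Fin n) F := Helper99.rk1GL w₁ (fun j => (ν - 1) * (u' j) ^ q) with hd₁
  set d₂ : GL (Fin n) F := Helper99.rk1GL u' (fun j => (ν - 1) * (w₁ j) ^ q) with hd₂
  have hne₁ : 1 + (fun j => (ν - 1) * (u' j) ^ q) ⬝ᵥ w₁ ≠ 0 := by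
    rw [Helper99.utv_dot, h1, mul_one, add_sub_cancel]
    exact hν0
  have hne₂ : 1 + (fun j => (ν - 1) * (w₁ j) ^ q) ⬝ᵥ u' ≠ 0 := by
    rw [Helper99.utv_dot, h2', mul_one, add_sub_cancel]
    exact hν0
  have hd₁x : ∀ x, (d₁ : Matrix (Fin n) (Fin n) F) *ᵥ x = x + ((ν - 1) * hh x u') • w₁ := by
    intro x
    rw [hd₁, Helper99.coe_rk1GL _ _ hne₁, Helper99.rk1_mulVec, Helper99.utv_dot]
  have hd₂x : ∀ x, (d₂ : Matrix (Fin n) (Fin n) F) *ᵥ x = x + ((ν - 1) * hh x w₁) • u' := by
    intro x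
    rw [hd₂, Helper99.coe_rk1GL _ _ hne₂, Helper99.rk1_mulVec, Helper99.utv_dot]
  have hdx : ∀ x, ((d₁ * d₂ : GL (Fin n) F) : Matrix (Fin n) (Fin n) F) *ᵥ x =
      x + ((ν - 1) * hh x w₁) • u' + ((ν - 1) * hh x u') • w₁ := by
    intro x
    rw [Units.val_mul, ← mulVec_mulVec, hd₂x, hd₁x, Helper13.hermForm_add_left,
      Helper13.hermForm_smul_left, hμ, mul_zero, add_zero]
  have hν' : ν * ν ^ q = 1 := by rw [mul_comm]; exact hν
  refine ⟨d₁ * d₂, ?_, ?_, ?_⟩
  · rw [Helper13.mem_GU_iff]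
    intro x y
    rw [hdx, hdx]
    simp only [Helper13.hermForm_add_left, Helper13.hermForm_add_right hF,
      Helper13.hermForm_smul_left, Helper13.hermForm_smul_right, hμ, h1, h2', h3, mul_pow]
    have e1 : (hh y w₁) ^ q = hh w₁ y := Helper13.hermForm_conj hF n y w₁
    have e2 : (hh y u') ^ q = hh u' y := Helper13.hermForm_conj hF n y u'
    rw [e1, e2, Helper99.frob_sub hF, one_pow]
    linear_combination (hh x u' * hh w₁ y) * hν' + (hh x w₁ * hh u' y) * hν'
  · rw [Units.val_mul, Matrix.det_mul, hd₁, hd₂, Helper99.coe_rk1GL _ _ hne₁,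
      Helper99.coe_rk1GL _ _ hne₂, Helper99.det_rk1, Helper99.det_rk1, Helper99.utv_dot,
      Helper99.utv_dot, h1, h2', mul_one, add_sub_cancel]
  · intro j
    rw [hdx, heu', h0 j i0]
    by_cases hj : j = i0
    · subst hj
      rw [if_pos rfl, if_pos rfl, mul_zero, zero_smul, add_zero, mul_one, sub_smul, one_smul]
      abel
    · rw [if_neg hj, if_neg hj, mul_zero, zero_smul, add_zero, zero_smul, add_zero,
        one_smul]

/-- Two involutions given by totally isotropic families of the same positive length are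
conjugate under an isometry of determinant one (characteristic two). -/
theorem isotropic_family_conj (hF : Fintype.card F = q ^ 2) (h2 : (2 : F) = 0) {r : ℕ}
    (hr : 0 < r) (e e' : Fin r → (Fin n → F)) (he : LinearIndependent F e)
    (he' : LinearIndependent F e') (h0 : ∀ i j, hh (e i) (e j) = 0)
    (h0' : ∀ i j, hh (e' i) (e' j) = 0) :
    ∃ g : GL (Fin n) F, g ∈ Cfsg.GU n F q ∧ (g : Matrix (Fin n) (Fin n) F).det = 1 ∧
      ∀ x, (g : Matrix (Fin n) (Fin n) F) *ᵥ (x + ∑ j, hh x (e j) • e j) =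
        (g : Matrix (Fin n) (Fin n) F) *ᵥ x +
          ∑ j, hh ((g : Matrix (Fin n) (Fin n) F) *ᵥ x) (e' j) • e' j := by
  classical
  have hgram : ∀ i j, Helper99.hermB hF n (e' i) (e' j) = Helper99.hermB hF n (e i) (e j) := by
    intro i j
    rw [Helper99.hermB_apply, Helper99.hermB_apply, h0, h0']
  obtain ⟨g₀, hg₀iso, hg₀e⟩ := Helper8.witt_family_herm (Helper99.frobU hF)
    (Helper99.frobU_ne_id hF) (Helper99.frobU_frobU hF) (Helper99.hermB hF n)
    (Helper99.hermB_isSymm hF) (Helper99.hermB_nondegenerate hF) r e e' he he' hgram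
  have hg₀GU : Helper99.glOfEquiv' g₀ ∈ Cfsg.GU n F q := by
    rw [Helper13.mem_GU_iff]
    intro a b
    rw [Helper99.glOfEquiv'_mulVec, Helper99.glOfEquiv'_mulVec]
    exact hg₀iso b a
  have hdet := Helper13.GU_det_pow hF n _ hg₀GU
  set δ := ((Helper99.glOfEquiv' g₀ : GL (Fin n) F) : Matrix (Fin n) (Fin n) F).det with hδ
  obtain ⟨m, hm⟩ := even_q_of_two_eq_zero hF h2
  set ν : F := δ ^ m with hν
  have hνν : ν * ν * δ = 1 := by
    rw [hν, ← pow_add, ← pow_succ, ← two_mul, ← hm]
    exact hdet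
  have hνq : ν ^ q * ν = 1 := by
    rw [← pow_succ, hν, ← pow_mul, mul_comm, pow_mul, hdet, one_pow]
  obtain ⟨d, hdGU, hddet, hde⟩ := exists_scale_first hF ⟨0, hr⟩ e' he' h0' ν hνq
  have hgGU : d * Helper99.glOfEquiv' g₀ ∈ Cfsg.GU n F q := Subgroup.mul_mem _ hdGU hg₀GU
  refine ⟨d * Helper99.glOfEquiv' g₀, hgGU, ?_, ?_⟩
  · rw [Units.val_mul, Matrix.det_mul, hddet, ← hδ]
    exact hνν
  · intro x
    rw [mulVec_add, mulVec_sum]
    congr 1
    refine Finset.sum_congr rfl fun j _ => ?_
    have hgej : ((d * Helper99.glOfEquiv' g₀ : GL (Fin n) F) : Matrix (Fin n) (Fin n) F) *ᵥ e j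
        = (if j = ⟨0, hr⟩ then ν else 1) • e' j := by
      rw [Units.val_mul, ← mulVec_mulVec, Helper99.glOfEquiv'_mulVec, hg₀e, hde]
    rw [mulVec_smul, hgej, ← Helper99.GU_preserves hgGU x (e j), hgej,
      Helper13.hermForm_smul_right, smul_smul]
    congr 1
    generalize hh (((d * Helper99.glOfEquiv' g₀ : GL (Fin n) F) :
      Matrix (Fin n) (Fin n) F) *ᵥ x) (e' j) = t
    split_ifs
    · linear_combination t * hνq
    · rw [one_pow, one_mul, mul_one]

/-- Two isometries of square one (not the identity) with `M - 1` and `M' - 1` of the same rank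
are conjugate under an isometry of determinant one, in characteristic two. -/
theorem involution_conj (hF : Fintype.card F = q ^ 2) (h2 : (2 : F) = 0)
    (M M' : Matrix (Fin n) (Fin n) F) (hiso : ∀ x y, hh (M *ᵥ x) (M *ᵥ y) = hh x y)
    (hiso' : ∀ x y, hh (M' *ᵥ x) (M' *ᵥ y) = hh x y) (hsq : M * M = 1) (hsq' : M' * M' = 1)
    (hM : M ≠ 1) (hrk : (M - 1).rank = (M' - 1).rank) :
    ∃ g : GL (Fin n) F, g ∈ Cfsg.GU n F q ∧ (g : Matrix (Fin n) (Fin n) F).det = 1 ∧
      (g : Matrix (Fin n) (Fin n) F) * M = M' * (g : Matrix (Fin n) (Fin n) F) := by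
  classical
  obtain ⟨e, he, h0, hMx⟩ := involution_structure hF h2 M hiso hsq
  obtain ⟨e', he', h0', hMx'⟩ := involution_structure hF h2 M' hiso' hsq'
  generalize (M' - 1).rank = r' at hrk e' he' h0' hMx'
  subst hrk
  have hr : 0 < (M - 1).rank := by
    rcases Nat.eq_zero_or_pos (M - 1).rank with h | h
    · exfalso
      apply hM
      rw [Matrix.ext_iff_mulVec]
      intro x
      rw [hMx, one_mulVec]
      have : IsEmpty (Fin (M - 1).rank) := by rw [h]; infer_instance
      rw [Finset.univ_eq_empty, Finset.sum_empty, add_zero]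
    · exact h
  obtain ⟨g, hgGU, hgdet, hg⟩ := isotropic_family_conj hF h2 hr e e' he he' h0 h0'
  refine ⟨g, hgGU, hgdet, ?_⟩
  rw [Matrix.ext_iff_mulVec]
  intro x
  rw [← mulVec_mulVec, ← mulVec_mulVec, hMx, hMx', hg]

end uinv

end Cfsg.Agent.Lib.Helper44
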