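import Cfsg.Agent.Lib.Helper44.UnitaryTransv

set_option autoImplicit false

/-!
Unitary transvections over the field with four elements are 3-transpositions.
-/

namespace Cfsg.Agent.Lib.Helper44

open Matrix

section rankone

variable {K : Type*} [Field K] {n : ℕ}

/-- a matrix of rank one is a column times a row -/
theorem exists_vecMulVec_of_rank_one (A : Matrix (Fin n) (Fin n) K) (h : A.rank = 1) :
    ∃ x φ : Fin n → K, A = Matrix.vecMulVec x φ := by
  classical
  have hr : Module.finrank K (LinearMap.range A.mulVecLin) = 1 := h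
  obtain ⟨⟨u, hu⟩, hu0, hspan⟩ := finrank_eq_one_iff'.mp hr
  have hcol : ∀ j : Fin n, ∃ c : K, c • u = A *ᵥ Pi.single j 1 := by
    intro j
    obtain ⟨c, hc⟩ := hspan ⟨A *ᵥ Pi.single j 1, ⟨Pi.single j 1, rfl⟩⟩
    exact ⟨c, congrArg Subtype.val hc⟩
  choose φ hφ using hcol
  refine ⟨u, φ, ?_⟩
  ext i j
  have h1 := congrFun (hφ j) i
  rw [Matrix.mulVec_single_one] at h1
  rw [Matrix.vecMulVec_apply]
  simp only [Pi.smul_apply, smul_eq_mul, Matrix.col_apply] at h1
  rw [mul_comm]
  exact h1.symm

/-- a matrix of determinant one with `g - 1` of rank one is a transvection -/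
theorem isTransvection_of_rank_one (g : Matrix (Fin n) (Fin n) K) (hdet : g.det = 1)
    (h : (g - 1).rank = 1) : Cfsg.IsTransvection g := by
  refine ⟨h, ?_⟩
  obtain ⟨x, φ, hxφ⟩ := exists_vecMulVec_of_rank_one (g - 1) h
  have hg : g = Helper99.rk1 x φ := by
    unfold Helper99.rk1
    rw [← hxφ]
    abel
  have h1 : φ ⬝ᵥ x = 0 := by
    have := Helper99.det_rk1 x φ
    rw [← hg, hdet] at this
    linear_combination -this
  rw [hxφ, Matrix.vecMulVec_mul_vecMulVec, h1, zero_smul]
  ext i j
  simp [Matrix.vecMulVec_apply]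

end rankone

section four

variable {F : Type*} [Field F] [Fintype F] {n : ℕ}

local notation "hh" => Cfsg.hermForm n F 2

theorem two_eq_zero_of_card_four (hF : Fintype.card F = 2 ^ 2) : (2 : F) = 0 := by
  obtain ⟨p, hp⟩ := CharP.exists F
  obtain ⟨k, hpp, hk⟩ := FiniteField.card F p
  have h1 : p ∣ 2 ^ 2 := by
    rw [← hF, hk]
    exact dvd_pow_self p k.ne_zero
  have h2 : p = 2 := (Nat.prime_dvd_prime_iff_eq hpp Nat.prime_two).mp
    (hpp.dvd_of_dvd_pow h1)
  subst h2
  exact_mod_cast CharP.cast_eq_zero F 2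

theorem pow_three_eq_one_of_card_four (hF : Fintype.card F = 2 ^ 2) (a : F) (ha : a ≠ 0) :
    a ^ 3 = 1 := by
  have := FiniteField.pow_card_sub_one_eq_one a ha
  rwa [hF] at this

omit [Fintype F] in
/-- the parameter of a unitary transvection over the field with four elements is `-1` -/
theorem param_eq_neg_one {c : F} (hc0 : c ≠ 0) (hc : c + c ^ 2 = 0) : c = -1 := by
  have h1 : c * (1 + c) = 0 := by linear_combination hc
  rcases mul_eq_zero.mp h1 with h2 | h2
  · exact absurd h2 hc0
  · linear_combination h2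

/-- a unitary transvection over the field with four elements is an involution -/
theorem utv_mul_self (hF : Fintype.card F = 2 ^ 2) (u : Fin n → F) (hu : hh u u = 0) (c : F) :
    Helper99.utv 2 u c * Helper99.utv 2 u c = 1 := by
  have h2 := two_eq_zero_of_card_four hF
  apply Units.ext
  apply Matrix.toLin'.injective
  apply LinearMap.ext
  intro x
  rw [Units.val_mul, Matrix.toLin'_apply, ← Matrix.mulVec_mulVec, Helper99.utv_mulVec u hu,
    Helper99.utv_mulVec u hu, Helper13.hermForm_add_left, Helper13.hermForm_smul_left, hu,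
    mul_zero, add_zero, Units.val_one, Matrix.toLin'_one, LinearMap.id_apply, add_assoc,
    ← add_smul]
  have : c * hh x u + c * hh x u = 0 := by linear_combination (c * hh x u) * h2
  rw [this, zero_smul, add_zero]

/-- two unitary transvections with orthogonal centres commute -/
theorem utv_comm_of_orth (hF : Fintype.card F = 2 ^ 2) (u v : Fin n → F) (hu : hh u u = 0)
    (hv : hh v v = 0) (c d : F) (huv : hh u v = 0) :
    Helper99.utv 2 u c * Helper99.utv 2 v d = Helper99.utv 2 v d * Helper99.utv 2 u c := by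
  have hvu : hh v u = 0 := Helper99.hermForm_eq_zero_comm hF huv
  apply Units.ext
  apply Matrix.toLin'.injective
  apply LinearMap.ext
  intro x
  rw [Units.val_mul, Units.val_mul, Matrix.toLin'_apply, Matrix.toLin'_apply,
    ← Matrix.mulVec_mulVec, ← Matrix.mulVec_mulVec, Helper99.utv_mulVec v hv,
    Helper99.utv_mulVec u hu, Helper99.utv_mulVec u hu, Helper99.utv_mulVec v hv,
    Helper13.hermForm_add_left, Helper13.hermForm_add_left, Helper13.hermForm_smul_left,
    Helper13.hermForm_smul_left, hvu, huv, mul_zero, mul_zero, add_zero, add_zero]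
  abel

/-- the braid relation for two unitary transvections with non-orthogonal centres -/
theorem utv_braid (hF : Fintype.card F = 2 ^ 2) (u v : Fin n → F) (hu : hh u u = 0)
    (hv : hh v v = 0) (huv : hh u v ≠ 0) :
    Helper99.utv 2 u (-1) * Helper99.utv 2 v (-1) * Helper99.utv 2 u (-1) =
      Helper99.utv 2 v (-1) * Helper99.utv 2 u (-1) * Helper99.utv 2 v (-1) := by
  have h2 := two_eq_zero_of_card_four hF
  have hneg : (-1 : F) = 1 := by linear_combination -h2
  have hc : (-1 : F) + (-1) ^ 2 = 0 := by ring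
  have hguG := Helper99.utv_mem_GU hF u hu (-1) hc
  have hgvG := Helper99.utv_mem_GU hF v hv (-1) hc
  have hinvu : (Helper99.utv 2 u (-1 : F))⁻¹ = Helper99.utv 2 u (-1) :=
    inv_eq_of_mul_eq_one_left (utv_mul_self hF u hu (-1))
  have hinvv : (Helper99.utv 2 v (-1 : F))⁻¹ = Helper99.utv 2 v (-1) :=
    inv_eq_of_mul_eq_one_left (utv_mul_self hF v hv (-1))
  have e1 := Helper99.conj_utv (Helper99.utv 2 u (-1)) hguG v hv (-1)
  have e2 := Helper99.conj_utv (Helper99.utv 2 v (-1)) hgvG u hu (-1)
  rw [hinvu] at e1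
  rw [hinvv] at e2
  rw [e1, e2, Helper99.utv_mulVec u hu, Helper99.utv_mulVec v hv]
  set a := hh u v with ha
  have hvu : hh v u = a ^ 2 := by rw [ha, Helper13.hermForm_conj hF]
  have ha3 := pow_three_eq_one_of_card_four hF a huv
  rw [hvu]
  -- `u - a v = (-a) • (v - a² u)`
  have hw : hh (v + (-1 * a ^ 2) • u) (v + (-1 * a ^ 2) • u) = 0 := by
    rw [Helper13.hermForm_add_left, Helper13.hermForm_add_right hF, Helper13.hermForm_add_right hF,
      Helper13.hermForm_smul_left, Helper13.hermForm_smul_left, Helper13.hermForm_smul_right,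
      Helper13.hermForm_smul_right, hv, hu, hvu, ← ha]
    have : (-1 * a ^ 2) ^ 2 = a := by
      have : a ^ 4 = a := by rw [show 4 = 3 + 1 from rfl, pow_succ, ha3, one_mul]
      linear_combination this
    rw [this]
    ring
  have key : u + (-1 * a) • v = (-a) • (v + (-1 * a ^ 2) • u) := by
    rw [smul_add, smul_smul]
    have : -a * (-1 * a ^ 2) = 1 := by linear_combination ha3
    rw [this, one_smul, add_comm]
    congr 1
    rw [neg_one_mul]
  rw [key, Helper99.utv_smul _ hw]
  congr 1
  have : (-a) ^ (2 + 1) = 1 := by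
    rw [show 2 + 1 = 3 from rfl, neg_pow, ha3]
    rw [hneg]
    norm_num
  rw [this, mul_one]

end four

end Cfsg.Agent.Lib.Helper44
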