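import Cfsg.Agent.Lib.Helper99.UnitaryND2

set_option autoImplicit false

/-!
Transvections in the unitary group: every matrix transvection lying in `GU_n(q)` is a
unitary transvection `x ↦ x + c h(x,u) u`, and for `n ≥ 3` any two of them are conjugate
by an isometry of determinant one.
-/

namespace Cfsg.Agent.Lib.Helper44

open Matrix

section utransv

variable {F : Type*} [Field F] [Fintype F] {q n : ℕ}

local notation "hh" => Cfsg.hermForm n F q

/-- A matrix transvection that is an isometry of the hermitian form is a unitary transvection. -/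
theorem transvection_eq_utv (hF : Fintype.card F = q ^ 2) (M : GL (Fin n) F)
    (hM : M ∈ Cfsg.GU n F q)
    (ht : Cfsg.IsTransvection (M : Matrix (Fin n) (Fin n) F)) :
    ∃ (u : Fin n → F) (c : F), u ≠ 0 ∧ hh u u = 0 ∧ c ≠ 0 ∧ c + c ^ q = 0 ∧
      M = Helper99.utv q u c := by
  classical
  obtain ⟨hrank, hsq⟩ := ht
  have hq2 := Helper99.q_ge_two hF
  set A : Matrix (Fin n) (Fin n) F := (M : Matrix (Fin n) (Fin n) F) - 1 with hA
  have hMA : ∀ v, (M : Matrix (Fin n) (Fin n) F) *ᵥ v = v + A *ᵥ v := by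
    intro v
    rw [hA, sub_mulVec, one_mulVec]
    abel
  have hr : Module.finrank F (LinearMap.range A.mulVecLin) = 1 := hrank
  obtain ⟨⟨u, hu⟩, hu0, hspan⟩ := finrank_eq_one_iff'.mp hr
  have hu0' : u ≠ 0 := fun h => hu0 (Subtype.ext h)
  -- every value of `A` is a multiple of `u`
  have hmul : ∀ v, ∃ a : F, A *ᵥ v = a • u := by
    intro v
    obtain ⟨a, ha⟩ := hspan ⟨A *ᵥ v, ⟨v, rfl⟩⟩
    refine ⟨a, ?_⟩
    have := congrArg Subtype.val ha
    exact this.symm
  -- `A u = 0`
  have hAu : A *ᵥ u = 0 := by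
    obtain ⟨v₀, hv₀⟩ := hu
    have : A *ᵥ u = (A * A) *ᵥ v₀ := by
      rw [← mulVec_mulVec]
      congr 1
      exact hv₀.symm
    rw [this, hsq, zero_mulVec]
  -- the isometry condition
  have hiso : ∀ v w, hh v (A *ᵥ w) + hh (A *ᵥ v) w + hh (A *ᵥ v) (A *ᵥ w) = 0 := by
    intro v w
    have h1 := (Helper13.mem_GU_iff n q M).mp hM v w
    rw [hMA, hMA, Helper13.hermForm_add_left, Helper13.hermForm_add_right hF,
      Helper13.hermForm_add_right hF] at h1
    linear_combination h1
  -- `u` is isotropic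
  obtain ⟨w₁, hw₁⟩ : ∃ w, A *ᵥ w ≠ 0 := by
    obtain ⟨v₀, hv₀⟩ := hu
    exact ⟨v₀, fun h => hu0' (by rw [← hv₀]; exact h)⟩
  have huu : hh u u = 0 := by
    obtain ⟨a, ha⟩ := hmul w₁
    have ha0 : a ≠ 0 := by
      rintro rfl
      rw [zero_smul] at ha
      exact hw₁ ha
    have h1 := hiso u w₁
    rw [hAu, Helper99.hermForm_zero_left, Helper99.hermForm_zero_left, add_zero, add_zero, ha,
      Helper13.hermForm_smul_right] at h1
    rcases mul_eq_zero.mp h1 with h2 | h2
    · exact absurd (pow_eq_zero_iff (by omega) |>.mp h2) ha0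
    · exact h2
  -- simplified isometry condition
  have hiso' : ∀ v w, hh v (A *ᵥ w) + hh (A *ᵥ v) w = 0 := by
    intro v w
    have h1 := hiso v w
    obtain ⟨a, ha⟩ := hmul v
    obtain ⟨b, hb⟩ := hmul w
    have h2 : hh (A *ᵥ v) (A *ᵥ w) = 0 := by
      rw [ha, hb, Helper13.hermForm_smul_left, Helper13.hermForm_smul_right, huu, mul_zero,
        mul_zero]
    rw [h2, add_zero] at h1
    exact h1
  -- a vector `w₀` with `h(u, w₀) = 1`
  obtain ⟨w₀, hw₀⟩ : ∃ w₀, hh u w₀ = 1 := by
    by_contra hcon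
    push Not at hcon
    apply hu0'
    apply Helper99.hermForm_nd_left hF
    intro v
    by_contra hne
    apply hcon (((hh u v)⁻¹) ^ q • v)
    rw [Helper13.hermForm_smul_right, Helper13.pow_q_pow_q hF, inv_mul_cancel₀ hne]
  have hw₀' : hh w₀ u = 1 := by
    rw [← Helper13.hermForm_conj hF, hw₀, one_pow]
  obtain ⟨a₀, ha₀⟩ := hmul w₀
  have hav : ∀ v, A *ᵥ v = (-(a₀ ^ q) * hh v u) • u := by
    intro v
    obtain ⟨a, ha⟩ := hmul v
    have h1 := hiso' v w₀
    rw [ha₀, ha, Helper13.hermForm_smul_right, Helper13.hermForm_smul_left, hw₀, mul_one] at h1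
    have : a = -(a₀ ^ q) * hh v u := by linear_combination h1
    rw [ha, this]
  have htr : a₀ ^ q + a₀ = 0 := by
    have h1 := hiso' w₀ w₀
    rw [ha₀, Helper13.hermForm_smul_right, Helper13.hermForm_smul_left, hw₀, hw₀', mul_one,
      mul_one] at h1
    exact h1
  have ha₀0 : a₀ ≠ 0 := by
    rintro rfl
    apply hw₁
    rw [hav w₁, zero_pow (by omega), neg_zero, zero_mul, zero_smul]
  refine ⟨u, -(a₀ ^ q), hu0', huu, ?_, ?_, ?_⟩
  · exact neg_ne_zero.mpr (pow_ne_zero _ ha₀0)
  · rw [Helper99.frob_neg hF, Helper13.pow_q_pow_q hF]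
    linear_combination -htr
  · apply Units.ext
    apply Matrix.toLin'.injective
    apply LinearMap.ext
    intro v
    rw [Matrix.toLin'_apply, Matrix.toLin'_apply, Helper99.utv_mulVec u huu, hMA, hav]

/-- For `n ≥ 3`, two unitary transvections are conjugate under an isometry of determinant one. -/
theorem utv_conj (hF : Fintype.card F = q ^ 2) (hn : 3 ≤ n) (u v : Fin n → F) (c d : F)
    (hu0 : u ≠ 0) (hv0 : v ≠ 0) (hu : hh u u = 0) (hv : hh v v = 0) (hc0 : c ≠ 0) (hd0 : d ≠ 0)
    (hc : c + c ^ q = 0) (hd : d + d ^ q = 0) :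
    ∃ g : GL (Fin n) F, g ∈ Cfsg.GU n F q ∧ (g : Matrix (Fin n) (Fin n) F).det = 1 ∧
      g * Helper99.utv q u c * g⁻¹ = Helper99.utv q v d := by
  classical
  have hq2 := Helper99.q_ge_two hF
  -- rescale `v`
  have hfix : (d / c) ^ q = d / c := by
    have h1 : c ^ q = -c := by linear_combination hc
    have h2 : d ^ q = -d := by linear_combination hd
    rw [div_pow, h1, h2, neg_div_neg_eq]
  obtain ⟨l, hl⟩ := Helper99.exists_norm_eq hF (d / c) hfix
  have hl0 : l ≠ 0 := by
    rintro rfl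
    rw [zero_pow (by omega)] at hl
    exact div_ne_zero hd0 hc0 hl.symm
  set v' : Fin n → F := l • v with hv'
  have hv'0 : v' ≠ 0 := smul_ne_zero hl0 hv0
  have hv'v' : hh v' v' = 0 := by
    rw [hv', Helper13.hermForm_smul_left, Helper13.hermForm_smul_right, hv, mul_zero, mul_zero]
  have ht : Helper99.utv q v' c = Helper99.utv q v d := by
    rw [hv', Helper99.utv_smul v hv, hl, mul_div_cancel₀ _ hc0]
  -- Witt
  have hnd : Helper99.NdOn q (⊤ : Submodule F (Fin n → F)) := by
    intro x _ hx0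
    by_contra hcon
    push Not at hcon
    exact hx0 (Helper99.hermForm_nd_right hF (fun y => hcon y Submodule.mem_top))
  obtain ⟨g, hg, -, -, hgu⟩ := Helper99.exists_GU_map_nd hF hnd u v' Submodule.mem_top
    Submodule.mem_top hu0 hv'0 (by rw [hu, hv'v'])
  -- adjust the determinant
  have hdet := Helper13.GU_det_pow hF n g hg
  set δ := (g : Matrix (Fin n) (Fin n) F).det with hδ
  have hδ0 : δ ≠ 0 := by
    rintro h0
    rw [h0, zero_pow (by omega)] at hdet
    exact zero_ne_one hdet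
  have hroom : 2 * Module.finrank F (Submodule.span F {v'} : Submodule F (Fin n → F))
      < Module.finrank F (⊤ : Submodule F (Fin n → F)) := by
    have h1 := Helper99.finrank_span_singleton_le' v'
    rw [finrank_top, Module.finrank_fin_fun]
    omega
  obtain ⟨z, -, hzS, hzz⟩ := Helper99.exists_anisotropic_room hF hnd (Submodule.span F {v'}) hroom
  have hzv' : hh v' z = 0 := by
    have := (Helper99.mem_hperp _ z).mp hzS v' (Submodule.mem_span_singleton_self v')
    exact Helper99.hermForm_eq_zero_comm hF this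
  obtain ⟨e, he, hedet, hefix⟩ := Helper99.exists_qrefl hF z hzz δ⁻¹ (by rw [inv_pow, hdet, inv_one])
  refine ⟨e * g, (Cfsg.GU n F q).mul_mem he hg, ?_, ?_⟩
  · rw [Units.val_mul, det_mul, hedet, ← hδ, inv_mul_cancel₀ hδ0]
  · rw [Helper99.conj_utv (e * g) ((Cfsg.GU n F q).mul_mem he hg) u hu c, Units.val_mul,
      ← mulVec_mulVec, hgu, hefix v' hzv', ht]

end utransv

end Cfsg.Agent.Lib.Helper44
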